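import Mathlib

set_option autoImplicit false
universe w w' v v' u u'

open CategoryTheory CategoryTheory.Limits CategoryTheory.Pretriangulated ComposableArrows

namespace Groth.Agent.Lib.Helper22

section general

variable {C : Type u} [Category.{v} C] {D : Type u'} [Category.{v'} D]
  [HasZeroObject C] [HasZeroObject D] [Preadditive C] [Preadditive D]
  [HasShift C ℤ] [HasShift D ℤ]
  [∀ n : ℤ, (shiftFunctor C n).Additive] [∀ n : ℤ, (shiftFunctor D n).Additive]
  [Pretriangulated C] [Pretriangulated D]
  {F G : C ⥤ D} [F.CommShift ℤ] [G.CommShift ℤ] [F.IsTriangulated] [G.IsTriangulated]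
  (η : F ⟶ G) [NatTrans.CommShift η ℤ]

omit [HasZeroObject C] [HasZeroObject D] [Preadditive C] [Preadditive D]
  [∀ n : ℤ, (shiftFunctor C n).Additive] [∀ n : ℤ, (shiftFunctor D n).Additive]
  [Pretriangulated C] [Pretriangulated D] [F.IsTriangulated] [G.IsTriangulated] in
lemma isIso_app_shift (X : C) (n : ℤ) (h : IsIso (η.app X)) : IsIso (η.app (X⟦n⟧)) := by
  rw [NatTrans.app_shift η n X]
  infer_instance

omit [HasZeroObject C] [HasZeroObject D] [Preadditive C] [Preadditive D]
  [∀ n : ℤ, (shiftFunctor C n).Additive] [∀ n : ℤ, (shiftFunctor D n).Additive]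
  [Pretriangulated C] [Pretriangulated D] [F.IsTriangulated] [G.IsTriangulated] [HasShift C ℤ]
  [HasShift D ℤ] [F.CommShift ℤ] [G.CommShift ℤ] [NatTrans.CommShift η ℤ] in
lemma isIso_app_of_iso {X Y : C} (e : X ≅ Y) (h : IsIso (η.app X)) : IsIso (η.app Y) := by
  have : η.app Y = F.map e.inv ≫ η.app X ≫ G.map e.hom := by
    rw [η.naturality_assoc, ← G.map_comp, e.inv_hom_id, G.map_id, Category.comp_id]
  rw [this]
  infer_instance

set_option backward.defeqAttrib.useBackward true in
set_option backward.isDefEq.respectTransparency false in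
/-- the morphism of triangles induced by `η` -/
@[simps]
def triangleHom (T : Triangle C) : F.mapTriangle.obj T ⟶ G.mapTriangle.obj T where
  hom₁ := η.app _
  hom₂ := η.app _
  hom₃ := η.app _
  comm₁ := by simp
  comm₂ := by simp
  comm₃ := by
    dsimp
    simp only [Category.assoc, NatTrans.shift_app_comm η (1 : ℤ) T.obj₁,
      NatTrans.naturality_assoc]

lemma isIso_app₂ (T : Triangle C) (hT : T ∈ distTriang C)
    (h₁ : IsIso (η.app T.obj₁)) (h₃ : IsIso (η.app T.obj₃)) : IsIso (η.app T.obj₂) :=
  isIso₂_of_isIso₁₃ (triangleHom η T) (F.map_distinguished T hT) (G.map_distinguished T hT)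
    h₁ h₃

lemma isIso_app₃ (T : Triangle C) (hT : T ∈ distTriang C)
    (h₁ : IsIso (η.app T.obj₁)) (h₂ : IsIso (η.app T.obj₂)) : IsIso (η.app T.obj₃) :=
  isIso₃_of_isIso₁₂ (triangleHom η T) (F.map_distinguished T hT) (G.map_distinguished T hT)
    h₁ h₂

lemma isIso_app₁ (T : Triangle C) (hT : T ∈ distTriang C)
    (h₂ : IsIso (η.app T.obj₂)) (h₃ : IsIso (η.app T.obj₃)) : IsIso (η.app T.obj₁) :=
  isIso₁_of_isIso₂₃ (triangleHom η T) (F.map_distinguished T hT) (G.map_distinguished T hT)
    h₂ h₃

lemma isIso_app_of_isZero (X : C) (hX : IsZero X) : IsIso (η.app X) :=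
  ⟨0, (F.map_isZero hX).eq_of_src _ _, (G.map_isZero hX).eq_of_src _ _⟩

end general

section homseq

variable {C : Type u} [Category.{v} C] {𝒜 : Type u'} [Category.{v'} 𝒜] [Abelian 𝒜]
  [HasZeroObject C] [Preadditive C] [HasShift C ℤ]
  [∀ n : ℤ, (shiftFunctor C n).Additive] [Pretriangulated C]
  (H : C ⥤ 𝒜) [H.IsHomological] [H.ShiftSequence ℤ]
  {T T' : Triangle C} (hT : T ∈ distTriang C) (hT' : T' ∈ distTriang C) (φ : T ⟶ T')
  (n₀ n₁ : ℤ) (h : n₀ + 1 = n₁)

/-- the morphism of 6-term exact sequences induced by a morphism of triangles -/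
noncomputable def homologySequenceMap :
    H.homologySequenceComposableArrows₅ T n₀ n₁ h ⟶ H.homologySequenceComposableArrows₅ T' n₀ n₁ h :=
  homMk₅ ((H.shift n₀).map φ.hom₁) ((H.shift n₀).map φ.hom₂) ((H.shift n₀).map φ.hom₃)
    ((H.shift n₁).map φ.hom₁) ((H.shift n₁).map φ.hom₂) ((H.shift n₁).map φ.hom₃)
    (by
      change (H.shift n₀).map T.mor₁ ≫ (H.shift n₀).map φ.hom₂ =
        (H.shift n₀).map φ.hom₁ ≫ (H.shift n₀).map T'.mor₁
      rw [← Functor.map_comp, ← Functor.map_comp, φ.comm₁])
    (by
      change (H.shift n₀).map T.mor₂ ≫ (H.shift n₀).map φ.hom₃ =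
        (H.shift n₀).map φ.hom₂ ≫ (H.shift n₀).map T'.mor₂
      rw [← Functor.map_comp, ← Functor.map_comp, φ.comm₂])
    (by
      change H.homologySequenceδ T n₀ n₁ h ≫ (H.shift n₁).map φ.hom₁ =
        (H.shift n₀).map φ.hom₃ ≫ H.homologySequenceδ T' n₀ n₁ h
      exact (H.homologySequenceδ_naturality T T' φ n₀ n₁ h).symm)
    (by
      change (H.shift n₁).map T.mor₁ ≫ (H.shift n₁).map φ.hom₂ =
        (H.shift n₁).map φ.hom₁ ≫ (H.shift n₁).map T'.mor₁
      rw [← Functor.map_comp, ← Functor.map_comp, φ.comm₁])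
    (by
      change (H.shift n₁).map T.mor₂ ≫ (H.shift n₁).map φ.hom₃ =
        (H.shift n₁).map φ.hom₂ ≫ (H.shift n₁).map T'.mor₂
      rw [← Functor.map_comp, ← Functor.map_comp, φ.comm₂])

include hT hT' h in
lemma mono_shift_map_hom₁ (h₂ : Epi ((H.shift n₀).map φ.hom₂)) (h₃ : Mono ((H.shift n₀).map φ.hom₃))
    (h₂' : Mono ((H.shift n₁).map φ.hom₂)) : Mono ((H.shift n₁).map φ.hom₁) := by
  have := Abelian.mono_of_epi_of_mono_of_mono'' (k := 1) (n := 5) (by lia)
    (H.homologySequenceComposableArrows₅_exact T hT n₀ n₁ h)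
    (H.homologySequenceComposableArrows₅_exact T' hT' n₀ n₁ h)
    (homologySequenceMap H φ n₀ n₁ h) 1 2 3 4 rfl rfl rfl rfl h₂ h₃ h₂'
  exact this

include hT hT' h in
lemma epi_shift_map_hom₁ (h₃ : Epi ((H.shift n₀).map φ.hom₃)) (h₂' : Epi ((H.shift n₁).map φ.hom₂))
    (h₃' : Mono ((H.shift n₁).map φ.hom₃)) : Epi ((H.shift n₁).map φ.hom₁) := by
  have := Abelian.epi_of_epi_of_epi_of_mono'' (k := 2) (n := 5) (by lia)
    (H.homologySequenceComposableArrows₅_exact T hT n₀ n₁ h)
    (H.homologySequenceComposableArrows₅_exact T' hT' n₀ n₁ h)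
    (homologySequenceMap H φ n₀ n₁ h) 2 3 4 5 rfl rfl rfl rfl h₃ h₂' h₃'
  exact this

end homseq

section derived

open DerivedCategory

variable {A : Type u} [Category.{v} A] [Abelian A] [HasDerivedCategory.{w} A]

/-- homology of `truncLT` in low degrees -/
lemma isIso_homologyMap_truncLTι (X : DerivedCategory A) (b i : ℤ) (hi : i < b) :
    IsIso ((homologyFunctor A i).map ((TStructure.t.truncLTι b).app X)) := by
  have hT := TStructure.t.triangleLTGE_distinguished b X
  have h3 : ((TStructure.t.truncGE b).obj X).IsGE b := inferInstance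
  have hmono : Mono ((homologyFunctor A i).map ((TStructure.t.truncLTι b).app X)) := by
    refine (HomologySequence.mono_homologyMap_mor₁_iff _ hT (i - 1) i (by lia)).2 ?_
    exact (isZero_of_isGE ((TStructure.t.truncGE b).obj X) b (i - 1) (by lia)).eq_of_src _ _
  have hepi : Epi ((homologyFunctor A i).map ((TStructure.t.truncLTι b).app X)) := by
    refine (HomologySequence.epi_homologyMap_mor₁_iff _ hT i).2 ?_
    exact (isZero_of_isGE ((TStructure.t.truncGE b).obj X) b i hi).eq_of_tgt _ _
  exact isIso_of_mono_of_epi _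

/-- homology of `truncGE` in high degrees -/
lemma isIso_homologyMap_truncGEπ (X : DerivedCategory A) (b i : ℤ) (hi : b ≤ i) :
    IsIso ((homologyFunctor A i).map ((TStructure.t.truncGEπ b).app X)) := by
  have hT := TStructure.t.triangleLTGE_distinguished b X
  have h1 : ((TStructure.t.truncLT b).obj X).IsLE (b - 1) := inferInstance
  have hmono : Mono ((homologyFunctor A i).map ((TStructure.t.truncGEπ b).app X)) := by
    refine (HomologySequence.mono_homologyMap_mor₂_iff _ hT i).2 ?_
    exact (isZero_of_isLE ((TStructure.t.truncLT b).obj X) (b - 1) i (by lia)).eq_of_src _ _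
  have hepi : Epi ((homologyFunctor A i).map ((TStructure.t.truncGEπ b).app X)) := by
    refine (HomologySequence.epi_homologyMap_mor₂_iff _ hT i (i + 1) rfl).2 ?_
    exact (isZero_of_isLE ((TStructure.t.truncLT b).obj X) (b - 1) (i + 1) (by lia)).eq_of_tgt _ _
  exact isIso_of_mono_of_epi _

variable {B : Type u'} [Category.{v'} B] [Abelian B] [HasDerivedCategory.{w'} B]
  (P : ObjectProperty A) [P.IsClosedUnderIsomorphisms]
  {F G : DerivedCategory A ⥤ DerivedCategory B} [F.CommShift ℤ] [G.CommShift ℤ]
  [F.IsTriangulated] [G.IsTriangulated] (η : F ⟶ G) [NatTrans.CommShift η ℤ]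
  (hη : ∀ X : A, P X → IsIso (η.app ((DerivedCategory.singleFunctor A 0).obj X)))

include hη in
lemma isIso_app_single (Y : A) (hY : P Y) (b : ℤ) :
    IsIso (η.app ((DerivedCategory.singleFunctor A b).obj Y)) := by
  have e : ((DerivedCategory.singleFunctor A 0).obj Y)⟦(-b : ℤ)⟧ ≅
      (DerivedCategory.singleFunctor A b).obj Y :=
    ((DerivedCategory.singleFunctors A).shiftIso (-b) b 0 (by lia)).app Y
  exact isIso_app_of_iso η e (isIso_app_shift η _ _ (hη Y hY))

include hη in
/-- the bounded case of the way-out lemma, where `P` is assumed to contain zero objects -/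
lemma wayOut_bounded (hP0 : ∀ Z : A, IsZero Z → P Z) (n : ℕ) :
    ∀ (a b : ℤ) (_ : b < a + n) (X : DerivedCategory A) [X.IsGE a] [X.IsLE b]
      (_ : ∀ i : ℤ, P ((DerivedCategory.homologyFunctor A i).obj X)), IsIso (η.app X) := by
  induction n with
  | zero =>
    intro a b hab X _ _ _
    exact isIso_app_of_isZero η X (TStructure.t.isZero X b a (by lia))
  | succ n ih =>
    intro a b hab X _ _ hX
    have hT := TStructure.t.triangleLTGE_distinguished b X
    -- the truncation below
    have h1 : IsIso (η.app ((TStructure.t.truncLT b).obj X)) := by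
      have : ((TStructure.t.truncLT b).obj X).IsLE (b - 1) := inferInstance
      have : ((TStructure.t.truncLT b).obj X).IsGE a := inferInstance
      refine ih a (b - 1) (by lia) _ (fun i => ?_)
      by_cases hi : i < b
      · have := isIso_homologyMap_truncLTι X b i hi
        exact P.prop_of_iso (asIso ((homologyFunctor A i).map
          ((TStructure.t.truncLTι b).app X))).symm (hX i)
      · exact hP0 _ (isZero_of_isLE ((TStructure.t.truncLT b).obj X) (b - 1) i (by lia))
    -- the top piece
    have h3 : IsIso (η.app ((TStructure.t.truncGE b).obj X)) := by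
      have : ((TStructure.t.truncGE b).obj X).IsGE b := inferInstance
      have : ((TStructure.t.truncGE b).obj X).IsLE b := inferInstance
      obtain ⟨Y, ⟨e⟩⟩ := exists_iso_singleFunctor_obj_of_isGE_of_isLE
        ((TStructure.t.truncGE b).obj X) b
      have hY : P Y := by
        have := isIso_homologyMap_truncGEπ X b b le_rfl
        have e1 : (homologyFunctor A b).obj X ≅ Y :=
          asIso ((homologyFunctor A b).map ((TStructure.t.truncGEπ b).app X)) ≪≫
            (homologyFunctor A b).mapIso e ≪≫ (singleFunctorCompHomologyFunctorIso A b).app Y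
        exact P.prop_of_iso e1 (hX b)
      exact isIso_app_of_iso η e.symm (isIso_app_single P η hη Y hY b)
    exact isIso_app₂ η _ hT h1 h3

include hη in
/-- the way-out right case: bounded below objects -/
lemma wayOut_right (hP0 : ∀ Z : A, IsZero Z → P Z)
    (hF : ∀ n₁ : ℤ, ∃ n₂ : ℤ, ∀ Y : DerivedCategory A, Y.IsGE n₂ → (F.obj Y).IsGE n₁)
    (hG : ∀ n₁ : ℤ, ∃ n₂ : ℤ, ∀ Y : DerivedCategory A, Y.IsGE n₂ → (G.obj Y).IsGE n₁)
    (X : DerivedCategory A) (a : ℤ) [X.IsGE a]
    (hX : ∀ i : ℤ, P ((DerivedCategory.homologyFunctor A i).obj X)) :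
    IsIso (η.app X) := by
  rw [DerivedCategory.isIso_iff]
  intro j
  obtain ⟨nF, hnF⟩ := hF (j + 1)
  obtain ⟨nG, hnG⟩ := hG (j + 1)
  let n := max nF nG
  have hT := TStructure.t.triangleLTGE_distinguished n X
  have hge : ((TStructure.t.truncGE n).obj X).IsGE n := inferInstance
  have hgeF : ((TStructure.t.truncGE n).obj X).IsGE nF :=
    TStructure.t.isGE_of_ge _ nF n (le_max_left _ _)
  have hgeG : ((TStructure.t.truncGE n).obj X).IsGE nG :=
    TStructure.t.isGE_of_ge _ nG n (le_max_right _ _)
  have hF3 : (F.obj ((TStructure.t.truncGE n).obj X)).IsGE (j + 1) := hnF _ hgeF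
  have hG3 : (G.obj ((TStructure.t.truncGE n).obj X)).IsGE (j + 1) := hnG _ hgeG
  have hFT := F.map_distinguished _ hT
  have hGT := G.map_distinguished _ hT
  -- H^j(F ι) and H^j(G ι) are isomorphisms
  have hFι : IsIso ((homologyFunctor B j).map (F.map ((TStructure.t.truncLTι n).app X))) := by
    have hmono : Mono ((homologyFunctor B j).map (F.map ((TStructure.t.truncLTι n).app X))) := by
      refine (HomologySequence.mono_homologyMap_mor₁_iff _ hFT (j - 1) j (by lia)).2 ?_
      exact (isZero_of_isGE (F.obj ((TStructure.t.truncGE n).obj X)) (j + 1) (j - 1)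
        (by lia)).eq_of_src _ _
    have hepi : Epi ((homologyFunctor B j).map (F.map ((TStructure.t.truncLTι n).app X))) := by
      refine (HomologySequence.epi_homologyMap_mor₁_iff _ hFT j).2 ?_
      exact (isZero_of_isGE (F.obj ((TStructure.t.truncGE n).obj X)) (j + 1) j
        (by lia)).eq_of_tgt _ _
    exact isIso_of_mono_of_epi _
  have hGι : IsIso ((homologyFunctor B j).map (G.map ((TStructure.t.truncLTι n).app X))) := by
    have hmono : Mono ((homologyFunctor B j).map (G.map ((TStructure.t.truncLTι n).app X))) := by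
      refine (HomologySequence.mono_homologyMap_mor₁_iff _ hGT (j - 1) j (by lia)).2 ?_
      exact (isZero_of_isGE (G.obj ((TStructure.t.truncGE n).obj X)) (j + 1) (j - 1)
        (by lia)).eq_of_src _ _
    have hepi : Epi ((homologyFunctor B j).map (G.map ((TStructure.t.truncLTι n).app X))) := by
      refine (HomologySequence.epi_homologyMap_mor₁_iff _ hGT j).2 ?_
      exact (isZero_of_isGE (G.obj ((TStructure.t.truncGE n).obj X)) (j + 1) j
        (by lia)).eq_of_tgt _ _
    exact isIso_of_mono_of_epi _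
  -- η at the bounded truncation
  have h1 : IsIso (η.app ((TStructure.t.truncLT n).obj X)) := by
    have : ((TStructure.t.truncLT n).obj X).IsLE (n - 1) := inferInstance
    have : ((TStructure.t.truncLT n).obj X).IsGE a := inferInstance
    obtain ⟨m, hm⟩ : ∃ m : ℕ, n - 1 < a + m := ⟨(n - 1 - a + 1).toNat, by lia⟩
    refine wayOut_bounded P η hη hP0 m a (n - 1) hm _ (fun i => ?_)
    by_cases hi : i < n
    · have := isIso_homologyMap_truncLTι X n i hi
      exact P.prop_of_iso (asIso ((homologyFunctor A i).map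
        ((TStructure.t.truncLTι n).app X))).symm (hX i)
    · exact hP0 _ (isZero_of_isLE ((TStructure.t.truncLT n).obj X) (n - 1) i (by lia))
  have hnat : (homologyFunctor B j).map (F.map ((TStructure.t.truncLTι n).app X)) ≫
      (homologyFunctor B j).map (η.app X) =
      (homologyFunctor B j).map (η.app ((TStructure.t.truncLT n).obj X)) ≫
      (homologyFunctor B j).map (G.map ((TStructure.t.truncLTι n).app X)) := by
    rw [← Functor.map_comp, ← Functor.map_comp]
    congr 1
    exact η.naturality _
  have : (homologyFunctor B j).map (η.app X) =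
      inv ((homologyFunctor B j).map (F.map ((TStructure.t.truncLTι n).app X))) ≫
      (homologyFunctor B j).map (η.app ((TStructure.t.truncLT n).obj X)) ≫
      (homologyFunctor B j).map (G.map ((TStructure.t.truncLTι n).app X)) := by
    rw [← hnat, IsIso.inv_hom_id_assoc]
  rw [this]
  infer_instance

include hη in
/-- the way-out in both directions case -/
lemma wayOut_both (hP0 : ∀ Z : A, IsZero Z → P Z)
    (hF : ∀ n₁ : ℤ, ∃ n₂ : ℤ, ∀ Y : DerivedCategory A, Y.IsGE n₂ → (F.obj Y).IsGE n₁)
    (hF' : ∀ n₁ : ℤ, ∃ n₂ : ℤ, ∀ Y : DerivedCategory A, Y.IsLE n₂ → (F.obj Y).IsLE n₁)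
    (hG : ∀ n₁ : ℤ, ∃ n₂ : ℤ, ∀ Y : DerivedCategory A, Y.IsGE n₂ → (G.obj Y).IsGE n₁)
    (hG' : ∀ n₁ : ℤ, ∃ n₂ : ℤ, ∀ Y : DerivedCategory A, Y.IsLE n₂ → (G.obj Y).IsLE n₁)
    (X : DerivedCategory A)
    (hX : ∀ i : ℤ, P ((DerivedCategory.homologyFunctor A i).obj X)) :
    IsIso (η.app X) := by
  rw [DerivedCategory.isIso_iff]
  intro j
  obtain ⟨nF, hnF⟩ := hF' (j - 1)
  obtain ⟨nG, hnG⟩ := hG' (j - 1)
  let n := min nF nG + 1
  have hT := TStructure.t.triangleLTGE_distinguished n X
  have hle : ((TStructure.t.truncLT n).obj X).IsLE (n - 1) := inferInstance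
  have hleF : ((TStructure.t.truncLT n).obj X).IsLE nF :=
    TStructure.t.isLE_of_le _ (n - 1) nF (by
      have := min_le_left nF nG
      lia)
  have hleG : ((TStructure.t.truncLT n).obj X).IsLE nG :=
    TStructure.t.isLE_of_le _ (n - 1) nG (by
      have := min_le_right nF nG
      lia)
  have hF1 : (F.obj ((TStructure.t.truncLT n).obj X)).IsLE (j - 1) := hnF _ hleF
  have hG1 : (G.obj ((TStructure.t.truncLT n).obj X)).IsLE (j - 1) := hnG _ hleG
  have hFT := F.map_distinguished _ hT
  have hGT := G.map_distinguished _ hT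
  have hFπ : IsIso ((homologyFunctor B j).map (F.map ((TStructure.t.truncGEπ n).app X))) := by
    have hmono : Mono ((homologyFunctor B j).map (F.map ((TStructure.t.truncGEπ n).app X))) := by
      refine (HomologySequence.mono_homologyMap_mor₂_iff _ hFT j).2 ?_
      exact (isZero_of_isLE (F.obj ((TStructure.t.truncLT n).obj X)) (j - 1) j
        (by lia)).eq_of_src _ _
    have hepi : Epi ((homologyFunctor B j).map (F.map ((TStructure.t.truncGEπ n).app X))) := by
      refine (HomologySequence.epi_homologyMap_mor₂_iff _ hFT j (j + 1) rfl).2 ?_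
      exact (isZero_of_isLE (F.obj ((TStructure.t.truncLT n).obj X)) (j - 1) (j + 1)
        (by lia)).eq_of_tgt _ _
    exact isIso_of_mono_of_epi _
  have hGπ : IsIso ((homologyFunctor B j).map (G.map ((TStructure.t.truncGEπ n).app X))) := by
    have hmono : Mono ((homologyFunctor B j).map (G.map ((TStructure.t.truncGEπ n).app X))) := by
      refine (HomologySequence.mono_homologyMap_mor₂_iff _ hGT j).2 ?_
      exact (isZero_of_isLE (G.obj ((TStructure.t.truncLT n).obj X)) (j - 1) j
        (by lia)).eq_of_src _ _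
    have hepi : Epi ((homologyFunctor B j).map (G.map ((TStructure.t.truncGEπ n).app X))) := by
      refine (HomologySequence.epi_homologyMap_mor₂_iff _ hGT j (j + 1) rfl).2 ?_
      exact (isZero_of_isLE (G.obj ((TStructure.t.truncLT n).obj X)) (j - 1) (j + 1)
        (by lia)).eq_of_tgt _ _
    exact isIso_of_mono_of_epi _
  have h3 : IsIso (η.app ((TStructure.t.truncGE n).obj X)) := by
    have : ((TStructure.t.truncGE n).obj X).IsGE n := inferInstance
    refine wayOut_right P η hη hP0 hF hG _ n (fun i => ?_)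
    by_cases hi : n ≤ i
    · have := isIso_homologyMap_truncGEπ X n i hi
      exact P.prop_of_iso (asIso ((homologyFunctor A i).map
        ((TStructure.t.truncGEπ n).app X))) (hX i)
    · exact hP0 _ (isZero_of_isGE ((TStructure.t.truncGE n).obj X) n i (by lia))
  have hnat : (homologyFunctor B j).map (η.app X) ≫
      (homologyFunctor B j).map (G.map ((TStructure.t.truncGEπ n).app X)) =
      (homologyFunctor B j).map (F.map ((TStructure.t.truncGEπ n).app X)) ≫
      (homologyFunctor B j).map (η.app ((TStructure.t.truncGE n).obj X)) := by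
    rw [← Functor.map_comp, ← Functor.map_comp]
    congr 1
    exact (η.naturality _).symm
  have : (homologyFunctor B j).map (η.app X) =
      ((homologyFunctor B j).map (F.map ((TStructure.t.truncGEπ n).app X)) ≫
      (homologyFunctor B j).map (η.app ((TStructure.t.truncGE n).obj X))) ≫
      inv ((homologyFunctor B j).map (G.map ((TStructure.t.truncGEπ n).app X))) := by
    rw [← hnat, Category.assoc, IsIso.hom_inv_id, Category.comp_id]
  rw [this]
  infer_instance

end derived


section single

open DerivedCategory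

variable {A : Type u} [Category.{v} A] [Abelian A] [HasDerivedCategory.{w} A]
  {B : Type u'} [Category.{v'} B] [Abelian B] [HasDerivedCategory.{w'} B]
  {F G : DerivedCategory A ⥤ DerivedCategory B} [F.CommShift ℤ] [G.CommShift ℤ]
  [F.IsTriangulated] [G.IsTriangulated] (η : F ⟶ G) [NatTrans.CommShift η ℤ]

omit [G.CommShift ℤ] [G.IsTriangulated] in
/-- a way-out right functor is uniformly bounded below on objects of the heart -/
lemma exists_bound_single
    (hF : ∀ n₁ : ℤ, ∃ n₂ : ℤ, ∀ Y : DerivedCategory A, Y.IsGE n₂ → (F.obj Y).IsGE n₁) :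
    ∃ N : ℤ, ∀ X : A, (F.obj ((singleFunctor A 0).obj X)).IsGE N := by
  obtain ⟨n₂, hn₂⟩ := hF 0
  refine ⟨-n₂, fun X => ?_⟩
  have h1 : (((singleFunctor A 0).obj X)⟦(-n₂ : ℤ)⟧).IsGE n₂ :=
    TStructure.t.isGE_shift _ 0 (-n₂) n₂ (by lia)
  have h2 : (F.obj (((singleFunctor A 0).obj X)⟦(-n₂ : ℤ)⟧)).IsGE 0 := hn₂ _ h1
  have h3 : ((F.obj ((singleFunctor A 0).obj X))⟦(-n₂ : ℤ)⟧).IsGE 0 := by
    have e : F.obj (((singleFunctor A 0).obj X)⟦(-n₂ : ℤ)⟧) ≅
        (F.obj ((singleFunctor A 0).obj X))⟦(-n₂ : ℤ)⟧ := (F.commShiftIso (-n₂ : ℤ)).app _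
    exact TStructure.t.isGE_of_iso e 0
  exact TStructure.t.isGE_of_shift _ (-n₂) (-n₂) 0 (by lia)

/-- RD I.7.1 (iv) -/
lemma wayOut_single (P : ObjectProperty A) (hP : ∀ X : A, ∃ (Y : A) (i : X ⟶ Y), P Y ∧ Mono i)
    (hF : ∀ n₁ : ℤ, ∃ n₂ : ℤ, ∀ Y : DerivedCategory A, Y.IsGE n₂ → (F.obj Y).IsGE n₁)
    (hG : ∀ n₁ : ℤ, ∃ n₂ : ℤ, ∀ Y : DerivedCategory A, Y.IsGE n₂ → (G.obj Y).IsGE n₁)
    (hη : ∀ X : A, P X → IsIso (η.app ((DerivedCategory.singleFunctor A 0).obj X)))
    (X : A) :
    IsIso (η.app ((DerivedCategory.singleFunctor A 0).obj X)) := by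
  obtain ⟨NF, hNF⟩ := exists_bound_single hF
  obtain ⟨NG, hNG⟩ := exists_bound_single hG
  let N := min NF NG
  have hFN : ∀ X : A, (F.obj ((singleFunctor A 0).obj X)).IsGE N := fun X =>
    have := hNF X
    TStructure.t.isGE_of_ge _ N NF (min_le_left _ _)
  have hGN : ∀ X : A, (G.obj ((singleFunctor A 0).obj X)).IsGE N := fun X =>
    have := hNG X
    TStructure.t.isGE_of_ge _ N NG (min_le_right _ _)
  -- the inductive step
  have step : ∀ j : ℤ,
      (∀ X : A, IsIso ((homologyFunctor B (j - 1)).map (η.app ((singleFunctor A 0).obj X)))) →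
      ∀ X : A, IsIso ((homologyFunctor B j).map (η.app ((singleFunctor A 0).obj X))) := by
    intro j ih
    have hmono : ∀ X : A, Mono ((homologyFunctor B j).map (η.app ((singleFunctor A 0).obj X))) := by
      intro X
      obtain ⟨I, i, hI, _⟩ := hP X
      have hS : (ShortComplex.mk i (cokernel.π i) (cokernel.condition i)).ShortExact :=
        { exact := ShortComplex.exact_cokernel i }
      have hT := hS.singleTriangle_distinguished
      have hηI := hη I hI
      have := ih (cokernel i)
      exact mono_shift_map_hom₁ (homologyFunctor B 0) (F.map_distinguished _ hT)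
        (G.map_distinguished _ hT) (triangleHom η _) (j - 1) j (by lia)
        (inferInstanceAs (Epi ((homologyFunctor B (j - 1)).map (η.app ((singleFunctor A 0).obj I)))))
        (inferInstanceAs (Mono ((homologyFunctor B (j - 1)).map
          (η.app ((singleFunctor A 0).obj (cokernel i))))))
        (inferInstanceAs (Mono ((homologyFunctor B j).map (η.app ((singleFunctor A 0).obj I)))))
    intro X
    obtain ⟨I, i, hI, _⟩ := hP X
    have hS : (ShortComplex.mk i (cokernel.π i) (cokernel.condition i)).ShortExact :=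
      { exact := ShortComplex.exact_cokernel i }
    have hT := hS.singleTriangle_distinguished
    have hηI := hη I hI
    have := ih (cokernel i)
    have := hmono (cokernel i)
    have hepi : Epi ((homologyFunctor B j).map (η.app ((singleFunctor A 0).obj X))) :=
      epi_shift_map_hom₁ (homologyFunctor B 0) (F.map_distinguished _ hT)
        (G.map_distinguished _ hT) (triangleHom η _) (j - 1) j (by lia)
        (inferInstanceAs (Epi ((homologyFunctor B (j - 1)).map
          (η.app ((singleFunctor A 0).obj (cokernel i))))))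
        (inferInstanceAs (Epi ((homologyFunctor B j).map (η.app ((singleFunctor A 0).obj I)))))
        (inferInstanceAs (Mono ((homologyFunctor B j).map
          (η.app ((singleFunctor A 0).obj (cokernel i))))))
    have := hmono X
    exact isIso_of_mono_of_epi _
  have claim : ∀ (k : ℕ) (j : ℤ), j < N + k → ∀ X : A,
      IsIso ((homologyFunctor B j).map (η.app ((singleFunctor A 0).obj X))) := by
    intro k
    induction k with
    | zero =>
      intro j hj X
      have := hFN X
      have := hGN X
      have h1 := isZero_of_isGE (F.obj ((singleFunctor A 0).obj X)) N j (by lia)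
      have h2 := isZero_of_isGE (G.obj ((singleFunctor A 0).obj X)) N j (by lia)
      exact ⟨0, h1.eq_of_src _ _, h2.eq_of_src _ _⟩
    | succ k ih =>
      intro j hj
      by_cases hj' : j < N + k
      · exact ih j hj'
      · exact step j (ih (j - 1) (by lia))
  rw [DerivedCategory.isIso_iff]
  intro j
  exact claim (j - N + 1).toNat j (by lia) X

end single

end Groth.Agent.Lib.Helper22
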