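import Mathlib
import Groth.Prelude

/-!
# Separable closed points are dense in smooth schemes over a field

Ring-level core: a standard smooth algebra `S` over a field `k` has, in every nonempty open subset
of `Spec S`, a maximal ideal `q` with `S/q` finite separable over `k`
(`exists_maximal_of_isStandardSmooth`), via the factorisation `k → k[X₁..Xₙ] → S` with the second
map étale (open on spectra, finite separable residue field extensions).
-/

set_option autoImplicit false
set_option linter.style.haveILetI false
universe u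
namespace Groth.Agent.Lib.Helper22.SmoothSepPts

open MvPolynomial

attribute [local instance] Ideal.Quotient.field in
/-- `P`-level: for nonzero `h` in a polynomial ring over a field `k` there is a maximal ideal `p`
not containing `h` with `P/p` finite separable over `k`. -/
theorem exists_maximal_mvPolynomial (k : Type u) [Field k] (n : ℕ) (h : MvPolynomial (Fin n) k)
    (hh : h ≠ 0) :
    ∃ p : Ideal (MvPolynomial (Fin n) k), p.IsMaximal ∧ h ∉ p ∧
      Module.Finite k (MvPolynomial (Fin n) k ⧸ p) ∧
      Algebra.IsSeparable k (MvPolynomial (Fin n) k ⧸ p) := by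
  rcases finite_or_infinite k with hfin | hinf
  · -- finite field: perfect; any closed point in `D(h)` works
    have hne : (PrimeSpectrum.basicOpen h : Set (PrimeSpectrum (MvPolynomial (Fin n) k))).Nonempty := by
      rw [Set.nonempty_iff_ne_empty]
      intro h0
      have h1 : PrimeSpectrum.basicOpen h = ⊥ := by
        ext x; simp [h0]
      rw [PrimeSpectrum.basicOpen_eq_bot_iff] at h1
      exact hh (IsReduced.eq_zero _ h1)
    obtain ⟨p, hp1, hp2⟩ := nonempty_inter_closedPoints hne
      (PrimeSpectrum.basicOpen h).2.isLocallyClosed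
    have hmax : p.asIdeal.IsMaximal := (PrimeSpectrum.isClosed_singleton_iff_isMaximal p).mp hp2
    refine ⟨p.asIdeal, hmax, hp1, ?_, ?_⟩
    · exact finite_of_finite_type_of_isJacobsonRing k _
    · haveI : Module.Finite k (MvPolynomial (Fin n) k ⧸ p.asIdeal) :=
        finite_of_finite_type_of_isJacobsonRing k _
      haveI : Algebra.IsAlgebraic k (MvPolynomial (Fin n) k ⧸ p.asIdeal) :=
        Algebra.IsAlgebraic.of_finite k _
      exact Algebra.IsAlgebraic.isSeparable_of_perfectField
  · -- infinite field: a rational point in `D(h)`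
    obtain ⟨a, ha⟩ : ∃ a : Fin n → k, MvPolynomial.eval a h ≠ 0 := by
      by_contra hcon
      push Not at hcon
      exact hh (MvPolynomial.funext (fun x => by simpa using hcon x))
    let φ : MvPolynomial (Fin n) k →ₐ[k] k := MvPolynomial.aeval a
    have hφ : Function.Surjective φ := fun c => ⟨MvPolynomial.C c, by simp [φ]⟩
    let e : (MvPolynomial (Fin n) k ⧸ RingHom.ker φ.toRingHom) ≃ₐ[k] k :=
      Ideal.quotientKerAlgEquivOfSurjective hφ
    refine ⟨RingHom.ker φ.toRingHom, RingHom.ker_isMaximal_of_surjective _ hφ, ?_, ?_, ?_⟩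
    · intro hmem
      apply ha
      have : φ h = 0 := hmem
      rw [← this]
      change MvPolynomial.eval a h = MvPolynomial.aeval a h
      rw [MvPolynomial.aeval_eq_eval]
    · exact Module.Finite.equiv e.symm.toLinearEquiv
    · exact AlgEquiv.Algebra.isSeparable e.symm

attribute [local instance] Ideal.Quotient.field in
/-- `S`-level: a standard smooth algebra over a field has, in every nonempty open of its spectrum,
a maximal ideal with finite separable residue field. -/
theorem exists_maximal_of_isStandardSmooth (k : Type u) [Field k] (S : Type u) [CommRing S]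
    [Algebra k S] (hS : (algebraMap k S).IsStandardSmooth) (O : Set (PrimeSpectrum S))
    (hO : IsOpen O) (hne : O.Nonempty) :
    ∃ q : PrimeSpectrum S, q ∈ O ∧ q.asIdeal.IsMaximal ∧ Module.Finite k (S ⧸ q.asIdeal) ∧
      Algebra.IsSeparable k (S ⧸ q.asIdeal) := by
  obtain ⟨n, g, hgC, hg⟩ := hS.exists_etale_mvPolynomial
  algebraize [g]
  haveI : IsScalarTower k (MvPolynomial (Fin n) k) S := IsScalarTower.of_algebraMap_eq' hgC.symm
  have hopen : IsOpenMap (PrimeSpectrum.comap (algebraMap (MvPolynomial (Fin n) k) S)) :=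
    PrimeSpectrum.isOpenMap_comap_of_hasGoingDown_of_finitePresentation
  have hU := hopen O hO
  obtain ⟨q0, hq0⟩ := hne
  obtain ⟨_, ⟨_, ⟨h, rfl⟩, rfl⟩, hh1, hh2⟩ :=
    PrimeSpectrum.isBasis_basic_opens.exists_subset_of_mem_open
      (Set.mem_image_of_mem _ hq0) hU
  have hh : h ≠ 0 := by
    rintro rfl
    simp at hh1
  obtain ⟨p, hpmax, hhp, hpfin, hpsep⟩ := exists_maximal_mvPolynomial k n h hh
  obtain ⟨q, hqO, hqp⟩ := hh2 (show (⟨p, hpmax.isPrime⟩ : PrimeSpectrum _) ∈
    (PrimeSpectrum.basicOpen h : Set _) from hhp)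
  haveI hlo : q.asIdeal.LiesOver p := ⟨by
    have := congrArg PrimeSpectrum.asIdeal hqp
    exact this.symm⟩
  -- `S/q` is formally unramified and essentially of finite type over the field `P/p`
  haveI : Algebra.FormallyUnramified (MvPolynomial (Fin n) k) (S ⧸ q.asIdeal) :=
    Algebra.FormallyUnramified.comp _ S _
  haveI : Algebra.FormallyUnramified (MvPolynomial (Fin n) k ⧸ p) (S ⧸ q.asIdeal) :=
    Algebra.FormallyUnramified.of_restrictScalars (MvPolynomial (Fin n) k) _ _
  haveI : Algebra.FiniteType (MvPolynomial (Fin n) k) (S ⧸ q.asIdeal) :=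
    Algebra.FiniteType.trans (S := S) inferInstance inferInstance
  haveI : Algebra.EssFiniteType (MvPolynomial (Fin n) k ⧸ p) (S ⧸ q.asIdeal) :=
    Algebra.EssFiniteType.of_comp (MvPolynomial (Fin n) k) _ _
  haveI hfin : Module.Finite (MvPolynomial (Fin n) k ⧸ p) (S ⧸ q.asIdeal) :=
    Algebra.FormallyUnramified.finite_of_free _ _
  have hfield : IsField (S ⧸ q.asIdeal) :=
    isField_of_isIntegral_of_isField' (R := MvPolynomial (Fin n) k ⧸ p)
      ((Ideal.Quotient.maximal_ideal_iff_isField_quotient p).mp hpmax)
  have hqmax : q.asIdeal.IsMaximal := Ideal.Quotient.maximal_of_isField _ hfield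
  refine ⟨q, hqO, hqmax, ?_, ?_⟩
  · exact Module.Finite.trans (MvPolynomial (Fin n) k ⧸ p) _
  · haveI : Algebra.IsSeparable (MvPolynomial (Fin n) k ⧸ p) (S ⧸ q.asIdeal) :=
      Algebra.FormallyUnramified.isSeparable _ _
    exact Algebra.IsSeparable.trans k (MvPolynomial (Fin n) k ⧸ p) _

open CategoryTheory AlgebraicGeometry

set_option backward.isDefEq.respectTransparency false in
/-- Scheme version: if `X` is smooth over a field `k`, every nonempty open subset of `X` contains
a closed point whose residue field (a `k`-algebra through `Curv2.resMap`) is finite separable. -/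
theorem exists_closed_separable (k : Type u) [Field k] (X : Scheme.{u})
    [X.Over (Spec (CommRingCat.of k))] [Smooth (X ↘ (Spec (CommRingCat.of k)))]
    (O : Set X) (hO : IsOpen O) (hne : O.Nonempty) :
    ∃ x ∈ O, IsClosed ({x} : Set X) ∧
      letI := Curv2.resAlgebra k X x
      FiniteDimensional k (X.residueField x) ∧ Algebra.IsSeparable k (X.residueField x) := by
  set f := X ↘ (Spec (CommRingCat.of k)) with hfdef
  haveI : JacobsonSpace X := LocallyOfFiniteType.jacobsonSpace f
  obtain ⟨x0, hx0⟩ := hne
  obtain ⟨U, hU, V, hV, hx0V, e, hf⟩ := Smooth.exists_isStandardSmooth f x0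
  obtain rfl : U = ⊤ := by
    ext y
    have : y = f x0 := Subsingleton.elim _ _
    simp only [TopologicalSpace.Opens.coe_top, Set.mem_univ, iff_true, SetLike.mem_coe]
    rw [this]
    exact e hx0V
  -- the `k`-algebra structure on `A = Γ(X, V)`
  let φ : k →+* Γ(X, V) :=
    (f.appLE ⊤ V e).hom.comp (Scheme.ΓSpecIso (CommRingCat.of k)).inv.hom
  have hφ : φ.IsStandardSmooth :=
    RingHom.isStandardSmooth_respectsIso.2 _
      (Scheme.ΓSpecIso (CommRingCat.of k)).symm.commRingCatIsoToRingEquiv hf
  letI : Algebra k Γ(X, V) := φ.toAlgebra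
  have hφ' : (algebraMap k Γ(X, V)).IsStandardSmooth := hφ
  -- the open subset of `Spec A`
  have hO' : IsOpen (hV.fromSpec ⁻¹' O) := hO.preimage hV.fromSpec.continuous
  have hne' : (hV.fromSpec ⁻¹' O).Nonempty := by
    have : x0 ∈ Set.range hV.fromSpec := by rw [hV.range_fromSpec]; exact hx0V
    obtain ⟨y, hy⟩ := this
    exact ⟨y, by simpa [hy] using hx0⟩
  obtain ⟨q, hqO, hqmax, hqfin, hqsep⟩ :=
    exists_maximal_of_isStandardSmooth k Γ(X, V) hφ' _ hO' hne'
  set x := hV.fromSpec q with hxdef
  have hxV : x ∈ V := by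
    have : x ∈ Set.range hV.fromSpec := ⟨q, rfl⟩
    rwa [hV.range_fromSpec] at this
  refine ⟨x, hqO, ?_, ?_⟩
  · -- closedness
    have h1 : q ∈ closedPoints (Spec Γ(X, V)) :=
      (PrimeSpectrum.isClosed_singleton_iff_isMaximal q).mpr hqmax
    rw [← hV.fromSpec.isOpenEmbedding.preimage_closedPoints] at h1
    exact h1
  · letI := Curv2.resAlgebra k X x
    -- evaluation as a `k`-algebra map
    let ev : Γ(X, V) →ₐ[k] X.residueField x :=
      { (X.evaluation V x hxV).hom with
        commutes' := by
          intro c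
          change (X.evaluation V x hxV).hom (φ c) = Curv2.resMap k X x c
          simp only [φ, Curv2.resMap, Curv2.stalkMap, Coh.toGlobal, RingHom.comp_apply,
            Scheme.Hom.appLE, CommRingCat.hom_comp, Scheme.evaluation]
          congr 1
          exact (TopCat.Presheaf.germ_res_apply X.presheaf (homOfLE le_top) x hxV _) }
    have hker : ∀ a : Γ(X, V), ev a = 0 ↔ a ∈ q.asIdeal := by
      intro a
      change (X.evaluation V x hxV) a = 0 ↔ _
      rw [Scheme.evaluation_eq_zero_iff_notMem_basicOpen]
      have h2 : x ∈ X.basicOpen a ↔ q ∈ (hV.fromSpec ⁻¹ᵁ X.basicOpen a) := Iff.rfl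
      rw [h2, hV.fromSpec_preimage_basicOpen]
      exact not_not
    have hker' : RingHom.ker ev.toRingHom = q.asIdeal := by
      ext a
      exact hker a
    have hsurj : Function.Surjective ev := by
      intro t
      obtain ⟨s, rfl⟩ := X.residue_surjective x t
      letI := TopCat.Presheaf.algebra_section_stalk X.presheaf ⟨hV.fromSpec q, hxV⟩
      haveI := hV.isLocalization_stalk' q hxV
      obtain ⟨⟨a, b⟩, hab⟩ := IsLocalization.surj q.asIdeal.primeCompl s
      have hb : b.1 ∉ q.asIdeal := b.2
      obtain ⟨c, i, hi, hci⟩ := hqmax.exists_inv hb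
      refine ⟨a * c, ?_⟩
      have h3 : (X.residue x) s * ev b.1 = ev a := by
        have := congrArg (X.residue x).hom hab
        rw [map_mul] at this
        exact this
      have h4 : ev c * ev b.1 = 1 := by
        have := congrArg ev hci
        rw [map_add, map_mul, (hker i).mpr hi, add_zero, map_one] at this
        exact this
      calc ev (a * c) = ev a * ev c := map_mul _ _ _
        _ = (X.residue x) s * ev b.1 * ev c := by rw [h3]
        _ = (X.residue x) s * (ev c * ev b.1) := by ring
        _ = (X.residue x) s := by rw [h4, mul_one]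
    let E : (Γ(X, V) ⧸ RingHom.ker ev.toRingHom) ≃ₐ[k] X.residueField x :=
      Ideal.quotientKerAlgEquivOfSurjective hsurj
    rw [← hker'] at hqfin hqsep
    exact ⟨Module.Finite.equiv E.toLinearEquiv, AlgEquiv.Algebra.isSeparable E⟩

end Groth.Agent.Lib.Helper22.SmoothSepPts
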