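import Groth.Agent.S9350
import Groth.Agent.Lib.Lead.PullbackAff6
import Groth.Agent.Lib.Lead.QCohAff5
import Groth.Agent.Lib.Lead.FlatTensor

set_option autoImplicit false
universe u
open CategoryTheory CategoryTheory.Limits AlgebraicGeometry TopologicalSpace TensorProduct

namespace Groth.Agent.Lib.Helper22.FlatBC

theorem isFlatOverAt_comp_of_flat {X Y Z : Scheme.{u}} (f : X ⟶ Y) (g : Y ⟶ Z) (M : X.Modules)
    (x : X) (hg : (g.stalkMap (f x)).hom.Flat) (h : FlatMod.IsFlatOverAt f M x) :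
    FlatMod.IsFlatOverAt (f ≫ g) M x := by
  unfold FlatMod.IsFlatOverAt at h ⊢
  letI algAB : Algebra (Z.presheaf.stalk (g (f x))) (Y.presheaf.stalk (f x)) :=
    (g.stalkMap (f x)).hom.toAlgebra
  letI modB : Module (Y.presheaf.stalk (f x)) (M.presheaf.stalk x) :=
    FlatMod.moduleStalkOver f M x
  letI modA : Module (Z.presheaf.stalk (g (f x))) (M.presheaf.stalk x) :=
    FlatMod.moduleStalkOver (f ≫ g) M x
  haveI : IsScalarTower (Z.presheaf.stalk (g (f x))) (Y.presheaf.stalk (f x))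
      (M.presheaf.stalk x) := IsScalarTower.of_algebraMap_smul fun r m => by
    change ((f.stalkMap x).hom ((g.stalkMap (f x)).hom r)) • m = (((f ≫ g).stalkMap x).hom r) • m
    rw [Scheme.Hom.stalkMap_comp]
    rfl
  haveI : Module.Flat (Z.presheaf.stalk (g (f x))) (Y.presheaf.stalk (f x)) := hg
  haveI : Module.Flat (Y.presheaf.stalk (f x)) (M.presheaf.stalk x) := h
  exact Module.Flat.trans (Z.presheaf.stalk (g (f x))) (Y.presheaf.stalk (f x)) (M.presheaf.stalk x)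


theorem isFlatOver_of_pullback {X Y Y' : Scheme.{u}} (f : X ⟶ Y) (g : Y' ⟶ Y)
    [Flat g] [Surjective g] (M : X.Modules) (hM : Coh.IsQCoh M)
    (h' : FlatMod.IsFlatOver (pullback.snd f g) ((Scheme.Modules.pullback (pullback.fst f g)).obj M)) :
    FlatMod.IsFlatOver f M := by
  intro x
  obtain ⟨x', rfl⟩ := (pullback.fst f g).surjective x
  have h1 := isFlatOverAt_comp_of_flat (pullback.snd f g) g _ x'
    (Flat.stalkMap g _) (h' x')
  rw [← pullback.condition] at h1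
  exact (Groth.Agent.S9350.result (pullback.fst f g) f M hM x'
    (Flat.stalkMap (pullback.fst f g) x')).mpr h1


open Groth.Agent.Lib.Lead.PullbackAff Groth.Agent.Lib.Lead.QCohAff

/-- ring-level: flat base change through an `Algebra.IsPushout` square -/
theorem flat_tensor_of_isPushout (A A' B B' : Type u) [CommRing A] [CommRing A'] [CommRing B]
    [CommRing B'] [Algebra A A'] [Algebra A B] [Algebra A B'] [Algebra B B'] [Algebra A' B']
    [IsScalarTower A B B'] [IsScalarTower A A' B'] [Algebra.IsPushout A A' B B']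
    (N : Type u) [AddCommGroup N] [Module A N] [Module B N] [IsScalarTower A B N]
    [Module.Flat A N] : Module.Flat A' (B' ⊗[B] N) :=
  Module.Flat.of_linearEquiv (Algebra.IsPushout.cancelBaseChange A A' B B' N)


open Groth.Agent.Lib.Lead.PullbackAff Groth.Agent.Lib.Lead.QCohAff Scheme.Modules

theorem flat_sections_pullback {X Y Y' : Scheme.{u}} (f : X ⟶ Y) (g : Y' ⟶ Y) (M : X.Modules)
    [M.IsQuasicoherent] {U : X.Opens} {V : Y.Opens} {V' : Y'.Opens} (hU : IsAffineOpen U)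
    (hV : IsAffineOpen V) (hV' : IsAffineOpen V') (e : U ≤ f ⁻¹ᵁ V) (e' : V' ≤ g ⁻¹ᵁ V)
    (hfl : @Module.Flat Γ(Y, V) Γ(M, U) _ _ (Module.compHom Γ(M, U) (f.appLE V U e).hom)) :
    @Module.Flat Γ(Y', V') Γ((Scheme.Modules.pullback (pullback.fst f g)).obj M,
        pullback.fst f g ⁻¹ᵁ U ⊓ pullback.snd f g ⁻¹ᵁ V') _ _
      (Module.compHom _ ((pullback.snd f g).appLE V'
        (pullback.fst f g ⁻¹ᵁ U ⊓ pullback.snd f g ⁻¹ᵁ V') inf_le_right).hom) := by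
  have H : IsPullback (pullback.fst f g) (pullback.snd f g) f g := IsPullback.of_hasPullback f g
  have hpush := (isIso_pushoutSection_iff H e' e rfl).mp
    (isIso_pushoutSection_of_isAffineOpen H e' e rfl hV hV' hU)
  have hW : IsAffineOpen (pullback.fst f g ⁻¹ᵁ U ⊓ pullback.snd f g ⁻¹ᵁ V') := by
    have : IsAffine V := hV
    have : IsAffine V' := hV'
    have : IsAffine U := hU
    exact .of_isIso (Scheme.Hom.isPullback_resLE H e' e rfl).isoPullback.hom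
  letI algAB : Algebra Γ(Y, V) Γ(X, U) := (f.appLE V U e).hom.toAlgebra
  letI algAA' : Algebra Γ(Y, V) Γ(Y', V') := (g.appLE V V' e').hom.toAlgebra
  letI algBB' : Algebra Γ(X, U) Γ(pullback f g, pullback.fst f g ⁻¹ᵁ U ⊓ pullback.snd f g ⁻¹ᵁ V') :=
    ((pullback.fst f g).appLE U _ inf_le_left).hom.toAlgebra
  letI algA'B' : Algebra Γ(Y', V')
      Γ(pullback f g, pullback.fst f g ⁻¹ᵁ U ⊓ pullback.snd f g ⁻¹ᵁ V') :=
    ((pullback.snd f g).appLE V' _ inf_le_right).hom.toAlgebra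
  letI algAB' : Algebra Γ(Y, V)
      Γ(pullback f g, pullback.fst f g ⁻¹ᵁ U ⊓ pullback.snd f g ⁻¹ᵁ V') :=
    ((algebraMap Γ(X, U) Γ(pullback f g, pullback.fst f g ⁻¹ᵁ U ⊓ pullback.snd f g ⁻¹ᵁ V')).comp
      (algebraMap Γ(Y, V) Γ(X, U))).toAlgebra
  haveI t1 : IsScalarTower Γ(Y, V) Γ(X, U)
      Γ(pullback f g, pullback.fst f g ⁻¹ᵁ U ⊓ pullback.snd f g ⁻¹ᵁ V') :=
    IsScalarTower.of_algebraMap_eq' rfl
  haveI t2 : IsScalarTower Γ(Y, V) Γ(Y', V')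
      Γ(pullback f g, pullback.fst f g ⁻¹ᵁ U ⊓ pullback.snd f g ⁻¹ᵁ V') :=
    IsScalarTower.of_algebraMap_eq' (by
      have := congrArg CommRingCat.Hom.hom hpush.w
      exact this)
  haveI hP : Algebra.IsPushout Γ(Y, V) Γ(Y', V') Γ(X, U)
      Γ(pullback f g, pullback.fst f g ⁻¹ᵁ U ⊓ pullback.snd f g ⁻¹ᵁ V') := by
    apply Algebra.IsPushout.symm
    exact CommRingCat.isPushout_iff_isPushout.mp hpush
  letI modAN : Module Γ(Y, V) Γ(M, U) := Module.compHom Γ(M, U) (f.appLE V U e).hom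
  haveI : IsScalarTower Γ(Y, V) Γ(X, U) Γ(M, U) := IsScalarTower.of_algebraMap_smul fun r m => rfl
  haveI : Module.Flat Γ(Y, V) Γ(M, U) := hfl
  have key := flat_tensor_of_isPushout Γ(Y, V) Γ(Y', V') Γ(X, U)
    Γ(pullback f g, pullback.fst f g ⁻¹ᵁ U ⊓ pullback.snd f g ⁻¹ᵁ V') Γ(M, U)
  letI modA'N' : Module Γ(Y', V') Γ((Scheme.Modules.pullback (pullback.fst f g)).obj M,
        pullback.fst f g ⁻¹ᵁ U ⊓ pullback.snd f g ⁻¹ᵁ V') :=
    Module.compHom _ ((pullback.snd f g).appLE V'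
        (pullback.fst f g ⁻¹ᵁ U ⊓ pullback.snd f g ⁻¹ᵁ V') inf_le_right).hom
  haveI : IsScalarTower Γ(Y', V')
      Γ(pullback f g, pullback.fst f g ⁻¹ᵁ U ⊓ pullback.snd f g ⁻¹ᵁ V')
      Γ((Scheme.Modules.pullback (pullback.fst f g)).obj M,
        pullback.fst f g ⁻¹ᵁ U ⊓ pullback.snd f g ⁻¹ᵁ V') :=
    IsScalarTower.of_algebraMap_smul fun r m => rfl
  let eq := (sectionsPullbackEquiv (pullback.fst f g) M hW hU inf_le_left).restrictScalars Γ(Y', V')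
  exact Module.Flat.of_linearEquiv eq



theorem isFlatOver_pullback {X Y Y' : Scheme.{u}} (f : X ⟶ Y) (g : Y' ⟶ Y)
    (M : X.Modules) (hM : Coh.IsQCoh M) (h : FlatMod.IsFlatOver f M) :
    FlatMod.IsFlatOver (pullback.snd f g) ((Scheme.Modules.pullback (pullback.fst f g)).obj M) := by
  haveI : M.IsQuasicoherent := hM
  intro x'
  -- charts
  obtain ⟨V, hV, hxV, -⟩ := exists_isAffineOpen_mem_and_subset (U := (⊤ : Y.Opens))
    (x := f (pullback.fst f g x')) trivial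
  have hx'V' : pullback.snd f g x' ∈ g ⁻¹ᵁ V := by
    change g (pullback.snd f g x') ∈ V
    rw [← Scheme.Hom.comp_apply, ← pullback.condition, Scheme.Hom.comp_apply]
    exact hxV
  obtain ⟨V', hV', hxV', e'⟩ := exists_isAffineOpen_mem_and_subset hx'V'
  replace e' : V' ≤ g ⁻¹ᵁ V := e'
  have hxU' : pullback.fst f g x' ∈ f ⁻¹ᵁ V := hxV
  obtain ⟨U, hU, hxU, e⟩ := exists_isAffineOpen_mem_and_subset hxU'
  replace e : U ≤ f ⁻¹ᵁ V := e
  have hfl := (flat_sections_iff f M hU hV e).2 (fun x _ => h x)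
  have key := flat_sections_pullback f g M hU hV hV' e e' hfl
  have H : IsPullback (pullback.fst f g) (pullback.snd f g) f g := IsPullback.of_hasPullback f g
  have hW : IsAffineOpen (pullback.fst f g ⁻¹ᵁ U ⊓ pullback.snd f g ⁻¹ᵁ V') := by
    have : IsAffine V := hV
    have : IsAffine V' := hV'
    have : IsAffine U := hU
    exact .of_isIso (Scheme.Hom.isPullback_resLE H e' e rfl).isoPullback.hom
  exact (flat_sections_iff (pullback.snd f g) _ hW hV' inf_le_right).1 key x' ⟨hxU, hxV'⟩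


open Groth.Agent.Lib.Lead

/-- ring-level core of pointwise flat base change -/
theorem flat_tensor_localization
    (A A' B B' R T : Type u) [CommRing A] [CommRing A'] [CommRing B] [CommRing B'] [CommRing R]
    [CommRing T]
    [Algebra A A'] [Algebra A B] [Algebra A B'] [Algebra B B'] [Algebra A' B']
    [IsScalarTower A B B'] [IsScalarTower A A' B'] [Algebra.IsPushout A A' B B']
    [Algebra B R] (Sb : Submonoid B) [IsLocalization Sb R]
    [Algebra B' T] [Module.Flat B' T]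
    [Algebra R T] [Algebra B T] [IsScalarTower B R T] [IsScalarTower B B' T]
    [Algebra A' T] [IsScalarTower A' B' T]
    (Q : Type u) [AddCommGroup Q] [Module R Q] [Module B Q] [IsScalarTower B R Q]
    [Module A Q] [IsScalarTower A B Q] [Module.Flat A Q] :
    Module.Flat A' (T ⊗[R] Q) := by
  haveI h1 : Module.Flat A' (B' ⊗[B] Q) := flat_tensor_of_isPushout A A' B B' Q
  haveI h2 : Module.Flat A' (T ⊗[B'] (B' ⊗[B] Q)) :=
    FlatTensor.flat_tensor_of_flat (A := A') (B := B') (C := T) (M := B' ⊗[B] Q)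
  let e2 : T ⊗[B'] (B' ⊗[B] Q) ≃ₗ[T] T ⊗[B] Q :=
    TensorProduct.AlgebraTensorModule.cancelBaseChange B B' T T Q
  haveI : TensorProduct.CompatibleSMul B R T Q :=
    IsLocalization.tensorProduct_compatibleSMul Sb R T Q
  let e1 : T ⊗[R] Q ≃ₗ[T] T ⊗[B] Q := TensorProduct.equivOfCompatibleSMul B R T T Q
  exact Module.Flat.of_linearEquiv ((e1.trans e2.symm).restrictScalars A')



theorem isFlatOverAt_pullback {X S X' S' : Scheme.{u}} (f : X ⟶ S) (f' : X' ⟶ S') (g' : X' ⟶ X)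
    (g : S' ⟶ S) (hc : IsPullback g' f' f g) (F : X.Modules) (hF : Coh.IsQCoh F) (x' : X')
    (h : FlatMod.IsFlatOverAt f F (g' x')) :
    FlatMod.IsFlatOverAt f' ((Scheme.Modules.pullback g').obj F) x' := by
  haveI : F.IsQuasicoherent := hF
  -- charts
  obtain ⟨V, hV, hxV, -⟩ := exists_isAffineOpen_mem_and_subset (U := (⊤ : S.Opens))
    (x := f (g' x')) trivial
  have hx'V' : f' x' ∈ g ⁻¹ᵁ V := by
    change g (f' x') ∈ V
    rw [← Scheme.Hom.comp_apply, ← hc.w, Scheme.Hom.comp_apply]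
    exact hxV
  obtain ⟨V', hV', hxV', e'⟩ := exists_isAffineOpen_mem_and_subset hx'V'
  replace e' : V' ≤ g ⁻¹ᵁ V := e'
  have hxU' : g' x' ∈ f ⁻¹ᵁ V := hxV
  obtain ⟨U, hU, hxU, e⟩ := exists_isAffineOpen_mem_and_subset hxU'
  replace e : U ≤ f ⁻¹ᵁ V := e
  have hpush := (isIso_pushoutSection_iff hc e' e rfl).mp
    (isIso_pushoutSection_of_isAffineOpen hc e' e rfl hV hV' hU)
  have hW : IsAffineOpen (g' ⁻¹ᵁ U ⊓ f' ⁻¹ᵁ V') := by
    have : IsAffine V := hV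
    have : IsAffine V' := hV'
    have : IsAffine U := hU
    exact .of_isIso (Scheme.Hom.isPullback_resLE hc e' e rfl).isoPullback.hom
  have hx'W : x' ∈ g' ⁻¹ᵁ U ⊓ f' ⁻¹ᵁ V' := ⟨hxU, hxV'⟩
  -- section rings
  letI algAB : Algebra Γ(S, V) Γ(X, U) := (f.appLE V U e).hom.toAlgebra
  letI algAA' : Algebra Γ(S, V) Γ(S', V') := (g.appLE V V' e').hom.toAlgebra
  letI algBB' : Algebra Γ(X, U) Γ(X', g' ⁻¹ᵁ U ⊓ f' ⁻¹ᵁ V') :=
    (g'.appLE U _ inf_le_left).hom.toAlgebra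
  letI algA'B' : Algebra Γ(S', V') Γ(X', g' ⁻¹ᵁ U ⊓ f' ⁻¹ᵁ V') :=
    (f'.appLE V' _ inf_le_right).hom.toAlgebra
  letI algAB' : Algebra Γ(S, V) Γ(X', g' ⁻¹ᵁ U ⊓ f' ⁻¹ᵁ V') :=
    ((algebraMap Γ(X, U) Γ(X', g' ⁻¹ᵁ U ⊓ f' ⁻¹ᵁ V')).comp
      (algebraMap Γ(S, V) Γ(X, U))).toAlgebra
  haveI t1 : IsScalarTower Γ(S, V) Γ(X, U) Γ(X', g' ⁻¹ᵁ U ⊓ f' ⁻¹ᵁ V') :=
    IsScalarTower.of_algebraMap_eq' rfl
  haveI t2 : IsScalarTower Γ(S, V) Γ(S', V') Γ(X', g' ⁻¹ᵁ U ⊓ f' ⁻¹ᵁ V') :=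
    IsScalarTower.of_algebraMap_eq' (by
      have := congrArg CommRingCat.Hom.hom hpush.w
      exact this)
  haveI hP : Algebra.IsPushout Γ(S, V) Γ(S', V') Γ(X, U) Γ(X', g' ⁻¹ᵁ U ⊓ f' ⁻¹ᵁ V') := by
    apply Algebra.IsPushout.symm
    exact CommRingCat.isPushout_iff_isPushout.mp hpush
  -- stalks
  letI algBR : Algebra Γ(X, U) (X.presheaf.stalk (g' x')) :=
    X.presheaf.algebra_section_stalk ⟨g' x', hxU⟩
  haveI locR := hU.isLocalization_stalk ⟨g' x', hxU⟩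
  letI algB'T : Algebra Γ(X', g' ⁻¹ᵁ U ⊓ f' ⁻¹ᵁ V') (X'.presheaf.stalk x') :=
    X'.presheaf.algebra_section_stalk ⟨x', hx'W⟩
  haveI locT := hW.isLocalization_stalk ⟨x', hx'W⟩
  haveI flT : Module.Flat Γ(X', g' ⁻¹ᵁ U ⊓ f' ⁻¹ᵁ V') (X'.presheaf.stalk x') :=
    IsLocalization.flat _ (hW.primeIdealOf ⟨x', hx'W⟩).asIdeal.primeCompl
  letI algRT : Algebra (X.presheaf.stalk (g' x')) (X'.presheaf.stalk x') :=
    (g'.stalkMap x').hom.toAlgebra
  letI algBT : Algebra Γ(X, U) (X'.presheaf.stalk x') :=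
    ((algebraMap Γ(X', g' ⁻¹ᵁ U ⊓ f' ⁻¹ᵁ V') (X'.presheaf.stalk x')).comp
      (algebraMap Γ(X, U) Γ(X', g' ⁻¹ᵁ U ⊓ f' ⁻¹ᵁ V'))).toAlgebra
  haveI t3 : IsScalarTower Γ(X, U) Γ(X', g' ⁻¹ᵁ U ⊓ f' ⁻¹ᵁ V') (X'.presheaf.stalk x') :=
    IsScalarTower.of_algebraMap_eq' rfl
  haveI t4 : IsScalarTower Γ(X, U) (X.presheaf.stalk (g' x')) (X'.presheaf.stalk x') :=
    IsScalarTower.of_algebraMap_eq (fun b => by
      change X'.presheaf.germ _ x' hx'W (g'.appLE U _ inf_le_left b) =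
        g'.stalkMap x' (X.presheaf.germ U (g' x') hxU b)
      exact (stalkMap_germ_appLE g' inf_le_left x' hx'W b).symm)
  letI algA'T : Algebra Γ(S', V') (X'.presheaf.stalk x') :=
    ((algebraMap Γ(X', g' ⁻¹ᵁ U ⊓ f' ⁻¹ᵁ V') (X'.presheaf.stalk x')).comp
      (algebraMap Γ(S', V') Γ(X', g' ⁻¹ᵁ U ⊓ f' ⁻¹ᵁ V'))).toAlgebra
  haveI t5 : IsScalarTower Γ(S', V') Γ(X', g' ⁻¹ᵁ U ⊓ f' ⁻¹ᵁ V') (X'.presheaf.stalk x') :=
    IsScalarTower.of_algebraMap_eq' rfl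
  -- the module Q = F_x
  letI modBQ : Module Γ(X, U) (F.presheaf.stalk (g' x')) :=
    inferInstanceAs (Module Γ(X, U) (StalkOver F U (g' x') hxU))
  haveI t6 : IsScalarTower Γ(X, U) (X.presheaf.stalk (g' x')) (F.presheaf.stalk (g' x')) :=
    IsScalarTower.of_algebraMap_smul fun r m => rfl
  letI modAQ : Module Γ(S, V) (F.presheaf.stalk (g' x')) :=
    Module.compHom (StalkOver F U (g' x') hxU) (f.appLE V U e).hom
  haveI t7 : IsScalarTower Γ(S, V) Γ(X, U) (F.presheaf.stalk (g' x')) :=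
    IsScalarTower.of_algebraMap_smul fun r m => rfl
  haveI flQ : Module.Flat Γ(S, V) (F.presheaf.stalk (g' x')) :=
    (isFlatOverAt_iff_flat_stalkOver f F hV e (g' x') hxU).1 h
  have key := flat_tensor_localization Γ(S, V) Γ(S', V') Γ(X, U) Γ(X', g' ⁻¹ᵁ U ⊓ f' ⁻¹ᵁ V')
    (X.presheaf.stalk (g' x')) (X'.presheaf.stalk x')
    (hU.primeIdealOf ⟨g' x', hxU⟩).asIdeal.primeCompl (F.presheaf.stalk (g' x'))
  obtain ⟨eq⟩ := nonempty_stalk_pullback_equiv g' F x'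
  rw [isFlatOverAt_iff_flat_stalkOver f' _ hV' inf_le_right x' hx'W]
  letI modA'M' : Module Γ(S', V') (((Scheme.Modules.pullback g').obj F).presheaf.stalk x') :=
    Module.compHom (StalkOver ((Scheme.Modules.pullback g').obj F) (g' ⁻¹ᵁ U ⊓ f' ⁻¹ᵁ V') x' hx'W)
      (f'.appLE V' (g' ⁻¹ᵁ U ⊓ f' ⁻¹ᵁ V') inf_le_right).hom
  haveI t8 : IsScalarTower Γ(S', V') (X'.presheaf.stalk x')
      (((Scheme.Modules.pullback g').obj F).presheaf.stalk x') :=
    IsScalarTower.of_algebraMap_smul fun r m => rfl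
  have hfin : Module.Flat Γ(S', V') (((Scheme.Modules.pullback g').obj F).presheaf.stalk x') :=
    Module.Flat.of_linearEquiv (eq.restrictScalars Γ(S', V'))
  exact hfin



/-- base change of "flat at a point": in a pullback square, if `g` is flat at `f' x'` then
`g'` is flat at `x'`. -/
theorem flat_stalkMap_of_isPullback {X S X' S' : Scheme.{u}} (f : X ⟶ S) (f' : X' ⟶ S')
    (g' : X' ⟶ X) (g : S' ⟶ S) (hc : IsPullback g' f' f g) (x' : X')
    (hg : (g.stalkMap (f' x')).hom.Flat) : (g'.stalkMap x').hom.Flat := by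
  -- charts
  obtain ⟨V, hV, hxV, -⟩ := exists_isAffineOpen_mem_and_subset (U := (⊤ : S.Opens))
    (x := f (g' x')) trivial
  have hx'V' : f' x' ∈ g ⁻¹ᵁ V := by
    change g (f' x') ∈ V
    rw [← Scheme.Hom.comp_apply, ← hc.w, Scheme.Hom.comp_apply]
    exact hxV
  have hsV : g (f' x') ∈ V := hx'V'
  obtain ⟨V', hV', hxV', e'⟩ := exists_isAffineOpen_mem_and_subset hx'V'
  replace e' : V' ≤ g ⁻¹ᵁ V := e'
  have hxU' : g' x' ∈ f ⁻¹ᵁ V := hxV
  obtain ⟨U, hU, hxU, e⟩ := exists_isAffineOpen_mem_and_subset hxU'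
  replace e : U ≤ f ⁻¹ᵁ V := e
  have hpush := (isIso_pushoutSection_iff hc e' e rfl).mp
    (isIso_pushoutSection_of_isAffineOpen hc e' e rfl hV hV' hU)
  have hW : IsAffineOpen (g' ⁻¹ᵁ U ⊓ f' ⁻¹ᵁ V') := by
    have : IsAffine V := hV
    have : IsAffine V' := hV'
    have : IsAffine U := hU
    exact .of_isIso (Scheme.Hom.isPullback_resLE hc e' e rfl).isoPullback.hom
  have hx'W : x' ∈ g' ⁻¹ᵁ U ⊓ f' ⁻¹ᵁ V' := ⟨hxU, hxV'⟩
  -- section rings
  letI algAB : Algebra Γ(S, V) Γ(X, U) := (f.appLE V U e).hom.toAlgebra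
  letI algAA' : Algebra Γ(S, V) Γ(S', V') := (g.appLE V V' e').hom.toAlgebra
  letI algBB' : Algebra Γ(X, U) Γ(X', g' ⁻¹ᵁ U ⊓ f' ⁻¹ᵁ V') :=
    (g'.appLE U _ inf_le_left).hom.toAlgebra
  letI algA'B' : Algebra Γ(S', V') Γ(X', g' ⁻¹ᵁ U ⊓ f' ⁻¹ᵁ V') :=
    (f'.appLE V' _ inf_le_right).hom.toAlgebra
  letI algAB' : Algebra Γ(S, V) Γ(X', g' ⁻¹ᵁ U ⊓ f' ⁻¹ᵁ V') :=
    ((algebraMap Γ(X, U) Γ(X', g' ⁻¹ᵁ U ⊓ f' ⁻¹ᵁ V')).comp
      (algebraMap Γ(S, V) Γ(X, U))).toAlgebra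
  haveI t1 : IsScalarTower Γ(S, V) Γ(X, U) Γ(X', g' ⁻¹ᵁ U ⊓ f' ⁻¹ᵁ V') :=
    IsScalarTower.of_algebraMap_eq' rfl
  haveI t2 : IsScalarTower Γ(S, V) Γ(S', V') Γ(X', g' ⁻¹ᵁ U ⊓ f' ⁻¹ᵁ V') :=
    IsScalarTower.of_algebraMap_eq' (by
      have := congrArg CommRingCat.Hom.hom hpush.w
      exact this)
  haveI hP : Algebra.IsPushout Γ(S, V) Γ(X, U) Γ(S', V') Γ(X', g' ⁻¹ᵁ U ⊓ f' ⁻¹ᵁ V') :=
    CommRingCat.isPushout_iff_isPushout.mp hpush
  -- stalks
  letI algBR : Algebra Γ(X, U) (X.presheaf.stalk (g' x')) :=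
    X.presheaf.algebra_section_stalk ⟨g' x', hxU⟩
  haveI locR := hU.isLocalization_stalk ⟨g' x', hxU⟩
  letI algB'T : Algebra Γ(X', g' ⁻¹ᵁ U ⊓ f' ⁻¹ᵁ V') (X'.presheaf.stalk x') :=
    X'.presheaf.algebra_section_stalk ⟨x', hx'W⟩
  haveI locT := hW.isLocalization_stalk ⟨x', hx'W⟩
  haveI flT : Module.Flat Γ(X', g' ⁻¹ᵁ U ⊓ f' ⁻¹ᵁ V') (X'.presheaf.stalk x') :=
    IsLocalization.flat _ (hW.primeIdealOf ⟨x', hx'W⟩).asIdeal.primeCompl
  letI algRT : Algebra (X.presheaf.stalk (g' x')) (X'.presheaf.stalk x') :=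
    (g'.stalkMap x').hom.toAlgebra
  letI algBT : Algebra Γ(X, U) (X'.presheaf.stalk x') :=
    ((algebraMap Γ(X', g' ⁻¹ᵁ U ⊓ f' ⁻¹ᵁ V') (X'.presheaf.stalk x')).comp
      (algebraMap Γ(X, U) Γ(X', g' ⁻¹ᵁ U ⊓ f' ⁻¹ᵁ V'))).toAlgebra
  haveI t3 : IsScalarTower Γ(X, U) Γ(X', g' ⁻¹ᵁ U ⊓ f' ⁻¹ᵁ V') (X'.presheaf.stalk x') :=
    IsScalarTower.of_algebraMap_eq' rfl
  haveI t4 : IsScalarTower Γ(X, U) (X.presheaf.stalk (g' x')) (X'.presheaf.stalk x') :=
    IsScalarTower.of_algebraMap_eq (fun b => by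
      change X'.presheaf.germ _ x' hx'W (g'.appLE U _ inf_le_left b) =
        g'.stalkMap x' (X.presheaf.germ U (g' x') hxU b)
      exact (stalkMap_germ_appLE g' inf_le_left x' hx'W b).symm)
  letI algA'T : Algebra Γ(S', V') (X'.presheaf.stalk x') :=
    ((algebraMap Γ(X', g' ⁻¹ᵁ U ⊓ f' ⁻¹ᵁ V') (X'.presheaf.stalk x')).comp
      (algebraMap Γ(S', V') Γ(X', g' ⁻¹ᵁ U ⊓ f' ⁻¹ᵁ V'))).toAlgebra
  haveI t5 : IsScalarTower Γ(S', V') Γ(X', g' ⁻¹ᵁ U ⊓ f' ⁻¹ᵁ V') (X'.presheaf.stalk x') :=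
    IsScalarTower.of_algebraMap_eq' rfl
  -- the local rings of the bases
  letI algA'Aq : Algebra Γ(S', V') (S'.presheaf.stalk (f' x')) :=
    S'.presheaf.algebra_section_stalk ⟨f' x', hxV'⟩
  haveI locAq := hV'.isLocalization_stalk ⟨f' x', hxV'⟩
  letI algAAp : Algebra Γ(S, V) (S.presheaf.stalk (g (f' x'))) :=
    S.presheaf.algebra_section_stalk ⟨g (f' x'), hsV⟩
  haveI locAp := hV.isLocalization_stalk ⟨g (f' x'), hsV⟩
  letI algApAq : Algebra (S.presheaf.stalk (g (f' x'))) (S'.presheaf.stalk (f' x')) :=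
    (g.stalkMap (f' x')).hom.toAlgebra
  letI algAAq : Algebra Γ(S, V) (S'.presheaf.stalk (f' x')) :=
    ((algebraMap Γ(S', V') (S'.presheaf.stalk (f' x'))).comp
      (algebraMap Γ(S, V) Γ(S', V'))).toAlgebra
  haveI t6 : IsScalarTower Γ(S, V) Γ(S', V') (S'.presheaf.stalk (f' x')) :=
    IsScalarTower.of_algebraMap_eq' rfl
  haveI t7 : IsScalarTower Γ(S, V) (S.presheaf.stalk (g (f' x'))) (S'.presheaf.stalk (f' x')) :=
    IsScalarTower.of_algebraMap_eq (fun b => by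
      change S'.presheaf.germ _ (f' x') hxV' (g.appLE V V' e' b) =
        g.stalkMap (f' x') (S.presheaf.germ V (g (f' x')) hsV b)
      exact (stalkMap_germ_appLE g e' (f' x') hxV' b).symm)
  haveI flAp : Module.Flat Γ(S, V) (S.presheaf.stalk (g (f' x'))) :=
    IsLocalization.flat _ (hV.primeIdealOf ⟨g (f' x'), hsV⟩).asIdeal.primeCompl
  haveI flApAq : Module.Flat (S.presheaf.stalk (g (f' x'))) (S'.presheaf.stalk (f' x')) := hg
  haveI flAq : Module.Flat Γ(S, V) (S'.presheaf.stalk (f' x')) :=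
    Module.Flat.trans Γ(S, V) (S.presheaf.stalk (g (f' x'))) (S'.presheaf.stalk (f' x'))
  letI algAqT : Algebra (S'.presheaf.stalk (f' x')) (X'.presheaf.stalk x') :=
    (f'.stalkMap x').hom.toAlgebra
  haveI t8 : IsScalarTower Γ(S', V') (S'.presheaf.stalk (f' x')) (X'.presheaf.stalk x') :=
    IsScalarTower.of_algebraMap_eq (fun b => by
      change X'.presheaf.germ _ x' hx'W (f'.appLE V' _ inf_le_right b) =
        f'.stalkMap x' (S'.presheaf.germ V' (f' x') hxV' b)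
      exact (stalkMap_germ_appLE f' inf_le_right x' hx'W b).symm)
  have key := flat_tensor_localization Γ(S, V) Γ(X, U) Γ(S', V') Γ(X', g' ⁻¹ᵁ U ⊓ f' ⁻¹ᵁ V')
    (S'.presheaf.stalk (f' x')) (X'.presheaf.stalk x')
    (hV'.primeIdealOf ⟨f' x', hxV'⟩).asIdeal.primeCompl (S'.presheaf.stalk (f' x'))
  have h1 : Module.Flat Γ(X, U) (X'.presheaf.stalk x') :=
    Module.Flat.of_linearEquiv ((TensorProduct.AlgebraTensorModule.rid
      (S'.presheaf.stalk (f' x')) (X'.presheaf.stalk x') (X'.presheaf.stalk x')).symm.restrictScalars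
      Γ(X, U))
  exact (Module.flat_iff_of_isLocalization (X.presheaf.stalk (g' x'))
      (hU.primeIdealOf ⟨g' x', hxU⟩).asIdeal.primeCompl (X'.presheaf.stalk x')).2 h1


/-- pointwise descent of flatness of a quasi-coherent module along a base change flat at the point -/
theorem isFlatOverAt_of_pullback {X S X' S' : Scheme.{u}} (f : X ⟶ S) (f' : X' ⟶ S') (g' : X' ⟶ X)
    (g : S' ⟶ S) (hc : IsPullback g' f' f g) (F : X.Modules) (hF : Coh.IsQCoh F) (x' : X')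
    (hg : (g.stalkMap (f' x')).hom.Flat)
    (h : FlatMod.IsFlatOverAt f' ((Scheme.Modules.pullback g').obj F) x') :
    FlatMod.IsFlatOverAt f F (g' x') := by
  have h1 := isFlatOverAt_comp_of_flat f' g _ x' hg h
  rw [← hc.w] at h1
  exact (Groth.Agent.S9350.result g' f F hF x'
    (flat_stalkMap_of_isPullback f f' g' g hc x' hg)).mpr h1

end Groth.Agent.Lib.Helper22.FlatBC
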