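import Groth.Agent.Lib.Helper2.FreeModAff
import Groth.Agent.Lib.Helper2.FinPresAff
import Groth.Agent.Lib.Helper21.RelFPSch
import Groth.Agent.Lib.Lead.PullbackAff6
import Mathlib.RingTheory.Localization.Free
import Mathlib.RingTheory.LocalRing.Module
import Mathlib.RingTheory.Nakayama

/-!
# Fibrewise freeness criterion (helper22)

* `free_of_flat_of_fibre_flat`: `R → A` local hom of local rings, `M` f.p. over `A`, flat over `R`,
  `M/m_R M` flat over `A/m_R A` ⟹ `M` free over `A` (no hypothesis on `A` over `R`).
* `exists_away_free`: spreading out freeness of a f.p. module from a prime to a basic open.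
* `exists_open_iso_freeMod_of_stalk_free`: f.p. qcoh `F` with `F_x` free ⟹ `F|_U ≅ O_U^n` near `x`.
-/

set_option autoImplicit false
set_option linter.style.haveILetI false
universe u
open TensorProduct

namespace Groth.Agent.Lib.Helper22.FibreFree

section FlatKer

variable {R : Type*} [CommRing R] {F M : Type*} [AddCommGroup F] [Module R F]
  [AddCommGroup M] [Module R M]

/-- The multiplication map `J ⊗ F → F`. -/
noncomputable def mulMap (J : Ideal R) (F : Type*) [AddCommGroup F] [Module R F] : J ⊗[R] F →ₗ[R] F :=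
  (TensorProduct.lid R F).toLinearMap ∘ₗ (J.subtype.rTensor F)

@[simp] theorem mulMap_tmul (J : Ideal R) (j : J) (f : F) : mulMap J F (j ⊗ₜ f) = (j : R) • f := by
  simp [mulMap]

theorem mulMap_injective_of_flat (J : Ideal R) [Module.Flat R M] :
    Function.Injective (mulMap J M) := by
  unfold mulMap
  rw [LinearMap.coe_comp]
  exact (TensorProduct.lid R M).injective.comp
    (Module.Flat.rTensor_preserves_injective_linearMap J.subtype Subtype.val_injective)

/-- If `M` is flat and `π : F → M` is surjective, then `ker π ∩ J F = J ker π`. -/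
theorem mulMap_mem_smul_ker [Module.Flat R M] (J : Ideal R) (π : F →ₗ[R] M)
    (hπ : Function.Surjective π) (t : J ⊗[R] F) (ht : π (mulMap J F t) = 0) :
    mulMap J F t ∈ J • LinearMap.ker π := by
  have hnat : ∀ t : J ⊗[R] F, mulMap J M (π.lTensor J t) = π (mulMap J F t) := by
    intro t
    induction t using TensorProduct.induction_on with
    | zero => simp
    | tmul j f => simp
    | add a b ha hb => simp [ha, hb]
  have h0 : π.lTensor J t = 0 := by
    apply mulMap_injective_of_flat (M := M) J
    rw [hnat, ht, map_zero]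
  have hex := lTensor_exact J (LinearMap.exact_subtype_ker_map π) hπ
  obtain ⟨s, rfl⟩ := (hex t).mp h0
  clear ht h0
  induction s using TensorProduct.induction_on with
  | zero => simp
  | tmul j k =>
    simp only [LinearMap.lTensor_tmul, Submodule.subtype_apply, mulMap_tmul]
    exact Submodule.smul_mem_smul j.2 k.2
  | add a b ha hb =>
    rw [map_add, map_add]
    exact Submodule.add_mem _ ha hb

end FlatKer

section FibreFree

open IsLocalRing

variable {R A M : Type*} [CommRing R] [CommRing A] [IsLocalRing R] [IsLocalRing A]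
  [AddCommGroup M] [Module A M]

/-- `M` a finitely presented module over a local `R`-algebra `A` (local hom), `M` flat over `R`,
`M/m_R M` flat over `A/m_R A`: then `M` is free over `A`. -/
theorem free_of_flat_of_fibre_flat (φ : R →+* A) [IsLocalHom φ] [Module.FinitePresentation A M]
    (h1 : @Module.Flat R M _ _ (Module.compHom M φ))
    (h2 : Module.Flat (A ⧸ Ideal.map φ (maximalIdeal R))
      (M ⧸ (Ideal.map φ (maximalIdeal R) • (⊤ : Submodule A M)))) :
    Module.Free A M := by
  letI : Algebra R A := φ.toAlgebra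
  letI : Module R M := Module.compHom M φ
  haveI : IsScalarTower R A M := IsScalarTower.of_algebraMap_smul fun r m => rfl
  haveI : Module.Flat R M := h1
  set I : Ideal A := Ideal.map φ (maximalIdeal R) with hI
  have hIle : I ≤ maximalIdeal A := map_maximalIdeal_le φ
  have hIjac : I ≤ Ideal.jacobson ⊥ := by
    rwa [IsLocalRing.jacobson_eq_maximalIdeal ⊥ bot_ne_top]
  have hItop : I ≠ ⊤ := fun h => (maximalIdeal.isMaximal A).ne_top (top_le_iff.mp (h ▸ hIle))
  haveI : Nontrivial (A ⧸ I) := Ideal.Quotient.nontrivial_iff.mpr hItop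
  haveI : IsLocalRing (A ⧸ I) :=
    IsLocalRing.of_surjective' (Ideal.Quotient.mk I) Ideal.Quotient.mk_surjective
  haveI : Module.Free (A ⧸ I) (M ⧸ I • (⊤ : Submodule A M)) := Module.free_of_flat_of_isLocalRing
  let ι := Module.Free.ChooseBasisIndex (A ⧸ I) (M ⧸ I • (⊤ : Submodule A M))
  let bbar : Module.Basis ι (A ⧸ I) (M ⧸ I • (⊤ : Submodule A M)) := Module.Free.chooseBasis _ _
  choose b hb using fun i => Submodule.Quotient.mk_surjective _ (bbar i)
  let π : (ι → A) →ₗ[A] M := Fintype.linearCombination A b
  have hmk : ∀ c : ι → A, Submodule.Quotient.mk (p := I • (⊤ : Submodule A M)) (π c) =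
      ∑ i, Ideal.Quotient.mk I (c i) • bbar i := by
    intro c
    simp only [π, Fintype.linearCombination_apply]
    rw [← Submodule.mkQ_apply, map_sum]
    refine Finset.sum_congr rfl fun i _ => ?_
    rw [Submodule.mkQ_apply, ← hb i]
    rfl
  -- surjectivity
  have hsurj : Function.Surjective π := by
    rw [← LinearMap.range_eq_top, eq_top_iff]
    refine Submodule.le_of_le_smul_of_le_jacobson_bot (I := I) Module.Finite.fg_top hIjac ?_
    intro m _
    obtain ⟨c, hc⟩ : ∃ c : ι → A, ∀ i, Ideal.Quotient.mk I (c i) =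
        bbar.repr (Submodule.Quotient.mk m) i :=
      ⟨fun i => (Ideal.Quotient.mk_surjective (bbar.repr (Submodule.Quotient.mk m) i)).choose,
        fun i => (Ideal.Quotient.mk_surjective (bbar.repr (Submodule.Quotient.mk m) i)).choose_spec⟩
    have h3 : Submodule.Quotient.mk (p := I • (⊤ : Submodule A M)) (m - π c) = 0 := by
      rw [Submodule.Quotient.mk_sub, hmk]
      simp only [hc]
      rw [bbar.sum_repr, sub_self]
    rw [Submodule.Quotient.mk_eq_zero] at h3
    have : m = π c + (m - π c) := by abel
    rw [this]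
    exact Submodule.add_mem_sup (LinearMap.mem_range_self π c) h3
  have hKfg : (LinearMap.ker π).FG := Module.FinitePresentation.fg_ker π hsurj
  have hK : LinearMap.ker π = ⊥ := by
    refine Submodule.eq_bot_of_le_smul_of_le_jacobson_bot I _ hKfg ?_ hIjac
    intro x hx
    have hxI : ∀ i, x i ∈ I := by
      intro i
      have h4 := hmk x
      rw [LinearMap.mem_ker.mp hx, Submodule.Quotient.mk_zero] at h4
      have h5 := Fintype.linearIndependent_iff.mp bbar.linearIndependent _ h4.symm i
      exact Ideal.Quotient.eq_zero_iff_mem.mp h5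
    have hrange : ∀ a ∈ I, ∀ f : ι → A,
        a • f ∈ LinearMap.range (mulMap (maximalIdeal R) (ι → A)) := by
      intro a ha
      induction ha using Submodule.span_induction with
      | mem a ha =>
        obtain ⟨j, hj, rfl⟩ := ha
        intro f
        refine ⟨(⟨j, hj⟩ : maximalIdeal R) ⊗ₜ f, ?_⟩
        rw [mulMap_tmul]
        rfl
      | zero => intro f; simp
      | add a b _ _ ha hb => intro f; rw [add_smul]; exact Submodule.add_mem _ (ha f) (hb f)
      | smul c a _ ha => intro f; rw [smul_eq_mul, mul_comm, mul_smul]; exact ha (c • f)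
    have hx' : x ∈ LinearMap.range (mulMap (maximalIdeal R) (ι → A)) := by
      have : x = ∑ i, x i • (Pi.single i (1 : A) : ι → A) := by
        ext j; simp [Finset.sum_apply, Pi.single_apply]
      rw [this]
      exact Submodule.sum_mem _ fun i _ => hrange _ (hxI i) _
    obtain ⟨t, rfl⟩ := hx'
    have h6 := mulMap_mem_smul_ker (maximalIdeal R) (π.restrictScalars R) hsurj t hx
    refine Submodule.smul_induction_on h6 ?_ ?_
    · intro j hj k hk
      have : j • k = φ j • k := rfl
      rw [this]
      exact Submodule.smul_mem_smul (Ideal.mem_map_of_mem φ hj) hk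
    · intro a b ha hb; exact Submodule.add_mem _ ha hb
  have hinj : Function.Injective π := LinearMap.ker_eq_bot.mp hK
  exact Module.Free.of_equiv (LinearEquiv.ofBijective π ⟨hinj, hsurj⟩).symm.symm

end FibreFree

section Spread

/-- Spreading out freeness of a finitely presented module from a prime to a basic open, in the
`IsLocalization`/`IsLocalizedModule` language. -/
theorem exists_away_free {A M : Type*} [CommRing A] [AddCommGroup M] [Module A M]
    [Module.FinitePresentation A M] (p : Ideal A) [p.IsPrime]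
    (Ap Mp : Type*) [CommRing Ap] [Algebra A Ap] [IsLocalization.AtPrime Ap p]
    [AddCommGroup Mp] [Module A Mp] [Module Ap Mp] [IsScalarTower A Ap Mp]
    (g : M →ₗ[A] Mp) [IsLocalizedModule p.primeCompl g] [Module.Free Ap Mp] :
    ∃ r, r ∉ p ∧ ∀ (A' M' : Type*) [CommRing A'] [Algebra A A'] [IsLocalization.Away r A']
      [AddCommGroup M'] [Module A M'] [Module A' M'] [IsScalarTower A A' M'] (ρ : M →ₗ[A] M')
      [IsLocalizedModule (Submonoid.powers r) ρ], ∃ n : ℕ, Nonempty (M' ≃ₗ[A'] (Fin n → A')) := by
  haveI : IsLocalRing Ap := IsLocalization.AtPrime.isLocalRing Ap p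
  obtain ⟨r, hr, hfree, -⟩ :=
    Module.FinitePresentation.exists_free_localizedModule_powers p.primeCompl g Ap
  refine ⟨r, hr, ?_⟩
  intro A' M' _ _ _ _ _ _ _ ρ _
  have hunit : IsUnit (algebraMap A Ap r) := IsLocalization.map_units Ap (⟨r, hr⟩ : p.primeCompl)
  haveI : Nontrivial A' :=
    (IsLocalization.Away.lift (S := A') r (g := algebraMap A Ap) hunit).domain_nontrivial
  let L := Localization (Submonoid.powers r)
  let N := LocalizedModule (Submonoid.powers r) M
  let σ : L ≃ₐ[A] A' := IsLocalization.algEquiv (Submonoid.powers r) L A'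
  letI : Module L M' := Module.compHom M' (σ : L →+* A')
  haveI : IsScalarTower A L M' := IsScalarTower.of_algebraMap_smul fun a m => by
    change σ (algebraMap A L a) • m = a • m
    rw [σ.commutes, algebraMap_smul]
  let e : N ≃ₗ[A] M' := IsLocalizedModule.iso (Submonoid.powers r) ρ
  let eL : N ≃ₗ[L] M' := e.extendScalarsOfIsLocalization (Submonoid.powers r) L
  haveI : Module.Free L N := hfree
  haveI : Module.Free L M' := Module.Free.of_equiv eL
  let b : Module.Basis _ L M' := Module.Free.chooseBasis L M'
  let b' : Module.Basis _ A' M' := b.mapCoeffs σ.toRingEquiv (fun c x => rfl)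
  haveI : Module.Finite A' M' := Module.Finite.of_isLocalizedModule (Submonoid.powers r) ρ
  haveI : Finite (Module.Free.ChooseBasisIndex L M') := Module.Finite.finite_basis b'
  cases nonempty_fintype (Module.Free.ChooseBasisIndex L M')
  exact ⟨Fintype.card (Module.Free.ChooseBasisIndex L M'),
    ⟨b'.equivFun ≪≫ₗ LinearEquiv.funCongrLeft A' A'
      (Fintype.equivFin (Module.Free.ChooseBasisIndex L M')).symm⟩⟩

end Spread

section Scheme

open CategoryTheory CategoryTheory.Limits AlgebraicGeometry TopologicalSpace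
open Groth.Agent.Lib.Lead.PullbackAff Groth.Agent.Lib.Lead.QCohAff Scheme.Modules
open Groth.Agent.Lib.Helper21.RelFPSch Groth.Agent.Lib.Helper2.FinTypeAff
  Groth.Agent.Lib.Helper2.FreeModAff

variable {X : Scheme.{u}}

/-- The stalk of a finitely presented quasi-coherent module is finitely presented. -/
theorem finitePresentation_stalk (F : X.Modules) [F.IsQuasicoherent]
    [SheafOfModules.IsFinitePresentation (R := X.ringCatSheaf) F] (x : X) :
    Module.FinitePresentation (X.presheaf.stalk x) (F.presheaf.stalk x) := by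
  obtain ⟨U, hU, hxU, -⟩ := exists_isAffineOpen_mem_and_subset (U := (⊤ : X.Opens))
    (x := x) trivial
  haveI := finitePresentation_sections F hU
  letI alg : Algebra Γ(X, U) (X.presheaf.stalk x) := X.presheaf.algebra_section_stalk ⟨x, hxU⟩
  haveI loc := hU.isLocalization_stalk ⟨x, hxU⟩
  haveI t1 : IsScalarTower Γ(X, U) (X.presheaf.stalk x) (StalkOver F U x hxU) :=
    IsScalarTower.of_algebraMap_smul fun r m => rfl
  have h : Module.FinitePresentation (X.presheaf.stalk x) (StalkOver F U x hxU) :=
    _root_.FinitePresentation.of_isBaseChange (germL F U x hxU)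
      (IsLocalizedModule.isBaseChange (hU.primeIdealOf ⟨x, hxU⟩).asIdeal.primeCompl
        (X.presheaf.stalk x) (germL F U x hxU))
  exact h

/-- A quasi-coherent module with finitely presented sections on an affine open `U ∋ x` whose
stalk at `x` is free is free on an open neighbourhood of `x`. -/
theorem exists_open_iso_freeMod_of_stalk_free' (F : X.Modules) [F.IsQuasicoherent]
    {U : X.Opens} (hU : IsAffineOpen U) [Module.FinitePresentation Γ(X, U) Γ(F, U)]
    (x : X) (hxU : x ∈ U)
    (hfree : Module.Free (X.presheaf.stalk x) (F.presheaf.stalk x)) :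
    ∃ (V : X.Opens) (n : ℕ), x ∈ V ∧ Nonempty (F.restrict V.ι ≅ FlatMod.freeMod (↑V) n) := by
  letI alg : Algebra Γ(X, U) (X.presheaf.stalk x) := X.presheaf.algebra_section_stalk ⟨x, hxU⟩
  haveI loc := hU.isLocalization_stalk ⟨x, hxU⟩
  haveI t1 : IsScalarTower Γ(X, U) (X.presheaf.stalk x) (StalkOver F U x hxU) :=
    IsScalarTower.of_algebraMap_smul fun r m => rfl
  haveI : Module.Free (X.presheaf.stalk x) (StalkOver F U x hxU) := hfree
  obtain ⟨r, hr, H⟩ := exists_away_free (hU.primeIdealOf ⟨x, hxU⟩).asIdeal
    (X.presheaf.stalk x) (StalkOver F U x hxU) (germL F U x hxU)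
  letI modAM' : Module Γ(X, U) Γ(F, X.basicOpen r) :=
    Module.compHom _ (resRing X (X.basicOpen_le r))
  haveI t2 : IsScalarTower Γ(X, U) Γ(X, X.basicOpen r) Γ(F, X.basicOpen r) :=
    IsScalarTower.of_algebraMap_smul fun r m => rfl
  haveI := hU.isLocalization_basicOpen r
  haveI := isLocalizedModule_resL F hU r
  obtain ⟨n, hn⟩ := H Γ(X, X.basicOpen r) Γ(F, X.basicOpen r) (resL F (X.basicOpen_le r))
  refine ⟨X.basicOpen r, n, ?_, ?_⟩
  · rw [Scheme.mem_basicOpen _ _ _ hxU]
    exact (IsLocalization.AtPrime.isUnit_to_map_iff (X.presheaf.stalk x)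
      (hU.primeIdealOf ⟨x, hxU⟩).asIdeal r).mpr hr
  · rw [nonempty_iso_freeMod_iff F (hU.basicOpen r)]
    exact hn

/-- A finitely presented quasi-coherent module whose stalk at `x` is free is free on an open
neighbourhood of `x`. -/
theorem exists_open_iso_freeMod_of_stalk_free (F : X.Modules) [F.IsQuasicoherent]
    [SheafOfModules.IsFinitePresentation (R := X.ringCatSheaf) F] (x : X)
    (hfree : Module.Free (X.presheaf.stalk x) (F.presheaf.stalk x)) :
    ∃ (U : X.Opens) (n : ℕ), x ∈ U ∧ Nonempty (F.restrict U.ι ≅ FlatMod.freeMod (↑U) n) := by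
  obtain ⟨U, hU, hxU, -⟩ := exists_isAffineOpen_mem_and_subset (U := (⊤ : X.Opens))
    (x := x) trivial
  haveI := finitePresentation_sections F hU
  exact exists_open_iso_freeMod_of_stalk_free' F hU x hxU hfree

/-- If `F` is free on an open neighbourhood of `x` then the stalk `F_x` is free. -/
theorem free_stalk_of_iso_freeMod (F : X.Modules) [F.IsQuasicoherent] (x : X) {U : X.Opens}
    (hxU : x ∈ U) {n : ℕ} (h : Nonempty (F.restrict U.ι ≅ FlatMod.freeMod (↑U) n)) :
    Module.Free (X.presheaf.stalk x) (F.presheaf.stalk x) := by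
  obtain ⟨V, hV, hxV, hVU⟩ := exists_isAffineOpen_mem_and_subset (U := U) (x := x) hxU
  have h' := nonempty_iso_freeMod_of_le F hVU n h
  rw [nonempty_iso_freeMod_iff F hV] at h'
  obtain ⟨e⟩ := h'
  letI alg : Algebra Γ(X, V) (X.presheaf.stalk x) := X.presheaf.algebra_section_stalk ⟨x, hxV⟩
  haveI loc := hV.isLocalization_stalk ⟨x, hxV⟩
  haveI t1 : IsScalarTower Γ(X, V) (X.presheaf.stalk x) (StalkOver F V x hxV) :=
    IsScalarTower.of_algebraMap_smul fun r m => rfl
  haveI : Module.Free Γ(X, V) Γ(F, V) := Module.Free.of_equiv e.symm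
  have h2 : Module.Free (X.presheaf.stalk x) (StalkOver F V x hxV) :=
    Module.free_of_isLocalizedModule (hV.primeIdealOf ⟨x, hxV⟩).asIdeal.primeCompl
      (germL F V x hxV)
  exact h2

/-- **Fibrewise freeness** (EGA IV 11.3.10-type statement): if `F` (f.p., quasi-coherent) is flat
over `S` at `x` and `F_x / m_s F_x` is flat over `O_{X,x} / m_s O_{X,x}`, then `F` is free near
`x`. -/
theorem exists_open_iso_freeMod_of_fibre_flat {S : Scheme.{u}} (f : X ⟶ S) (F : X.Modules)
    (hFq : Coh.IsQCoh F) (hFp : CohB1.IsFP F) (x : X) (h1 : FlatMod.IsFlatOverAt f F x)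
    (h2 : Module.Flat (↑(X.presheaf.stalk x) ⧸ Ideal.map (f.stalkMap x).hom
        (IsLocalRing.maximalIdeal ↑(S.presheaf.stalk (f x))))
      (↑(F.presheaf.stalk x) ⧸ (Ideal.map (f.stalkMap x).hom
        (IsLocalRing.maximalIdeal ↑(S.presheaf.stalk (f x))) •
          (⊤ : Submodule ↑(X.presheaf.stalk x) ↑(F.presheaf.stalk x))))) :
    ∃ (U : X.Opens) (n : ℕ), x ∈ U ∧ Nonempty (F.restrict U.ι ≅ FlatMod.freeMod (↑U) n) := by
  haveI : F.IsQuasicoherent := hFq
  haveI : SheafOfModules.IsFinitePresentation (R := X.ringCatSheaf) F := hFp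
  haveI := finitePresentation_stalk F x
  exact exists_open_iso_freeMod_of_stalk_free F x
    (free_of_flat_of_fibre_flat (f.stalkMap x).hom h1 h2)

end Scheme

end Groth.Agent.Lib.Helper22.FibreFree
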