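import Mathlib

universe u

open TensorProduct CategoryTheory CategoryTheory.Limits

namespace Groth.Agent.Lib.Helper22.RelCartier

section Ring

variable {A : Type*} {B : Type*} [CommRing A] [CommRing B] [Algebra A B]

/-- multiplication by `t` as an `A`-linear map, exact sequence with quotient. -/
theorem exact_mulLeft_mkQ (t : B) :
    Function.Exact (LinearMap.mulLeft A t) ((Ideal.Quotient.mkₐ A (Ideal.span {t})).toLinearMap) := by
  intro b
  simp only [AlgHom.toLinearMap_apply, Ideal.Quotient.mkₐ_eq_mk, Ideal.Quotient.eq_zero_iff_mem,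
    Ideal.mem_span_singleton', Set.mem_range, LinearMap.mulLeft_apply]
  constructor
  · rintro ⟨a, rfl⟩; exact ⟨a, mul_comm _ _⟩
  · rintro ⟨a, rfl⟩; exact ⟨a, mul_comm _ _⟩

theorem mulLeft_injective_of_mem_nonZeroDivisors {t : B} (ht : t ∈ nonZeroDivisors B) :
    Function.Injective (LinearMap.mulLeft A t) := by
  intro a b hab
  simp only [LinearMap.mulLeft_apply] at hab
  exact (mul_cancel_left_mem_nonZeroDivisors ht).mp hab

/-- If `t` is a nonzerodivisor of `B` and `B/tB` is `A`-flat then multiplication by `t` is injective on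
`B ⊗[A] N` for every `A`-module `N`. -/
theorem rTensor_mulLeft_injective {t : B} (ht : t ∈ nonZeroDivisors B)
    [Module.Flat A (B ⧸ Ideal.span {t})] (N : Type*) [AddCommGroup N] [Module A N] :
    Function.Injective ((LinearMap.mulLeft A t).rTensor N) := by
  rw [← LinearMap.lTensor_inj_iff_rTensor_inj]
  exact LinearMap.lTensor_injective_of_exact_of_flat
    ((Ideal.Quotient.mkₐ A (Ideal.span {t})).toLinearMap) (Ideal.Quotient.mkₐ_surjective A _)
    (LinearMap.mulLeft A t) (mulLeft_injective_of_mem_nonZeroDivisors ht) (exact_mulLeft_mkQ t) N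

theorem rTensor_mulLeft_apply (t : B) (N : Type*) [AddCommGroup N] [Module A N] (x : B ⊗[A] N) :
    (LinearMap.mulLeft A t).rTensor N x = t • x := by
  induction x using TensorProduct.induction_on with
  | zero => simp
  | tmul b n => simp [TensorProduct.smul_tmul']
  | add x y hx hy => simp [hx, hy]

theorem smul_eq_zero_imp {t : B} (ht : t ∈ nonZeroDivisors B)
    [Module.Flat A (B ⧸ Ideal.span {t})] (N : Type*) [AddCommGroup N] [Module A N]
    (x : B ⊗[A] N) (hx : t • x = 0) : x = 0 := by
  apply rTensor_mulLeft_injective ht N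
  rw [rTensor_mulLeft_apply, hx, map_zero]

theorem pow_smul_eq_zero_imp {t : B} (ht : t ∈ nonZeroDivisors B)
    [Module.Flat A (B ⧸ Ideal.span {t})] (N : Type*) [AddCommGroup N] [Module A N]
    (n : ℕ) (x : B ⊗[A] N) (hx : t ^ n • x = 0) : x = 0 := by
  induction n with
  | zero => simpa using hx
  | succ n ih =>
    apply ih
    apply smul_eq_zero_imp ht N
    rw [smul_smul, ← pow_succ']
    exact hx

/-- **R1**: `t` nonzerodivisor, `B/tB` flat over `A` and `B_t` flat over `A` imply `B` flat. -/
theorem flat_of_away_of_quotient {B' : Type*} [CommRing B'] [Algebra B B'] [Algebra A B']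
    [IsScalarTower A B B'] (t : B) [IsLocalization.Away t B'] (ht : t ∈ nonZeroDivisors B)
    [Module.Flat A (B ⧸ Ideal.span {t})] [Module.Flat A B'] : Module.Flat A B := by
  rw [Module.Flat.iff_lTensor_preserves_injective_linearMap]
  intro N N' _ _ _ _ g hg
  rw [injective_iff_map_eq_zero]
  intro x hx
  let ψ : B →ₗ[B] B' := Algebra.linearMap B B'
  have hloc : IsLocalizedModule (Submonoid.powers t) ψ := inferInstance
  have h1 : (AlgebraTensorModule.rTensor A N ψ) x = 0 := by
    apply Module.Flat.lTensor_preserves_injective_linearMap (M := B') g hg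
    rw [map_zero]
    have comm : ∀ y : B ⊗[A] N, (g.lTensor B') ((AlgebraTensorModule.rTensor A N ψ) y) =
        (AlgebraTensorModule.rTensor A N' ψ) (g.lTensor B y) := by
      intro y
      induction y using TensorProduct.induction_on with
      | zero => simp
      | tmul b n => simp
      | add y z hy hz => simp only [map_add]; rw [hy, hz]
    have := comm x
    rw [this, hx, map_zero]
  obtain ⟨⟨_, n, rfl⟩, hs⟩ :=
    (IsLocalizedModule.eq_zero_iff (Submonoid.powers t) (AlgebraTensorModule.rTensor A N ψ)).mp h1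
  exact pow_smul_eq_zero_imp ht N n x hs

/-- **R2**: `h` a nonzerodivisor in the Jacobson radical of the Noetherian ring `B`, `B/hB` flat
over `A` implies `B` flat over `A`. -/
theorem flat_of_jacobson_of_quotient [IsNoetherianRing B] (h : B) (hh : h ∈ nonZeroDivisors B)
    (hj : h ∈ Ideal.jacobson (⊥ : Ideal B))
    [Module.Flat A (B ⧸ Ideal.span {h})] : Module.Flat A B := by
  rw [Module.Flat.iff_lTensor_injective]
  intro I hI
  have : Module.Finite A I := Module.Finite.iff_fg.mpr hI
  -- the B-linear version of the map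
  let μ : B ⊗[A] I →ₗ[B] B ⊗[A] A := AlgebraTensorModule.lTensor B B I.subtype
  have hμ : ∀ x, μ x = I.subtype.lTensor B x := fun x => rfl
  let K : Submodule B (B ⊗[A] I) := LinearMap.ker μ
  have hKfg : K.FG := IsNoetherian.noetherian K
  have hle : K ≤ (Ideal.span {h}) • K := by
    intro k hk
    have hk0 : μ k = 0 := hk
    -- image in (B/h) ⊗ I is zero
    let π : B →ₗ[A] (B ⧸ Ideal.span {h}) := (Ideal.Quotient.mkₐ A (Ideal.span {h})).toLinearMap
    have h1 : (π.rTensor I) k = 0 := by
      apply Module.Flat.lTensor_preserves_injective_linearMap (M := B ⧸ Ideal.span {h})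
        I.subtype I.injective_subtype
      rw [map_zero]
      have comm : ∀ y : B ⊗[A] I, (I.subtype.lTensor (B ⧸ Ideal.span {h})) (π.rTensor I y) =
          (π.rTensor A) (I.subtype.lTensor B y) := by
        intro y
        induction y using TensorProduct.induction_on with
        | zero => simp
        | tmul b n => simp
        | add y z hy hz => simp only [map_add]; rw [hy, hz]
      rw [comm k, ← hμ, hk0, map_zero]
    have hex := rTensor_exact I (exact_mulLeft_mkQ (A := A) h) (Ideal.Quotient.mkₐ_surjective A _)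
    obtain ⟨y, hy⟩ := (hex k).mp h1
    rw [rTensor_mulLeft_apply] at hy
    have hyK : y ∈ K := by
      change μ y = 0
      have h2 : h • μ y = 0 := by rw [← map_smul, hy, hk0]
      -- h is a nonzerodivisor on B ⊗ A ≃ B
      have h3 : (TensorProduct.rid A B) (h • μ y) = 0 := by rw [h2, map_zero]
      have h4 : (TensorProduct.rid A B) (h • μ y) = h * (TensorProduct.rid A B) (μ y) := by
        generalize μ y = z
        induction z using TensorProduct.induction_on with
        | zero => simp
        | tmul b n => simp [TensorProduct.smul_tmul']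
        | add y z hy hz => simp only [smul_add, map_add, mul_add]; rw [hy, hz]
      rw [h4] at h3
      have h5 := (mul_left_mem_nonZeroDivisors_eq_zero_iff hh).mp h3
      exact (TensorProduct.rid A B).injective (by rw [h5, map_zero])
    rw [← hy]
    exact Submodule.smul_mem_smul (Ideal.mem_span_singleton_self h) hyK
  have hK : K = ⊥ := Submodule.eq_bot_of_le_smul_of_le_jacobson_bot (Ideal.span {h}) K hKfg hle
    ((Ideal.span_singleton_le_iff_mem _).mpr hj)
  rw [injective_iff_map_eq_zero]
  intro x hx
  have : x ∈ K := hx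
  rw [hK] at this
  exact this

section Exact

variable {M' M M'' : Type*} [AddCommGroup M'] [AddCommGroup M] [AddCommGroup M'']
  [Module A M'] [Module A M] [Module A M'']

/-- kernel of a surjection of flat modules is flat. -/
theorem flat_of_exact_left (g : M' →ₗ[A] M) (f : M →ₗ[A] M'') (hg : Function.Injective g)
    (hf : Function.Surjective f) (hex : Function.Exact g f) [Module.Flat A M] [Module.Flat A M''] :
    Module.Flat A M' := by
  rw [Module.Flat.iff_lTensor_preserves_injective_linearMap]
  intro N N' _ _ _ _ j hj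
  have h1 : Function.Injective (g.rTensor N) := by
    rw [← LinearMap.lTensor_inj_iff_rTensor_inj]
    exact LinearMap.lTensor_injective_of_exact_of_flat f hf g hg hex N
  have h2 : Function.Injective (j.lTensor M) :=
    Module.Flat.lTensor_preserves_injective_linearMap j hj
  have h3 : Function.Injective ((j.lTensor M).comp (g.rTensor N)) := h2.comp h1
  rw [LinearMap.lTensor_comp_rTensor, ← LinearMap.rTensor_comp_lTensor] at h3
  exact Function.Injective.of_comp h3

/-- extension of flat modules is flat. -/
theorem flat_of_exact_middle (g : M' →ₗ[A] M) (f : M →ₗ[A] M'') (hg : Function.Injective g)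
    (hf : Function.Surjective f) (hex : Function.Exact g f) [Module.Flat A M'] [Module.Flat A M''] :
    Module.Flat A M := by
  rw [Module.Flat.iff_lTensor_preserves_injective_linearMap]
  intro N N' _ _ _ _ j hj
  have hgN' : Function.Injective (g.rTensor N') := by
    rw [← LinearMap.lTensor_inj_iff_rTensor_inj]
    exact LinearMap.lTensor_injective_of_exact_of_flat f hf g hg hex N'
  have ha : Function.Injective (j.lTensor M') :=
    Module.Flat.lTensor_preserves_injective_linearMap j hj
  have hc : Function.Injective (j.lTensor M'') :=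
    Module.Flat.lTensor_preserves_injective_linearMap j hj
  have hexN := rTensor_exact N hex hf
  rw [injective_iff_map_eq_zero]
  intro x hx
  have h1 : (f.rTensor N) x = 0 := by
    apply hc
    rw [map_zero, ← LinearMap.comp_apply, LinearMap.lTensor_comp_rTensor,
      ← LinearMap.rTensor_comp_lTensor, LinearMap.comp_apply, hx, map_zero]
  obtain ⟨y, rfl⟩ := (hexN x).mp h1
  have h2 : (j.lTensor M') y = 0 := by
    apply hgN'
    rw [map_zero, ← LinearMap.comp_apply, LinearMap.rTensor_comp_lTensor,
      ← LinearMap.lTensor_comp_rTensor, LinearMap.comp_apply, hx]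
  rw [(injective_iff_map_eq_zero _).mp ha y h2, map_zero]

end Exact

section QuotMul

variable (t : B) (J J' : Ideal B)

/-- multiplication by `t`, `B/J → B/(tJ)`. -/
noncomputable def mulQ (h : ∀ b ∈ J, t * b ∈ J') : (B ⧸ J) →ₗ[A] (B ⧸ J') :=
  (Submodule.liftQ J ((Submodule.mkQ J').comp (LinearMap.mulLeft B t)) (fun b hb => by
    simp only [LinearMap.mem_ker, LinearMap.comp_apply, LinearMap.mulLeft_apply,
      Submodule.mkQ_apply, Submodule.Quotient.mk_eq_zero]
    exact h b hb)).restrictScalars A

theorem mulQ_mk (h : ∀ b ∈ J, t * b ∈ J') (b : B) :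
    mulQ (A := A) t J J' h (Ideal.Quotient.mk J b) = Ideal.Quotient.mk _ (t * b) := rfl

/-- the projection `B/J' → B/(t)`. -/
noncomputable def projQ (h : J' ≤ Ideal.span {t}) : (B ⧸ J') →ₗ[A] (B ⧸ Ideal.span {t}) :=
  (Ideal.Quotient.factorₐ A h).toLinearMap

theorem projQ_mk (h : J' ≤ Ideal.span {t}) (b : B) :
    projQ (A := A) t J' h (Ideal.Quotient.mk _ b) = Ideal.Quotient.mk _ b := rfl

theorem projQ_surjective (h : J' ≤ Ideal.span {t}) : Function.Surjective (projQ (A := A) t J' h) := by
  intro x
  obtain ⟨b, rfl⟩ := Ideal.Quotient.mk_surjective x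
  exact ⟨Ideal.Quotient.mk _ b, rfl⟩

variable (hJ' : J' = Ideal.span {t} * J)
include hJ'

theorem mul_mem_of_eq : ∀ b ∈ J, t * b ∈ J' := fun b hb => by
  rw [hJ']; exact Ideal.mul_mem_mul (Ideal.mem_span_singleton_self t) hb

theorem le_span_of_eq : J' ≤ Ideal.span {t} := by
  rw [hJ']; exact Ideal.mul_le_left (I := Ideal.span {t}) (J := J)

theorem mulQ_injective (ht : t ∈ nonZeroDivisors B) :
    Function.Injective (mulQ (A := A) t J J' (mul_mem_of_eq t J J' hJ')) := by
  rw [injective_iff_map_eq_zero]
  intro x hx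
  obtain ⟨b, rfl⟩ := Ideal.Quotient.mk_surjective x
  rw [mulQ_mk, Ideal.Quotient.eq_zero_iff_mem, hJ', Ideal.mem_span_singleton_mul] at hx
  obtain ⟨c, hc, hcb⟩ := hx
  rw [Ideal.Quotient.eq_zero_iff_mem]
  have : b = c := ((mul_cancel_left_mem_nonZeroDivisors ht).mp hcb).symm
  rwa [this]

theorem exact_mulQ_projQ : Function.Exact (mulQ (A := A) t J J' (mul_mem_of_eq t J J' hJ'))
    (projQ (A := A) t J' (le_span_of_eq t J J' hJ')) := by
  intro x
  obtain ⟨b, rfl⟩ := Ideal.Quotient.mk_surjective x
  rw [projQ_mk, Ideal.Quotient.eq_zero_iff_mem, Ideal.mem_span_singleton']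
  constructor
  · rintro ⟨a, rfl⟩
    exact ⟨Ideal.Quotient.mk J a, by rw [mulQ_mk, mul_comm]⟩
  · rintro ⟨y, hy⟩
    obtain ⟨a, rfl⟩ := Ideal.Quotient.mk_surjective y
    rw [mulQ_mk, Ideal.Quotient.eq, hJ', Ideal.mem_span_singleton_mul] at hy
    obtain ⟨c, hc, hcb⟩ := hy
    exact ⟨a - c, by rw [sub_mul, mul_comm a t, mul_comm c t, hcb]; ring⟩

end QuotMul

section QuotMulFlat

variable (t : B) (J J' : Ideal B) (hJ' : J' = Ideal.span {t} * J) (ht : t ∈ nonZeroDivisors B)
include hJ' ht

/-- `B/(t)` and `B/J` flat imply `B/(tJ)` flat (for `t` a nonzerodivisor). -/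
theorem flat_quotient_mul [Module.Flat A (B ⧸ Ideal.span {t})] [Module.Flat A (B ⧸ J)] :
    Module.Flat A (B ⧸ J') :=
  flat_of_exact_middle _ _ (mulQ_injective (A := A) t J J' hJ' ht)
    (projQ_surjective (A := A) t J' (le_span_of_eq t J J' hJ')) (exact_mulQ_projQ t J J' hJ')

/-- `B/(t)` and `B/(tJ)` flat imply `B/J` flat (for `t` a nonzerodivisor). -/
theorem flat_quotient_of_mul [Module.Flat A (B ⧸ Ideal.span {t})] [Module.Flat A (B ⧸ J')] :
    Module.Flat A (B ⧸ J) :=
  flat_of_exact_left _ _ (mulQ_injective (A := A) t J J' hJ' ht)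
    (projQ_surjective (A := A) t J' (le_span_of_eq t J J' hJ')) (exact_mulQ_projQ t J J' hJ')

end QuotMulFlat

end Ring

section RingHom

variable {A B : Type*} [CommRing A] [CommRing B]

theorem flat_mk_comp_iff [Algebra A B] (I : Ideal B) :
    ((Ideal.Quotient.mk I).comp (algebraMap A B)).Flat ↔ Module.Flat A (B ⧸ I) := by
  rw [Ideal.Quotient.mk_comp_algebraMap, RingHom.flat_algebraMap_iff]

theorem flat_mk_comp_iff' (φ : A →+* B) (I : Ideal B) :
    ((Ideal.Quotient.mk I).comp φ).Flat ↔
      (letI := φ.toAlgebra; Module.Flat A (B ⧸ I)) := by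
  let := φ.toAlgebra
  exact flat_mk_comp_iff (A := A) I

/-- ring hom version of R1. -/
theorem ringHom_flat_of_away_of_quotient {B' : Type*} [CommRing B'] [Algebra B B'] (φ : A →+* B)
    (t : B) [IsLocalization.Away t B'] (ht : t ∈ nonZeroDivisors B)
    (h1 : ((Ideal.Quotient.mk (Ideal.span {t})).comp φ).Flat)
    (h2 : ((algebraMap B B').comp φ).Flat) : φ.Flat := by
  let := φ.toAlgebra
  let : Algebra A B' := ((algebraMap B B').comp φ).toAlgebra
  have : IsScalarTower A B B' := .of_algebraMap_eq' rfl
  have : Module.Flat A (B ⧸ Ideal.span {t}) := (flat_mk_comp_iff' φ _).mp h1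
  have : Module.Flat A B' := h2
  exact flat_of_away_of_quotient (A := A) (B' := B') t ht

/-- ring hom version of R2. -/
theorem ringHom_flat_of_jacobson_of_quotient [IsNoetherianRing B] (φ : A →+* B) (h : B)
    (hh : h ∈ nonZeroDivisors B) (hj : h ∈ Ideal.jacobson (⊥ : Ideal B))
    (h1 : ((Ideal.Quotient.mk (Ideal.span {h})).comp φ).Flat) : φ.Flat := by
  let := φ.toAlgebra
  have : Module.Flat A (B ⧸ Ideal.span {h}) := (flat_mk_comp_iff' φ _).mp h1
  exact flat_of_jacobson_of_quotient (A := A) h hh hj

theorem ringHom_flat_quotient_mul (φ : A →+* B) (t : B) (J J' : Ideal B)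
    (hJ' : J' = Ideal.span {t} * J) (ht : t ∈ nonZeroDivisors B)
    (h1 : ((Ideal.Quotient.mk (Ideal.span {t})).comp φ).Flat)
    (h2 : ((Ideal.Quotient.mk J).comp φ).Flat) : ((Ideal.Quotient.mk J').comp φ).Flat := by
  let := φ.toAlgebra
  have : Module.Flat A (B ⧸ Ideal.span {t}) := (flat_mk_comp_iff' φ _).mp h1
  have : Module.Flat A (B ⧸ J) := (flat_mk_comp_iff' φ _).mp h2
  exact (flat_mk_comp_iff' φ _).mpr (flat_quotient_mul (A := A) t J J' hJ' ht)

theorem ringHom_flat_quotient_of_mul (φ : A →+* B) (t : B) (J J' : Ideal B)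
    (hJ' : J' = Ideal.span {t} * J) (ht : t ∈ nonZeroDivisors B)
    (h1 : ((Ideal.Quotient.mk (Ideal.span {t})).comp φ).Flat)
    (h2 : ((Ideal.Quotient.mk J').comp φ).Flat) : ((Ideal.Quotient.mk J).comp φ).Flat := by
  let := φ.toAlgebra
  have : Module.Flat A (B ⧸ Ideal.span {t}) := (flat_mk_comp_iff' φ _).mp h1
  have : Module.Flat A (B ⧸ J') := (flat_mk_comp_iff' φ _).mp h2
  exact (flat_mk_comp_iff' φ _).mpr (flat_quotient_of_mul (A := A) t J J' hJ' ht)

end RingHom

section Loc

variable {A B : Type*} [CommRing A] [CommRing B] [Algebra A B]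

/-- Localizing an `A`-flat `B`-module at a submonoid of `B` keeps it `A`-flat. -/
theorem flat_of_isLocalizedModule (T : Submonoid B) {M M' : Type*} [AddCommGroup M]
    [AddCommGroup M'] [Module A M] [Module B M] [IsScalarTower A B M] [Module A M'] [Module B M']
    [IsScalarTower A B M'] (g : M →ₗ[B] M') [IsLocalizedModule T g] [Module.Flat A M] :
    Module.Flat A M' := by
  rw [Module.Flat.iff_lTensor_preserves_injective_linearMap]
  intro N N' _ _ _ _ j hj
  have h1 : Function.Injective (AlgebraTensorModule.lTensor B M j) :=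
    Module.Flat.lTensor_preserves_injective_linearMap j hj
  have h2 := IsLocalizedModule.map_injective T (AlgebraTensorModule.rTensor A N g)
    (AlgebraTensorModule.rTensor A N' g) _ h1
  rw [IsLocalizedModule.map_lTensor] at h2
  exact h2

/-- `t` nonzerodivisor of `B`, `B/tB` flat over `A`, `B'` a Noetherian localization of `B` in which
`t` lies in the Jacobson radical: then `B'` is flat over `A`. -/
theorem flat_localization_of_quotient {B' : Type*} [CommRing B'] [Algebra B B'] [Algebra A B']
    [IsScalarTower A B B'] (T : Submonoid B) [IsLocalization T B']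
    [IsNoetherianRing B'] (t : B) (ht : t ∈ nonZeroDivisors B)
    (hj : algebraMap B B' t ∈ Ideal.jacobson (⊥ : Ideal B'))
    [Module.Flat A (B ⧸ Ideal.span {t})] : Module.Flat A B' := by
  let h := algebraMap B B' t
  have hh : h ∈ nonZeroDivisors B' :=
    IsLocalization.map_nonZeroDivisors_le T B' ⟨t, ht, rfl⟩
  have : Module.Flat A (B' ⧸ Ideal.span {h}) := by
    let f : B →ₗ[B] B' := Algebra.linearMap B B'
    let M' : Submodule B B := Ideal.span {t}
    have := flat_of_isLocalizedModule (A := A) T (M'.toLocalizedQuotient' B' T f)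
    have e : M'.localized' B' T f = Ideal.span {h} := by
      rw [Submodule.localized'_span]
      simp [h, f]
    rwa [e] at this
  exact flat_of_jacobson_of_quotient (A := A) h hh hj

/-- ring hom version. -/
theorem ringHom_flat_localization_of_quotient {A B B' : Type*} [CommRing A] [CommRing B]
    [CommRing B'] [Algebra B B'] (φ : A →+* B) (T : Submonoid B) [IsLocalization T B']
    [IsNoetherianRing B'] (t : B) (ht : t ∈ nonZeroDivisors B)
    (hj : algebraMap B B' t ∈ Ideal.jacobson (⊥ : Ideal B'))
    (h1 : ((Ideal.Quotient.mk (Ideal.span {t})).comp φ).Flat) :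
    ((algebraMap B B').comp φ).Flat := by
  let := φ.toAlgebra
  let : Algebra A B' := ((algebraMap B B').comp φ).toAlgebra
  have : IsScalarTower A B B' := .of_algebraMap_eq' rfl
  have : Module.Flat A (B ⧸ Ideal.span {t}) := (flat_mk_comp_iff' φ _).mp h1
  exact flat_localization_of_quotient (A := A) (B' := B') T t ht hj

end Loc

theorem ringHom_flat_of_comp_localization {A A' M : Type*} [CommRing A] [CommRing A'] [CommRing M]
    [Algebra A A'] (p : Submonoid A) [IsLocalization p A'] (g : A' →+* M)
    (h : (g.comp (algebraMap A A')).Flat) : g.Flat := by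
  let := g.toAlgebra
  let : Algebra A M := (g.comp (algebraMap A A')).toAlgebra
  have : IsScalarTower A A' M := .of_algebraMap_eq' rfl
  exact (Module.flat_iff_of_isLocalization (R := A) (S := A') p M).mpr h

section BC

theorem tmul_one_mem_nonZeroDivisors {A B A' : Type*} [CommRing A] [CommRing B] [CommRing A']
    [Algebra A B] [Algebra A A'] (t : B) (ht : t ∈ nonZeroDivisors B)
    [Module.Flat A (B ⧸ Ideal.span {t})] :
    (t ⊗ₜ[A] (1 : A')) ∈ nonZeroDivisors (B ⊗[A] A') := by
  rw [mem_nonZeroDivisors_iff_right]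
  intro x hx
  apply smul_eq_zero_imp ht A' x
  rw [← hx, mul_comm, Algebra.smul_def, Algebra.TensorProduct.algebraMap_apply]
  rfl

theorem mem_nonZeroDivisors_of_isPushout {A B A' P : CommRingCat.{u}} {φ : A ⟶ B} {γ : A ⟶ A'}
    {inl : B ⟶ P} {inr : A' ⟶ P} (h : IsPushout φ γ inl inr) (t : B)
    (ht : t ∈ nonZeroDivisors B)
    (hfl : ((Ideal.Quotient.mk (Ideal.span {t})).comp φ.hom).Flat) :
    inl.hom t ∈ nonZeroDivisors P := by
  algebraize [φ.hom, γ.hom]
  let e := ((CommRingCat.isPushout_tensorProduct A B A').isoIsPushout B A' h).commRingCatIsoToRingEquiv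
  have : Module.Flat A (B ⧸ Ideal.span {t}) := (flat_mk_comp_iff' φ.hom _).mp hfl
  have h1 : (t ⊗ₜ[A] (1 : A')) ∈ nonZeroDivisors (B ⊗[A] A') :=
    tmul_one_mem_nonZeroDivisors t ht
  have h2 : e (t ⊗ₜ[A] (1 : A')) = inl.hom t := by
    have := congr($((CommRingCat.isPushout_tensorProduct A B A').inl_isoIsPushout_hom B A' h).hom t)
    exact this
  rw [← h2]
  rw [← MulEquivClass.map_nonZeroDivisors e]
  exact Submonoid.mem_map_of_mem _ h1

end BC

end Groth.Agent.Lib.Helper22.RelCartier
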