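import Groth.Agent.Lib.Helper73.DimFormula.FiberDimAdd
import Groth.Agent.Lib.Helper73.DimFormula.AffineSpaceQF
import Groth.Agent.Lib.Helper36.FibreEtale
import Groth.Agent.Lib.Helper36.FibreDimZero
import Groth.Agent.Lib.Helper37.EtaleFibres

/-!
# Fibre dimensions of smooth morphisms (helper22)

* `fibreDimAt_affineSpace`, `fibreDimAt_SpecMap_C`: all fibre dimensions of `𝔸ⁿ_S ⟶ S` are `n`.
* `fibreDimAt_SpecMap_of_isStandardSmoothOfRelativeDimension`: standard smooth of relative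
  dimension `n` ⇒ all fibre dimensions are `n` (via the factorisation étale over `𝔸ⁿ`).
* `fibreDimAt_eq_of_smoothOfRelativeDimension` (= S2768).
* `exists_open_forall_fibreDimAt_eq_of_smooth`: fibre dimension of a smooth morphism is locally
  constant.
* `localDim_eq_add_fibreDimAt_of_smooth`: `dim_x X = dim_{f x} Y + dim_x X_{f x}` for smooth `f`
  to a locally Noetherian scheme.
-/

set_option autoImplicit false
set_option linter.style.haveILetI false
universe u
open CategoryTheory CategoryTheory.Limits AlgebraicGeometry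

namespace Groth.Agent.Lib.Helper22.SmoothDim

open Groth.Agent.Lib.Helper73 Groth.Agent.Lib.Helper36

/-- All fibre dimensions of the affine space `𝔸(n; S) ⟶ S` are `card n`. -/
theorem fibreDimAt_affineSpace (n : Type u) [Finite n] (S : Scheme.{u}) (θ : 𝔸(n; S)) :
    FlatMor.fibreDimAt (𝔸(n; S) ↘ S) θ = ((Nat.card n : ℕ) : WithBot ℕ∞) :=
  fibreDimAt_eq_of_forall_maximal _ θ _ fun ζ _ _ hζ =>
    resTrdegNat_affineSpace_eq_of_maximal n S ζ hζ

/-- All fibre dimensions of `Spec R[X₁,…,Xₙ] ⟶ Spec R` are `n`. -/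
theorem fibreDimAt_SpecMap_C_ulift (n : ℕ) (R : CommRingCat.{u})
    (θ : Spec (.of (MvPolynomial (ULift.{u} (Fin n)) R))) :
    FlatMor.fibreDimAt (Spec.map (CommRingCat.ofHom
      (MvPolynomial.C : R →+* MvPolynomial (ULift.{u} (Fin n)) R))) θ = (n : WithBot ℕ∞) := by
  have h1 := FibreEtale.fibreDimAt_eq (𝔸(ULift.{u} (Fin n); Spec R) ↘ Spec R)
    (Spec.map (CommRingCat.ofHom (MvPolynomial.C : R →+* MvPolynomial (ULift.{u} (Fin n)) R)))
    (AffineSpace.SpecIso (ULift.{u} (Fin n)) R).inv (𝟙 _)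
    (by rw [Category.comp_id, AffineSpace.SpecIso_inv_over]) θ
  rw [← h1, fibreDimAt_affineSpace]
  simp

/-- All fibre dimensions of `Spec R[X₁,…,Xₙ] ⟶ Spec R` are `n`. -/
theorem fibreDimAt_SpecMap_C (n : ℕ) (R : Type u) [CommRing R]
    (θ : Spec (.of (MvPolynomial (Fin n) R))) :
    FlatMor.fibreDimAt (Spec.map (CommRingCat.ofHom
      (MvPolynomial.C : R →+* MvPolynomial (Fin n) R))) θ = (n : WithBot ℕ∞) := by
  let e : MvPolynomial (ULift.{u} (Fin n)) R ≃ₐ[R] MvPolynomial (Fin n) R :=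
    MvPolynomial.renameEquiv R Equiv.ulift
  let a : Spec (.of (MvPolynomial (Fin n) R)) ⟶ Spec (.of (MvPolynomial (ULift.{u} (Fin n)) R)) :=
    Spec.map (CommRingCat.ofHom e.toRingEquiv.toRingHom)
  haveI : IsIso a := by
    have : IsIso (CommRingCat.ofHom e.toRingEquiv.toRingHom) :=
      (e.toRingEquiv.toCommRingCatIso).isIso_hom
    infer_instance
  have h1 := FibreEtale.fibreDimAt_eq
    (Spec.map (CommRingCat.ofHom
      (MvPolynomial.C : R →+* MvPolynomial (ULift.{u} (Fin n)) R)))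
    (Spec.map (CommRingCat.ofHom (MvPolynomial.C : R →+* MvPolynomial (Fin n) R)))
    a (𝟙 _) (by
      rw [Category.comp_id, ← Spec.map_comp, ← CommRingCat.ofHom_comp]
      congr 2
      ext r
      simp [e]) θ
  rw [← h1]
  exact fibreDimAt_SpecMap_C_ulift n (.of R) (a θ)


/-- For a standard smooth ring map of relative dimension `n`, all fibre dimensions of the
associated morphism of spectra are `n`. -/
theorem fibreDimAt_SpecMap_of_isStandardSmoothOfRelativeDimension {R A : Type u} [CommRing R]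
    [CommRing A] (φ : R →+* A) (n : ℕ) (hφ : φ.IsStandardSmoothOfRelativeDimension n)
    (x : Spec (.of A)) :
    FlatMor.fibreDimAt (Spec.map (CommRingCat.ofHom φ)) x = (n : WithBot ℕ∞) := by
  obtain ⟨g, hgC, hg⟩ := hφ.exists_etale_mvPolynomial
  have e1 : Spec.map (CommRingCat.ofHom φ) =
      Spec.map (CommRingCat.ofHom g) ≫ Spec.map (CommRingCat.ofHom
        (MvPolynomial.C : R →+* MvPolynomial (Fin n) R)) := by
    rw [← Spec.map_comp, ← CommRingCat.ofHom_comp, hgC]
  haveI : Etale (Spec.map (CommRingCat.ofHom g)) := by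
    rw [HasRingHomProperty.Spec_iff (P := @Etale)]
    exact hg
  haveI : LocallyOfFiniteType (Spec.map (CommRingCat.ofHom
      (MvPolynomial.C : R →+* MvPolynomial (Fin n) R))) := by
    rw [HasRingHomProperty.Spec_iff (P := @LocallyOfFiniteType)]
    rw [CommRingCat.hom_ofHom, ← MvPolynomial.algebraMap_eq]
    exact RingHom.finiteType_algebraMap.mpr inferInstance
  haveI := Groth.Agent.Lib.Helper37.EtaleFibres.locallyQuasiFinite_of_etale
    (Spec.map (CommRingCat.ofHom g))
  rw [e1, fibreDimAt_comp_eq_add _ _ x (Flat.stalkMap _ x), fibreDimAt_SpecMap_C,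
    (FibreDimZero.locallyQuasiFinite_iff_fibreDimAt_eq_zero _).1 inferInstance x, zero_add]


/-- If the ring map on a pair of affine opens is standard smooth of relative dimension `n`, then
the fibre dimension is `n` at every point of the source affine open. -/
theorem fibreDimAt_eq_of_appLE_isStandardSmoothOfRelativeDimension {X Y : Scheme.{u}} (f : X ⟶ Y)
    (n : ℕ) (U : Y.Opens) (hU : IsAffineOpen U) (V : X.Opens) (hV : IsAffineOpen V)
    (e : V ≤ f ⁻¹ᵁ U) (h : (f.appLE U V e).hom.IsStandardSmoothOfRelativeDimension n)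
    (x : X) (hx : x ∈ V) : FlatMor.fibreDimAt f x = (n : WithBot ℕ∞) := by
  have comm : Spec.map (f.appLE U V e) ≫ hU.fromSpec = hV.fromSpec ≫ f :=
    IsAffineOpen.SpecMap_appLE_fromSpec f hU hV e
  have h1 := FibreEtale.fibreDimAt_eq f (Spec.map (f.appLE U V e)) hV.fromSpec hU.fromSpec comm
    (hV.primeIdealOf ⟨x, hx⟩)
  rw [hV.fromSpec_primeIdealOf ⟨x, hx⟩] at h1
  rw [h1]
  exact fibreDimAt_SpecMap_of_isStandardSmoothOfRelativeDimension (f.appLE U V e).hom n h _

/-- A morphism smooth of relative dimension `n` has all fibre dimensions equal to `n`. -/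
theorem fibreDimAt_eq_of_smoothOfRelativeDimension (n : ℕ) {X Y : Scheme.{u}} (f : X ⟶ Y)
    [SmoothOfRelativeDimension n f] (x : X) : FlatMor.fibreDimAt f x = (n : WithBot ℕ∞) := by
  obtain ⟨U, hU, V, hV, hx, e, hf⟩ :=
    SmoothOfRelativeDimension.exists_isStandardSmoothOfRelativeDimension (n := n) (f := f) x
  exact fibreDimAt_eq_of_appLE_isStandardSmoothOfRelativeDimension f n U hU V hV e hf x hx

/-- For a smooth morphism, the fibre dimension is a natural number, constant near every point. -/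
theorem exists_open_forall_fibreDimAt_eq_of_smooth {X Y : Scheme.{u}} (f : X ⟶ Y) [Smooth f]
    (x : X) : ∃ (n : ℕ) (V : X.Opens), x ∈ V ∧
      ∀ x' ∈ V, FlatMor.fibreDimAt f x' = (n : WithBot ℕ∞) := by
  obtain ⟨U, hU, V, hV, hx, e, hf⟩ := Smooth.exists_isStandardSmooth f x
  obtain ⟨n, hn⟩ : ∃ n, (f.appLE U V e).hom.IsStandardSmoothOfRelativeDimension n := by
    letI := (f.appLE U V e).hom.toAlgebra
    obtain ⟨ι, σ, h1, h2, ⟨P⟩⟩ := hf
    exact ⟨_, ι, σ, h1, h2, P, rfl⟩
  exact ⟨n, V, hx, fun x' hx' =>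
    fibreDimAt_eq_of_appLE_isStandardSmoothOfRelativeDimension f n U hU V hV e hn x' hx'⟩


/-- If all fibre dimensions of `f` are `d`, then `f` has relative dimension `d`. -/
theorem hasRelDim_of_forall_fibreDimAt_eq {X Y : Scheme.{u}} (f : X ⟶ Y) [LocallyOfFiniteType f]
    (d : ℕ) (h : ∀ x : X, FlatMor.fibreDimAt f x = (d : WithBot ℕ∞)) : Cyc.HasRelDim f d := by
  rw [hasRelDim_iff_forall_maximal]
  intro ζ hζ
  have h1 := h ζ
  rw [fibreDimAt_eq, ringKrullDim_fiber_stalk_eq_krullDim] at h1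
  haveI : Nonempty ↥{t : X | t ⤳ ζ ∧ f t = f ζ} := ⟨⟨ζ, specializes_rfl, rfl⟩⟩
  haveI : Subsingleton ↥{t : X | t ⤳ ζ ∧ f t = f ζ} :=
    ⟨fun a b => Subtype.ext ((hζ a.1 a.2.1 a.2.2).trans (hζ b.1 b.2.1 b.2.2).symm)⟩
  rw [Order.krullDim_eq_zero, zero_add] at h1
  exact_mod_cast h1

/-- For a smooth morphism to a locally Noetherian scheme,
`dim_x X = dim_{f x} Y + dim_x X_{f x}`. -/
theorem localDim_eq_add_fibreDimAt_of_smooth {X Y : Scheme.{u}} [IsLocallyNoetherian Y]
    (f : X ⟶ Y) [Smooth f] (x : X) :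
    FlatMor.localDim ↑X x = FlatMor.localDim ↑Y (f.base x) + FlatMor.fibreDimAt f x := by
  obtain ⟨n, U, hxU, hU⟩ := exists_open_forall_fibreDimAt_eq_of_smooth f x
  haveI : IsLocallyNoetherian (U : Scheme.{u}) :=
    LocallyOfFiniteType.isLocallyNoetherian (U.ι ≫ f)
  have hfd : ∀ u : (U : Scheme.{u}), FlatMor.fibreDimAt (U.ι ≫ f) u = (n : WithBot ℕ∞) := by
    intro u
    have h1 := FibreEtale.fibreDimAt_eq f (U.ι ≫ f) U.ι (𝟙 Y) (Category.comp_id _) u
    rw [← h1]
    exact hU _ u.2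
  have hrel := hasRelDim_of_forall_fibreDimAt_eq (U.ι ≫ f) n hfd
  have key := localDim_eq_add_of_hasRelDim (U.ι ≫ f) n hrel ⟨x, hxU⟩
  have h2 := EtaleLocalDim.localDim_eq_of_etale U.ι ⟨x, hxU⟩
  rw [hU x hxU]
  rw [h2] at key
  exact key

end Groth.Agent.Lib.Helper22.SmoothDim
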