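import Groth.Agent.Lib.Helper22.FibreFree
import Mathlib.AlgebraicGeometry.Artinian
import Mathlib.RingTheory.RegularLocalRing.Defs
import Mathlib.RingTheory.DiscreteValuationRing.TFAE
import Mathlib.LinearAlgebra.FreeModule.PID
import Mathlib.AlgebraicGeometry.Noetherian

set_option autoImplicit false
set_option linter.style.haveILetI false
universe u
open CategoryTheory CategoryTheory.Limits AlgebraicGeometry TopologicalSpace

namespace Groth.Agent.Lib.Helper22.DedekindFree

open Groth.Agent.Lib.Lead.PullbackAff Groth.Agent.Lib.Lead.QCohAff Scheme.Modules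
open Groth.Agent.Lib.Helper21.RelFPSch Groth.Agent.Lib.Helper2.FinTypeAff
  Groth.Agent.Lib.Helper2.FreeModAff Groth.Agent.Lib.Helper22.FibreFree

/-- The dimension of a local ring of a scheme is at most the dimension of the scheme. -/
theorem ringKrullDim_stalk_le (X : Scheme.{u}) (x : X) :
    ringKrullDim (X.presheaf.stalk x) ≤ topologicalKrullDim X := by
  obtain ⟨U, hU, hxU, -⟩ := exists_isAffineOpen_mem_and_subset (U := (⊤ : X.Opens))
    (x := x) trivial
  letI alg : Algebra Γ(X, U) (X.presheaf.stalk x) := X.presheaf.algebra_section_stalk ⟨x, hxU⟩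
  haveI loc := hU.isLocalization_stalk ⟨x, hxU⟩
  rw [IsLocalization.AtPrime.ringKrullDim_eq_height (hU.primeIdealOf ⟨x, hxU⟩).asIdeal
    (X.presheaf.stalk x)]
  refine (Ideal.height_le_ringKrullDim_of_isPrime).trans ?_
  rw [← PrimeSpectrum.topologicalKrullDim_eq_ringKrullDim Γ(X, U)]
  change topologicalKrullDim (Spec Γ(X, U)) ≤ _
  rw [← IsHomeomorph.topologicalKrullDim_eq _ hU.isoSpec.hom.homeomorph.isHomeomorph]
  exact topologicalKrullDim_subspace_le X U

open IsLocalRing in
/-- A regular local domain of dimension at most one is a principal ideal ring. -/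
theorem isPrincipalIdealRing_of_regular_of_dim_le_one (R : Type*) [CommRing R] [IsDomain R]
    [IsRegularLocalRing R] (h : ringKrullDim R ≤ 1) : IsPrincipalIdealRing R := by
  have h1 := (IsRegularLocalRing.iff_finrank_cotangentSpace R).mp inferInstance
  have h2 : Module.finrank (ResidueField R) (CotangentSpace R) ≤ 1 := by
    have : ((Module.finrank (ResidueField R) (CotangentSpace R) : ℕ) : WithBot ℕ∞) ≤ 1 := h1 ▸ h
    exact_mod_cast this
  exact ((tfae_of_isNoetherianRing_of_isLocalRing_of_isDomain R).out 5 0).mp h2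

theorem torsionFree_iff_finLocFree (X : Scheme.{u}) [IsIntegral X] [IsLocallyNoetherian X]
    (hreg : ∀ x : ↥X, IsRegularLocalRing (X.presheaf.stalk x))
    (hdim : topologicalKrullDim ↥X ≤ 1) (F : X.Modules) (hF : Coh.IsCoh F) :
    (∀ x : ↥X, NoZeroSMulDivisors (X.presheaf.stalk x) (F.presheaf.stalk x)) ↔
      FlatMod.IsFinLocFree F := by
  haveI : F.IsQuasicoherent := hF.1
  haveI : SheafOfModules.IsFiniteType (R := X.ringCatSheaf) F := hF.2
  constructor
  · intro htf x
    obtain ⟨U, hU, hxU, -⟩ := exists_isAffineOpen_mem_and_subset (U := (⊤ : X.Opens))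
      (x := x) trivial
    haveI : IsNoetherianRing Γ(X, U) := IsLocallyNoetherian.component_noetherian ⟨U, hU⟩
    haveI hfin : Module.Finite Γ(X, U) Γ(F, U) := finite_sections F hU
    haveI : Module.FinitePresentation Γ(X, U) Γ(F, U) := Module.finitePresentation_of_finite _ _
    refine exists_open_iso_freeMod_of_stalk_free' F hU x hxU ?_
    haveI := hreg x
    haveI : IsPrincipalIdealRing (X.presheaf.stalk x) :=
      isPrincipalIdealRing_of_regular_of_dim_le_one _ ((ringKrullDim_stalk_le X x).trans hdim)
    letI alg : Algebra Γ(X, U) (X.presheaf.stalk x) := X.presheaf.algebra_section_stalk ⟨x, hxU⟩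
    haveI loc := hU.isLocalization_stalk ⟨x, hxU⟩
    haveI t1 : IsScalarTower Γ(X, U) (X.presheaf.stalk x) (StalkOver F U x hxU) :=
      IsScalarTower.of_algebraMap_smul fun r m => rfl
    haveI h3 : Module.Finite (X.presheaf.stalk x) (StalkOver F U x hxU) :=
      Module.Finite.of_isLocalizedModule (hU.primeIdealOf ⟨x, hxU⟩).asIdeal.primeCompl
        (germL F U x hxU)
    haveI h4 : Module.Finite (X.presheaf.stalk x) (F.presheaf.stalk x) := h3
    haveI := htf x
    exact Module.free_of_finite_type_torsion_free'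
  · intro hlf x
    obtain ⟨U, n, hxU, hiso⟩ := hlf x
    haveI := free_stalk_of_iso_freeMod F x hxU hiso
    exact ⟨fun h => smul_eq_zero.mp h⟩

end Groth.Agent.Lib.Helper22.DedekindFree
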