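import Mathlib
import Groth.Prelude.Def_RefPow
import Groth.Agent.Lib.Helper2.FinTypeAff
import Groth.Agent.Lib.Lead.QCohAff4

set_option autoImplicit false
set_option linter.style.haveILetI false
universe u

open AlgebraicGeometry CategoryTheory Opposite TopologicalSpace CategoryTheory.Limits

namespace Groth.Agent.Lib.Helper22.IsoLocus

open Groth.Agent.Lib.Lead.QCohAff

/-- common denominator: finitely generated module, each generator multiplied into a submodule by
an element outside the prime `p`. -/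
theorem exists_smul_mem_of_forall {A N : Type*} [CommRing A] [AddCommGroup N] [Module A N]
    (p : Ideal A) [p.IsPrime] (Q : Submodule A N) (S : Finset N)
    (h : ∀ n ∈ S, ∃ u : A, u ∉ p ∧ u • n ∈ Q) :
    ∃ f : A, f ∉ p ∧ ∀ n ∈ Submodule.span A (S : Set N), f • n ∈ Q := by
  classical
  choose! u hu1 hu2 using h
  refine ⟨∏ n ∈ S, u n, ?_, ?_⟩
  · intro hmem
    obtain ⟨n, hn, hun⟩ := (Ideal.IsPrime.prod_mem_iff).mp hmem
    exact hu1 n hn hun
  · intro n hn
    induction hn using Submodule.span_induction with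
    | mem x hx =>
      have hx' : x ∈ S := hx
      rw [← Finset.mul_prod_erase S u hx', mul_comm, mul_smul]
      exact Q.smul_mem _ (hu2 x hx')
    | zero => rw [smul_zero]; exact Q.zero_mem
    | add x y _ _ hx hy => rw [smul_add]; exact Q.add_mem hx hy
    | smul a x _ hx => rw [smul_comm]; exact Q.smul_mem _ hx

end Groth.Agent.Lib.Helper22.IsoLocus

namespace Groth.Agent.Lib.Helper22.IsoLocus
open Groth.Agent.Lib.Lead.QCohAff Groth.Agent.Lib.Helper2.FinTypeAff

variable {X : Scheme.{u}}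

theorem structureModule_isQuasicoherent (X : Scheme.{u}) :
    (Coh.structureModule X).IsQuasicoherent := by
  have h : (SheafOfModules.free (R := X.ringCatSheaf) PUnit.{u+1}).IsQuasicoherent := inferInstance
  exact ObjectProperty.prop_of_iso (SheafOfModules.isQuasicoherent X.ringCatSheaf)
    (coproductUniqueIso (fun _ : PUnit.{u+1} => SheafOfModules.unit X.ringCatSheaf)) h

noncomputable def appL {M N : X.Modules} (φ : M ⟶ N) (U : X.Opens) :
    Γ(M, U) →ₗ[Γ(X, U)] Γ(N, U) where
  toFun x := φ.app U x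
  map_add' a b := map_add _ a b
  map_smul' r x := Scheme.Modules.Hom.app_smul φ r x

@[simp] theorem appL_apply {M N : X.Modules} (φ : M ⟶ N) (U : X.Opens) (x : Γ(M, U)) :
    appL φ U x = φ.app U x := rfl

theorem isOpen_isoLocus [IsLocallyNoetherian X] (F : X.Modules) [F.IsQuasicoherent]
    [SheafOfModules.IsFiniteType (R := X.ringCatSheaf) F]
    (s : Coh.structureModule X ⟶ F) : IsOpen (RefPow.isoLocus s) := by
  rw [isOpen_iff_forall_mem_open]
  intro x hx
  obtain ⟨U, hU, hxU, -⟩ :=
    exists_isAffineOpen_mem_and_subset (X := X) (x := x) (U := ⊤) trivial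
  haveI hO : (Coh.structureModule X).IsQuasicoherent := structureModule_isQuasicoherent X
  haveI hnoeth : IsNoetherianRing Γ(X, U) := IsLocallyNoetherian.component_noetherian ⟨U, hU⟩
  haveI hfin : Module.Finite Γ(X, U) Γ(F, U) := finite_sections F hU
  haveI : IsNoetherian Γ(X, U) Γ(Coh.structureModule X, U) :=
    inferInstanceAs (IsNoetherian Γ(X, U) Γ(X, U))
  set φ := appL s U with hφ
  set p := (hU.primeIdealOf ⟨x, hxU⟩).asIdeal with hpdef
  haveI : p.IsPrime := (hU.primeIdealOf ⟨x, hxU⟩).isPrime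
  have hp : ∀ r : Γ(X, U), r ∉ p ↔ x ∈ X.basicOpen r := fun r =>
    (mem_basicOpen_iff_notMem_primeIdealOf hU x hxU r).symm
  have hbij : Function.Bijective (RefHull.stalkMapₗ s x) := hx
  -- kernel
  obtain ⟨S, hS⟩ := IsNoetherian.noetherian (LinearMap.ker φ)
  have h1 : ∀ n ∈ S, ∃ u : Γ(X, U), u ∉ p ∧
      u • n ∈ (⊥ : Submodule Γ(X, U) Γ(Coh.structureModule X, U)) := by
    intro n hn
    have hnk : φ n = 0 := by
      have : n ∈ LinearMap.ker φ := hS ▸ Submodule.subset_span hn
      exact this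
    have hg : (Coh.structureModule X).presheaf.germ U x hxU n = 0 := by
      apply hbij.1
      rw [RefHull.stalkMapₗ_germ, map_zero]
      have : s.app U n = 0 := hnk
      rw [this, map_zero]
    obtain ⟨r, hxr, hr⟩ := (germ_eq_zero_iff _ hU x hxU n).mp hg
    exact ⟨r, (hp r).mpr hxr, by rw [hr]; exact Submodule.zero_mem _⟩
  obtain ⟨f1, hf1p, hf1⟩ := exists_smul_mem_of_forall p ⊥ S h1
  -- cokernel
  obtain ⟨T, hT⟩ := hfin.fg_top
  have h2 : ∀ m ∈ T, ∃ u : Γ(X, U), u ∉ p ∧ u • m ∈ LinearMap.range φ := by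
    intro m hm
    obtain ⟨w, hw⟩ := hbij.2 (F.presheaf.germ U x hxU m)
    obtain ⟨r, a, hxr, hra⟩ := exists_germ_smul_eq_germ (Coh.structureModule X) hU x hxU w
    have h3 : F.presheaf.germ U x hxU (r • m - φ a) = 0 := by
      rw [map_sub, germ_smul, ← hw, ← map_smul, hra, RefHull.stalkMapₗ_germ, sub_eq_zero]
      rfl
    obtain ⟨r', hxr', hr'⟩ := (germ_eq_zero_iff F hU x hxU _).mp h3
    refine ⟨r' * r, ?_, ?_⟩
    · rw [hp, X.basicOpen_mul]
      exact ⟨hxr', hxr⟩
    · refine ⟨r' • a, ?_⟩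
      rw [smul_sub, sub_eq_zero] at hr'
      rw [map_smul, mul_smul, hr']
  obtain ⟨f2, hf2p, hf2⟩ := exists_smul_mem_of_forall p (LinearMap.range φ) T h2
  refine ⟨(X.basicOpen (f1 * f2) : Set X), ?_, (X.basicOpen _).2, ?_⟩
  · intro y hy
    have hyU : y ∈ U := X.basicOpen_le _ hy
    have hy12 : y ∈ X.basicOpen f1 ⊓ X.basicOpen f2 := by
      rw [← X.basicOpen_mul]; exact hy
    show Function.Bijective (RefHull.stalkMapₗ s y)
    have hu1 : IsUnit (X.presheaf.germ U y hyU f1) :=
      isUnit_germ_of_mem_basicOpen _ y hyU hy12.1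
    have hu2 : IsUnit (X.presheaf.germ U y hyU f2) :=
      isUnit_germ_of_mem_basicOpen _ y hyU hy12.2
    constructor
    · rw [injective_iff_map_eq_zero]
      intro w hw
      obtain ⟨r, a, hyr, hra⟩ := exists_germ_smul_eq_germ (Coh.structureModule X) hU y hyU w
      have hur : IsUnit (X.presheaf.germ U y hyU r) := isUnit_germ_of_mem_basicOpen _ y hyU hyr
      have h3 : F.presheaf.germ U y hyU (φ a) = 0 := by
        have := RefHull.stalkMapₗ_germ s y hyU a
        rw [← hra, map_smul, hw, smul_zero] at this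
        exact this.symm
      obtain ⟨r', hyr', hr'⟩ := (germ_eq_zero_iff F hU y hyU _).mp h3
      have hur' : IsUnit (X.presheaf.germ U y hyU r') :=
        isUnit_germ_of_mem_basicOpen _ y hyU hyr'
      have h4 : r' • a ∈ Submodule.span Γ(X, U) (S : Set Γ(Coh.structureModule X, U)) := by
        rw [hS, LinearMap.mem_ker, map_smul, hr']
      have h5 : f1 • (r' • a) = 0 := (Submodule.mem_bot _).mp (hf1 _ h4)
      have h6 := congrArg ((Coh.structureModule X).presheaf.germ U y hyU) h5
      rw [germ_smul, germ_smul, ← hra, map_zero] at h6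
      have h7 := (hu1.smul_eq_zero).mp h6
      have h8 := (hur'.smul_eq_zero).mp h7
      exact (hur.smul_eq_zero).mp h8
    · intro v
      obtain ⟨r, m, hyr, hrm⟩ := exists_germ_smul_eq_germ F hU y hyU v
      have hur : IsUnit (X.presheaf.germ U y hyU r) := isUnit_germ_of_mem_basicOpen _ y hyU hyr
      obtain ⟨a, ha⟩ : f2 • m ∈ LinearMap.range φ := hf2 m (by rw [hT]; trivial)
      obtain ⟨u2, hu2'⟩ := hu2
      obtain ⟨ur, hur'⟩ := hur
      refine ⟨((↑ur⁻¹ : X.presheaf.stalk y) * (↑u2⁻¹ : X.presheaf.stalk y)) •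
        (Coh.structureModule X).presheaf.germ U y hyU a, ?_⟩
      rw [map_smul, RefHull.stalkMapₗ_germ]
      have : s.app U a = f2 • m := ha
      rw [this, germ_smul, ← hrm, ← hu2', ← hur', smul_smul, smul_smul]
      have : (↑ur⁻¹ : X.presheaf.stalk y) * ↑u2⁻¹ * (↑u2 * ↑ur) = 1 := by
        rw [mul_assoc, ← mul_assoc (↑u2⁻¹ : X.presheaf.stalk y), Units.inv_mul, one_mul,
          Units.inv_mul]
      rw [mul_assoc, this, one_smul]
  · refine (hp (f1 * f2)).mp ?_
    intro h
    exact (Ideal.IsPrime.mem_or_mem ‹_› h).elim hf1p hf2p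

end Groth.Agent.Lib.Helper22.IsoLocus
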