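import Groth.Agent.Lib.Helper22.AbVarIsogeny2
import Groth.Agent.Lib.Helper73.DimFormula.FieldExtScheme

/-!
# Morphisms of abelian schemes: fibrewise reduction (helper22)

* `locallyQuasiFinite_iff_surjective_of_dim_eq`: over a field, for a morphism between abelian
  varieties of the same dimension, locally quasi-finite iff surjective.
* `fibreMap`, `isPullback_fibreMap`, `locallyQuasiFinite_iff_forall_fibreMap`,
  `surjective_iff_forall_fibreMap`: fibrewise criteria over an arbitrary base.
* `locallyQuasiFinite_iff_surjective`: the statement over an arbitrary base.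
-/

set_option linter.style.haveILetI false

open CategoryTheory Limits AlgebraicGeometry MonoidalCategory CartesianMonoidalCategory MonObj
open Groth.Agent.Lib.Helper73
open Groth.Agent.Lib.Helper22

namespace Groth.Agent.Lib.Helper22.AbSchIsogeny

universe u

section Field

variable {k : Type u} [Field k]

/-- For a morphism between abelian varieties of the same dimension over a field, locally
quasi-finite is equivalent to surjective. -/
theorem locallyQuasiFinite_iff_surjective_of_dim_eq (A B : Over (Spec (.of k))) [GrpObj A]
    [Smooth A.hom] [IsProper A.hom] [GeometricallyConnected A.hom]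
    [Smooth B.hom] [IsProper B.hom] [GeometricallyConnected B.hom]
    (g : A.left ⟶ B.left) (hg : g ≫ B.hom = A.hom)
    (hdim : topologicalKrullDim A.left = topologicalKrullDim B.left) :
    LocallyQuasiFinite g ↔ Surjective g := by
  haveI : GeometricallyIntegral A.hom := AbVarIsogeny.geometricallyIntegral_of_smooth A.hom
  haveI : GeometricallyIntegral B.hom := AbVarIsogeny.geometricallyIntegral_of_smooth B.hom
  haveI : IsIntegral A.left := GeometricallyIntegral.isIntegral_of_subsingleton (f := A.hom)
  haveI : IsIntegral B.left := GeometricallyIntegral.isIntegral_of_subsingleton (f := B.hom)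
  haveI : LocallyOfFiniteType (g ≫ B.hom) := by rw [hg]; infer_instance
  haveI hlft : LocallyOfFiniteType g := locallyOfFiniteType_of_comp g B.hom
  constructor
  · intro h
    have hx₀ := (quasiFiniteAt_iff_fibreDimAt_le_zero g (genericPoint A.left)).mp
      (g.quasiFiniteAt _)
    exact (AbVarIsogeny.surjective_and_dim_eq_of_fibreDimAt_le_zero A.hom B.hom hdim.ge g hg
      (genericPoint A.left) hx₀).1
  · intro h
    haveI := AbVarIsogeny.isFinite_of_surjective_of_dim_eq A B.hom g hg hdim
    infer_instance

end Field

section Fibrewise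

/-- Locally quasi-finite morphisms are those whose fibres are everywhere zero-dimensional. -/
lemma locallyQuasiFinite_iff_forall_fibreDimAt_le {X Y : Scheme.{u}} (f : X ⟶ Y)
    [LocallyOfFiniteType f] :
    LocallyQuasiFinite f ↔ ∀ x : X, FlatMor.fibreDimAt f x ≤ ((0 : ℕ) : WithBot ℕ∞) := by
  constructor
  · intro h x
    exact (quasiFiniteAt_iff_fibreDimAt_le_zero f x).mp (f.quasiFiniteAt x)
  · intro h
    rw [← Scheme.Hom.quasiFiniteLocus_eq_top_iff, eq_top_iff]
    intro x _
    rw [Scheme.Hom.mem_quasiFiniteLocus, quasiFiniteAt_iff_fibreDimAt_le_zero]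
    exact h x

variable {X Y S : Scheme.{u}} (pX : X ⟶ S) (pY : Y ⟶ S) (f : X ⟶ Y) (hf : f ≫ pY = pX)

/-- The map induced on the fibres over a point `s` of the base. -/
noncomputable abbrev fibreMap (s : S) : pX.fiber s ⟶ pY.fiber s :=
  pullback.map pX (S.fromSpecResidueField s) pY (S.fromSpecResidueField s) f (𝟙 _) (𝟙 _)
    (by rw [hf, Category.comp_id]) (by simp)

lemma fibreMap_snd (s : S) :
    fibreMap pX pY f hf s ≫ pullback.snd pY (S.fromSpecResidueField s) =
      pullback.snd pX (S.fromSpecResidueField s) := by
  exact (pullback.lift_snd _ _ _).trans (Category.comp_id _)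

lemma fibreMap_fst (s : S) :
    fibreMap pX pY f hf s ≫ pY.fiberι s = pX.fiberι s ≫ f := by
  exact pullback.lift_fst _ _ _

/-- The fibre map is a base change of `f`. -/
lemma isPullback_fibreMap (s : S) :
    IsPullback (pX.fiberι s) (fibreMap pX pY f hf s) f (pY.fiberι s) := by
  have t : IsPullback (pullback.snd pY (S.fromSpecResidueField s)) (pY.fiberι s)
      (S.fromSpecResidueField s) pY := (IsPullback.of_hasPullback pY _).flip
  have o : IsPullback (fibreMap pX pY f hf s ≫ pullback.snd pY (S.fromSpecResidueField s))
      (pX.fiberι s) (S.fromSpecResidueField s) (f ≫ pY) := by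
    rw [fibreMap_snd, hf]
    exact (IsPullback.of_hasPullback pX _).flip
  exact (IsPullback.of_right o (fibreMap_fst pX pY f hf s) t).flip

/-- Local quasi-finiteness can be checked on the fibres over the base. -/
theorem locallyQuasiFinite_iff_forall_fibreMap [LocallyOfFiniteType f] :
    LocallyQuasiFinite f ↔ ∀ s : S, LocallyQuasiFinite (fibreMap pX pY f hf s) := by
  have hlft : ∀ s, LocallyOfFiniteType (fibreMap pX pY f hf s) := fun s =>
    MorphismProperty.of_isPullback (isPullback_fibreMap pX pY f hf s) ‹_›
  have key : ∀ s (x' : pX.fiber s), FlatMor.fibreDimAt (fibreMap pX pY f hf s) x' =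
      FlatMor.fibreDimAt f (pX.fiberι s x') := fun s x' =>
    fibreDimAt_eq_of_isPullback f (pY.fiberι s) (pX.fiberι s) (fibreMap pX pY f hf s)
      (isPullback_fibreMap pX pY f hf s) x'
  rw [locallyQuasiFinite_iff_forall_fibreDimAt_le]
  constructor
  · intro h s
    haveI := hlft s
    rw [locallyQuasiFinite_iff_forall_fibreDimAt_le]
    intro x'
    rw [key]
    exact h _
  · intro h x
    have hx : x ∈ Set.range (pX.fiberι (pX x)) := by
      rw [pX.range_fiberι]; rfl
    obtain ⟨x', hx'⟩ := hx
    haveI := hlft (pX x)
    have := (locallyQuasiFinite_iff_forall_fibreDimAt_le _).mp (h (pX x)) x'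
    rw [key, hx'] at this
    exact this

/-- Surjectivity can be checked on the fibres over the base. -/
theorem surjective_iff_forall_fibreMap :
    Surjective f ↔ ∀ s : S, Surjective (fibreMap pX pY f hf s) := by
  constructor
  · intro h s
    exact MorphismProperty.of_isPullback (isPullback_fibreMap pX pY f hf s) h
  · intro h
    constructor
    intro y
    have hy : y ∈ Set.range (pY.fiberι (pY y)) := by
      rw [pY.range_fiberι]; rfl
    obtain ⟨y', hy'⟩ := hy
    obtain ⟨x', hx'⟩ := (h (pY y)).surj y'
    refine ⟨pX.fiberι _ x', ?_⟩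
    rw [← Scheme.Hom.comp_apply, ← fibreMap_fst pX pY f hf, Scheme.Hom.comp_apply, hx', hy']

end Fibrewise

section Main

open scoped Obj

set_option backward.isDefEq.respectTransparency false in
/-- A morphism between abelian schemes with fibres of equal dimensions is locally quasi-finite iff
it is surjective. -/
theorem locallyQuasiFinite_iff_surjective {S : Scheme.{u}} (A B : Over S)
    [GrpObj A] [Smooth A.hom] [IsProper A.hom] [GeometricallyConnected A.hom]
    [Smooth B.hom] [IsProper B.hom] [GeometricallyConnected B.hom]
    (f : A ⟶ B)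
    (hdim : ∀ s : S, topologicalKrullDim ↥(A.hom.fiber s) = topologicalKrullDim ↥(B.hom.fiber s)) :
    LocallyQuasiFinite f.left ↔ Surjective f.left := by
  haveI : LocallyOfFiniteType (f.left ≫ B.hom) := by rw [Over.w f]; infer_instance
  haveI hlft : LocallyOfFiniteType f.left := locallyOfFiniteType_of_comp f.left B.hom
  rw [locallyQuasiFinite_iff_forall_fibreMap A.hom B.hom f.left (Over.w f),
    surjective_iff_forall_fibreMap A.hom B.hom f.left (Over.w f)]
  refine forall_congr' fun s => ?_
  let φ : Spec (CommRingCat.of ↑(S.residueField s)) ⟶ S := S.fromSpecResidueField s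
  let F := Over.pullback φ
  let A' := F.obj A
  let B' := F.obj B
  letI : GrpObj A' := F.grpObjObj
  haveI : Smooth A'.hom := by dsimp [A', F]; infer_instance
  haveI : IsProper A'.hom := by dsimp [A', F]; infer_instance
  haveI : GeometricallyConnected A'.hom := by dsimp [A', F]; infer_instance
  haveI : Smooth B'.hom := by dsimp [B', F]; infer_instance
  haveI : IsProper B'.hom := by dsimp [B', F]; infer_instance
  haveI : GeometricallyConnected B'.hom := by dsimp [B', F]; infer_instance
  exact locallyQuasiFinite_iff_surjective_of_dim_eq A' B'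
    (fibreMap A.hom B.hom f.left (Over.w f) s) (fibreMap_snd A.hom B.hom f.left (Over.w f) s)
    (hdim s)

end Main

end Groth.Agent.Lib.Helper22.AbSchIsogeny
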