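import Groth.Agent.Lib.Helper22.FibreEquidim

set_option linter.style.haveILetI false

open CategoryTheory Limits AlgebraicGeometry MonoidalCategory CartesianMonoidalCategory MonObj
open Groth.Agent.Lib.Helper73

namespace Groth.Agent.Lib.Helper22.AbVarIsogeny

universe u

section Dim

variable {k : Type u} [Field k]

/-- The two natural-number valued transcendence degrees over a base field agree. -/
lemma trdegNat_eq_resTrdegNat {X : Scheme.{u}} (p : X ⟶ Spec (.of k)) (x : X) :
    trdegNat p x = resTrdegNat p x := by
  unfold trdegNat resTrdegNat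
  rw [resTrdeg_eq_trdeg_resMapOf]

/-- The dimension of an irreducible scheme locally of finite type over a field is the
transcendence degree of the residue field at the generic point. -/
lemma topologicalKrullDim_eq_resTrdegNat_genericPoint {X : Scheme.{u}} (p : X ⟶ Spec (.of k))
    [LocallyOfFiniteType p] [IrreducibleSpace X] :
    topologicalKrullDim X = ((resTrdegNat p (genericPoint X) : ℕ∞) : WithBot ℕ∞) := by
  rw [topologicalKrullDim_eq_iSup_trdegNat p, ← trdegNat_eq_resTrdegNat]
  apply le_antisymm
  · refine iSup_le fun x => ?_
    have := (isDimFun_trdegNat p).le_of_specializes (genericPoint_specializes x)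
    exact_mod_cast this
  · exact le_iSup (fun x : X => ((trdegNat p x : ℕ∞) : WithBot ℕ∞)) (genericPoint X)

/-- The transcendence degree at a point is bounded by the dimension. -/
lemma resTrdegNat_le_topologicalKrullDim {X : Scheme.{u}} (p : X ⟶ Spec (.of k))
    [LocallyOfFiniteType p] (x : X) :
    ((resTrdegNat p x : ℕ∞) : WithBot ℕ∞) ≤ topologicalKrullDim X := by
  rw [topologicalKrullDim_eq_iSup_trdegNat p, ← trdegNat_eq_resTrdegNat]
  exact le_iSup (fun x : X => ((trdegNat p x : ℕ∞) : WithBot ℕ∞)) x

/-- A morphism over a field from an irreducible proper scheme to an irreducible separated scheme of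
finite type of no larger dimension, which is quasi-finite at some point, is surjective
and the dimensions agree. -/
theorem surjective_and_dim_eq_of_fibreDimAt_le_zero {X Y : Scheme.{u}}
    (p : X ⟶ Spec (.of k)) (q : Y ⟶ Spec (.of k)) [IsProper p] [IsSeparated q]
    [LocallyOfFiniteType q] [IrreducibleSpace X] [IrreducibleSpace Y]
    (hdim : topologicalKrullDim Y ≤ topologicalKrullDim X)
    (f : X ⟶ Y) (hf : f ≫ q = p) (x₀ : X)
    (hx₀ : FlatMor.fibreDimAt f x₀ ≤ ((0 : ℕ) : WithBot ℕ∞)) :
    Surjective f ∧ topologicalKrullDim X = topologicalKrullDim Y := by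
  haveI : LocallyOfFiniteType (f ≫ q) := by rw [hf]; infer_instance
  haveI hlft : LocallyOfFiniteType f := locallyOfFiniteType_of_comp f q
  haveI : IsProper (f ≫ q) := by rw [hf]; infer_instance
  haveI : IsProper f := IsProper.of_comp f q
  -- hence also at the generic point
  have hopen := isOpen_fibreDimAt_le 0 X Y f
  have hg : FlatMor.fibreDimAt f (genericPoint X) ≤ ((0 : ℕ) : WithBot ℕ∞) :=
    (genericPoint_specializes x₀).mem_open hopen hx₀
  have hg0 : resTrdegNat f (genericPoint X) = 0 := by
    have := (resTrdegNat_le_fibreDimAt f (genericPoint X)).trans hg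
    have h' : resTrdegNat f (genericPoint X) ≤ 0 := by exact_mod_cast this
    omega
  have hcomp : resTrdegNat p (genericPoint X) = resTrdegNat q (f (genericPoint X)) := by
    have := resTrdegNat_comp f q (genericPoint X)
    rw [hg0, add_zero] at this
    rw [← this]
    unfold resTrdegNat
    rw [resTrdeg_congr hf]
  have hX := topologicalKrullDim_eq_resTrdegNat_genericPoint p
  have hY := topologicalKrullDim_eq_resTrdegNat_genericPoint q
  have hle : topologicalKrullDim X ≤ topologicalKrullDim Y := by
    rw [hX, hcomp]
    exact resTrdegNat_le_topologicalKrullDim q _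
  have heq : topologicalKrullDim X = topologicalKrullDim Y := le_antisymm hle hdim
  refine ⟨?_, heq⟩
  -- dominance
  have hnat : resTrdegNat q (f (genericPoint X)) = resTrdegNat q (genericPoint Y) := by
    have := heq
    rw [hX, hY, hcomp] at this
    exact_mod_cast this
  have hgen : f (genericPoint X) = genericPoint Y := by
    by_contra hne
    have := (isDimFun_trdegNat q).lt_of_specializes
      (genericPoint_specializes (f (genericPoint X))) (Ne.symm hne)
    rw [trdegNat_eq_resTrdegNat, trdegNat_eq_resTrdegNat, hnat] at this
    exact lt_irrefl _ this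
  constructor
  intro y
  have hcl : IsClosed (Set.range f) := f.isClosedMap.isClosed_range
  have : y ∈ closure ({genericPoint Y} : Set Y) := by
    rw [(genericPoint_spec Y).def]; trivial
  exact hcl.closure_subset_iff.mpr (by rintro _ rfl; exact ⟨_, hgen⟩) this

/-- A morphism over a field from an irreducible proper scheme to an irreducible separated scheme of
finite type of no larger dimension, having a point whose fibre is zero-dimensional, is surjective
and the dimensions agree. -/
theorem surjective_and_dim_eq_of_fibre_dim_zero_aux {X Y : Scheme.{u}}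
    (p : X ⟶ Spec (.of k)) (q : Y ⟶ Spec (.of k)) [IsProper p] [IsSeparated q]
    [LocallyOfFiniteType q] [IrreducibleSpace X] [IrreducibleSpace Y]
    (hdim : topologicalKrullDim Y ≤ topologicalKrullDim X)
    (f : X ⟶ Y) (hf : f ≫ q = p) (x₀ : X)
    (h0 : topologicalKrullDim ↥(f.fiber (f x₀)) ≤ 0) :
    Surjective f ∧ topologicalKrullDim X = topologicalKrullDim Y := by
  haveI : LocallyOfFiniteType (f ≫ q) := by rw [hf]; infer_instance
  haveI hlft : LocallyOfFiniteType f := locallyOfFiniteType_of_comp f q
  -- the fibre dimension at `x₀` is zero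
  have hx₀ : FlatMor.fibreDimAt f x₀ ≤ ((0 : ℕ) : WithBot ℕ∞) := by
    apply fibreDimAt_le_of_forall_generization
    intro w _ hg
    have h1 : topologicalKrullDim ↥(f.fiber (f w)) ≤ ((0 : ℕ) : WithBot ℕ∞) := by
      rw [hg]; exact h0
    have h2 := resTrdeg_le_of_fiber_dim_le f w 0 h1
    rw [resTrdeg_eq_resTrdegNat] at h2
    exact_mod_cast h2
  exact surjective_and_dim_eq_of_fibreDimAt_le_zero p q hdim f hf x₀ hx₀

end Dim

end Groth.Agent.Lib.Helper22.AbVarIsogeny
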