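import Groth.Agent.Lib.Helper22.FibreComp
import Groth.Agent.Lib.Helper72.PerfectReduced
import Groth.Agent.Lib.Helper51.GeomConn
import Groth.Agent.Lib.Helper51.DomainLocus
import Groth.Agent.S1628

/-!
# Rigidity for closed reduced connected subschemes of abelian varieties (helper22)

Instances of `FibreComp.RigidityFor`: over a perfect field for proper geometrically integral
group schemes, and over an algebraically closed field for proper smooth geometrically connected
group schemes.
-/

set_option linter.style.haveILetI false

open CategoryTheory Limits AlgebraicGeometry MonoidalCategory CartesianMonoidalCategory MonObj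

namespace Groth.Agent.Lib.Helper22.FibreComp

universe u

variable {k : Type u} [Field k]

/-- A connected scheme over a field with a rational point is geometrically connected. -/
lemma geometricallyConnected_of_section {Z : Scheme.{u}} (p : Z ⟶ Spec (.of k)) [ConnectedSpace Z]
    (c : Spec (.of k) ⟶ Z) (hc : c ≫ p = 𝟙 _) : GeometricallyConnected p := by
  refine Groth.Agent.Lib.Helper51.geometricallyConnected_of_fieldPoint p k c ?_ ?_
  · rw [hc]
    simp
  · intro a _
    exact ⟨a, rfl⟩

set_option backward.isDefEq.respectTransparency false in
/-- Over a perfect field, rigidity holds for proper geometrically integral group schemes. -/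
theorem rigidityFor_of_perfectField [PerfectField k] (X : Over (Spec (.of k))) [GrpObj X]
    [IsProper X.hom] [GeometricallyIntegral X.hom] {Y : Scheme.{u}} (q : Y ⟶ Spec (.of k))
    [IsSeparated q] : RigidityFor X q := by
  intro Z incl h1 h2 h3 cZ φ z₀ h
  have hZ : Z.hom = incl.left ≫ X.hom := (Over.w incl).symm
  haveI : IsProper Z.hom := by rw [hZ]; infer_instance
  haveI : GeometricallyReduced Z.hom :=
    Groth.Agent.Lib.Helper72.PerfectReduced.geometricallyReduced_of_perfectField Z.hom
  haveI : GeometricallyConnected Z.hom :=
    geometricallyConnected_of_section Z.hom cZ.left (Over.w cZ)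
  haveI : IsSeparated (Over.mk q).hom := inferInstanceAs (IsSeparated q)
  exact Rigidity.rigidity' Z X (Over.mk q) φ cZ η[X] z₀ h

set_option backward.isDefEq.respectTransparency false in
/-- A connected scheme smooth over a field is irreducible. -/
lemma irreducibleSpace_of_smooth {A : Scheme.{u}} (p : A ⟶ Spec (.of k)) [Smooth p]
    [ConnectedSpace A] : IrreducibleSpace A := by
  haveI : IsLocallyNoetherian A := LocallyOfFiniteType.isLocallyNoetherian p
  apply Groth.Agent.Lib.Helper51.irreducibleSpace_of_forall_isDomain_stalk
  intro x
  have := Groth.Agent.Lib.Helper30.SmoothRegular.stalk_regular_of_smooth_field k p x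
  exact Groth.Agent.S0558.result (A.presheaf.stalk x)

/-- A scheme smooth over a field is geometrically reduced. -/
lemma geometricallyReduced_of_smooth {A : Scheme.{u}} (p : A ⟶ Spec (.of k)) [Smooth p] :
    GeometricallyReduced p := by
  letI : A.Over (Spec (CommRingCat.of k)) := ⟨p⟩
  haveI : Smooth (A ↘ Spec (CommRingCat.of k)) := ‹Smooth p›
  exact (Groth.Agent.S1628.result k A).1

set_option backward.isDefEq.respectTransparency false in
/-- Over an algebraically closed field, rigidity holds for proper smooth geometrically connected
group schemes. -/
theorem rigidityFor_of_isAlgClosed [IsAlgClosed k] (A : Over (Spec (.of k))) [GrpObj A]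
    [IsProper A.hom] [Smooth A.hom] [GeometricallyConnected A.hom] {Y : Scheme.{u}}
    (q : Y ⟶ Spec (.of k)) [IsSeparated q] : RigidityFor A q := by
  intro Z incl h1 h2 h3 cZ φ z₀ h
  have hZ : Z.hom = incl.left ≫ A.hom := (Over.w incl).symm
  haveI : IsProper Z.hom := by rw [hZ]; infer_instance
  haveI : ConnectedSpace A.left := GeometricallyConnected.connectedSpace_of_subsingleton A.hom
  haveI : IrreducibleSpace A.left := irreducibleSpace_of_smooth A.hom
  haveI : GeometricallyReduced A.hom := geometricallyReduced_of_smooth A.hom
  haveI : IsLocallyNoetherian Z.left := LocallyOfFiniteType.isLocallyNoetherian Z.hom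
  haveI : IsReduced (Z ⊗ A).left := by dsimp; infer_instance
  haveI : IsSeparated (Over.mk q).hom := inferInstanceAs (IsSeparated q)
  exact Rigidity.rigidity_algClosed' Z A (Over.mk q) φ cZ η[A] z₀ h

end Groth.Agent.Lib.Helper22.FibreComp
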