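import Groth.Agent.Lib.Helper22.AbVarIsogeny
import Groth.Agent.Lib.Helper22.FibreComp2
import Groth.Agent.S2082
import Groth.Agent.S7795
import Groth.Agent.S0603
import Groth.Agent.Lib.Helper30.SmoothRegular
import Groth.Agent.Lib.Helper77.RegularCM
import Groth.Agent.Lib.Helper11.CMLocalize
import Groth.Agent.Lib.Helper73.DimFormula.UnivCatenary

/-!
# Isogenies of abelian varieties: finiteness and flatness (helper22)

* `fibreDimAt_le_zero_of_surjective_of_dim_eq`, `isFinite_of_surjective_of_dim_eq`: a surjective
  morphism from an abelian variety onto an irreducible separated `k`-scheme of the same dimension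
  is finite.
* `ringKrullDim_quotient_map_maximalIdeal_eq_zero`, `flat_of_quasiFinite_of_ringKrullDim_eq`:
  miracle flatness for quasi-finite local homomorphisms.
* `isUniversallyCatenary_stalk_of_smooth`, `flat_of_locallyQuasiFinite_of_smooth`: a dominant
  locally quasi-finite morphism between irreducible smooth `k`-schemes is flat.
* `surjective_of_isFinite_of_dim_eq`, `surjective_of_flat_of_isProper`,
  `geometricallyIntegral_of_smooth`.
-/

set_option linter.style.haveILetI false

open CategoryTheory Limits AlgebraicGeometry MonoidalCategory CartesianMonoidalCategory MonObj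
open Groth.Agent.Lib.Helper73
open Groth.Agent.Lib.Helper22

namespace Groth.Agent.Lib.Helper22.AbVarIsogeny

universe u

section Ring

open IsLocalRing

/-- For a quasi-finite local homomorphism of local rings, the closed fibre is zero-dimensional. -/
theorem ringKrullDim_quotient_map_maximalIdeal_eq_zero {R S : Type u} [CommRing R] [CommRing S]
    [IsLocalRing R] [IsLocalRing S] [Algebra R S] [IsLocalHom (algebraMap R S)]
    [Algebra.QuasiFinite R S] :
    ringKrullDim (S ⧸ (maximalIdeal R).map (algebraMap R S)) = 0 := by
  set I := (maximalIdeal R).map (algebraMap R S) with hI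
  have hle : I ≤ maximalIdeal S := map_maximalIdeal_le (algebraMap R S)
  have hne : I ≠ ⊤ := fun h => (maximalIdeal.isMaximal S).ne_top (top_le_iff.mp (h ▸ hle))
  haveI : Nontrivial (S ⧸ I) := Ideal.Quotient.nontrivial_iff.mpr hne
  have key : ∀ p : PrimeSpectrum (S ⧸ I), p.asIdeal.comap (Ideal.Quotient.mk I) = maximalIdeal S := by
    intro p
    haveI : (p.asIdeal.comap (Ideal.Quotient.mk I)).IsPrime := Ideal.comap_isPrime _ _
    apply Algebra.QuasiFinite.eq_of_le_of_under_eq (R := R)
    · exact le_maximalIdeal (Ideal.IsPrime.ne_top inferInstance)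
    · have h1 : (maximalIdeal S).under R = maximalIdeal R :=
        IsLocalRing.maximalIdeal_comap (algebraMap R S)
      rw [h1]
      apply le_antisymm
      · exact le_maximalIdeal (Ideal.IsPrime.ne_top inferInstance)
      · intro r hr
        rw [Ideal.mem_comap, Ideal.mem_comap]
        have : algebraMap R S r ∈ I := Ideal.mem_map_of_mem _ hr
        rw [Ideal.Quotient.eq_zero_iff_mem.mpr this]
        exact zero_mem _
  haveI : Subsingleton (PrimeSpectrum (S ⧸ I)) := by
    constructor
    intro p q
    apply PrimeSpectrum.comap_injective_of_surjective _ Ideal.Quotient.mk_surjective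
    ext1
    exact (key p).trans (key q).symm
  unfold ringKrullDim
  exact Order.krullDim_eq_zero

/-- Miracle flatness for quasi-finite local homomorphisms between local rings of the same
dimension. -/
theorem flat_of_quasiFinite_of_ringKrullDim_eq {R S : Type u} [CommRing R] [CommRing S]
    [IsRegularLocalRing R] [LocCoh.IsCohenMacaulayLocalRing S] [Algebra R S]
    [IsLocalHom (algebraMap R S)] [Algebra.QuasiFinite R S]
    (hdim : ringKrullDim S = ringKrullDim R) : Module.Flat R S := by
  apply Groth.Agent.S2082.result
  rw [ringKrullDim_quotient_map_maximalIdeal_eq_zero, add_zero, hdim]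

end Ring

section Finite

variable {k : Type u} [Field k]

/-- All fibres of a surjective morphism from an abelian variety to an irreducible separated
`k`-scheme of the same dimension are zero-dimensional. -/
theorem fibreDimAt_le_zero_of_surjective_of_dim_eq (X : Over (Spec (.of k))) [GrpObj X]
    [IsProper X.hom] [GeometricallyIntegral X.hom] {Y : Scheme.{u}} (q : Y ⟶ Spec (.of k))
    [IsSeparated q] [LocallyOfFiniteType q] [IrreducibleSpace Y]
    (f : X.left ⟶ Y) (hf : f ≫ q = X.hom) [Surjective f]
    (hdim : topologicalKrullDim X.left = topologicalKrullDim Y) (x : X.left) :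
    haveI : LocallyOfFiniteType f := by
      haveI : LocallyOfFiniteType (f ≫ q) := by rw [hf]; infer_instance
      exact locallyOfFiniteType_of_comp f q
    FlatMor.fibreDimAt f x ≤ ((0 : ℕ) : WithBot ℕ∞) := by
  haveI : LocallyOfFiniteType (f ≫ q) := by rw [hf]; infer_instance
  haveI hlft : LocallyOfFiniteType f := locallyOfFiniteType_of_comp f q
  haveI : IsIntegral X.left := GeometricallyIntegral.isIntegral_of_subsingleton (f := X.hom)
  obtain ⟨d, hd⟩ := FibreEquidim.exists_resTrdegNat_eq_of_maximal X q f hf
  -- the generic point is maximal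
  have hgmax : ∀ t : X.left, t ⤳ genericPoint X.left → f t = f (genericPoint X.left) →
      t = genericPoint X.left := fun t ht _ =>
    ((genericPoint_specializes t).antisymm ht).eq.symm
  have hg := hd _ hgmax
  -- f maps generic point to generic point
  have hgen : f (genericPoint X.left) = genericPoint Y := by
    obtain ⟨x₀, hx₀⟩ := f.surjective (genericPoint Y)
    have h1 : f (genericPoint X.left) ⤳ genericPoint Y := by
      rw [← hx₀]
      exact (genericPoint_specializes x₀).map f.continuous
    exact ((genericPoint_specializes _).antisymm h1).eq.symm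
  have hX := topologicalKrullDim_eq_resTrdegNat_genericPoint X.hom
  have hY := topologicalKrullDim_eq_resTrdegNat_genericPoint q
  have hcomp : resTrdegNat X.hom (genericPoint X.left) =
      resTrdegNat q (f (genericPoint X.left)) + resTrdegNat f (genericPoint X.left) := by
    rw [← resTrdegNat_comp f q (genericPoint X.left)]
    unfold resTrdegNat
    rw [resTrdeg_congr hf]
  have hd0 : d = 0 := by
    rw [hX, hY, hcomp, hgen, hg] at hdim
    have : resTrdegNat q (genericPoint Y) + d = resTrdegNat q (genericPoint Y) := by
      exact_mod_cast hdim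
    omega
  subst hd0
  apply fibreDimAt_le_of_forall_generization
  intro w hw hfw
  -- take a maximal generization z of w in the fibre
  obtain ⟨n, hn⟩ := exists_ringKrullDim_fiber_stalk_eq_natCast f w
  obtain ⟨z, hz1, hz2, hz3, -⟩ := exists_maximal_fiber_generization f w n hn
  have hz0 := hd z hz3
  have hzr : z ∈ Set.range (f.fiberι (f w)) := by rw [f.range_fiberι (f w)]; exact hz1
  obtain ⟨ζ, rfl⟩ := hzr
  have hsp : ζ ⤳ f.asFiber w := by
    rw [← (f.fiberι (f w)).isEmbedding.isInducing.specializes_iff, f.fiberι_asFiber w]
    exact hz2
  have hδ := isDimFun_trdegNat (k := Y.residueField (f w)) (f.fiberToSpecResidueField (f w))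
  have hle := hδ.le_of_specializes hsp
  rw [trdegNat_fiber_eq_resTrdegNat, trdegNat_fiber_eq_resTrdegNat, f.fiberι_asFiber w, hz0] at hle
  exact hle

/-- A surjective morphism from an abelian variety to an irreducible separated
`k`-scheme of the same dimension is finite. -/
theorem isFinite_of_surjective_of_dim_eq (X : Over (Spec (.of k))) [GrpObj X]
    [IsProper X.hom] [GeometricallyIntegral X.hom] {Y : Scheme.{u}} (q : Y ⟶ Spec (.of k))
    [IsSeparated q] [LocallyOfFiniteType q] [IrreducibleSpace Y]
    (f : X.left ⟶ Y) (hf : f ≫ q = X.hom) [Surjective f]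
    (hdim : topologicalKrullDim X.left = topologicalKrullDim Y) : IsFinite f := by
  haveI : LocallyOfFiniteType (f ≫ q) := by rw [hf]; infer_instance
  haveI hlft : LocallyOfFiniteType f := locallyOfFiniteType_of_comp f q
  haveI : IsProper (f ≫ q) := by rw [hf]; infer_instance
  haveI : IsProper f := IsProper.of_comp f q
  haveI : LocallyQuasiFinite f := by
    rw [← Scheme.Hom.quasiFiniteLocus_eq_top_iff]
    rw [eq_top_iff]
    intro x _
    rw [Scheme.Hom.mem_quasiFiniteLocus, quasiFiniteAt_iff_fibreDimAt_le_zero]
    exact fibreDimAt_le_zero_of_surjective_of_dim_eq X q f hf hdim x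
  exact IsFinite.of_isProper_of_locallyQuasiFinite f

end Finite

section Flat

variable {k : Type u} [Field k]

/-- The local rings of a scheme smooth over a field are universally catenary. -/
theorem isUniversallyCatenary_stalk_of_smooth {Y : Scheme.{u}} (q : Y ⟶ Spec (.of k)) [Smooth q]
    (y : Y) : CAlg.IsUniversallyCatenary (Y.presheaf.stalk y) := by
  haveI := Groth.Agent.Lib.Helper30.SmoothRegular.stalk_regular_of_smooth_field k q y
  haveI : LocCoh.IsCohenMacaulayLocalRing (Y.presheaf.stalk y) :=
    Groth.Agent.Lib.Helper77.RegularCM.isCohenMacaulayLocalRing _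
  haveI : LocCoh.IsCohenMacaulayRing (Y.presheaf.stalk y) :=
    { isCohenMacaulayLocalRing_localization := fun p _ =>
        Groth.Agent.Lib.Helper11.CMLocalize.localization_CM _ p }
  exact Groth.Agent.S0603.result _

/-- A dominant locally quasi-finite morphism between irreducible smooth schemes over a field is
flat (miracle flatness). -/
theorem flat_of_locallyQuasiFinite_of_smooth {X Y : Scheme.{u}} (p : X ⟶ Spec (.of k))
    (q : Y ⟶ Spec (.of k)) [Smooth p] [Smooth q] [IrreducibleSpace X] [IrreducibleSpace Y]
    (f : X ⟶ Y) (hf : f ≫ q = p) [LocallyQuasiFinite f]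
    (hgen : f (genericPoint X) = genericPoint Y) : Flat f := by
  haveI : LocallyOfFiniteType (f ≫ q) := by rw [hf]; infer_instance
  haveI hlft : LocallyOfFiniteType f := locallyOfFiniteType_of_comp f q
  haveI : IsLocallyNoetherian Y :=
    Groth.Agent.Lib.Helper30.SmoothRegular.isLocallyNoetherian_of_smooth_field k q
  have hres : ∀ x : X, resTrdeg f x = 0 := by
    intro x
    have h1 := (quasiFiniteAt_iff_fibreDimAt_le_zero f x).mp (f.quasiFiniteAt x)
    have h2 := (resTrdegNat_le_fibreDimAt f x).trans h1
    have h3 : resTrdegNat f x ≤ 0 := by exact_mod_cast h2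
    rw [resTrdeg_eq_resTrdegNat]
    have : resTrdegNat f x = 0 := by omega
    rw [this]; rfl
  apply Flat.of_stalkMap
  intro x
  obtain ⟨a, b, ha, hb, hab⟩ := stalk_dim_add_trdeg_eq f
    (fun y => isUniversallyCatenary_stalk_of_smooth q y)
    (fun y => by rw [hgen]; exact genericPoint_specializes y) x
  rw [hres, hres, add_zero, add_zero] at hab
  have hab' : a = b := by exact_mod_cast hab
  haveI := Groth.Agent.Lib.Helper30.SmoothRegular.stalk_regular_of_smooth_field k q (f x)
  haveI := Groth.Agent.Lib.Helper30.SmoothRegular.stalk_regular_of_smooth_field k p x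
  haveI : LocCoh.IsCohenMacaulayLocalRing (X.presheaf.stalk x) :=
    Groth.Agent.Lib.Helper77.RegularCM.isCohenMacaulayLocalRing _
  have hqf : (f.stalkMap x).hom.QuasiFinite := f.quasiFiniteAt x
  algebraize [(f.stalkMap x).hom]
  haveI : IsLocalHom (algebraMap (Y.presheaf.stalk (f x)) (X.presheaf.stalk x)) := by
    rw [RingHom.algebraMap_toAlgebra]; infer_instance
  exact flat_of_quasiFinite_of_ringKrullDim_eq (by rw [ha, hb, hab'])

/-- A surjective map of irreducible schemes preserves generic points. -/
lemma map_genericPoint_of_surjective {X Y : Scheme.{u}} [IrreducibleSpace X] [IrreducibleSpace Y]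
    (f : X ⟶ Y) [Surjective f] : f (genericPoint X) = genericPoint Y := by
  obtain ⟨x₀, hx₀⟩ := f.surjective (genericPoint Y)
  have h1 : f (genericPoint X) ⤳ genericPoint Y := by
    rw [← hx₀]
    exact (genericPoint_specializes x₀).map f.continuous
  exact ((genericPoint_specializes _).antisymm h1).eq.symm

/-- A morphism between irreducible schemes of the same dimension, locally of finite type over a
field, with algebraic residue field extension at the generic point, is dominant. -/
lemma map_genericPoint_of_resTrdegNat_eq_zero {X Y : Scheme.{u}} (p : X ⟶ Spec (.of k))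
    (q : Y ⟶ Spec (.of k)) [LocallyOfFiniteType p] [LocallyOfFiniteType q] [IrreducibleSpace X]
    [IrreducibleSpace Y] (hdim : topologicalKrullDim X = topologicalKrullDim Y)
    (f : X ⟶ Y) (hf : f ≫ q = p) [LocallyOfFiniteType f]
    (hg0 : resTrdegNat f (genericPoint X) = 0) : f (genericPoint X) = genericPoint Y := by
  have hcomp : resTrdegNat p (genericPoint X) = resTrdegNat q (f (genericPoint X)) := by
    have := resTrdegNat_comp f q (genericPoint X)
    rw [hg0, add_zero] at this
    rw [← this]
    unfold resTrdegNat
    rw [resTrdeg_congr hf]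
  have hX := topologicalKrullDim_eq_resTrdegNat_genericPoint p
  have hY := topologicalKrullDim_eq_resTrdegNat_genericPoint q
  have hnat : resTrdegNat q (f (genericPoint X)) = resTrdegNat q (genericPoint Y) := by
    have := hdim
    rw [hX, hY, hcomp] at this
    exact_mod_cast this
  by_contra hne
  have := (isDimFun_trdegNat q).lt_of_specializes
    (genericPoint_specializes (f (genericPoint X))) (Ne.symm hne)
  rw [trdegNat_eq_resTrdegNat, trdegNat_eq_resTrdegNat, hnat] at this
  exact lt_irrefl _ this

/-- A closed dominant map to an irreducible scheme is surjective. -/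
lemma surjective_of_map_genericPoint {X Y : Scheme.{u}} [IrreducibleSpace X] [IrreducibleSpace Y]
    (f : X ⟶ Y) (hcl : IsClosed (Set.range f)) (hgen : f (genericPoint X) = genericPoint Y) :
    Surjective f := by
  constructor
  intro y
  have : y ∈ closure ({genericPoint Y} : Set Y) := by
    rw [(genericPoint_spec Y).def]; trivial
  exact hcl.closure_subset_iff.mpr (by rintro _ rfl; exact ⟨_, hgen⟩) this

/-- A finite morphism between irreducible schemes of the same dimension over a field is
surjective. -/
theorem surjective_of_isFinite_of_dim_eq {X Y : Scheme.{u}} (p : X ⟶ Spec (.of k))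
    (q : Y ⟶ Spec (.of k)) [LocallyOfFiniteType p] [LocallyOfFiniteType q] [IrreducibleSpace X]
    [IrreducibleSpace Y] (hdim : topologicalKrullDim X = topologicalKrullDim Y)
    (f : X ⟶ Y) (hf : f ≫ q = p) [IsFinite f] : Surjective f := by
  have h0 : resTrdegNat f (genericPoint X) = 0 := by
    have := FibreEquidim.resTrdeg_eq_zero_of_isIntegralHom f (genericPoint X)
    rw [resTrdeg_eq_resTrdegNat] at this
    exact_mod_cast this
  exact surjective_of_map_genericPoint f f.isClosedMap.isClosed_range
    (map_genericPoint_of_resTrdegNat_eq_zero p q hdim f hf h0)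

/-- A flat proper morphism of schemes locally of finite type over a field to a connected scheme
is surjective if its source is nonempty. -/
theorem surjective_of_flat_of_isProper {X Y : Scheme.{u}} (p : X ⟶ Spec (.of k))
    (q : Y ⟶ Spec (.of k)) [IsProper p] [IsSeparated q] [LocallyOfFiniteType q] [Nonempty X]
    [PreconnectedSpace Y] (f : X ⟶ Y) (hf : f ≫ q = p) [Flat f] : Surjective f := by
  haveI : LocallyOfFiniteType (f ≫ q) := by rw [hf]; infer_instance
  haveI hlft : LocallyOfFiniteType f := locallyOfFiniteType_of_comp f q
  haveI : IsProper (f ≫ q) := by rw [hf]; infer_instance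
  haveI : IsProper f := IsProper.of_comp f q
  haveI : IsLocallyNoetherian Y := LocallyOfFiniteType.isLocallyNoetherian q
  have hopen : IsOpen (Set.range f) := f.isOpenMap.isOpen_range
  have hclosed : IsClosed (Set.range f) := f.isClosedMap.isClosed_range
  have hne : (Set.range f).Nonempty := Set.range_nonempty f
  have : Set.range f = Set.univ := IsClopen.eq_univ ⟨hclosed, hopen⟩ hne
  exact ⟨Set.range_eq_univ.mp this⟩

/-- A smooth geometrically connected scheme over a field is geometrically integral. -/
theorem geometricallyIntegral_of_smooth {A : Scheme.{u}} (p : A ⟶ Spec (.of k)) [Smooth p]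
    [GeometricallyConnected p] : GeometricallyIntegral p := by
  haveI := FibreComp.geometricallyReduced_of_smooth p
  haveI : GeometricallyIrreducible p := ⟨fun K _ y Z fst snd h => by
    haveI : Smooth snd := MorphismProperty.of_isPullback h ‹Smooth p›
    haveI : ConnectedSpace Z := GeometricallyConnected.geometrically_connectedSpace y fst snd h
    exact FibreComp.irreducibleSpace_of_smooth snd⟩
  exact GeometricallyIntegral.of_geometricallyReduced_of_geometricallyIrreducible p

end Flat

end Groth.Agent.Lib.Helper22.AbVarIsogeny
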