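import Groth.Agent.Lib.Helper22.Rigidity
import Groth.Agent.Lib.Helper22.GrpProd

/-!
# Albanese morphism of a product (helper22)

`albanese_prod`: the product of Albanese morphisms of two proper geometrically integral pointed
schemes over a field is universal for pointed morphisms from the product into separated groups
for which both factors are universal. Uses the rigidity lemma (`Rigidity.rigidity`).
-/

set_option linter.style.haveILetI false

open CategoryTheory Limits AlgebraicGeometry MonoidalCategory CartesianMonoidalCategory MonObj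

namespace Groth.Agent.Lib.Helper22.Rigidity

universe u

variable {K : Type u} [Field K]

/-- The product of two Albanese morphisms is an Albanese morphism of the product (tested against a
fixed separated target group `C`). -/
theorem albanese_prod (X Y : Over (Spec (.of K))) [IsProper X.hom] [GeometricallyIntegral X.hom]
    [LocallyOfFiniteType Y.hom] [GeometricallyIntegral Y.hom]
    (x₀ : 𝟙_ _ ⟶ X) (y₀ : 𝟙_ _ ⟶ Y)
    (A : Over (Spec (.of K))) [GrpObj A] [IsProper A.hom] [GeometricallyIntegral A.hom]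
    (albX : X ⟶ A)
    (B : Over (Spec (.of K))) [GrpObj B] [LocallyOfFiniteType B.hom] [GeometricallyIntegral B.hom]
    (albY : Y ⟶ B) (halbY : y₀ ≫ albY = η[B]) (halbX : x₀ ≫ albX = η[A])
    (C : Over (Spec (.of K))) [GrpObj C] [IsSeparated C.hom]
    (hunivA : ∀ g : X ⟶ C, x₀ ≫ g = η[C] → ∃! h : A ⟶ C, IsMonHom h ∧ albX ≫ h = g)
    (hunivB : ∀ g : Y ⟶ C, y₀ ≫ g = η[C] → ∃! h : B ⟶ C, IsMonHom h ∧ albY ≫ h = g)
    (g : X ⊗ Y ⟶ C) (hg : lift x₀ y₀ ≫ g = η[C]) :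
    ∃! h : A ⊗ B ⟶ C, IsMonHom h ∧ (albX ⊗ₘ albY) ≫ h = g := by
  set j : X ⟶ X ⊗ Y := lift (𝟙 X) (toUnit X ≫ y₀) with hj
  set σ : Y ⟶ X ⊗ Y := lift (toUnit Y ≫ x₀) (𝟙 Y) with hσ
  have hdec : g = (fst X Y ≫ j ≫ g) * (snd X Y ≫ σ ≫ g) := mul_decomp X Y C x₀ y₀ g hg
  have hg₁ : x₀ ≫ j ≫ g = η[C] := by
    rw [← Category.assoc, show x₀ ≫ j = lift x₀ y₀ by ext1 <;> simp [j], hg]
  have hg₂ : y₀ ≫ σ ≫ g = η[C] := by
    rw [← Category.assoc, show y₀ ≫ σ = lift x₀ y₀ by ext1 <;> simp [σ], hg]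
  obtain ⟨h₁, ⟨hh₁, hh₁'⟩, huniq₁⟩ := hunivA (j ≫ g) hg₁
  obtain ⟨h₂, ⟨hh₂, hh₂'⟩, huniq₂⟩ := hunivB (σ ≫ g) hg₂
  have hcomm : ∀ {T : Over (Spec (.of K))} (a : T ⟶ A) (b : T ⟶ B),
      Commute (a ≫ h₁) (b ≫ h₂) := fun a b =>
    commute_of_rigidity A B C h₁ h₂ (IsMonHom.one_hom h₁) (IsMonHom.one_hom h₂) a b
  have hhom : IsMonHom ((fst A B ≫ h₁) * (snd A B ≫ h₂)) := GrpProd.isMonHom_prod h₁ h₂ hcomm
  refine ⟨(fst A B ≫ h₁) * (snd A B ≫ h₂), ⟨hhom, ?_⟩, ?_⟩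
  · rw [comp_mul, tensorHom_fst_assoc, tensorHom_snd_assoc, hh₁', hh₂']
    exact hdec.symm
  · rintro h' ⟨hh', hh''⟩
    have e := GrpProd.eq_prod_of_isMonHom h'
    have e₁ : lift (𝟙 A) (toUnit A ≫ η[B]) ≫ h' = h₁ := by
      refine huniq₁ _ ⟨inferInstance, ?_⟩
      rw [← hh'', ← Category.assoc, ← Category.assoc]
      congr 1
      ext1
      · simp [j]
      · simp [j, halbY]
    have e₂ : lift (toUnit B ≫ η[A]) (𝟙 B) ≫ h' = h₂ := by
      refine huniq₂ _ ⟨inferInstance, ?_⟩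
      rw [← hh'', ← Category.assoc, ← Category.assoc]
      congr 1
      ext1
      · simp [σ, halbX]
      · simp [σ]
    rw [e, e₁, e₂]

end Groth.Agent.Lib.Helper22.Rigidity
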