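import Groth.Agent.Lib.Helper73.DimFormula.FiberDimAdd
import Groth.Agent.Lib.Helper36.AlgSpHasAtMor
import Groth.Agent.Lib.Helper36.AlgSpHasAt

/-!
# Glue between chart-independence of germ properties on algebraic spaces and scheme-level
dimension theory (helper22)

* `hasRelDim_of_forall_fibreDimAt_eq`: if all fibre dimensions of a morphism locally of finite type
  equal `d`, it has relative dimension `d` (`Cyc.HasRelDim`).
-/

set_option autoImplicit false
set_option linter.style.haveILetI false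
universe u
open CategoryTheory CategoryTheory.Limits AlgebraicGeometry

namespace Groth.Agent.Lib.Helper22.AlgSpDim

open Groth.Agent.Lib.Helper73

/-- If all fibre dimensions of `f` are `d`, then `f` has relative dimension `d`. -/
theorem hasRelDim_of_forall_fibreDimAt_eq {X Y : Scheme.{u}} (f : X ⟶ Y) [LocallyOfFiniteType f]
    (d : ℕ) (h : ∀ x : X, FlatMor.fibreDimAt f x = (d : WithBot ℕ∞)) : Cyc.HasRelDim f d := by
  rw [hasRelDim_iff_forall_maximal]
  intro ζ hζ
  have h1 := h ζ
  rw [fibreDimAt_eq, ringKrullDim_fiber_stalk_eq_krullDim] at h1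
  haveI : Nonempty ↥{t : X | t ⤳ ζ ∧ f t = f ζ} := ⟨⟨ζ, specializes_rfl, rfl⟩⟩
  haveI : Subsingleton ↥{t : X | t ⤳ ζ ∧ f t = f ζ} :=
    ⟨fun a b => Subtype.ext ((hζ a.1 a.2.1 a.2.2).trans (hζ b.1 b.2.1 b.2.2).symm)⟩
  rw [Order.krullDim_eq_zero, zero_add] at h1
  exact_mod_cast h1

end Groth.Agent.Lib.Helper22.AlgSpDim
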