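import Mathlib
import Groth.Agent.Lib.Helper66.TruncPolyQ
import Groth.Agent.Lib.Helper76.PowEval

set_option autoImplicit false
universe u v
open TensorProduct IsLocalRing
open Groth.Agent.Lib.Helper66.TruncPolyQ

namespace Groth.Agent.Lib.Helper22.CFFT2

section aux

variable (R : Type u) [CommRing R] [IsLocalRing R] (A : Type v) [CommRing A] [Algebra R A]
  {r : ℕ} (q : Fin r → ℕ)
  (φ₀ : (ResidueField R ⊗[R] A) ≃ₐ[ResidueField R]
    (MvPolynomial (Fin r) (ResidueField R) ⧸ JXq (ResidueField R) q))

/-- `a ↦ φ₀ (1 ⊗ a)` as a ring hom -/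
noncomputable def Phi : A →+* (MvPolynomial (Fin r) (ResidueField R) ⧸ JXq (ResidueField R) q) :=
  (φ₀ : (ResidueField R ⊗[R] A) →+* _).comp
    (Algebra.TensorProduct.includeRight : A →ₐ[R] ResidueField R ⊗[R] A).toRingHom

lemma Phi_apply (a : A) : Phi R A q φ₀ a = φ₀ (1 ⊗ₜ a) := rfl

lemma Phi_algebraMap (c : R) :
    Phi R A q φ₀ (algebraMap R A c) = Ideal.Quotient.mk _ (MvPolynomial.C (residue R c)) := by
  rw [Phi_apply]
  have h1 : (1 : ResidueField R) ⊗ₜ[R] (algebraMap R A c) =
      algebraMap (ResidueField R) (ResidueField R ⊗[R] A) (residue R c) := by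
    rw [Algebra.TensorProduct.algebraMap_apply, Algebra.algebraMap_eq_smul_one,
      TensorProduct.tmul_smul, TensorProduct.smul_tmul', Algebra.smul_def, mul_one]
    rfl
  rw [h1, φ₀.commutes]
  rfl

lemma Phi_aeval (x : Fin r → A)
    (hx : ∀ i, φ₀ ((1 : ResidueField R) ⊗ₜ[R] x i) = Ideal.Quotient.mk _ (MvPolynomial.X i))
    (P : MvPolynomial (Fin r) R) :
    Phi R A q φ₀ (MvPolynomial.aeval x P) =
      Ideal.Quotient.mk _ (MvPolynomial.map (residue R) P) := by
  have h : (Phi R A q φ₀).comp (MvPolynomial.aeval x : MvPolynomial (Fin r) R →ₐ[R] A).toRingHom =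
      (Ideal.Quotient.mk (JXq (ResidueField R) q)).comp (MvPolynomial.map (residue R)) := by
    apply MvPolynomial.ringHom_ext
    · intro c
      simp only [RingHom.comp_apply, AlgHom.toRingHom_eq_coe, RingHom.coe_coe,
        MvPolynomial.aeval_C, MvPolynomial.map_C]
      exact Phi_algebraMap R A q φ₀ c
    · intro i
      simp only [RingHom.comp_apply, AlgHom.toRingHom_eq_coe, RingHom.coe_coe,
        MvPolynomial.aeval_X, MvPolynomial.map_X]
      exact hx i
  exact congrArg (fun ψ => ψ P) h

end aux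

theorem exists_basis_lift (R : Type u) [CommRing R] [IsLocalRing R] [IsNoetherianRing R] (A : Type v) [CommRing A] [Algebra R A] [Module.Finite R A] [Module.Flat R A] {r : ℕ} (q : Fin r → ℕ) (φ₀ : (ResidueField R ⊗[R] A) ≃ₐ[ResidueField R] (MvPolynomial (Fin r) (ResidueField R) ⧸ JXq (ResidueField R) q)) (x : Fin r → A) (hx : ∀ i, φ₀ ((1 : ResidueField R) ⊗ₜ[R] x i) = Ideal.Quotient.mk _ (MvPolynomial.X i)) : (∃ b : Module.Basis (redSet q) R A, ∀ d : redSet q, b d = MvPolynomial.aeval x (MvPolynomial.monomial (d : Fin r →₀ ℕ) (1 : R))) ∧ (∃ g : Fin r → MvPolynomial (Fin r) R, (∀ i, g i ∈ MvPolynomial.restrictSupport R (redSet q)) ∧ (∀ i d, (g i).coeff d ∈ maximalIdeal R) ∧ ∀ i, x i ^ q i + MvPolynomial.aeval x (g i) = 0) := by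
  classical
  -- the monomials
  let v : redSet q → A := fun d =>
    MvPolynomial.aeval x (MvPolynomial.monomial (d : Fin r →₀ ℕ) (1 : R))
  -- basis of the truncated polynomial ring over the residue field
  let b₀ : Module.Basis (redSet q) (ResidueField R)
      (MvPolynomial (Fin r) (ResidueField R) ⧸ JXq (ResidueField R) q) :=
    (MvPolynomial.basisRestrictSupport (ResidueField R) (redSet q)).map
      (reducedEquivQ (ResidueField R) q)
  have hb₀ : ∀ d : redSet q, b₀ d =
      Ideal.Quotient.mk _ (MvPolynomial.monomial (d : Fin r →₀ ℕ) (1 : ResidueField R)) := by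
    intro d
    simp only [b₀, Module.Basis.map_apply]
    show Ideal.Quotient.mk _ ((MvPolynomial.basisRestrictSupport (ResidueField R) (redSet q) d :
      MvPolynomial.restrictSupport (ResidueField R) (redSet q)) :
        MvPolynomial (Fin r) (ResidueField R)) = _
    rw [Groth.Agent.Lib.Helper66.TruncPoly.basisRestrictSupport_coe]
  have hΦv : ∀ d : redSet q, Phi R A q φ₀ (v d) = b₀ d := by
    intro d
    rw [hb₀, Phi_aeval R A q φ₀ x hx, MvPolynomial.map_monomial, map_one]
  -- the basis of `k ⊗ A`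
  let b₁ : Module.Basis (redSet q) (ResidueField R) (ResidueField R ⊗[R] A) :=
    b₀.map φ₀.symm.toLinearEquiv
  have hb₁ : ∀ d : redSet q, b₁ d = (TensorProduct.mk R (ResidueField R) A 1 ∘ v) d := by
    intro d
    simp only [b₁, Module.Basis.map_apply, Function.comp_apply, TensorProduct.mk_apply]
    rw [← hΦv d, Phi_apply]
    exact φ₀.symm_apply_apply _
  have hbij₁ : Function.Bijective (Finsupp.linearCombination (ResidueField R)
      (TensorProduct.mk R (ResidueField R) A 1 ∘ v)) := by
    have h1 : (TensorProduct.mk R (ResidueField R) A 1 ∘ v) = ⇑b₁ := by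
      funext d; exact (hb₁ d).symm
    rw [h1, ← Module.Basis.coe_repr_symm]
    exact b₁.repr.symm.bijective
  have hbij : Function.Bijective (Finsupp.linearCombination R v) :=
    Module.IsLocalRing.linearCombination_bijective_of_flat v hbij₁
  let e : (redSet q →₀ R) ≃ₗ[R] A := LinearEquiv.ofBijective (Finsupp.linearCombination R v) hbij
  let b : Module.Basis (redSet q) R A := Module.Basis.ofRepr e.symm
  have hb : ∀ d : redSet q, b d = v d := by
    intro d
    show e.symm.symm (Finsupp.single d 1) = v d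
    simp [e]
  refine ⟨⟨b, hb⟩, ?_⟩
  -- coefficients of `x_i ^ q_i`
  let c : Fin r → (redSet q →₀ R) := fun i => e.symm (x i ^ q i)
  have hc : ∀ i, ∑ d ∈ (c i).support, c i d • v d = x i ^ q i := by
    intro i
    have h1 : e (c i) = x i ^ q i := e.apply_symm_apply _
    rw [← h1]
    show _ = Finsupp.linearCombination R v (c i)
    rw [Finsupp.linearCombination_apply, Finsupp.sum]
  have hres : ∀ i d, c i d ∈ maximalIdeal R := by
    intro i d
    by_cases hd : d ∈ (c i).support
    · have h1 : Phi R A q φ₀ (x i ^ q i) = 0 := by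
        rw [map_pow, Phi_apply, hx i, ← map_pow, Ideal.Quotient.eq_zero_iff_mem]
        exact Ideal.subset_span ⟨i, rfl⟩
      have h2 : ∑ d ∈ (c i).support, residue R (c i d) • b₀ d = 0 := by
        rw [← h1, ← hc i, map_sum]
        refine Finset.sum_congr rfl fun d _ => ?_
        rw [Algebra.smul_def (c i d) (v d), map_mul, Phi_algebraMap, hΦv]
        exact Algebra.smul_def (R := ResidueField R)
          (A := MvPolynomial (Fin r) (ResidueField R) ⧸ JXq (ResidueField R) q)
          (residue R (c i d)) (b₀ d)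
      have h3 := (linearIndependent_iff'.1 b₀.linearIndependent) (c i).support
        (fun d => residue R (c i d)) h2 d hd
      exact (IsLocalRing.residue_eq_zero_iff _).1 h3
    · rw [Finsupp.notMem_support_iff.1 hd]
      exact zero_mem _
  have hmono : ∀ (i : Fin r) (d : redSet q),
      MvPolynomial.monomial (d : Fin r →₀ ℕ) (c i d) =
        c i d • MvPolynomial.monomial (d : Fin r →₀ ℕ) (1 : R) := by
    intro i d
    rw [MvPolynomial.smul_monomial, smul_eq_mul, mul_one]
  refine ⟨fun i => -∑ d ∈ (c i).support, MvPolynomial.monomial (d : Fin r →₀ ℕ) (c i d),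
    fun i => ?_, fun i d' => ?_, fun i => ?_⟩
  · refine Submodule.neg_mem _ (Submodule.sum_mem _ fun d _ => ?_)
    exact (MvPolynomial.monomial_mem_restrictSupport R).2 (Or.inl d.2)
  · rw [MvPolynomial.coeff_neg, neg_mem_iff, MvPolynomial.coeff_sum]
    refine Ideal.sum_mem _ fun d _ => ?_
    rw [MvPolynomial.coeff_monomial]
    split_ifs
    · exact hres i d
    · exact zero_mem _
  · rw [map_neg, map_sum]
    have h1 : ∑ d ∈ (c i).support,
        MvPolynomial.aeval x (MvPolynomial.monomial (d : Fin r →₀ ℕ) (c i d)) =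
        ∑ d ∈ (c i).support, c i d • v d :=
      Finset.sum_congr rfl fun d _ => by rw [hmono, map_smul]
    rw [h1, hc i, add_neg_cancel]

end Groth.Agent.Lib.Helper22.CFFT2
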