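import Groth.Agent.Lib.Helper73.DimFormula.CycDim
import Groth.Agent.Lib.Helper73.DimFormula.Equidim
import Groth.Agent.Lib.Helper67.CMCat

/-!
# Cohen–Macaulay schemes are locally equidimensional (helper22)

* `isEquidim_of_isCohenMacaulayLocalRing`: CM local rings are equidimensional.
* `exists_open_forall_exists_generic_of_isLocallyNoetherian`.
* `exists_open_forall_maximal_eq`: on a CM scheme with a dimension function `δ`, `δ` is locally
  constant on maximal points.
-/

set_option linter.style.haveILetI false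

open CategoryTheory Limits AlgebraicGeometry TopologicalSpace
open Groth.Agent.Lib.Helper73
open IsLocalRing

namespace Groth.Agent.Lib.Helper22.CMEquidim

universe u

/-- A Cohen–Macaulay local ring is equidimensional. -/
theorem isEquidim_of_isCohenMacaulayLocalRing (R : Type u) [CommRing R]
    [hR : LocCoh.IsCohenMacaulayLocalRing R] : EGA4.IsEquidim R := by
  intro p hp
  haveI : p.IsPrime := hp.1.1
  have hM : LocCoh.IsCohenMacaulayModule R R := hR.supportDim_eq_depth
  have hsupp : Module.support R R = Set.univ := by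
    rw [Module.support_eq_zeroLocus, Module.annihilator_eq_bot.mpr inferInstance]
    simp
  have h := Groth.Agent.Lib.Helper67.CMCat.ringKrullDim_quotient_add_height R hM hsupp p
  have h0 : p.height = 0 := Ideal.height_eq_zero_iff.mpr hp
  rw [h0] at h
  simpa using h

/-- Every point of a locally Noetherian scheme has an open neighbourhood all of whose points lie
in an irreducible component through the given point. -/
lemma exists_open_forall_exists_generic_of_isLocallyNoetherian (X : Scheme.{u})
    [IsLocallyNoetherian X] (x : X) :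
    ∃ W : X.Opens, x ∈ W ∧ ∀ w ∈ W, ∃ η : X, η ⤳ w ∧ η ⤳ x := by
  obtain ⟨U, hU, hxU, -⟩ := exists_isAffineOpen_mem_and_subset (X := X) (x := x) (U := ⊤) trivial
  have : IsNoetherianRing Γ(X, U) := IsLocallyNoetherian.component_noetherian ⟨U, hU⟩
  have h1 : NoetherianSpace ↥(Set.range hU.fromSpec) :=
    NoetherianSpace.range (α := ↥(Spec Γ(X, U))) hU.fromSpec hU.fromSpec.continuous
  rw [hU.range_fromSpec] at h1
  obtain ⟨W, hW, hxW, h⟩ := exists_open_forall_exists_generic_of_nhd x (U : Set X) U.isOpen hxU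
  exact ⟨⟨W, hW⟩, hxW, h⟩

/-- On a Cohen–Macaulay scheme with a dimension function, the dimension function is locally
constant on maximal points. -/
theorem exists_open_forall_maximal_eq (X : Scheme.{u}) (δ : X → ℤ) (hX : Cyc.IsSetup X δ)
    (hCM : ∀ x : X, LocCoh.IsCohenMacaulayLocalRing ↑(X.presheaf.stalk x)) (x : X) :
    ∃ (U : X.Opens) (n : ℤ), x ∈ U ∧
      ∀ ξ : X, ξ ∈ U → (∀ ξ' : X, ξ' ⤳ ξ → ξ' = ξ) → δ ξ = n := by
  obtain ⟨hN, -, hδ⟩ := hX
  haveI := hN
  haveI := hCM x
  obtain ⟨W, hxW, hW⟩ := exists_open_forall_exists_generic_of_isLocallyNoetherian X x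
  have hfin : ringKrullDim (X.presheaf.stalk x) ≠ ⊤ := ringKrullDim_ne_top
  have hbot : ringKrullDim (X.presheaf.stalk x) ≠ ⊥ := ringKrullDim_ne_bot
  obtain ⟨d, hd⟩ : ∃ d : ℕ, ringKrullDim (X.presheaf.stalk x) = d := by
    obtain ⟨a, ha⟩ := WithBot.ne_bot_iff_exists.mp hbot
    rw [← ha] at hfin
    have ha' : a ≠ ⊤ := fun h => hfin (by rw [h]; rfl)
    exact ⟨a.toNat, by rw [← ha, ← ENat.natCast_toNat ha']; rfl⟩
  refine ⟨W, δ x + d, hxW, fun ξ hξW hmax => ?_⟩
  obtain ⟨η, h1, h2⟩ := hW ξ hξW
  have hηξ : η = ξ := hmax η h1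
  subst hηξ
  have hequi := (isEquidim_stalk_iff x).mp
    (isEquidim_of_isCohenMacaulayLocalRing (X.presheaf.stalk x)) η h2 hmax
  rw [codim_eq_of_cycIsDimFun δ hδ η x h2, hd] at hequi
  have hle := cyc_le_of_specializes δ hδ h2
  have : (δ η - δ x).toNat = d := by exact_mod_cast hequi
  omega

end Groth.Agent.Lib.Helper22.CMEquidim
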