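import Mathlib
import Groth.Agent.Lib.Helper87.UnibranchOpenGeneral
import Groth.Agent.Lib.Helper87.UnibranchOpenScheme
import Groth.Agent.Lib.Helper87.GeomUnibranchSmooth
import Groth.Agent.Lib.Helper87.NormScheme
import Groth.Agent.Lib.Helper87.UnivOpenAtSpecialize
import Groth.Agent.Lib.Helper87.UnivOpenAtChart
import Groth.Agent.Lib.Helper87.ChevalleyPointwise
import Groth.Agent.S1373
import Groth.Agent.S4925
import Groth.Agent.S4926

/-!
# Chevalley's criterion without Noetherian hypotheses

Quasi-finite, finite type algebras over a ring with prime nilradical and geometrically unibranch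
localizations, whose generic point lies over the generic point, have universally open spectrum
map (no finite presentation needed).  Scheme version: a quasi-finite chart to affine space over a
geometrically unibranch base is universally open at points over an irreducible affine open.
-/

set_option autoImplicit false
universe u
open CategoryTheory CategoryTheory.Limits AlgebraicGeometry

namespace Groth.Agent.Lib.Helper22.ChevalleyNN

open Groth.Agent.Lib.Helper87

theorem nilradical_mvPolynomial_isPrime (σ : Type*) (R : Type*) [CommRing R]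
    (h : (nilradical R).IsPrime) : (nilradical (MvPolynomial σ R)).IsPrime := by
  have hk : nilradical (MvPolynomial σ R) =
      RingHom.ker (MvPolynomial.map (σ := σ) (Ideal.Quotient.mk (nilradical R))) := by
    ext p
    rw [mem_nilradical, MvPolynomial.isNilpotent_iff, RingHom.mem_ker, MvPolynomial.ext_iff]
    simp only [MvPolynomial.coeff_map, MvPolynomial.coeff_zero, Ideal.Quotient.eq_zero_iff_mem,
      mem_nilradical]
  rw [hk]
  haveI : IsDomain (R ⧸ nilradical R) := Ideal.Quotient.isDomain _
  exact RingHom.ker_isPrime _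

theorem comap_nilradical_mvPolynomial (σ : Type*) {R S : Type*} [CommRing R] [CommRing S]
    (φ : R →+* S) (h : (nilradical S).comap φ = nilradical R) :
    (nilradical (MvPolynomial σ S)).comap (MvPolynomial.map φ) =
      nilradical (MvPolynomial σ R) := by
  ext p
  rw [Ideal.mem_comap, mem_nilradical, mem_nilradical, MvPolynomial.isNilpotent_iff,
    MvPolynomial.isNilpotent_iff]
  refine forall_congr' fun i => ?_
  rw [MvPolynomial.coeff_map, ← mem_nilradical, ← mem_nilradical, ← h, Ideal.mem_comap]

attribute [local instance] MvPolynomial.algebraMvPolynomial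

theorem isOpenMap_comap_map (A B : Type u) [CommRing A] [CommRing B] [Algebra A B]
    [Algebra.FiniteType A B] [Algebra.QuasiFinite A B]
    (hB : (nilradical B).IsPrime) (hAB : (nilradical B).comap (algebraMap A B) = nilradical A)
    (hG : ∀ (p : Ideal A) [p.IsPrime], GeomUnibranchSmooth.PGU (Localization.AtPrime p))
    (σ : Type u) [Finite σ] :
    IsOpenMap (PrimeSpectrum.comap (MvPolynomial.map (σ := σ) (algebraMap A B))) := by
  have hft : Algebra.FiniteType (MvPolynomial σ A) (MvPolynomial σ B) := by
    have := RingHom.finiteType_isStableUnderBaseChange A B (MvPolynomial σ A) (MvPolynomial σ B)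
      (RingHom.finiteType_algebraMap.mpr inferInstance)
    exact RingHom.finiteType_algebraMap.mp this
  have hqf : Algebra.QuasiFinite (MvPolynomial σ A) (MvPolynomial σ B) := by
    have := RingHom.QuasiFinite.isStableUnderBaseChange A B (MvPolynomial σ A) (MvPolynomial σ B)
      (RingHom.quasiFinite_algebraMap.mpr inferInstance)
    exact RingHom.quasiFinite_algebraMap.mp this
  have hB' := nilradical_mvPolynomial_isPrime σ B hB
  have hAB' : (nilradical (MvPolynomial σ B)).comap
      (algebraMap (MvPolynomial σ A) (MvPolynomial σ B)) = nilradical (MvPolynomial σ A) :=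
    comap_nilradical_mvPolynomial σ (algebraMap A B) hAB
  have hsm : Algebra.Smooth A (MvPolynomial σ A) := ⟨inferInstance, inferInstance⟩
  intro W hW
  rw [isOpen_iff_mem_nhds]
  rintro _ ⟨q, hq, rfl⟩
  have hU : CAlg2.IsUnibranch (Localization.AtPrime
      (q.asIdeal.comap (algebraMap (MvPolynomial σ A) (MvPolynomial σ B)))) := by
    have h1 := (GeomUnibranchSmooth.pgu_iff_smooth A (MvPolynomial σ A)
      (q.asIdeal.comap (algebraMap (MvPolynomial σ A) (MvPolynomial σ B)))).mp (hG _)
    obtain ⟨_, h2⟩ := h1
    exact h2.1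
  exact UnibranchOpenGeneral.isOpenAt_comap_of_quasiFiniteAt (MvPolynomial σ A)
    (MvPolynomial σ B) hB' hAB' q hU W (hW.mem_nhds hq)

theorem universallyOpen_SpecMap (A B : Type u) [CommRing A] [CommRing B] [Algebra A B]
    [Algebra.FiniteType A B] [Algebra.QuasiFinite A B]
    (hB : (nilradical B).IsPrime) (hAB : (nilradical B).comap (algebraMap A B) = nilradical A)
    (hG : ∀ (p : Ideal A) [p.IsPrime], GeomUnibranchSmooth.PGU (Localization.AtPrime p)) :
    UniversallyOpen (Spec.map (CommRingCat.ofHom (algebraMap A B))) := by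
  rw [Groth.Agent.S1373.result]
  intro n
  rw [AffineSpace.map_SpecMap]
  have h := isOpenMap_comap_map A B hB hAB hG (ULift.{u} (Fin n))
  have h1 : IsOpenMap ⇑(Spec.map (CommRingCat.ofHom
      (MvPolynomial.map (σ := ULift.{u} (Fin n)) (algebraMap A B)))) := h
  rw [Scheme.Hom.comp_base, Scheme.Hom.comp_base, TopCat.coe_comp, TopCat.coe_comp]
  exact ((AffineSpace.SpecIso (ULift.{u} (Fin n)) (CommRingCat.of A)).inv.homeomorph.isOpenMap.comp
    h1).comp (AffineSpace.SpecIso (ULift.{u} (Fin n)) (CommRingCat.of B)).hom.homeomorph.isOpenMap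

/-- a square with universally open right vertical map transports universal openness at a point -/
theorem isUnivOpenAt_of_square {U' P' U P : Scheme.{u}} (h : U' ⟶ U) (g' : U' ⟶ P') (g : U ⟶ P)
    (k : P' ⟶ P) [UniversallyOpen k] (hsq : h ≫ g = g' ≫ k) (w' : U')
    (H : EGA43.IsUnivOpenAt g' w') : EGA43.IsUnivOpenAt g (h w') := by
  have h1 : EGA43.IsUnivOpenAt (g' ≫ k) w' :=
    Groth.Agent.S4925.result g' k w' H (UnivOpenAtChart.isUnivOpenAt_of_universallyOpen k _)
  rw [← hsq] at h1
  exact Groth.Agent.S4926.result h g w' h1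

open AlgebraicGeometry.AffineSpace in
set_option backward.isDefEq.respectTransparency false in
theorem isUnivOpenAt_of_chart {U S : Scheme.{u}}
    (hS : ∀ s : S, CAlg2.IsGeomUnibranch (S.presheaf.stalk s)) (n : Type u) [Finite n]
    (g : U ⟶ 𝔸(n; S)) [LocallyOfFiniteType g] [LocallyQuasiFinite g] [IrreducibleSpace U]
    (hgen : ∀ ξ : U, (∀ t : U, t ⤳ ξ → t = ξ) → ∀ t : 𝔸(n; S), t ⤳ g ξ → t = g ξ)
    (w : U) {V : S.Opens} (hV : IsAffineOpen V) (hVirr : IsPreirreducible (V : Set S))
    (hwV : (𝔸(n; S) ↘ S) (g w) ∈ V) :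
    EGA43.IsUnivOpenAt g w := by
  -- the chart of affine space
  let A : CommRingCat.{u} := Γ(S, V)
  let j : Spec A ⟶ S := hV.fromSpec
  let k : Spec (.of (MvPolynomial n A)) ⟶ 𝔸(n; S) := (SpecIso n A).inv ≫ map n j
  haveI : IsOpenImmersion (map n j) :=
    MorphismProperty.of_isPullback (P := @IsOpenImmersion) (isPullback_map (n := n) j).flip
      inferInstance
  haveI : IsOpenImmersion k := inferInstance
  -- g w is in range k
  have hgw : g w ∈ Set.range k := by
    obtain ⟨y, hy⟩ : (𝔸(n; S) ↘ S) (g w) ∈ Set.range j := by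
      rw [hV.range_fromSpec]; exact hwV
    obtain ⟨z, hz1, -⟩ := Scheme.exists_preimage_of_isPullback (isPullback_map (n := n) j)
      (g w) y hy.symm
    refine ⟨(SpecIso n A).hom z, ?_⟩
    show ((SpecIso n A).inv ≫ map n j) ((SpecIso n A).hom z) = g w
    rw [← Scheme.Hom.comp_apply, Iso.hom_inv_id_assoc]
    exact hz1
  -- an affine open neighbourhood of w mapping into the chart
  obtain ⟨_, ⟨U', hU', rfl⟩, hwU', hU'k⟩ :=
    U.isBasis_affineOpens.exists_subset_of_mem_open
      (show w ∈ ((g ⁻¹ᵁ k.opensRange : U.Opens) : Set U) from hgw) (g ⁻¹ᵁ k.opensRange).isOpen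
  let B : CommRingCat.{u} := Γ(U, U')
  let h : Spec B ⟶ U := hU'.fromSpec
  have hrange : Set.range (h ≫ g) ⊆ Set.range k := by
    rintro _ ⟨b, rfl⟩
    have hb : h b ∈ (U' : Set U) := by
      have : h b ∈ Set.range h := ⟨b, rfl⟩
      rwa [hU'.range_fromSpec] at this
    rw [Scheme.Hom.comp_apply]
    exact hU'k hb
  let g' : Spec B ⟶ Spec (.of (MvPolynomial n A)) := IsOpenImmersion.lift k (h ≫ g) hrange
  have hfac : g' ≫ k = h ≫ g := IsOpenImmersion.lift_fac k (h ≫ g) hrange
  obtain ⟨φ, hφ⟩ := Spec.map_surjective g'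
  -- finiteness properties of g'
  haveI : LocallyOfFiniteType g' := by
    haveI : LocallyOfFiniteType (g' ≫ k) := by rw [hfac]; infer_instance
    exact locallyOfFiniteType_of_comp g' k
  haveI : LocallyQuasiFinite g' := by
    haveI : LocallyQuasiFinite (g' ≫ k) := by rw [hfac]; infer_instance
    exact LocallyQuasiFinite.of_comp g' k
  have hft : φ.hom.FiniteType := by
    rw [← HasRingHomProperty.Spec_iff (P := @LocallyOfFiniteType), hφ]; infer_instance
  have hqf : φ.hom.QuasiFinite := by
    rw [← HasRingHomProperty.Spec_iff (P := @LocallyQuasiFinite), hφ]; infer_instance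
  letI : Algebra (MvPolynomial n A) B := φ.hom.toAlgebra
  haveI : Algebra.FiniteType (MvPolynomial n A) B := hft
  haveI : Algebra.QuasiFinite (MvPolynomial n A) B := hqf
  -- nilradical of B is prime
  have hB : (nilradical B).IsPrime := by
    rw [← PrimeSpectrum.irreducibleSpace_iff_isPrime_nilradical]
    exact UnibranchOpenScheme.irreducibleSpace_of_isAffineOpen hU' w hwU'
  -- nilradical of A is prime
  have hA : (nilradical A).IsPrime := by
    rw [← PrimeSpectrum.irreducibleSpace_iff_isPrime_nilradical]
    have h2 := hVirr.preimage j.isOpenEmbedding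
    have h3 : j.base ⁻¹' (V : Set S) = Set.univ := by
      rw [Set.eq_univ_iff_forall]
      intro z
      have : j z ∈ Set.range j := ⟨z, rfl⟩
      rwa [hV.range_fromSpec] at this
    rw [h3] at h2
    obtain ⟨y, hy⟩ : (𝔸(n; S) ↘ S) (g w) ∈ Set.range j := by
      rw [hV.range_fromSpec]; exact hwV
    exact { isPreirreducible_univ := h2, toNonempty := ⟨y⟩ }
  have hA' : (nilradical (MvPolynomial n A)).IsPrime := nilradical_mvPolynomial_isPrime n A hA
  -- the generic point of Spec B goes to a maximal point
  have hAB : (nilradical B).comap (algebraMap (MvPolynomial n A) B) =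
      nilradical (MvPolynomial n A) := by
    haveI := hB
    haveI : ((nilradical B).comap (algebraMap (MvPolynomial n A) B)).IsPrime :=
      Ideal.comap_isPrime _ _
    let ηB : Spec B := ⟨nilradical B, hB⟩
    let t₀ : Spec (.of (MvPolynomial n A)) :=
      ⟨(nilradical B).comap (algebraMap (MvPolynomial n A) B), inferInstance⟩
    let t : Spec (.of (MvPolynomial n A)) := ⟨nilradical (MvPolynomial n A), hA'⟩
    have hle : nilradical (MvPolynomial n A) ≤
        (nilradical B).comap (algebraMap (MvPolynomial n A) B) := nilradical_le_prime _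
    have hsp : t ⤳ t₀ := (PrimeSpectrum.le_iff_specializes t t₀).mp hle
    have hg't₀ : g' ηB = t₀ := by
      rw [← hφ]; rfl
    -- h ηB is a maximal point of U
    have hmax : ∀ s : U, s ⤳ h ηB → s = h ηB := by
      intro s hs
      have hsU' : s ∈ Set.range h := by
        rw [hU'.range_fromSpec]
        have : h ηB ∈ (U' : Set U) := by
          have : h ηB ∈ Set.range h := ⟨ηB, rfl⟩
          rwa [hU'.range_fromSpec] at this
        exact hs.mem_open U'.isOpen this
      obtain ⟨s', rfl⟩ := hsU'
      have hs' : s' ⤳ ηB := h.isOpenEmbedding.isInducing.specializes_iff.mp hs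
      have h1 : s'.asIdeal ≤ nilradical B := (PrimeSpectrum.le_iff_specializes s' ηB).mpr hs'
      have h2 : nilradical B ≤ s'.asIdeal := nilradical_le_prime _
      have : s' = ηB := PrimeSpectrum.ext (le_antisymm h1 h2)
      rw [this]
    have h2 : k t₀ = g (h ηB) := by
      rw [← hg't₀, ← Scheme.Hom.comp_apply, hfac, Scheme.Hom.comp_apply]
    have hkt : k t ⤳ g (h ηB) := by
      have h1 := hsp.map k.continuous
      rwa [h2] at h1
    have h3 : k t = g (h ηB) := hgen (h ηB) hmax (k t) hkt
    have h4 : k t = k t₀ := h3.trans h2.symm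
    have h5 : t = t₀ := k.isOpenEmbedding.injective h4
    exact (congrArg PrimeSpectrum.asIdeal h5).symm
  -- geometric unibranchness of the localizations of the polynomial ring
  have hG : ∀ (p : Ideal (MvPolynomial n A)) [p.IsPrime],
      GeomUnibranchSmooth.PGU (Localization.AtPrime p) := by
    intro p _
    have hsm : Algebra.Smooth A (MvPolynomial n A) := ⟨inferInstance, inferInstance⟩
    refine (GeomUnibranchSmooth.pgu_iff_smooth A (MvPolynomial n A) p).mp ?_
    exact ⟨inferInstance, NormScheme.isGeomUnibranch_localization_of_stalk S hS hV _⟩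
  have huo := universallyOpen_SpecMap (MvPolynomial n A) B hB hAB hG
  have huo' : UniversallyOpen g' := by
    rw [← hφ]
    exact huo
  obtain ⟨w', hw'⟩ : w ∈ Set.range h := by rw [hU'.range_fromSpec]; exact hwU'
  have := isUnivOpenAt_of_square h g' g k hfac.symm w'
    (UnivOpenAtChart.isUnivOpenAt_of_universallyOpen g' w')
  rwa [hw'] at this

/-- In a scheme with geometrically unibranch local rings and finitely many irreducible
components, every point has an irreducible affine open neighbourhood. -/
theorem exists_irreducible_affine_nhd {S : Scheme.{u}}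
    (hS : ∀ s : S, CAlg2.IsGeomUnibranch (S.presheaf.stalk s))
    (hfin : (irreducibleComponents (S : Type u)).Finite) (s : S) :
    ∃ V : S.Opens, IsAffineOpen V ∧ s ∈ V ∧ IsPreirreducible (V : Set S) := by
  set Z₀ : Set S := irreducibleComponent s with hZ₀
  have hZ₀mem : Z₀ ∈ irreducibleComponents (S : Type u) :=
    irreducibleComponent_mem_irreducibleComponents s
  let T : Set S := ⋃ Z ∈ (irreducibleComponents (S : Type u) \ {Z₀}), Z
  have hTclosed : IsClosed T := by
    apply Set.Finite.isClosed_biUnion (hfin.subset Set.sdiff_subset)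
    intro Z hZ
    exact isClosed_of_mem_irreducibleComponents Z hZ.1
  -- generic points of components through `s` coincide
  have hs_notin : s ∉ T := by
    intro hsT
    simp only [T, Set.mem_iUnion] at hsT
    obtain ⟨Z, ⟨hZ, hZne⟩, hsZ⟩ := hsT
    apply hZne
    have hZcl : IsClosed Z := isClosed_of_mem_irreducibleComponents Z hZ
    have hZ₀cl : IsClosed Z₀ := isClosed_of_mem_irreducibleComponents Z₀ hZ₀mem
    have hZirr : IsIrreducible Z := hZ.1
    have hZ₀irr : IsIrreducible Z₀ := hZ₀mem.1
    have hη := hZirr.isGenericPoint_genericPoint_closure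
    have hη₀ := hZ₀irr.isGenericPoint_genericPoint_closure
    rw [hZcl.closure_eq] at hη
    rw [hZ₀cl.closure_eq] at hη₀
    have hmaxη : ∀ t : S, t ⤳ hZirr.genericPoint → t = hZirr.genericPoint := by
      intro t ht
      exact UnivOpenAtChart.eq_of_mem_genericPoints
        (show hZirr.genericPoint ∈ genericPoints S by
          show closure {hZirr.genericPoint} ∈ irreducibleComponents S
          rw [hη.def]; exact hZ) ht
    have hmaxη₀ : ∀ t : S, t ⤳ hZ₀irr.genericPoint → t = hZ₀irr.genericPoint := by
      intro t ht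
      exact UnivOpenAtChart.eq_of_mem_genericPoints
        (show hZ₀irr.genericPoint ∈ genericPoints S by
          show closure {hZ₀irr.genericPoint} ∈ irreducibleComponents S
          rw [hη₀.def]; exact hZ₀mem) ht
    have h1 : hZirr.genericPoint ⤳ s := by
      rw [specializes_iff_mem_closure, hη.def]; exact hsZ
    have h2 : hZ₀irr.genericPoint ⤳ s := by
      rw [specializes_iff_mem_closure, hη₀.def]; exact mem_irreducibleComponent
    have heq := ChevalleyPointwise.eq_of_maximal_of_isGeomUnibranch s (hS s) _ _ h1 h2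
      hmaxη hmaxη₀
    show Z = Z₀
    rw [← hη.def, ← hη₀.def, heq]
  have hTc_sub : Tᶜ ⊆ Z₀ := by
    intro y hy
    by_contra hyZ₀
    apply hy
    simp only [T, Set.mem_iUnion]
    refine ⟨irreducibleComponent y, ⟨irreducibleComponent_mem_irreducibleComponents y, ?_⟩,
      mem_irreducibleComponent⟩
    intro h
    apply hyZ₀
    have : irreducibleComponent y = Z₀ := h
    rw [← this]
    exact mem_irreducibleComponent
  obtain ⟨_, ⟨V, hV, rfl⟩, hsV, hVT⟩ :=
    S.isBasis_affineOpens.exists_subset_of_mem_open (show s ∈ Tᶜ from hs_notin)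
      hTclosed.isOpen_compl
  refine ⟨V, hV, hsV, ?_⟩
  exact hZ₀mem.1.isPreirreducible.open_subset V.isOpen (hVT.trans hTc_sub)

end Groth.Agent.Lib.Helper22.ChevalleyNN
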