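import Groth.Agent.Lib.Helper73.DimFormula.ClosedSubscheme
import Groth.Agent.Lib.Helper41.QCClosure

/-!
# Curve selection (helper22, Stacks "curve selection" lemma in More on Morphisms)

* `height_maximalIdeal_le_one`: a Noetherian local domain all of whose nonzero primes contain a
  fixed nonzero element has dimension `≤ 1` (Krull's principal ideal theorem + prime avoidance).
* `exists_prime_dim_one`: a nonempty open subset of the spectrum of a Noetherian local ring
  contains a prime `p` such that the only prime strictly above `p` is the maximal ideal.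
* `exists_closed_subscheme_quasiFiniteAt` (= S9779): for `f : X ⟶ S` l.f.t. over a locally
  Noetherian base, `x` closed in its fibre and in the closure of an open `U` missing the fibre,
  there is a closed subscheme `Z ∋ x`, quasi-finite over `S` at `x`, containing a point of `U`
  that specializes to `x`.
-/

set_option autoImplicit false
set_option linter.style.haveILetI false
open CategoryTheory AlgebraicGeometry TopologicalSpace IsLocalRing
universe u

namespace Groth.Agent.Lib.Helper22.CurveSel

open Groth.Agent.Lib.Helper73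

/-- In a Noetherian local domain all of whose nonzero primes contain a fixed nonzero element,
the maximal ideal has height at most one. -/
theorem height_maximalIdeal_le_one {D : Type*} [CommRing D] [IsDomain D] [IsNoetherianRing D]
    [IsLocalRing D] (j : D) (hj : j ≠ 0)
    (hall : ∀ Q : Ideal D, Q.IsPrime → Q ≠ ⊥ → j ∈ Q) :
    (maximalIdeal D).height ≤ 1 := by
  classical
  by_cases hm : maximalIdeal D = ⊥
  · rw [hm, Ideal.height_bot]; exact zero_le_one
  have hjm : Ideal.span {j} ≤ maximalIdeal D := by
    rw [Ideal.span_singleton_le_iff_mem]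
    exact hall (maximalIdeal D) inferInstance hm
  set S := (Ideal.span {j}).minimalPrimes with hS
  have hfin : S.Finite := Ideal.finite_minimalPrimes_of_isNoetherianRing D _
  have hmem : ∀ P : Ideal D, P ∈ hfin.toFinset ↔ P ∈ S := fun P => hfin.mem_toFinset
  have hcover : ((maximalIdeal D : Ideal D) : Set D) ⊆
      ⋃ P ∈ (hfin.toFinset : Set (Ideal D)), (P : Set D) := by
    intro a ha
    simp only [Set.mem_iUnion]
    by_cases ha0 : a = 0
    · obtain ⟨P', hP', -⟩ := Ideal.exists_minimalPrimes_le hjm
      refine ⟨P', ?_, ?_⟩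
      · exact (hmem P').mpr hP'
      · rw [ha0]; exact P'.zero_mem
    have ha' : Ideal.span {a} ≤ maximalIdeal D := by
      rw [Ideal.span_singleton_le_iff_mem]; exact ha
    obtain ⟨P, hP, hPle⟩ := Ideal.exists_minimalPrimes_le ha'
    have hPprime : P.IsPrime := hP.1.1
    have hht : P.height ≤ 1 :=
      Ideal.height_le_one_of_isPrincipal_of_mem_minimalPrimes (Ideal.span {a}) P hP
    have haP : a ∈ P := hP.1.2 (Ideal.mem_span_singleton_self a)
    have hPne : P ≠ ⊥ := by
      intro h; rw [h] at haP; exact ha0 (by simpa using haP)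
    have hjP : j ∈ P := hall P hPprime hPne
    have hPS : P ∈ S := by
      refine ⟨⟨hPprime, ?_⟩, ?_⟩
      · rw [Ideal.span_singleton_le_iff_mem]; exact hjP
      · rintro P' ⟨hP'prime, hjP'⟩ hP'P
        by_contra hnot
        have hlt : P' < P := lt_of_le_of_ne hP'P (fun h => hnot (h ▸ le_rfl))
        have h1 := Ideal.height_add_one_le_of_lt_of_isPrime hlt
        have h2 : P'.height = 0 := by
          have h5 : P'.height + 1 ≤ 1 := h1.trans hht
          exact (ENat.add_one_le_iff (by
            intro htop; rw [htop] at h5; simp at h5)).mp h5 |> fun h => by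
              simpa using h
        rw [Ideal.height_eq_zero_iff_eq_bot] at h2
        rw [h2, Ideal.span_singleton_le_iff_mem] at hjP'
        exact hj (by simpa using hjP')
    exact ⟨P, (hmem P).mpr hPS, haP⟩
  rw [Ideal.subset_union_prime (R := D) (s := hfin.toFinset) (f := fun P => P)
    (maximalIdeal D) (maximalIdeal D)] at hcover
  · obtain ⟨P, hP, hle⟩ := hcover
    have hPS : P ∈ S := (hmem P).mp hP
    have hht : P.height ≤ 1 :=
      Ideal.height_le_one_of_isPrincipal_of_mem_minimalPrimes (Ideal.span {j}) P hPS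
    exact (Ideal.height_mono hle).trans hht
  · intro P hP _ _
    exact ((hmem P).mp hP).1.1

/-- **Curve selection in a Noetherian local ring**: a nonempty open subset of the spectrum
contains a prime `p` such that the only prime strictly containing `p` is the maximal ideal
(so `dim A/p ≤ 1`). -/
theorem exists_prime_dim_one {A : Type*} [CommRing A] [IsNoetherianRing A] [IsLocalRing A]
    (U : Set (PrimeSpectrum A)) (hU : IsOpen U) (hne : U.Nonempty) :
    ∃ p ∈ U, ∀ q : PrimeSpectrum A, p < q → q = closedPoint A := by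
  classical
  -- a maximal element of `U`
  let T : Set (Ideal A) := {I | ∃ p ∈ U, p.asIdeal = I}
  have hT : T.Nonempty := by
    obtain ⟨p, hp⟩ := hne
    exact ⟨p.asIdeal, p, hp, rfl⟩
  obtain ⟨I, ⟨p, hpU, rfl⟩, hmax⟩ :=
    WellFounded.has_min (wellFounded_gt : WellFounded ((· > ·) : Ideal A → Ideal A → Prop)) T hT
  refine ⟨p, hpU, fun q hpq => ?_⟩
  by_contra hq
  have hmaxU : ∀ r : PrimeSpectrum A, p < r → r ∉ U := by
    intro r hr hrU
    exact hmax r.asIdeal ⟨r, hrU, rfl⟩ hr
  obtain ⟨J, hJ⟩ := (PrimeSpectrum.isClosed_iff_zeroLocus_ideal _).mp hU.isClosed_compl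
  have hpJ : ¬ (J : Set A) ⊆ p.asIdeal := by
    intro h
    have : p ∈ Uᶜ := by rw [hJ]; exact (PrimeSpectrum.mem_zeroLocus _ _).mpr h
    exact this hpU
  obtain ⟨j, hjJ, hjp⟩ := Set.not_subset.mp hpJ
  have hrJ : ∀ r : PrimeSpectrum A, p < r → j ∈ r.asIdeal := by
    intro r hr
    have : r ∈ Uᶜ := hmaxU r hr
    rw [hJ, PrimeSpectrum.mem_zeroLocus] at this
    exact this hjJ
  -- pass to the quotient domain
  let D := A ⧸ p.asIdeal
  let π : A →+* D := Ideal.Quotient.mk p.asIdeal
  have hπ : Function.Surjective π := Ideal.Quotient.mk_surjective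
  have hker : RingHom.ker π = p.asIdeal := Ideal.mk_ker
  haveI : IsDomain D := Ideal.Quotient.isDomain p.asIdeal
  haveI : IsLocalRing D := IsLocalRing.of_surjective' π hπ
  have hjb : π j ≠ 0 := by
    intro h
    exact hjp ((Ideal.Quotient.eq_zero_iff_mem).mp h)
  have hall : ∀ Q : Ideal D, Q.IsPrime → Q ≠ ⊥ → π j ∈ Q := by
    intro Q hQ hQne
    let r : PrimeSpectrum A := ⟨Q.comap π, Ideal.comap_isPrime π Q⟩
    have hle : p.asIdeal ≤ r.asIdeal := by
      rw [← hker]; exact Ideal.ker_le_comap π
    have hne' : p.asIdeal ≠ r.asIdeal := by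
      intro h
      apply hQne
      have h1 : (Q.comap π).map π = Q := Ideal.map_comap_of_surjective π hπ Q
      rw [← h1]
      change (r.asIdeal).map π = ⊥
      rw [← h]
      exact Ideal.map_quotient_self p.asIdeal
    have hlt : p < r := lt_of_le_of_ne hle (fun h => hne' (congrArg PrimeSpectrum.asIdeal h))
    exact hrJ r hlt
  have hht := height_maximalIdeal_le_one (π j) hjb hall
  -- the image of `q`
  have hpq' : p.asIdeal ≤ q.asIdeal := hpq.le
  haveI hqb : (q.asIdeal.map π).IsPrime :=
    Ideal.map_isPrime_of_surjective hπ (by rw [hker]; exact hpq')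
  have hcm : (q.asIdeal.map π).comap π = q.asIdeal := by
    rw [Ideal.comap_map_of_surjective π hπ, ← RingHom.ker_eq_comap_bot, hker]
    exact sup_eq_left.mpr hpq'
  have hqlt : q.asIdeal.map π < maximalIdeal D := by
    refine lt_of_le_of_ne (le_maximalIdeal hqb.ne_top) (fun h => hq ?_)
    apply PrimeSpectrum.ext
    change q.asIdeal = maximalIdeal A
    rw [← hcm, h]
    haveI : ((maximalIdeal D).comap π).IsMaximal := Ideal.comap_isMaximal_of_surjective π hπ
    exact IsLocalRing.eq_maximalIdeal inferInstance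
  have h1 := Ideal.height_add_one_le_of_lt_of_isPrime hqlt
  have h2 : (q.asIdeal.map π).height = 0 := by
    have h5 : (q.asIdeal.map π).height + 1 ≤ 1 := h1.trans hht
    exact (ENat.add_one_le_iff (by
      intro htop; rw [htop] at h5; simp at h5)).mp h5 |> fun h => by
        simpa using h
  rw [Ideal.height_eq_zero_iff_eq_bot] at h2
  rw [h2] at hcm
  have : q.asIdeal = p.asIdeal := by
    rw [← hcm, ← RingHom.ker_eq_comap_bot, hker]
  exact absurd (PrimeSpectrum.ext this) hpq.ne'

/-- A point closed in its (set-theoretic) fibre has algebraic residue field extension. -/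
theorem resTrdegNat_eq_zero_of_isClosed_fibre {X S : Scheme.{u}} (f : X ⟶ S)
    [LocallyOfFiniteType f] (x : X)
    (hcl : IsClosed (Subtype.val ⁻¹' {x} : Set ↑(f ⁻¹' {f x}))) : resTrdegNat f x = 0 := by
  unfold resTrdegNat
  rw [resTrdeg_eq_natCast f x, Cardinal.toNat_natCast]
  apply trdegNat_eq_zero_of_isClosed
  have : ({f.asFiber x} : Set (f.fiber (f x))) =
      (f.fiberHomeo (f x)) ⁻¹' (Subtype.val ⁻¹' {x}) := by
    ext z
    simp only [Set.mem_singleton_iff, Set.mem_preimage]
    rw [Scheme.Hom.fiberHomeo_apply]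
    constructor
    · rintro rfl
      exact f.fiberι_asFiber x
    · intro hz
      apply (f.fiberι (f x)).isEmbedding.injective
      rw [f.fiberι_asFiber x, hz]
  rw [this]
  exact hcl.preimage (f.fiberHomeo (f x)).continuous

/-- Curve selection for points: in a locally Noetherian scheme, if `x` is in the closure of an
open set `U` then some point `z ∈ U` specializes to `x` with no point strictly between. -/
theorem exists_specializes_immediate {X : Scheme.{u}} [IsLocallyNoetherian X] (x : X)
    (U : X.Opens) (hxU : x ∈ closure (U : Set X)) :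
    ∃ z : X, z ∈ U ∧ z ⤳ x ∧ ∀ t : X, z ⤳ t → t ⤳ x → t = z ∨ t = x := by
  have hcl : x ∈ closure (Set.range U.ι.base) := by
    rw [Scheme.Opens.range_ι]; exact hxU
  obtain ⟨u, hu⟩ := Groth.Agent.Lib.Helper41.exists_specializes_of_mem_closure_range U.ι x hcl
  have huU : U.ι.base u ∈ U := u.2
  let A := X.presheaf.stalk x
  let φ := X.fromSpecStalk x
  let U' : Set (PrimeSpectrum A) := φ.base ⁻¹' (U : Set X)
  have hU' : IsOpen U' := U.isOpen.preimage φ.continuous
  have hne : U'.Nonempty := by
    have : U.ι.base u ∈ Set.range φ.base := by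
      rw [Scheme.range_fromSpecStalk]; exact hu
    obtain ⟨P, hP⟩ := this
    exact ⟨P, by change φ.base P ∈ (U : Set X); rw [hP]; exact huU⟩
  obtain ⟨p, hpU, hp⟩ := exists_prime_dim_one U' hU' hne
  have hrange : ∀ t : X, t ⤳ x → ∃ P : PrimeSpectrum A, φ.base P = t := by
    intro t ht
    have : t ∈ Set.range φ.base := by rw [Scheme.range_fromSpecStalk]; exact ht
    exact this
  refine ⟨φ.base p, hpU, ?_, fun t htz htx => ?_⟩
  · have : φ.base p ∈ Set.range φ.base := ⟨p, rfl⟩
    rw [Scheme.range_fromSpecStalk] at this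
    exact this
  · obtain ⟨q, rfl⟩ := hrange t htx
    have hpq : p ⤳ q := φ.isEmbedding.isInducing.specializes_iff.mp htz
    have hle : p ≤ q := (PrimeSpectrum.le_iff_specializes p q).mpr hpq
    rcases hle.lt_or_eq with h | h
    · right
      rw [hp q h]
      exact Scheme.fromSpecStalk_closedPoint
    · left; rw [h]

/-- Curve selection (= S9779). -/
theorem exists_closed_subscheme_quasiFiniteAt {X S : Scheme.{u}} (f : X ⟶ S)
    [LocallyOfFiniteType f] [IsLocallyNoetherian S] (x : X)
    (hcl : IsClosed (Subtype.val ⁻¹' {x} : Set ↑(f ⁻¹' {f x}))) (U : X.Opens)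
    (hU : ∀ x' ∈ U, f x' ≠ f x) (hxU : x ∈ closure (U : Set ↑X)) :
    ∃ (I : X.IdealSheafData) (z₀ x₀ : ↑I.subscheme), I.subschemeι x₀ = x ∧
      (I.subschemeι ≫ f).QuasiFiniteAt x₀ ∧
      I.subschemeι z₀ ∈ U ∧ I.subschemeι z₀ ⤳ x ∧ f (I.subschemeι z₀) ≠ f x := by
  haveI : IsLocallyNoetherian X := LocallyOfFiniteType.isLocallyNoetherian f
  obtain ⟨z, hzU, hzx, himm⟩ := exists_specializes_immediate x U hxU
  let I := Scheme.IdealSheafData.vanishingIdeal ⟨closure {z}, isClosed_closure⟩
  let i : I.subscheme ⟶ X := I.subschemeι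
  have hrange : Set.range i = closure {z} := by
    rw [Scheme.IdealSheafData.range_subschemeι]
    exact Scheme.IdealSheafData.coe_support_vanishingIdeal _
  obtain ⟨z₀, hz₀⟩ : z ∈ Set.range i := by rw [hrange]; exact subset_closure rfl
  obtain ⟨x₀, hx₀⟩ : x ∈ Set.range i := by
    rw [hrange]; exact specializes_iff_mem_closure.mp hzx
  refine ⟨I, z₀, x₀, hx₀, ?_, ?_, ?_, ?_⟩
  · rw [quasiFiniteAt_iff_fibreDimAt_le_zero, fibreDimAt_eq,
      ringKrullDim_fiber_stalk_eq_krullDim_of_range_eq_closure i z hrange f x₀,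
      resTrdegNat_comp_of_isPreimmersion]
    change _ + ((resTrdegNat f (i x₀) : ℕ) : WithBot ℕ∞) ≤ 0
    rw [hx₀, resTrdegNat_eq_zero_of_isClosed_fibre f x hcl]
    simp only [Nat.cast_zero, add_zero]
    haveI : Subsingleton ↥{t : X | z ⤳ t ∧ t ⤳ x ∧ f t = f x} := by
      constructor
      rintro ⟨t, ht1, ht2, ht3⟩ ⟨t', ht1', ht2', ht3'⟩
      have h1 : t = x := by
        rcases himm t ht1 ht2 with h | h
        · exact absurd ht3 (h ▸ hU z hzU)
        · exact h
      have h2 : t' = x := by
        rcases himm t' ht1' ht2' with h | h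
        · exact absurd ht3' (h ▸ hU z hzU)
        · exact h
      exact Subtype.ext (h1.trans h2.symm)
    exact Order.krullDim_nonpos_of_subsingleton
  · change i z₀ ∈ U
    rw [hz₀]; exact hzU
  · change i z₀ ⤳ x
    rw [hz₀]; exact hzx
  · change f (i z₀) ≠ f x
    rw [hz₀]; exact hU z hzU

end Groth.Agent.Lib.Helper22.CurveSel
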