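import Groth.Agent.Lib.Helper22.CurveSel

/-!
# Ring-level curve selection (helper22; Stacks More on Morphisms, quasi-finite curve selection)

* `isMaximal_comap_maximalIdeal`: contraction of `m_D` to a subalgebra is maximal when the residue
  field extension is finite.
* `quasiFinite_of_two_primes`: a local domain with only two primes, essentially of finite type
  over a Noetherian local ring with finite residue extension and generic point not over `m_A`, is
  quasi-finite (via Mathlib's ring-level Zariski main theorem).
* `exists_prime_quasiFinite` (= S1394).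
-/

set_option autoImplicit false
set_option linter.style.haveILetI false
open IsLocalRing
universe u

namespace Groth.Agent.Lib.Helper22.CurveSelAlg

open Groth.Agent.Lib.Helper73 Groth.Agent.Lib.Helper22.CurveSel

/-- For a local homomorphism `A → D` of local rings with `A` Noetherian and finite residue field
extension, the contraction of `m_D` to any `A`-subalgebra is a maximal ideal. -/
theorem isMaximal_comap_maximalIdeal {A D : Type u} [CommRing A] [CommRing D] [IsLocalRing A]
    [IsNoetherianRing A] [Algebra A D] [IsLocalRing D] [IsLocalHom (algebraMap A D)]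
    [Module.Finite (ResidueField A) (ResidueField D)] (C : Subalgebra A D) :
    ((maximalIdeal D).comap (algebraMap C D)).IsMaximal := by
  set n := (maximalIdeal D).comap (algebraMap C D) with hn
  haveI : n.IsPrime := Ideal.comap_isPrime _ _
  haveI : Module.Finite A (ResidueField D) := Module.Finite.trans (ResidueField A) _
  haveI : Algebra.IsIntegral A (ResidueField D) := Algebra.IsIntegral.of_finite A _
  let φ : C →ₐ[A] ResidueField D := (IsScalarTower.toAlgHom A D (ResidueField D)).comp C.val
  have hφ : ∀ c ∈ n, φ c = 0 := by
    intro c hc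
    exact (residue_eq_zero_iff _).mpr hc
  let ψ : (C ⧸ n) →ₐ[A] ResidueField D := Ideal.Quotient.liftₐ n φ hφ
  have hψ : Function.Injective ψ := by
    rw [injective_iff_map_eq_zero]
    intro x hx
    obtain ⟨c, rfl⟩ := Ideal.Quotient.mk_surjective x
    rw [Ideal.Quotient.eq_zero_iff_mem]
    have : φ c = 0 := hx
    exact (residue_eq_zero_iff _).mp this
  haveI : Algebra.IsIntegral A (C ⧸ n) := Algebra.IsIntegral.of_injective ψ hψ
  have hbot : ((⊥ : Ideal (C ⧸ n)).comap (algebraMap A (C ⧸ n))).IsMaximal := by
    have : (⊥ : Ideal (C ⧸ n)).comap (algebraMap A (C ⧸ n)) = maximalIdeal A := by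
      ext a
      simp only [Ideal.mem_comap, Ideal.mem_bot]
      rw [IsScalarTower.algebraMap_apply A C (C ⧸ n), Ideal.Quotient.algebraMap_eq,
        Ideal.Quotient.eq_zero_iff_mem]
      change algebraMap C D (algebraMap A C a) ∈ maximalIdeal D ↔ _
      rw [← IsScalarTower.algebraMap_apply A C D]
      constructor
      · intro h
        by_contra hna
        have hu : IsUnit a := by
          by_contra hnu
          exact hna ((mem_maximalIdeal a).mpr hnu)
        exact (mem_maximalIdeal _).mp h (hu.map (algebraMap A D))
      · intro h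
        rw [mem_maximalIdeal] at h ⊢
        intro hu
        exact h (isUnit_of_map_unit (algebraMap A D) a hu)
    rw [this]; infer_instance
  haveI hdom : IsDomain (C ⧸ n) := Ideal.Quotient.isDomain n
  haveI : Nontrivial (C ⧸ n) := hdom.toNontrivial
  haveI : NoZeroDivisors (C ⧸ n) := hdom.to_noZeroDivisors
  haveI : (⊥ : Ideal (C ⧸ n)).IsPrime := Ideal.isPrime_bot
  have := Ideal.isMaximal_of_isIntegral_of_isMaximal_comap (R := A) (⊥ : Ideal (C ⧸ n)) hbot
  exact (Ideal.bot_quotient_isMaximal_iff n).mp this

/-- A local domain `D` with only the primes `0` and `m_D`, essentially of finite type over a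
Noetherian local ring `A` (local homomorphism, finite residue field extension) and such that
`0` does not lie over `m_A`, is quasi-finite over `A`. -/
theorem quasiFinite_of_two_primes {A D : Type u} [CommRing A] [CommRing D] [IsLocalRing A]
    [IsNoetherianRing A] [Algebra A D] [IsDomain D] [IsLocalRing D] [IsLocalHom (algebraMap A D)]
    [Algebra.EssFiniteType A D] [Module.Finite (ResidueField A) (ResidueField D)]
    (h1 : ∀ P : Ideal D, P.IsPrime → P = ⊥ ∨ P = maximalIdeal D)
    (h2 : (⊥ : Ideal D).comap (algebraMap A D) ≠ maximalIdeal A) :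
    Algebra.QuasiFinite A D := by
  let C := Algebra.EssFiniteType.subalgebra A D
  let M := Algebra.EssFiniteType.submonoid A D
  haveI : IsLocalization M D := Algebra.EssFiniteType.isLocalization A D
  set n := (maximalIdeal D).comap (algebraMap C D) with hn
  haveI hnmax : n.IsMaximal := isMaximal_comap_maximalIdeal C
  haveI : n.IsPrime := hnmax.isPrime
  have hM : M = n.primeCompl := by
    ext c
    change IsUnit (algebraMap C D c) ↔ c ∉ n
    rw [hn, Ideal.mem_comap, mem_maximalIdeal, mem_nonunits_iff, not_not]
  haveI : IsLocalization.AtPrime D n := by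
    change IsLocalization n.primeCompl D
    rw [← hM]; infer_instance
  -- the fibre
  haveI : IsNoetherianRing C := Algebra.FiniteType.isNoetherianRing A C
  let q : PrimeSpectrum C := ⟨n, inferInstance⟩
  let p : PrimeSpectrum A := q.comap (algebraMap A C)
  let W := ↥(PrimeSpectrum.comap (algebraMap A C) ⁻¹' {p})
  haveI : QuasiSober W :=
    (PrimeSpectrum.preimageHomeomorphFiber A C p).isClosedEmbedding.quasiSober
  have hp : p.asIdeal = maximalIdeal A := by
    change (n.comap (algebraMap A C)) = maximalIdeal A
    rw [hn, Ideal.comap_comap, ← IsScalarTower.algebraMap_eq]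
    exact ((local_hom_TFAE (algebraMap A D)).out 0 4 rfl rfl).mp inferInstance
  have hopen : IsOpen (X := W) {⟨q, rfl⟩} := by
    refine isOpen_singleton_of_isClosed_of_maximal (W := W) ⟨q, rfl⟩ ?_ ?_ Set.univ isOpen_univ
      (Set.mem_univ _)
    · have : ({⟨q, rfl⟩} : Set W) = Subtype.val ⁻¹' ({q} : Set (PrimeSpectrum C)) := by
        ext t
        simp only [Set.mem_singleton_iff, Set.mem_preimage]
        exact ⟨fun h => congrArg Subtype.val h, fun h => Subtype.ext h⟩
      rw [this]
      exact ((PrimeSpectrum.isClosed_singleton_iff_isMaximal q).mpr hnmax).preimage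
        continuous_subtype_val
    · rintro ⟨t, ht⟩ hts
      have hts' : t ⤳ q := subtype_specializes_iff _ _ |>.mp hts
      have hle : t.asIdeal ≤ n := (PrimeSpectrum.le_iff_specializes t q).mpr hts'
      apply Subtype.ext
      change t = q
      -- the prime of `D` corresponding to `t`
      have hdisj : Disjoint (n.primeCompl : Set C) t.asIdeal := by
        rw [Set.disjoint_left]
        intro c hc hct
        exact hc (hle hct)
      have hprime : (t.asIdeal.map (algebraMap C D)).IsPrime :=
        IsLocalization.isPrime_of_isPrime_disjoint n.primeCompl D _ t.isPrime hdisj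
      have hcomap : (t.asIdeal.map (algebraMap C D)).comap (algebraMap C D) = t.asIdeal :=
        IsLocalization.under_map_of_isPrime_disjoint n.primeCompl D t.isPrime hdisj
      rcases h1 _ hprime with h | h
      · exfalso
        rw [h] at hcomap
        apply h2
        have ht' : t.asIdeal.comap (algebraMap A C) = p.asIdeal :=
          congrArg PrimeSpectrum.asIdeal ht
        rw [← hp, ← ht', ← hcomap, Ideal.comap_comap, ← IsScalarTower.algebraMap_eq]
      · apply PrimeSpectrum.ext
        change t.asIdeal = n
        rw [← hcomap, h]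
  haveI : Algebra.QuasiFiniteAt A q.asIdeal := Algebra.QuasiFiniteAt.of_isOpen_singleton_fiber q hopen
  have hQF : Algebra.QuasiFinite A (Localization.AtPrime n) := ‹Algebra.QuasiFiniteAt A q.asIdeal›
  let e : Localization.AtPrime n ≃ₐ[A] D :=
    (IsLocalization.algEquiv n.primeCompl (Localization.AtPrime n) D).restrictScalars A
  exact (Algebra.QuasiFinite.iff_of_algEquiv e).mp hQF

/-- Ring-level curve selection (= S1394). -/
theorem exists_prime_quasiFinite {A B : Type u} [CommRing A] [CommRing B] [IsLocalRing A]
    [IsLocalRing B] [IsNoetherianRing A]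
    [Algebra A B] [IsLocalHom (algebraMap A B)] [Algebra.EssFiniteType A B]
    [Module.Finite (IsLocalRing.ResidueField A) (IsLocalRing.ResidueField B)]
    (V : Set (PrimeSpectrum B)) (hV : IsOpen V)
    (hne : ∃ q ∈ V, q.asIdeal.comap (algebraMap A B) ≠ IsLocalRing.maximalIdeal A) :
    ∃ q ∈ V, q.asIdeal.comap (algebraMap A B) ≠ IsLocalRing.maximalIdeal A ∧
      Algebra.QuasiFinite A (B ⧸ q.asIdeal) := by
  haveI : IsNoetherianRing B := Algebra.EssFiniteType.isNoetherianRing A B
  have hcrit : ∀ q : PrimeSpectrum B, q.asIdeal.comap (algebraMap A B) = maximalIdeal A ↔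
      q ∈ PrimeSpectrum.zeroLocus (((maximalIdeal A).map (algebraMap A B) : Ideal B) : Set B) := by
    intro q
    rw [PrimeSpectrum.mem_zeroLocus, SetLike.coe_subset_coe, Ideal.map_le_iff_le_comap]
    constructor
    · intro h; rw [h]
    · intro h
      haveI : (q.asIdeal.comap (algebraMap A B)).IsPrime := Ideal.comap_isPrime _ _
      exact ((maximalIdeal.isMaximal A).eq_of_le (Ideal.IsPrime.ne_top inferInstance) h).symm
  let U : Set (PrimeSpectrum B) :=
    V ∩ (PrimeSpectrum.zeroLocus (((maximalIdeal A).map (algebraMap A B) : Ideal B) : Set B))ᶜ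
  have hU : IsOpen U := hV.inter (PrimeSpectrum.isClosed_zeroLocus _).isOpen_compl
  have hUne : U.Nonempty := by
    obtain ⟨q, hqV, hq⟩ := hne
    exact ⟨q, hqV, fun h => hq ((hcrit q).mpr h)⟩
  obtain ⟨q, ⟨hqV, hqU⟩, hq⟩ := exists_prime_dim_one U hU hUne
  have hqne : q.asIdeal.comap (algebraMap A B) ≠ maximalIdeal A := fun h => hqU ((hcrit q).mp h)
  refine ⟨q, hqV, hqne, ?_⟩
  -- the quotient
  let D := B ⧸ q.asIdeal
  let π : B →+* D := Ideal.Quotient.mk q.asIdeal
  have hπ : Function.Surjective π := Ideal.Quotient.mk_surjective
  haveI : IsDomain D := Ideal.Quotient.isDomain q.asIdeal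
  haveI : IsLocalRing D := IsLocalRing.of_surjective' π hπ
  haveI hπloc : IsLocalHom (algebraMap B D) := IsLocalHom.of_surjective π hπ
  haveI : IsLocalHom (algebraMap A D) := by
    rw [IsScalarTower.algebraMap_eq A B D]
    exact RingHom.isLocalHom_comp _ _
  haveI : Module.Finite (ResidueField B) (ResidueField D) :=
    Module.Finite.of_surjective (Algebra.linearMap (ResidueField B) (ResidueField D)) (by
      intro x
      obtain ⟨d, rfl⟩ := residue_surjective x
      obtain ⟨b, rfl⟩ := hπ d
      exact ⟨residue B b, rfl⟩)
  haveI : Module.Finite (ResidueField A) (ResidueField D) :=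
    Module.Finite.trans (ResidueField B) _
  have hker : RingHom.ker π = q.asIdeal := Ideal.mk_ker
  refine quasiFinite_of_two_primes (A := A) (D := D) ?_ ?_
  · intro P hP
    let r : PrimeSpectrum B := ⟨P.comap π, Ideal.comap_isPrime π P⟩
    have hle : q ≤ r := by
      change q.asIdeal ≤ P.comap π
      exact hker.symm.le.trans (Ideal.ker_le_comap π)
    have hPr : P = r.asIdeal.map π := (Ideal.map_comap_of_surjective π hπ P).symm
    rcases hle.lt_or_eq with hlt | heq
    · right
      rw [hPr, hq r hlt]
      exact map_maximalIdeal_of_surjective π hπ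
    · left
      rw [hPr, ← heq]
      exact Ideal.map_quotient_self q.asIdeal
  · intro h
    apply hqne
    rw [← h, IsScalarTower.algebraMap_eq A B D, ← Ideal.comap_comap]
    congr 1
    rw [← RingHom.ker_eq_comap_bot]
    exact hker.symm

end Groth.Agent.Lib.Helper22.CurveSelAlg
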