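import Groth.Agent.Lib.Helper22.CurveSel
import Groth.Agent.Lib.Helper73.DimFormula.GenericLocus

set_option autoImplicit false
open CategoryTheory AlgebraicGeometry TopologicalSpace
universe u

namespace Groth.Agent.Lib.Helper22.CurveThrough

open Groth.Agent.Lib.Helper73

/-- In a Noetherian quasi-sober space, a closed set all of whose points are closed is finite. -/
theorem finite_of_isClosed_of_forall_isClosed {α : Type*} [TopologicalSpace α] [NoetherianSpace α]
    [QuasiSober α] (S : Set α) (hS : IsClosed S) (hpt : ∀ x ∈ S, IsClosed ({x} : Set α)) :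
    S.Finite := by
  obtain ⟨T, hTf, hTc, hTi, hT⟩ := NoetherianSpace.exists_finite_set_isClosed_irreducible hS
  rw [hT]
  refine Set.Finite.sUnion hTf fun t ht => ?_
  obtain ⟨x, hx⟩ := QuasiSober.sober (hTi t ht) (hTc t ht)
  have hxt : x ∈ t := hx.mem
  have hxS : x ∈ S := by rw [hT]; exact ⟨t, ht, hxt⟩
  have : t = {x} := by
    rw [← hx.def, (hpt x hxS).closure_eq]
  rw [this]
  exact Set.finite_singleton x

/-- For a dimension function, points of value zero are closed. -/
theorem isClosed_of_eq_zero {X : Type*} [TopologicalSpace X] {δ : X → ℕ} (h : IsDimFun δ)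
    (x : X) (hx : δ x = 0) : IsClosed ({x} : Set X) := by
  rw [← closure_subset_iff_isClosed]
  intro y hy
  have hxy : x ⤳ y := specializes_iff_mem_closure.mpr hy
  by_contra hne
  have := h.lt_of_specializes hxy (fun e => hne (e ▸ rfl))
  omega

set_option backward.isDefEq.respectTransparency false in
/-- Curve through a closed point of a flat closed family, finite over a given curve in the
base. -/
theorem exists_curve_through {k : Type u} [Field k] {Y Z : Scheme.{u}}
    (g : Z ⟶ Spec (CommRingCat.of k)) (f : Y ⟶ Z) [LocallyOfFiniteType g] [LocallyOfFiniteType f]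
    [Flat f] [CompactSpace Y] (hfc : IsClosedMap f)
    (B : Set Z) (hBc : IsClosed B) (hBi : IsIrreducible B) (hBd : topologicalKrullDim ↥B = 1)
    (p : Z) (hp : p ∈ B) (hpc : IsClosed ({p} : Set Z))
    (q : Y) (hqc : IsClosed ({q} : Set Y)) (hq : f q = p) :
    ∃ B' : Set Y, IsClosed B' ∧ IsIrreducible B' ∧ q ∈ B' ∧ f '' B' = B ∧
      ∀ z : Z, (B' ∩ f ⁻¹' {z}).Finite := by
  haveI : LocallyOfFiniteType (f ≫ g) := inferInstance
  have hδZ := isDimFun_trdegNat g
  have hδY := isDimFun_trdegNat (f ≫ g)
  haveI : IsLocallyNoetherian Y := LocallyOfFiniteType.isLocallyNoetherian (f ≫ g)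
  haveI : IsNoetherian Y := {}
  -- additivity
  have hadd : ∀ y : Y, trdegNat (f ≫ g) y = trdegNat g (f y) + resTrdegNat f y :=
    fun y => trdegNat_eq_add (f ≫ g) g f rfl y
  -- the generic point of `B`
  obtain ⟨ηB, hηB⟩ := QuasiSober.sober hBi hBc
  have hηB1 : trdegNat g ηB = 1 := by
    have := hδZ.topologicalKrullDim_closure_singleton ηB
    rw [hηB.def, hBd] at this
    exact_mod_cast this.symm
  have hp0 : trdegNat g p = 0 := trdegNat_eq_zero_of_isClosed g hpc
  have hq0 : trdegNat (f ≫ g) q = 0 := trdegNat_eq_zero_of_isClosed (f ≫ g) hqc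
  have hηp : ηB ≠ p := by
    intro e; rw [e, hp0] at hηB1; omega
  have hηBp : ηB ⤳ p := hηB.specializes hp
  -- lift the generic point by going down
  have hηfq : ηB ⤳ f q := by rw [hq]; exact hηBp
  obtain ⟨w, hwq, hfw⟩ := (Flat.generalizingMap f) hηfq
  -- the closed subscheme `f ⁻¹ B`
  have hfB : IsClosed (f ⁻¹' B) := hBc.preimage f.continuous
  let I := Scheme.IdealSheafData.vanishingIdeal ⟨f ⁻¹' B, hfB⟩
  let i : I.subscheme ⟶ Y := I.subschemeι
  have hrange : Set.range i = f ⁻¹' B := by
    rw [Scheme.IdealSheafData.range_subschemeι]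
    exact Scheme.IdealSheafData.coe_support_vanishingIdeal _
  obtain ⟨q', hq'⟩ : q ∈ Set.range i := by
    rw [hrange]; change f q ∈ B; rw [hq]; exact hp
  obtain ⟨w', hw'⟩ : w ∈ Set.range i := by
    rw [hrange]; change f w ∈ B; rw [hfw]; exact hηB.mem
  haveI : LocallyOfFiniteType (i ≫ f ≫ g) := inferInstance
  haveI : IsLocallyNoetherian I.subscheme := LocallyOfFiniteType.isLocallyNoetherian (i ≫ f ≫ g)
  let U' : I.subscheme.Opens := (i ≫ f) ⁻¹ᵁ ⟨{p}ᶜ, hpc.isOpen_compl⟩
  have hw'U : w' ∈ U' := by
    change (i ≫ f) w' ∈ ({p}ᶜ : Set Z)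
    rw [Scheme.Hom.comp_apply, hw', hfw]
    exact hηp
  have hw'q' : w' ⤳ q' := by
    apply i.isEmbedding.isInducing.specializes_iff.mp
    rw [hw', hq']; exact hwq
  have hq'cl : q' ∈ closure (U' : Set I.subscheme) :=
    closure_mono (Set.singleton_subset_iff.mpr hw'U) (specializes_iff_mem_closure.mp hw'q')
  obtain ⟨z', hz'U, hz'q', himm⟩ := CurveSel.exists_specializes_immediate q' U' hq'cl
  have hδW := isDimFun_trdegNat (i ≫ f ≫ g)
  have hWY : ∀ t : I.subscheme, trdegNat (i ≫ f ≫ g) t = trdegNat (f ≫ g) (i t) := by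
    intro t
    rw [trdegNat_eq_resTrdegNat, trdegNat_eq_resTrdegNat, resTrdegNat_comp_of_isPreimmersion]
  have hfz'p : f (i z') ≠ p := by
    have : (i ≫ f) z' ∈ ({p}ᶜ : Set Z) := hz'U
    rwa [Scheme.Hom.comp_apply] at this
  have hz'ne : z' ≠ q' := by
    intro e; apply hfz'p; rw [e, hq', hq]
  have hz'1 : trdegNat (i ≫ f ≫ g) z' = 1 := by
    have := hδW.eq_add_one_of_immediate hz'q' hz'ne (fun t h1 h2 => himm t h1 h2)
    rw [this, hWY q', hq', hq0]
  set z : Y := i z' with hz
  have hz1 : trdegNat (f ≫ g) z = 1 := by rw [← hWY z', hz'1]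
  have hzq : z ⤳ q := by
    rw [← hq']; exact hz'q'.map i.continuous
  have hfzB : f z ∈ B := by
    have : z ∈ Set.range i := ⟨z', rfl⟩
    rw [hrange] at this; exact this
  have hηfz : ηB ⤳ f z := hηB.specializes hfzB
  have hfzp : f z ⤳ p := by rw [← hq]; exact hzq.map f.continuous
  have hfz : f z = ηB := by
    by_contra hne
    have h1 := hδZ.lt_of_specializes hηfz (fun e => hne e.symm)
    have h2 := hδZ.lt_of_specializes hfzp hfz'p
    omega
  refine ⟨closure {z}, isClosed_closure, isIrreducible_singleton.closure,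
    specializes_iff_mem_closure.mp hzq, ?_, ?_⟩
  · rw [← hfc.closure_image_eq_of_continuous f.continuous, Set.image_singleton, hfz]
    exact hηB.def
  · intro z0
    by_cases hz0 : z0 = ηB
    · refine (Set.finite_singleton z).subset ?_
      rintro t ⟨ht1, ht2⟩
      have hzt : z ⤳ t := specializes_iff_mem_closure.mpr ht1
      have hft : f t = ηB := by rw [← hz0]; exact ht2
      by_contra hne
      have h1 := hδY.lt_of_specializes hzt (fun e => hne e.symm)
      have h2 := hadd t
      rw [hft, hηB1] at h2
      omega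
    · by_cases hne : (closure {z} ∩ f ⁻¹' {z0}).Nonempty
      · obtain ⟨t0, ht01, ht02⟩ := hne
        have hz0B : z0 ∈ B := by
          have : f t0 ∈ f '' closure {z} := ⟨t0, ht01, rfl⟩
          rw [← hfc.closure_image_eq_of_continuous f.continuous, Set.image_singleton, hfz,
            hηB.def] at this
          rw [← ht02]; exact this
        have hz00 : trdegNat g z0 = 0 := by
          have := hδZ.lt_of_specializes (hηB.specializes hz0B) (fun e => hz0 e.symm)
          omega
        have hz0c : IsClosed ({z0} : Set Z) := isClosed_of_eq_zero hδZ z0 hz00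
        apply finite_of_isClosed_of_forall_isClosed
        · exact isClosed_closure.inter (hz0c.preimage f.continuous)
        · rintro t ⟨ht1, ht2⟩
          have hzt : z ⤳ t := specializes_iff_mem_closure.mpr ht1
          have htz : z ≠ t := by
            intro e
            apply hz0
            rw [← hfz, e]; exact ht2.symm
          have := hδY.lt_of_specializes hzt htz
          exact isClosed_of_eq_zero hδY t (by omega)
      · rw [Set.not_nonempty_iff_eq_empty] at hne
        rw [hne]; exact Set.finite_empty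

end Groth.Agent.Lib.Helper22.CurveThrough
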