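import Mathlib
import Groth.Agent.Lib.Helper55.GR.Scheme
import Groth.Agent.Lib.Helper72.FibDimIrr
import Groth.Agent.Lib.Helper72.ActRestrict
import Groth.Agent.Lib.Helper73.DimFormula.FibreDimSemi

set_option autoImplicit false
set_option linter.style.haveILetI false
universe u

open AlgebraicGeometry CategoryTheory TopologicalSpace

namespace Groth.Agent.Lib.Helper22.GenStr

variable {X Y : Scheme.{u}} (f : X ⟶ Y)

/-- A reduced model `g : X' ⟶ Y'` of `f : X ⟶ Y`, with the same underlying continuous map. -/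
theorem exists_reduced_model [LocallyOfFiniteType f] [QuasiCompact f] :
    ∃ (X' Y' : Scheme.{u}) (i : X' ⟶ X) (j : Y' ⟶ Y) (g : X' ⟶ Y'),
      IsClosedImmersion i ∧ IsClosedImmersion j ∧ Function.Surjective i ∧ Function.Surjective j ∧
      IsReduced Y' ∧ g ≫ j = i ≫ f ∧ LocallyOfFiniteType g ∧ QuasiCompact g := by
  obtain ⟨Y', j, hj, hYred, hjr, -⟩ :=
    Groth.Agent.Lib.Helper72.GrpComp.exists_reduced_closedSubscheme (Set.univ : Set Y) isClosed_univ
  obtain ⟨X', i, hi, hXred, hir, -⟩ :=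
    Groth.Agent.Lib.Helper72.GrpComp.exists_reduced_closedSubscheme (Set.univ : Set X) isClosed_univ
  obtain ⟨g, hg⟩ := Groth.Agent.Lib.Helper72.ActRestrict.exists_lift_of_isClosedImmersion j (i ≫ f)
    (by rw [hjr]; exact Set.subset_univ _)
  have hlft : LocallyOfFiniteType (g ≫ j) := by rw [hg]; infer_instance
  have hqc : QuasiCompact (g ≫ j) := by rw [hg]; infer_instance
  refine ⟨X', Y', i, j, g, hi, hj, Set.range_eq_univ.1 hir, Set.range_eq_univ.1 hjr, hYred, hg,
    locallyOfFiniteType_of_comp g j, QuasiCompact.of_comp g j⟩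


/-- **Generic structure** of a finite type morphism over an irreducible base: there is an open
neighbourhood `V` of the generic point such that every point over `V` has a generization in the
generic fibre, and such that `Set.range f ∩ V` is open. -/
theorem exists_open_generic [LocallyOfFiniteType f] [QuasiCompact f] [IrreducibleSpace Y] :
    ∃ V : Y.Opens, genericPoint Y ∈ V ∧
      (∀ x : X, f x ∈ V → ∃ x' : X, x' ⤳ x ∧ f x' = genericPoint Y) ∧
      IsOpen (Set.range f ∩ (V : Set Y)) := by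
  obtain ⟨X', Y', i, j, g, hi, hj, hisurj, hjsurj, hYred, hg, hlft, hqc⟩ := exists_reduced_model f
  obtain ⟨U, hUd, hUflat, hUlfp⟩ := Groth.Agent.Lib.Helper55.GR.generic_flatness_reduced g
  have hjinj : Function.Injective j := j.isClosedEmbedding.injective
  have hjbij : Function.Bijective j := ⟨hjinj, hjsurj⟩
  have hjopen : ∀ W : Set Y', IsOpen W → IsOpen (j '' W) := by
    intro W hW
    rw [← isClosed_compl_iff, ← Set.image_compl_eq hjbij]
    exact j.isClosedEmbedding.isClosedMap _ hW.isClosed_compl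
  haveI : IrreducibleSpace Y' :=
    Groth.Agent.Lib.Helper72.GrpComp.irreducibleSpace_of_range j (by
      rw [Set.range_eq_univ.2 hjsurj]; exact IrreducibleSpace.isIrreducible_univ _)
  have hgen : j (genericPoint Y') = genericPoint Y := by
    have h1 : IsGenericPoint (j (genericPoint Y')) (Set.univ : Set Y) := by
      have := (genericPoint_spec Y').image j.continuous
      rwa [Set.image_univ, Set.range_eq_univ.2 hjsurj, closure_univ] at this
    exact h1.eq (genericPoint_spec Y)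
  have hηU : genericPoint Y' ∈ U := by
    obtain ⟨y, hy⟩ := hUd.nonempty
    exact (genericPoint_specializes y).mem_open U.isOpen hy
  have hcomm : ∀ x' : X', j (g x') = f (i x') := by
    intro x'
    rw [← Scheme.Hom.comp_apply, hg, Scheme.Hom.comp_apply]
  have hres : ∀ a : (g ⁻¹ᵁ U).toScheme, U.ι ((g ∣_ U) a) = g ((g ⁻¹ᵁ U).ι a) := by
    intro a
    rw [← Scheme.Hom.comp_apply, morphismRestrict_ι, Scheme.Hom.comp_apply]
  refine ⟨⟨j '' (U : Set Y'), hjopen _ U.isOpen⟩, ⟨_, hηU, hgen⟩, ?_, ?_⟩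
  · intro x hx
    obtain ⟨x₀, rfl⟩ := hisurj x
    obtain ⟨u, hu, hux⟩ := hx
    rw [← hcomm] at hux
    have hgx : g x₀ ∈ U := by rw [← hjinj hux]; exact hu
    -- use the generalizing property of the flat morphism `g ∣_ U`
    have hG : GeneralizingMap (g ∣_ U) := Flat.generalizingMap (g ∣_ U)
    let a : (g ⁻¹ᵁ U).toScheme := ⟨x₀, hgx⟩
    let b : U.toScheme := ⟨genericPoint Y', hηU⟩
    have hb : b ⤳ (g ∣_ U) a := by
      rw [← U.ι.isOpenEmbedding.isInducing.specializes_iff]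
      exact genericPoint_specializes _
    obtain ⟨a', ha', hab⟩ := hG hb
    refine ⟨i ((g ⁻¹ᵁ U).ι a'), ?_, ?_⟩
    · have h1 : (g ⁻¹ᵁ U).ι a' ⤳ (g ⁻¹ᵁ U).ι a := ha'.map (g ⁻¹ᵁ U).ι.continuous
      exact h1.map i.continuous
    · rw [← hcomm, ← hgen]
      congr 1
      have h2 : U.ι ((g ∣_ U) a') = U.ι b := by rw [hab]
      rw [hres] at h2
      exact h2
  · have hopen : IsOpenMap (g ∣_ U) := (g ∣_ U).isOpenMap
    have h1 : IsOpen (U.ι '' Set.range (g ∣_ U)) :=
      U.ι.isOpenEmbedding.isOpenMap _ hopen.isOpen_range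
    have h2 : Set.range f ∩ (j '' (U : Set Y')) = j '' (U.ι '' Set.range (g ∣_ U)) := by
      ext y
      constructor
      · rintro ⟨⟨x, rfl⟩, u, hu, hux⟩
        obtain ⟨x₀, rfl⟩ := hisurj x
        rw [← hcomm] at hux
        have hgx : g x₀ ∈ U := by rw [← hjinj hux]; exact hu
        let a : (g ⁻¹ᵁ U).toScheme := ⟨x₀, hgx⟩
        exact ⟨g x₀, ⟨(g ∣_ U) a, ⟨_, rfl⟩, hres a⟩, hcomm x₀⟩
      · rintro ⟨_, ⟨_, ⟨a, rfl⟩, rfl⟩, rfl⟩
        rw [hres]
        exact ⟨⟨i ((g ⁻¹ᵁ U).ι a), (hcomm _).symm⟩, g ((g ⁻¹ᵁ U).ι a), a.2, rfl⟩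
    change IsOpen (Set.range f ∩ (j '' (U : Set Y')))
    rw [h2]
    exact hjopen _ h1


open Groth.Agent.Lib.Helper73 Groth.Agent.Lib.Helper72.FibDim Groth.Agent.Lib.Helper72.FibDimIrr

/-- A closed subset missing the generic fibre misses all fibres over a neighbourhood of the
generic point. -/
theorem exists_open_disjoint_of_isClosed [LocallyOfFiniteType f] [QuasiCompact f]
    [IrreducibleSpace Y] (Z : Set X) (hZ : IsClosed Z) (h : ∀ z ∈ Z, f z ≠ genericPoint Y) :
    ∃ V : Y.Opens, genericPoint Y ∈ V ∧ ∀ z ∈ Z, f z ∉ V := by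
  obtain ⟨Z', j, hj, -, hjr, -⟩ :=
    Groth.Agent.Lib.Helper72.GrpComp.exists_reduced_closedSubscheme Z hZ
  obtain ⟨V, hηV, hV, -⟩ := exists_open_generic (j ≫ f)
  refine ⟨V, hηV, fun z hz hfz => ?_⟩
  rw [← hjr] at hz
  obtain ⟨z', rfl⟩ := hz
  obtain ⟨t, -, ht⟩ := hV z' (by simpa using hfz)
  exact h (j t) (by rw [← hjr]; exact ⟨t, rfl⟩) (by simpa using ht)

/-- Upper bound: if on a closed subset `Z` all points of the generic fibre have residual
transcendence degree `< d`, the same holds over a neighbourhood of the generic point. -/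
theorem exists_open_forall_resTrdegNat_lt [LocallyOfFiniteType f] [QuasiCompact f]
    [IrreducibleSpace Y] (Z : Set X) (hZ : IsClosed Z) (d : ℕ)
    (h : ∀ z ∈ Z, f z = genericPoint Y → resTrdegNat f z < d) :
    ∃ V : Y.Opens, genericPoint Y ∈ V ∧ ∀ z ∈ Z, f z ∈ V → resTrdegNat f z < d := by
  obtain _ | e := d
  · obtain ⟨V, hηV, hV⟩ := exists_open_disjoint_of_isClosed f Z hZ
      (fun z hz hfz => absurd (h z hz hfz) (Nat.not_lt_zero _))
    exact ⟨V, hηV, fun z hz hfz => absurd hfz (hV z hz)⟩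
  obtain ⟨Z', j, hj, -, hjr, -⟩ :=
    Groth.Agent.Lib.Helper72.GrpComp.exists_reduced_closedSubscheme Z hZ
  have hopen := isOpen_fibreDimAt_le e Z' Y (j ≫ f)
  set W : Set Z' := {z | FlatMor.fibreDimAt (j ≫ f) z ≤ ((e : ℕ) : WithBot ℕ∞)}ᶜ with hW
  have hWc : IsClosed (j '' W) := j.isClosedEmbedding.isClosedMap _ hopen.isClosed_compl
  have hres : ∀ z' : Z', resTrdegNat (j ≫ f) z' = resTrdegNat f (j z') :=
    fun z' => resTrdegNat_comp_of_isPreimmersion j f z'
  obtain ⟨V, hηV, hV⟩ := exists_open_disjoint_of_isClosed f (j '' W) hWc (by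
    rintro _ ⟨z', hz', rfl⟩ hfz
    apply hz'
    rw [Set.mem_ofPred_eq]
    refine fibreDimAt_le_of_forall_generization (j ≫ f) z' e fun t _ htf => ?_
    rw [hres]
    have h1 : f (j t) = genericPoint Y := by
      have : (j ≫ f) t = (j ≫ f) z' := htf
      rw [Scheme.Hom.comp_apply, Scheme.Hom.comp_apply, hfz] at this
      exact this
    have := h (j t) (by rw [← hjr]; exact ⟨t, rfl⟩) h1
    omega)
  refine ⟨V, hηV, fun z hz hfz => ?_⟩
  rw [← hjr] at hz
  obtain ⟨z', rfl⟩ := hz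
  have hz'W : z' ∉ W := fun hc => hV _ ⟨z', hc, rfl⟩ hfz
  rw [hW, Set.notMem_compl_iff, Set.mem_ofPred_eq] at hz'W
  have h1 := (resTrdegNat_le_fibreDimAt (j ≫ f) z').trans hz'W
  rw [hres] at h1
  have h2 : resTrdegNat f (j z') ≤ e := by exact_mod_cast h1
  omega

/-- Lower bound: if `ξ` lies over the generic point, then over a neighbourhood of the generic point
every fibre contains a specialization of `ξ` of residual transcendence degree at least that
of `ξ`. -/
theorem exists_open_forall_exists_le_resTrdegNat [LocallyOfFiniteType f] [QuasiCompact f]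
    [IrreducibleSpace Y] (ξ : X) (hξ : f ξ = genericPoint Y) :
    ∃ V : Y.Opens, genericPoint Y ∈ V ∧ ∀ y ∈ V, ∃ t : X, ξ ⤳ t ∧ f t = y ∧
      resTrdegNat f ξ ≤ resTrdegNat f t := by
  obtain ⟨Z, j, hj, hirr, hr, hgen⟩ := exists_closedSubscheme_closure ξ
  obtain ⟨V, hηV, -, hVo⟩ := exists_open_generic (j ≫ f)
  refine ⟨⟨_, hVo⟩, ⟨⟨genericPoint Z, by simp [hgen, hξ]⟩, hηV⟩, ?_⟩
  rintro y ⟨⟨z₀, rfl⟩, -⟩
  obtain ⟨t, -, hgt, hle⟩ := exists_generization_resTrdegNat_ge_scheme (j ≫ f) z₀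
  refine ⟨j t, ?_, by simpa using hgt, ?_⟩
  · rw [specializes_iff_mem_closure, ← hr]; exact ⟨t, rfl⟩
  · rwa [resTrdegNat_comp_of_isPreimmersion, resTrdegNat_comp_of_isPreimmersion, hgen] at hle

end Groth.Agent.Lib.Helper22.GenStr
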