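import Mathlib
import Groth.Agent.Lib.Helper22.GenStr
import Groth.Agent.Lib.Helper73.DimFormula.FieldExtScheme

set_option autoImplicit false
set_option linter.style.haveILetI false
universe u

open AlgebraicGeometry CategoryTheory TopologicalSpace

namespace Groth.Agent.Lib.Helper22.GenStr

open Groth.Agent.Lib.Helper73

variable {X Y : Scheme.{u}} (f : X ⟶ Y)

lemma map_fiberι [LocallyOfFiniteType f] (y : Y) (z : f.fiber y) : f (f.fiberι y z) = y := by
  have : f.fiberι y z ∈ Set.range (f.fiberι y) := ⟨_, rfl⟩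
  rw [f.range_fiberι y] at this
  exact this

/-- `dim X_y ≤ n` iff all points over `y` have residual transcendence degree `≤ n`. -/
lemma topologicalKrullDim_fiber_le_iff_resTrdegNat [LocallyOfFiniteType f] (y : Y) (n : ℕ) :
    topologicalKrullDim ↥(f.fiber y) ≤ (n : WithBot ℕ∞) ↔
      ∀ x : X, f x = y → resTrdegNat f x ≤ n := by
  rw [topologicalKrullDim_fiber_eq_iSup, iSup_le_iff]
  constructor
  · intro h x hx
    have := h ((f.fiberHomeo y).symm ⟨x, hx⟩)
    rw [trdegNat_fiber_eq_resTrdegNat, f.fiberι_fiberHomeo_symm y ⟨x, hx⟩] at this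
    exact_mod_cast this
  · intro h z
    rw [trdegNat_fiber_eq_resTrdegNat]
    exact_mod_cast h _ (map_fiberι f y z)

/-- `n ≤ dim X_y` as soon as some point over `y` has residual transcendence degree `≥ n`. -/
lemma le_topologicalKrullDim_fiber [LocallyOfFiniteType f] (y : Y) (n : ℕ) (x : X) (hx : f x = y)
    (hn : n ≤ resTrdegNat f x) : (n : WithBot ℕ∞) ≤ topologicalKrullDim ↥(f.fiber y) := by
  rw [topologicalKrullDim_fiber_eq_iSup]
  refine le_trans ?_ (le_iSup _ ((f.fiberHomeo y).symm ⟨x, hx⟩))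
  rw [trdegNat_fiber_eq_resTrdegNat, f.fiberι_fiberHomeo_symm y ⟨x, hx⟩]
  exact_mod_cast hn

/-- If `dim X_y = n` is a natural number, some point over `y` has residual transcendence
degree `n`. -/
lemma exists_resTrdegNat_eq_of_topologicalKrullDim_fiber_eq [LocallyOfFiniteType f] (y : Y) (n : ℕ)
    (h : topologicalKrullDim ↥(f.fiber y) = (n : WithBot ℕ∞)) :
    ∃ x : X, f x = y ∧ resTrdegNat f x = n := by
  have hle := (topologicalKrullDim_fiber_le_iff_resTrdegNat f y n).1 h.le
  by_contra hcon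
  push Not at hcon
  have hlt : ∀ x : X, f x = y → resTrdegNat f x < n :=
    fun x hx => lt_of_le_of_ne (hle x hx) (hcon x hx)
  obtain _ | m := n
  · have hemp : y ∉ Set.range f := by
      rintro ⟨x, hx⟩
      exact Nat.not_lt_zero _ (hlt x hx)
    rw [(topologicalKrullDim_fiber_eq_bot_iff f y).2 hemp] at h
    exact absurd h (by simp)
  · have h1 := (topologicalKrullDim_fiber_le_iff_resTrdegNat f y m).2
      (fun x hx => Nat.lt_succ_iff.1 (hlt x hx))
    rw [h] at h1
    have : (m + 1 : ℕ) ≤ m := by exact_mod_cast h1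
    omega

/-- **Generic fibre dimension**: if the generic fibre has dimension `n`, so do all fibres over a
neighbourhood of the generic point. -/
theorem exists_open_forall_topologicalKrullDim_fiber_eq [LocallyOfFiniteType f] [QuasiCompact f]
    [IrreducibleSpace Y] (n : ℕ)
    (h : topologicalKrullDim ↥(f.fiber (genericPoint Y)) = (n : WithBot ℕ∞)) :
    ∃ V : Y.Opens, genericPoint Y ∈ V ∧
      ∀ y ∈ V, topologicalKrullDim ↥(f.fiber y) = (n : WithBot ℕ∞) := by
  have hle := (topologicalKrullDim_fiber_le_iff_resTrdegNat f _ n).1 h.le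
  obtain ⟨V₁, hη₁, hV₁⟩ := exists_open_forall_resTrdegNat_lt f Set.univ isClosed_univ (n + 1)
    (fun z _ hz => Nat.lt_succ_iff.2 (hle z hz))
  obtain ⟨ξ, hξ, hξn⟩ := exists_resTrdegNat_eq_of_topologicalKrullDim_fiber_eq f _ n h
  obtain ⟨V₂, hη₂, hV₂⟩ := exists_open_forall_exists_le_resTrdegNat f ξ hξ
  refine ⟨V₁ ⊓ V₂, ⟨hη₁, hη₂⟩, fun y hy => le_antisymm ?_ ?_⟩
  · refine (topologicalKrullDim_fiber_le_iff_resTrdegNat f y n).2 fun x hx => ?_
    exact Nat.lt_succ_iff.1 (hV₁ x (Set.mem_univ x) (by rw [hx]; exact hy.1))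
  · obtain ⟨t, -, hty, hle'⟩ := hV₂ y hy.2
    exact le_topologicalKrullDim_fiber f y n t hty (by rw [← hξn]; exact hle')

/-- If the generic fibre is empty, so are all fibres over a neighbourhood of the generic point. -/
theorem exists_open_forall_topologicalKrullDim_fiber_eq_bot [LocallyOfFiniteType f] [QuasiCompact f]
    [IrreducibleSpace Y]
    (h : topologicalKrullDim ↥(f.fiber (genericPoint Y)) = ⊥) :
    ∃ V : Y.Opens, genericPoint Y ∈ V ∧ ∀ y ∈ V, topologicalKrullDim ↥(f.fiber y) = ⊥ := by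
  rw [topologicalKrullDim_fiber_eq_bot_iff] at h
  obtain ⟨V, hη, hV⟩ := exists_open_disjoint_of_isClosed f Set.univ isClosed_univ
    (fun z _ hz => h ⟨z, hz⟩)
  refine ⟨V, hη, fun y hy => ?_⟩
  rw [topologicalKrullDim_fiber_eq_bot_iff]
  rintro ⟨x, rfl⟩
  exact hV x (Set.mem_univ x) hy


/-- Fibres of a morphism of finite type are finite dimensional. -/
theorem exists_nat_topologicalKrullDim_fiber_le [LocallyOfFiniteType f] [QuasiCompact f] (y : Y) :
    ∃ N : ℕ, topologicalKrullDim ↥(f.fiber y) ≤ (N : WithBot ℕ∞) := by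
  haveI : CompactSpace ↥(f.fiber y) :=
    QuasiCompact.compactSpace_of_compactSpace (f.fiberToSpecResidueField y)
  let W : ℕ → Set ↥(f.fiber y) := fun n =>
    (f.fiberι y) ⁻¹' {x | FlatMor.fibreDimAt f x ≤ ((n : ℕ) : WithBot ℕ∞)}
  have hWo : ∀ n, IsOpen (W n) := fun n =>
    (isOpen_fibreDimAt_le n X Y f).preimage (f.fiberι y).continuous
  have hcov : (Set.univ : Set ↥(f.fiber y)) ⊆ ⋃ n, W n := by
    intro z _
    obtain ⟨d, hd⟩ := exists_fibreDimAt_eq_natCast f (f.fiberι y z)
    exact Set.mem_iUnion.2 ⟨d, hd.le⟩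
  obtain ⟨t, ht⟩ := isCompact_univ.elim_finite_subcover W hWo hcov
  refine ⟨t.sup id, (topologicalKrullDim_fiber_le_iff f y _).2 fun x hx => ?_⟩
  have hz := ht (Set.mem_univ ((f.fiberHomeo y).symm ⟨x, hx⟩))
  obtain ⟨n, hn⟩ := Set.mem_iUnion.1 hz
  obtain ⟨hnt, hn'⟩ := Set.mem_iUnion.1 hn
  have h1 : FlatMor.fibreDimAt f x ≤ ((n : ℕ) : WithBot ℕ∞) := by
    have := hn'
    simp only [W, Set.mem_preimage, Set.mem_ofPred_eq] at this
    rwa [f.fiberι_fiberHomeo_symm y ⟨x, hx⟩] at this
  refine h1.trans ?_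
  have : n ≤ t.sup id := Finset.le_sup (f := id) hnt
  exact_mod_cast this


lemma le_of_forall_natCast {a b : WithBot ℕ∞} (h : ∀ n : ℕ, b ≤ (n : WithBot ℕ∞) → a ≤ (n : WithBot ℕ∞))
    (h' : b = ⊥ → a = ⊥) : a ≤ b := by
  induction b using WithBot.recBotCoe with
  | bot => rw [h' rfl]
  | coe x =>
    induction x using ENat.recTopCoe with
    | top => exact le_top
    | coe n => exact h n le_rfl

lemma topologicalKrullDim_eq_bot_iff_isEmpty {T : Type*} [TopologicalSpace T] :
    topologicalKrullDim T = ⊥ ↔ IsEmpty T := by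
  rw [topologicalKrullDim, Order.krullDim_eq_bot_iff]
  constructor
  · intro h
    refine ⟨fun t => h.false ⟨closure {t}, isIrreducible_singleton.closure, isClosed_closure⟩⟩
  · intro h
    refine ⟨fun Z => ?_⟩
    obtain ⟨z, -⟩ := Z.isIrreducible'.1
    exact h.false z

/-- For a morphism to a one-point scheme, the fibre has the dimension of the source. -/
lemma topologicalKrullDim_fiber_eq_of_subsingleton {Y T : Scheme.{u}} (g : Y ⟶ T) [Subsingleton T]
    (t : T) : topologicalKrullDim ↥(g.fiber t) = topologicalKrullDim ↥Y := by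
  refine IsHomeomorph.topologicalKrullDim_eq (g.fiberι t) ?_
  rw [isHomeomorph_iff_isEmbedding_surjective]
  refine ⟨(g.fiberι t).isEmbedding, ?_⟩
  rw [← Set.range_eq_univ, g.range_fiberι t]
  exact Set.eq_univ_of_forall fun y => Subsingleton.elim _ _

/-- Invariance of the dimension under extension of the base field. -/
theorem topologicalKrullDim_eq_of_isPullback_subsingleton {Y Y' T T' : Scheme.{u}} (g : Y ⟶ T)
    (g' : Y' ⟶ T') (e : Y' ⟶ Y) (h : T' ⟶ T) [Subsingleton T] [Subsingleton T'] [Nonempty T']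
    [LocallyOfFiniteType g] (hsq : IsPullback e g' g h) :
    topologicalKrullDim ↥Y' = topologicalKrullDim ↥Y := by
  have hlft : LocallyOfFiniteType g' := MorphismProperty.of_isPullback hsq ‹_›
  have hh : Surjective h := ⟨fun t => ⟨Classical.arbitrary T', Subsingleton.elim _ _⟩⟩
  have he : Surjective e := MorphismProperty.of_isPullback hsq.flip hh
  have hfd := fibreDimAt_eq_of_isPullback g h e g' hsq
  have key : ∀ n : ℕ, topologicalKrullDim ↥Y' ≤ (n : WithBot ℕ∞) ↔
      topologicalKrullDim ↥Y ≤ (n : WithBot ℕ∞) := by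
    intro n
    constructor
    · intro h1
      obtain y0 | hne := isEmpty_or_nonempty Y
      · rw [topologicalKrullDim_eq_bot_iff_isEmpty.2 y0]; exact bot_le
      obtain ⟨y⟩ := hne
      rw [← topologicalKrullDim_fiber_eq_of_subsingleton g (g y), topologicalKrullDim_fiber_le_iff]
      intro y1 _
      obtain ⟨y1', rfl⟩ := he.surj y1
      rw [← hfd]
      rw [← topologicalKrullDim_fiber_eq_of_subsingleton g' (g' y1'),
        topologicalKrullDim_fiber_le_iff] at h1
      exact h1 y1' rfl
    · intro h1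
      obtain y0 | hne := isEmpty_or_nonempty Y'
      · rw [topologicalKrullDim_eq_bot_iff_isEmpty.2 y0]; exact bot_le
      obtain ⟨y'⟩ := hne
      rw [← topologicalKrullDim_fiber_eq_of_subsingleton g' (g' y'), topologicalKrullDim_fiber_le_iff]
      intro y1' _
      rw [hfd]
      rw [← topologicalKrullDim_fiber_eq_of_subsingleton g (g (e y1')),
        topologicalKrullDim_fiber_le_iff] at h1
      exact h1 (e y1') rfl
  have hbot : topologicalKrullDim ↥Y' = ⊥ ↔ topologicalKrullDim ↥Y = ⊥ := by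
    rw [topologicalKrullDim_eq_bot_iff_isEmpty, topologicalKrullDim_eq_bot_iff_isEmpty]
    constructor
    · intro h1
      exact ⟨fun y => by obtain ⟨y', -⟩ := he.surj y; exact h1.false y'⟩
    · intro h1
      exact ⟨fun y' => h1.false (e y')⟩
  exact le_antisymm (le_of_forall_natCast (fun n => (key n).2) hbot.2)
    (le_of_forall_natCast (fun n => (key n).1) hbot.1)

end Groth.Agent.Lib.Helper22.GenStr
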