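import Groth.Agent.Lib.Helper73.DimFormula.DimFibLoci
import Groth.Agent.Lib.Helper73.DimFormula.FiberDimBC
import Groth.Agent.Lib.Helper22.GenStrDim

/-!
# Dimension of a preimage under an immersion via fibre-dimension loci (helper22)

* `dim_add_le_iff`: shifted form of helper73's `dim_le_iff_forall_closure_add_le` when the loci
  `B_j` are closed.
* `dim_le_of_forall_irreducibleComponents`: `dim C ≤ n` if all irreducible components have dim `n`.
* `dim_preimage_add_le_iff`: for an immersion `ι : W ⟶ X`,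
  `dim π⁻¹(ι W) + c ≤ n ↔ ∀ j, dim ι⁻¹(B_j) + c + j ≤ n`.
-/

set_option autoImplicit false
set_option linter.style.haveILetI false
open CategoryTheory AlgebraicGeometry TopologicalSpace Topology Limits
universe u

namespace Groth.Agent.Lib.Helper22.DimPre

open Groth.Agent.Lib.Helper73 Groth.Agent.Lib.Helper22.GenStr

theorem add_le_iff_le_sub (a : WithBot ℕ∞) (c n : ℕ) (h : c ≤ n) :
    a + (c : WithBot ℕ∞) ≤ n ↔ a ≤ ((n - c : ℕ) : WithBot ℕ∞) := by
  obtain ⟨d, rfl⟩ : ∃ d, n = d + c := ⟨n - c, by omega⟩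
  rw [Nat.add_sub_cancel]
  induction a using WithBot.recBotCoe with
  | bot => simp
  | coe a =>
    induction a using ENat.recTopCoe with
    | top =>
      constructor
      · intro h1
        exfalso
        have h2 : ((⊤ : ℕ∞) : WithBot ℕ∞) + ((c : ℕ∞) : WithBot ℕ∞) ≤
          (((d + c : ℕ) : ℕ∞) : WithBot ℕ∞) := h1
        rw [← WithBot.coe_add, WithBot.coe_le_coe, top_add] at h2
        exact absurd h2 (by simp)
      · intro h1
        exfalso
        have h2 : ((⊤ : ℕ∞) : WithBot ℕ∞) ≤ (((d : ℕ) : ℕ∞) : WithBot ℕ∞) := h1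
        rw [WithBot.coe_le_coe] at h2
        exact absurd h2 (by simp)
    | coe m =>
      constructor
      · intro h1
        have h2 : m + c ≤ d + c := by exact_mod_cast h1
        exact_mod_cast (by omega : m ≤ d)
      · intro h1
        have h2 : m ≤ d := by exact_mod_cast h1
        exact_mod_cast (by omega : m + c ≤ d + c)

theorem add_le_iff_eq_bot (a : WithBot ℕ∞) (c n : ℕ) (h : n < c) :
    a + (c : WithBot ℕ∞) ≤ n ↔ a = ⊥ := by
  induction a using WithBot.recBotCoe with
  | bot => simp
  | coe a =>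
    induction a using ENat.recTopCoe with
    | top =>
      constructor
      · intro h1
        exfalso
        have h2 : ((⊤ : ℕ∞) : WithBot ℕ∞) + ((c : ℕ∞) : WithBot ℕ∞) ≤ ((n : ℕ∞) : WithBot ℕ∞) := h1
        rw [← WithBot.coe_add, WithBot.coe_le_coe, top_add] at h2
        exact absurd h2 (by simp)
      · intro h1
        exact absurd h1 (by simp)
    | coe m =>
      constructor
      · intro h1
        have h2 : m + c ≤ n := by exact_mod_cast h1
        omega
      · intro h1
        exact absurd h1 (by simp)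

section

variable {k : Type u} [Field k] {C W : Scheme.{u}} (q : W ⟶ Spec (CommRingCat.of k))
  (π : C ⟶ W) [LocallyOfFiniteType q] [LocallyOfFiniteType π]

include q in
theorem dim_add_le_iff [CompactSpace C] (n c : ℕ)
    (hB : ∀ j : ℕ, IsClosed {w : W | (j : WithBot ℕ∞) ≤ topologicalKrullDim (π.fiber w)}) :
    topologicalKrullDim C + (c : WithBot ℕ∞) ≤ n ↔
      ∀ j : ℕ, topologicalKrullDim {w : W | (j : WithBot ℕ∞) ≤ topologicalKrullDim (π.fiber w)} +
        (c : WithBot ℕ∞) + (j : WithBot ℕ∞) ≤ n := by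
  rcases le_or_gt c n with hcn | hcn
  · rw [add_le_iff_le_sub _ _ _ hcn, dim_le_iff_forall_closure_add_le q π (n - c)]
    refine forall_congr' fun j => ?_
    rw [(hB j).closure_eq, add_right_comm, add_le_iff_le_sub _ _ _ hcn]
  · rw [add_le_iff_eq_bot _ _ _ hcn]
    constructor
    · intro h j
      have hC : IsEmpty C := topologicalKrullDim_eq_bot_iff_isEmpty.1 h
      have hE : IsEmpty {w : W | (j : WithBot ℕ∞) ≤ topologicalKrullDim (π.fiber w)} := by
        refine ⟨fun w => ?_⟩
        have hw : (j : WithBot ℕ∞) ≤ topologicalKrullDim (π.fiber w.1) := w.2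
        have hF : IsEmpty (π.fiber w.1) := ⟨fun z => hC.false ((π.fiberι w.1) z)⟩
        rw [topologicalKrullDim_eq_bot_iff_isEmpty.2 hF] at hw
        exact absurd hw (by simp)
      rw [topologicalKrullDim_eq_bot_iff_isEmpty.2 hE]
      simp
    · intro h
      have h0 := h 0
      rw [Nat.cast_zero, add_zero, add_le_iff_eq_bot _ _ _ hcn,
        topologicalKrullDim_eq_bot_iff_isEmpty] at h0
      rw [topologicalKrullDim_eq_bot_iff_isEmpty]
      refine ⟨fun x => h0.false ⟨π x, ?_⟩⟩
      change (0 : WithBot ℕ∞) ≤ topologicalKrullDim (π.fiber (π x))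
      haveI : Nonempty (π.fiber (π x)) := ⟨π.asFiber x⟩
      exact Groth.Agent.Lib.Helper84.dim_nonneg_of_nonempty

end

section

variable {k : Type u} [Field k] {C X : Scheme.{u}} (q : X ⟶ Spec (CommRingCat.of k))
  (π : C ⟶ X) [LocallyOfFiniteType q] [LocallyOfFiniteType π]

omit [LocallyOfFiniteType q] [LocallyOfFiniteType π] in
theorem dim_le_of_forall_irreducibleComponents (p : C ⟶ Spec (CommRingCat.of k))
    [LocallyOfFiniteType p] (n : ℕ)
    (hC : ∀ P ∈ irreducibleComponents (C : Type u), topologicalKrullDim P ≤ n) :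
    topologicalKrullDim C ≤ n := by
  have hδC := isDimFun_trdegNat p
  rw [hδC.topologicalKrullDim_eq_iSup]
  refine iSup_le fun c => ?_
  have hc : c ∈ ⋃₀ irreducibleComponents (C : Type u) := by
    rw [sUnion_irreducibleComponents]; trivial
  obtain ⟨P, hP, hcP⟩ := hc
  have hPc := isClosed_of_mem_irreducibleComponents P hP
  have h1 := hC P hP
  rw [hδC.topologicalKrullDim_closed_eq_iSup hPc] at h1
  exact le_trans (le_iSup (fun t : ↥P => ((trdegNat p t.1 : ℕ∞) : WithBot ℕ∞)) ⟨c, hcP⟩) h1

include q in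
theorem dim_preimage_add_le_iff {W : Scheme.{u}} (ι : W ⟶ X) [IsImmersion ι] [CompactSpace C]
    (n c : ℕ)
    (hB : ∀ j : ℕ, IsClosed {x : X | (j : WithBot ℕ∞) ≤ topologicalKrullDim (π.fiber x)}) :
    topologicalKrullDim (π ⁻¹' Set.range ι : Set C) + (c : WithBot ℕ∞) ≤ n ↔
      ∀ j : ℕ, topologicalKrullDim
        (ι ⁻¹' {x : X | (j : WithBot ℕ∞) ≤ topologicalKrullDim (π.fiber x)} : Set W) +
          (c : WithBot ℕ∞) + (j : WithBot ℕ∞) ≤ n := by
  have hsq : IsPullback (pullback.fst π ι) (pullback.snd π ι) π ι := IsPullback.of_hasPullback π ι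
  have hfib : ∀ w : W, topologicalKrullDim ((pullback.snd π ι).fiber w) =
      topologicalKrullDim (π.fiber (ι w)) :=
    fun w => topologicalKrullDim_fiber_eq_of_isPullback π ι _ _ hsq w
  have hset : ∀ j : ℕ, (ι ⁻¹' {x : X | (j : WithBot ℕ∞) ≤ topologicalKrullDim (π.fiber x)} : Set W)
      = {w : W | (j : WithBot ℕ∞) ≤ topologicalKrullDim ((pullback.snd π ι).fiber w)} := by
    intro j
    ext w
    simp only [Set.mem_preimage, Set.mem_ofPred_eq, hfib]
  have hB' : ∀ j : ℕ, IsClosed
      {w : W | (j : WithBot ℕ∞) ≤ topologicalKrullDim ((pullback.snd π ι).fiber w)} := by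
    intro j
    rw [← hset j]
    exact (hB j).preimage ι.continuous
  have hLNC : IsLocallyNoetherian C := LocallyOfFiniteType.isLocallyNoetherian (π ≫ q)
  have hNC : IsNoetherian C := ⟨⟩
  have hemb : IsEmbedding (pullback.fst π ι) := (pullback.fst π ι).isEmbedding
  have hrange : Set.range (pullback.fst π ι) = π ⁻¹' Set.range ι :=
    Scheme.Pullback.range_fst π ι
  haveI : CompactSpace ↥(pullback π ι) := by
    rw [← isCompact_univ_iff, hemb.isCompact_iff]
    exact NoetherianSpace.isCompact _
  have hdim : topologicalKrullDim ↥(pullback π ι) =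
      topologicalKrullDim (π ⁻¹' Set.range ι : Set C) := by
    rw [← hrange]
    exact IsHomeomorph.topologicalKrullDim_eq _ hemb.toHomeomorph.isHomeomorph
  rw [← hdim, dim_add_le_iff (ι ≫ q) (pullback.snd π ι) n c hB']
  refine forall_congr' fun j => ?_
  rw [hset j]

end

end Groth.Agent.Lib.Helper22.DimPre
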