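import Groth.Agent.Lib.Helper22.Rigidity2
import Groth.Agent.Lib.Helper41.FieldPoints

/-!
# Connected components of fibres of a morphism from a group scheme (helper22)

For a group scheme `X` over a field `k`, a separated `k`-scheme `Y` and a `k`-morphism
`f : X ⟶ Y`, write `F_c` for the connected component of the rational point `c` in its fibre.
Whenever the rigidity lemma is available for the reduced closed subscheme on `F_c`, translation
by a rational point `a` maps `F_c` into `F_{a * c}`.
-/

set_option linter.style.haveILetI false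

open CategoryTheory Limits AlgebraicGeometry MonoidalCategory CartesianMonoidalCategory MonObj

namespace Groth.Agent.Lib.Helper22.FibreComp

universe u

section Abstract

variable {C : Type*} [Category C] [CartesianMonoidalCategory C]

/-- The morphism `(z, x) ↦ x * incl z` restricted to `Z × {1}` is `incl`. -/
lemma lift_comp_mulMap {Z X : C} [GrpObj X] (incl : Z ⟶ X) :
    lift (𝟙 Z) (toUnit Z ≫ η[X]) ≫ (snd Z X * (fst Z X ≫ incl)) = incl := by
  rw [comp_mul, lift_snd, lift_fst_assoc, Category.id_comp, ← Hom.one_def, _root_.one_mul]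

/-- Abstract consequence of rigidity: if `(z, x) ↦ f (x * incl z)` does not depend on `z`, then
`f (a * incl z) = f (a * c)` for every point `a`. -/
theorem translate_comp_eq {Z X W : C} [GrpObj X] (incl : Z ⟶ X) (f : X ⟶ W) (cZ : 𝟙_ C ⟶ Z)
    (a : 𝟙_ C ⟶ X)
    (hrig : (snd Z X * (fst Z X ≫ incl)) ≫ f =
      snd Z X ≫ lift (toUnit X ≫ cZ) (𝟙 X) ≫ (snd Z X * (fst Z X ≫ incl)) ≫ f) :
    incl ≫ ((toUnit X ≫ a) * 𝟙 X) ≫ f = toUnit Z ≫ (a * (cZ ≫ incl)) ≫ f := by
  have h1 : incl ≫ ((toUnit X ≫ a) * 𝟙 X) =
      lift (𝟙 Z) (toUnit Z ≫ a) ≫ (snd Z X * (fst Z X ≫ incl)) := by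
    rw [comp_mul, comp_mul, lift_snd, lift_fst_assoc, Category.id_comp, Category.comp_id,
      ← Category.assoc, toUnit_unique (incl ≫ toUnit X) (toUnit Z)]
  have h2 : a ≫ lift (toUnit X ≫ cZ) (𝟙 X) ≫ (snd Z X * (fst Z X ≫ incl)) = a * (cZ ≫ incl) := by
    rw [← Category.assoc, comp_mul, Category.assoc, lift_snd, ← Category.assoc _ (fst Z X),
      Category.assoc _ _ (fst Z X), lift_fst, Category.comp_id, ← Category.assoc a,
      toUnit_unique (a ≫ toUnit X) (𝟙 _), Category.id_comp]
  rw [← Category.assoc, h1, Category.assoc, hrig, lift_snd_assoc, Category.assoc,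
    ← Category.assoc a, ← Category.assoc (a ≫ _), Category.assoc a, h2]

/-- Translation by `x⁻¹` followed by translation by `x` is the identity. -/
lemma translate_inv_comp_translate {X : C} [GrpObj X] (x : 𝟙_ C ⟶ X) :
    ((toUnit X ≫ x⁻¹) * 𝟙 X) ≫ ((toUnit X ≫ x) * 𝟙 X) = 𝟙 X := by
  rw [comp_mul, Category.comp_id, ← Category.assoc, toUnit_unique (_ ≫ toUnit X) (toUnit X),
    ← _root_.mul_assoc, ← comp_mul, mul_inv_cancel, comp_one, _root_.one_mul]

end Abstract


section Topology

/-- A connected component of a closed set is closed. -/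
lemma isClosed_connectedComponentIn {α : Type*} [TopologicalSpace α] {F : Set α} (hF : IsClosed F)
    (x : α) : IsClosed (connectedComponentIn F x) := by
  by_cases hx : x ∈ F
  · rw [← closure_subset_iff_isClosed]
    apply IsPreconnected.subset_connectedComponentIn
    · exact isPreconnected_connectedComponentIn.closure
    · exact subset_closure (mem_connectedComponentIn hx)
    · exact closure_minimal (connectedComponentIn_subset F x) hF
  · rw [connectedComponentIn_eq_empty hx]
    exact isClosed_empty

end Topology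

section Scheme

/-- The reduced induced closed subscheme structure is reduced. -/
theorem isReduced_subscheme_vanishingIdeal {X : Scheme.{u}} (Z : TopologicalSpace.Closeds X) :
    IsReduced (Scheme.IdealSheafData.vanishingIdeal Z).subscheme := by
  set I := Scheme.IdealSheafData.vanishingIdeal Z with hI
  have h1 : ∀ U : X.affineOpens, IsReduced (Spec (.of (Γ(X, U) ⧸ I.ideal U))) := by
    intro U
    rw [affine_isReduced_iff]
    change _root_.IsReduced (Γ(X, U) ⧸ I.ideal U)
    rw [← Ideal.isRadical_iff_quotient_reduced, hI, Scheme.IdealSheafData.vanishingIdeal_ideal]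
    exact PrimeSpectrum.isRadical_vanishingIdeal _
  have : ∀ U, IsReduced (I.subschemeCover.openCover.X U) := fun U => h1 U
  exact IsReduced.of_openCover _ I.subschemeCover.openCover

/-- The kernel of a morphism from a reduced scheme is the vanishing ideal of the closure of its
range. -/
lemma ker_eq_vanishingIdeal_of_isReduced {W Y : Scheme.{u}} [IsReduced W] (h : W ⟶ Y) :
    h.ker = Scheme.IdealSheafData.vanishingIdeal
      (.closure (h '' ((⊤ : TopologicalSpace.Closeds W) : Set W))) := by
  rw [← Scheme.IdealSheafData.map_bot h, ← Scheme.nilradical_eq_bot,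
    ← Scheme.IdealSheafData.vanishingIdeal_top, Scheme.IdealSheafData.map_vanishingIdeal]

/-- A morphism from a reduced scheme whose range lies in the range of a closed immersion from a
reduced scheme factors through that closed immersion. -/
theorem exists_lift_of_isReduced {W V Y : Scheme.{u}} [IsReduced W] [IsReduced V] (s : V ⟶ Y)
    [IsClosedImmersion s] (h : W ⟶ Y) (hh : Set.range h ⊆ Set.range s) :
    ∃ g : W ⟶ V, g ≫ s = h := by
  have hker : s.ker ≤ h.ker := by
    rw [ker_eq_vanishingIdeal_of_isReduced s, ker_eq_vanishingIdeal_of_isReduced h]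
    apply Scheme.IdealSheafData.vanishingIdeal_antimono
    intro x hx
    change x ∈ closure (h '' Set.univ) at hx
    change x ∈ closure (s '' Set.univ)
    rw [Set.image_univ] at hx ⊢
    exact closure_mono hh hx
  exact ⟨IsClosedImmersion.lift s h hker, IsClosedImmersion.lift_fac _ _ _⟩

end Scheme


section Field

variable {k : Type u} [Field k]

/-- The image of a rational point of a scheme separated over a field is a closed point. -/
lemma isClosed_singleton_of_section {Y : Scheme.{u}} (q : Y ⟶ Spec (.of k)) [IsSeparated q]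
    (s : Spec (.of k) ⟶ Y) (hs : s ≫ q = 𝟙 _) :
    IsClosedImmersion s ∧ Set.range s = {s (IsLocalRing.closedPoint k)} := by
  have h1 : IsClosedImmersion (s ≫ q) := by rw [hs]; infer_instance
  have h2 : IsClosedImmersion s := IsClosedImmersion.of_comp s q
  refine ⟨h2, ?_⟩
  ext y
  constructor
  · rintro ⟨p, rfl⟩
    rw [Subsingleton.elim p (IsLocalRing.closedPoint k)]
    exact rfl
  · rintro rfl
    exact ⟨_, rfl⟩

set_option backward.isDefEq.respectTransparency false in
/-- The reduced closed subscheme on the connected component of a rational point in its fibre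
(scheme-level version). -/
theorem exists_component_subscheme_aux {X Y : Scheme.{u}} (p : X ⟶ Spec (.of k))
    (q : Y ⟶ Spec (.of k)) [IsSeparated q] (f : X ⟶ Y) (hf : f ≫ q = p)
    (c : Spec (.of k) ⟶ X) (hc : c ≫ p = 𝟙 _) (pt : Spec (.of k)) :
    ∃ (Z : Scheme.{u}) (incl : Z ⟶ X) (cZ : Spec (.of k) ⟶ Z),
      IsClosedImmersion incl ∧ IsReduced Z ∧ ConnectedSpace Z ∧
      Set.range incl = connectedComponentIn (f ⁻¹' {f (c pt)}) (c pt) ∧
      cZ ≫ incl = c ∧ incl ≫ f = (incl ≫ p) ≫ c ≫ f := by
  have hpt : pt = IsLocalRing.closedPoint k := Subsingleton.elim _ _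
  obtain ⟨hs, hsr⟩ := isClosed_singleton_of_section q (c ≫ f) (by rw [Category.assoc, hf, hc])
  rw [← hpt] at hsr
  have hpt_closed : IsClosed ({f (c pt)} : Set Y) := by
    have := (c ≫ f).isClosedEmbedding.isClosed_range
    rw [hsr] at this
    exact this
  have hF : IsClosed (f ⁻¹' {f (c pt)}) := hpt_closed.preimage f.continuous
  have hcF : c pt ∈ f ⁻¹' {f (c pt)} := rfl
  have hC : IsClosed (connectedComponentIn (f ⁻¹' {f (c pt)}) (c pt)) :=
    isClosed_connectedComponentIn hF _
  have hCconn : _root_.IsConnected (connectedComponentIn (f ⁻¹' {f (c pt)}) (c pt)) :=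
    isConnected_connectedComponentIn_iff.mpr hcF
  let Cl : TopologicalSpace.Closeds X := ⟨_, hC⟩
  let I := Scheme.IdealSheafData.vanishingIdeal Cl
  have hrange : Set.range I.subschemeι = connectedComponentIn (f ⁻¹' {f (c pt)}) (c pt) := by
    rw [Scheme.IdealSheafData.range_subschemeι, Scheme.IdealSheafData.coe_support_vanishingIdeal]
    rfl
  have hred : IsReduced I.subscheme := isReduced_subscheme_vanishingIdeal Cl
  have hconn : ConnectedSpace I.subscheme := by
    rw [connectedSpace_iff_univ]
    refine ⟨?_, ?_⟩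
    · obtain ⟨y, hy⟩ := hCconn.nonempty
      rw [← hrange] at hy
      obtain ⟨z, -⟩ := hy
      exact ⟨z, trivial⟩
    · rw [← I.subschemeι.isEmbedding.isInducing.isPreconnected_image, Set.image_univ, hrange]
      exact hCconn.isPreconnected
  -- the rational point
  obtain ⟨g, hg⟩ := Groth.Agent.Lib.Helper41.FieldPoints.exists_lift_subscheme_of_isReduced
    c Cl (by
      rintro _ ⟨p', rfl⟩
      rw [Subsingleton.elim p' pt]
      exact mem_connectedComponentIn hcF)
  refine ⟨I.subscheme, I.subschemeι, g, inferInstance, hred, hconn, hrange, hg, ?_⟩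
  -- constancy
  have hsub : Set.range (I.subschemeι ≫ f) ⊆ Set.range (c ≫ f) := by
    rw [hsr]
    rintro _ ⟨z, rfl⟩
    have hz : I.subschemeι z ∈ connectedComponentIn (f ⁻¹' {f (c pt)}) (c pt) := by
      rw [← hrange]; exact ⟨z, rfl⟩
    have hz' : I.subschemeι z ∈ f ⁻¹' {f (c pt)} := connectedComponentIn_subset _ _ hz
    exact hz'
  obtain ⟨g', hg'⟩ := exists_lift_of_isReduced (c ≫ f) (I.subschemeι ≫ f) hsub
  have hg'' : g' = I.subschemeι ≫ p := by
    have := congr($hg' ≫ q)
    simp only [Category.assoc, hf] at this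
    rw [hc, Category.comp_id] at this
    exact this
  rw [← hg', hg'']

set_option backward.isDefEq.respectTransparency false in
/-- The reduced closed subscheme on the connected component of a rational point in its fibre. -/
theorem exists_component_subscheme (X : Over (Spec (.of k))) {Y : Scheme.{u}}
    (q : Y ⟶ Spec (.of k)) [IsSeparated q] (f : X.left ⟶ Y) (hf : f ≫ q = X.hom)
    (c : 𝟙_ (Over (Spec (.of k))) ⟶ X) :
    ∃ (Z : Over (Spec (.of k))) (incl : Z ⟶ X) (cZ : 𝟙_ (Over (Spec (.of k))) ⟶ Z),
      IsClosedImmersion incl.left ∧ IsReduced Z.left ∧ ConnectedSpace Z.left ∧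
      Set.range incl.left = connectedComponentIn
        (f ⁻¹' {f (c.left (IsLocalRing.closedPoint k))}) (c.left (IsLocalRing.closedPoint k)) ∧
      cZ ≫ incl = c ∧
      incl ≫ (Over.homMk f hf : X ⟶ Over.mk q) = toUnit Z ≫ c ≫ Over.homMk f hf := by
  obtain ⟨Z, incl, cZ, h1, h2, h3, h4, h5, h6⟩ :=
    exists_component_subscheme_aux X.hom q f hf c.left (Over.w c) (IsLocalRing.closedPoint k)
  refine ⟨Over.mk (incl ≫ X.hom), Over.homMk incl rfl, Over.homMk cZ ?_, h1, h2, h3, h4, ?_, ?_⟩
  · change cZ ≫ incl ≫ X.hom = _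
    rw [reassoc_of% h5]
    exact Over.w c
  · ext1
    exact h5
  · ext1
    exact h6

/-- The rigidity property needed for `image_translate_subset`. -/
def RigidityFor (X : Over (Spec (.of k))) [GrpObj X] {Y : Scheme.{u}} (q : Y ⟶ Spec (.of k)) :
    Prop :=
  ∀ (Z : Over (Spec (.of k))) (incl : Z ⟶ X), IsClosedImmersion incl.left → IsReduced Z.left →
    ConnectedSpace Z.left → ∀ (cZ : 𝟙_ (Over (Spec (.of k))) ⟶ Z) (φ : Z ⊗ X ⟶ Over.mk q)
      (z₀ : 𝟙_ (Over (Spec (.of k))) ⟶ Over.mk q),
      lift (𝟙 Z) (toUnit Z ≫ η[X]) ≫ φ = toUnit Z ≫ z₀ →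
        φ = snd Z X ≫ lift (toUnit X ≫ cZ) (𝟙 X) ≫ φ

set_option backward.isDefEq.respectTransparency false in
/-- If rigidity is available, translation by a rational point `a` maps the connected component of
`c` in its fibre into the connected component of `a * c` in its fibre. -/
theorem image_translate_subset (X : Over (Spec (.of k))) [GrpObj X] {Y : Scheme.{u}}
    (q : Y ⟶ Spec (.of k)) [IsSeparated q] (f : X.left ⟶ Y) (hf : f ≫ q = X.hom)
    (hrig : RigidityFor X q) (a c : 𝟙_ (Over (Spec (.of k))) ⟶ X) :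
    (lift (toUnit X ≫ a) (𝟙 X) ≫ μ[X]).left ''
        connectedComponentIn (f ⁻¹' {f (c.left (IsLocalRing.closedPoint k))})
          (c.left (IsLocalRing.closedPoint k)) ⊆
      connectedComponentIn (f ⁻¹' {f ((lift a c ≫ μ[X]).left (IsLocalRing.closedPoint k))})
        ((lift a c ≫ μ[X]).left (IsLocalRing.closedPoint k)) := by
  obtain ⟨pt, hpt⟩ : ∃ pt : (𝟙_ (Over (Spec (.of k)))).left, pt = IsLocalRing.closedPoint k :=
    ⟨_, rfl⟩
  rw [← hpt]
  obtain ⟨Z, incl, cZ, h1, h2, h3, h4, h5, h6⟩ := exists_component_subscheme X q f hf c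
  rw [← hpt] at h4
  set fO : X ⟶ Over.mk q := Over.homMk f hf with hfO
  have hφ := hrig Z incl h1 h2 h3 cZ ((snd Z X * (fst Z X ≫ incl)) ≫ fO) (c ≫ fO)
    (by rw [← Category.assoc, lift_comp_mulMap, h6])
  have key := translate_comp_eq incl fO cZ a hφ
  rw [h5] at key
  rw [← Hom.mul_def, ← Hom.mul_def]
  set t : X ⟶ X := (toUnit X ≫ a) * 𝟙 X with ht
  have hct : c ≫ t = a * c := by
    rw [ht, comp_mul, Category.comp_id, ← Category.assoc, toUnit_unique (c ≫ toUnit X) (𝟙 _),
      Category.id_comp]
  have hpt' : ∀ z : Z.left, (toUnit Z).left z = pt := fun z =>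
    Subsingleton.elim (α := Spec (.of k)) _ _
  apply IsPreconnected.subset_connectedComponentIn
  · exact isPreconnected_connectedComponentIn.image _ t.left.continuous.continuousOn
  · refine ⟨c.left pt, mem_connectedComponentIn rfl, ?_⟩
    rw [← hct]
    rfl
  · rintro _ ⟨b, hb, rfl⟩
    rw [← h4] at hb
    obtain ⟨z, rfl⟩ := hb
    change f (t.left (incl.left z)) = f ((a * c).left pt)
    have := congr(($key).left z)
    simp only [Over.comp_left, Scheme.Hom.comp_apply, hpt'] at this
    exact this

end Field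

end Groth.Agent.Lib.Helper22.FibreComp
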