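import Groth.Agent.Lib.Helper22.FibreComp2
import Groth.Agent.Lib.Helper73.DimFormula.Chevalley
import Groth.Agent.Lib.Helper73.DimFormula.FiberDim
import Groth.Agent.Lib.Helper73.DimFormula.FiberMax

/-!
# Equidimensionality of the fibres of a morphism from an abelian variety (helper22)

* `resTrdeg_eq_zero_of_isIntegralHom`: residue field extensions of integral morphisms are algebraic.
* `resTrdeg_eq_of_isIntegralHom_square`: residual transcendence degrees are invariant under
  integral base change.
* `krullDim_fibreGen_eq`: translation invariance of the poset of generizations inside a fibre.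
* `exists_fibreDimAt_eq`: over an algebraically closed field the fibre dimension function of a
  morphism from a group scheme with rigidity is constant (Chevalley semicontinuity + Jacobson).
* `exists_dim_irreducibleComponent_fiber_eq`: all irreducible components of all fibres of a morphism
  from an abelian variety to a separated scheme have the same dimension.
-/
set_option linter.style.haveILetI false

open CategoryTheory Limits AlgebraicGeometry MonoidalCategory CartesianMonoidalCategory MonObj
open Groth.Agent.Lib.Helper73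

namespace Groth.Agent.Lib.Helper22.FibreEquidim

universe u

section Translate

variable {K : Type u} [Field K]

open Groth.Agent.Lib.Helper22.FibreComp

/-- Translating a rational point. -/
lemma comp_translate {C : Type*} [Category C] [CartesianMonoidalCategory C] {X : C} [GrpObj X]
    (a c : 𝟙_ C ⟶ X) : c ≫ ((toUnit X ≫ a) * 𝟙 X) = a * c := by
  rw [comp_mul, Category.comp_id, ← Category.assoc, toUnit_unique (c ≫ toUnit X) (𝟙 _),
    Category.id_comp]

/-- A generization of a point lies in the connected component of the point in any set containing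
both. -/
lemma mem_connectedComponentIn_of_specializes {α : Type*} [TopologicalSpace α] {S : Set α}
    {t x : α} (h : t ⤳ x) (ht : t ∈ S) (hx : x ∈ S) : t ∈ connectedComponentIn S x := by
  have hpre : IsPreconnected ({t, x} : Set α) := by
    refine isPreconnected_singleton.subset_closure (s := {t}) (by simp) ?_
    rintro y (rfl | rfl)
    · exact subset_closure rfl
    · exact specializes_iff_mem_closure.mp h
  exact hpre.subset_connectedComponentIn (by simp) (by
    rintro y (rfl | rfl)
    · exact ht
    · exact hx) (by simp)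

set_option backward.isDefEq.respectTransparency false in
/-- Translation maps generizations of `c` in its fibre to generizations of `a * c` in its
fibre. -/
theorem translate_mem_fibreGen (X : Over (Spec (.of K))) [GrpObj X] {Y : Scheme.{u}}
    (q : Y ⟶ Spec (.of K)) [IsSeparated q] (f : X.left ⟶ Y) (hf : f ≫ q = X.hom)
    (hrig : RigidityFor X q) (a c : 𝟙_ (Over (Spec (.of K))) ⟶ X) (t₀ : X.left)
    (h1 : t₀ ⤳ c.left (IsLocalRing.closedPoint K))
    (h2 : f t₀ = f (c.left (IsLocalRing.closedPoint K))) :
    ((toUnit X ≫ a) * 𝟙 X).left t₀ ⤳ (a * c).left (IsLocalRing.closedPoint K) ∧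
      f (((toUnit X ≫ a) * 𝟙 X).left t₀) = f ((a * c).left (IsLocalRing.closedPoint K)) := by
  have hc : ((toUnit X ≫ a) * 𝟙 X).left (c.left (IsLocalRing.closedPoint K)) =
      (a * c).left (IsLocalRing.closedPoint K) := by
    rw [← comp_translate a c]; rfl
  refine ⟨?_, ?_⟩
  · rw [← hc]
    exact h1.map ((toUnit X ≫ a) * 𝟙 X).left.continuous
  · have hmem := mem_connectedComponentIn_of_specializes h1
      (S := f ⁻¹' {f (c.left (IsLocalRing.closedPoint K))}) h2 rfl
    have := image_translate_subset X q f hf hrig a c ⟨t₀, hmem, rfl⟩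
    rw [← Hom.mul_def, ← Hom.mul_def] at this
    have h3 : ((toUnit X ≫ a) * 𝟙 X).left t₀ ∈
        f ⁻¹' {f ((a * c).left (IsLocalRing.closedPoint K))} :=
      connectedComponentIn_subset _ _ this
    exact h3

set_option backward.isDefEq.respectTransparency false in
/-- Translation by `a⁻¹` undoes translation by `a` on points. -/
lemma translate_left_inv (X : Over (Spec (.of K))) [GrpObj X]
    (a : 𝟙_ (Over (Spec (.of K))) ⟶ X) (x : X.left) :
    ((toUnit X ≫ a⁻¹) * 𝟙 X).left (((toUnit X ≫ a) * 𝟙 X).left x) = x := by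
  have h := translate_inv_comp_translate a⁻¹
  rw [inv_inv] at h
  have hx := congr(($h).left x)
  simp only [Over.comp_left, Scheme.Hom.comp_apply, Over.id_left] at hx
  exact hx

set_option backward.isDefEq.respectTransparency false in
theorem krullDim_fibreGen_le (X : Over (Spec (.of K))) [GrpObj X] {Y : Scheme.{u}}
    (q : Y ⟶ Spec (.of K)) [IsSeparated q] (f : X.left ⟶ Y) (hf : f ≫ q = X.hom)
    (hrig : RigidityFor X q) (a c : 𝟙_ (Over (Spec (.of K))) ⟶ X) :
    Order.krullDim ↥{t : X.left | t ⤳ c.left (IsLocalRing.closedPoint K) ∧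
        f t = f (c.left (IsLocalRing.closedPoint K))} ≤
      Order.krullDim ↥{t : X.left | t ⤳ (a * c).left (IsLocalRing.closedPoint K) ∧
        f t = f ((a * c).left (IsLocalRing.closedPoint K))} := by
  refine Order.krullDim_le_of_strictMono
    (fun t => ⟨((toUnit X ≫ a) * 𝟙 X).left t.1,
      translate_mem_fibreGen X q f hf hrig a c t.1 t.2.1 t.2.2⟩) ?_
  intro t t' htt'
  rw [lt_iff_le_not_ge] at htt' ⊢
  refine ⟨?_, fun h => htt'.2 ?_⟩
  · have h : t'.1 ⤳ t.1 := htt'.1
    exact h.map ((toUnit X ≫ a) * 𝟙 X).left.continuous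
  · have h' : ((toUnit X ≫ a) * 𝟙 X).left t.1 ⤳ ((toUnit X ≫ a) * 𝟙 X).left t'.1 := h
    have := h'.map ((toUnit X ≫ a⁻¹) * 𝟙 X).left.continuous
    rw [translate_left_inv, translate_left_inv] at this
    exact this

set_option backward.isDefEq.respectTransparency false in
theorem krullDim_fibreGen_eq (X : Over (Spec (.of K))) [GrpObj X] {Y : Scheme.{u}}
    (q : Y ⟶ Spec (.of K)) [IsSeparated q] (f : X.left ⟶ Y) (hf : f ≫ q = X.hom)
    (hrig : RigidityFor X q) (c c' : 𝟙_ (Over (Spec (.of K))) ⟶ X) :
    Order.krullDim ↥{t : X.left | t ⤳ c.left (IsLocalRing.closedPoint K) ∧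
        f t = f (c.left (IsLocalRing.closedPoint K))} =
      Order.krullDim ↥{t : X.left | t ⤳ c'.left (IsLocalRing.closedPoint K) ∧
        f t = f (c'.left (IsLocalRing.closedPoint K))} := by
  apply le_antisymm
  · have := krullDim_fibreGen_le X q f hf hrig (c' * c⁻¹) c
    rwa [inv_mul_cancel_right] at this
  · have := krullDim_fibreGen_le X q f hf hrig (c * c'⁻¹) c'
    rwa [inv_mul_cancel_right] at this

section AlgClosed

variable [IsAlgClosed K]

set_option backward.isDefEq.respectTransparency false in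
/-- Over an algebraically closed field, the fibre dimension of a morphism from a group scheme
satisfying rigidity is the same at all closed points. -/
theorem fibreDimAt_eq_of_isClosed (X : Over (Spec (.of K))) [GrpObj X]
    [LocallyOfFiniteType X.hom] {Y : Scheme.{u}}
    (q : Y ⟶ Spec (.of K)) [IsSeparated q] (f : X.left ⟶ Y) [LocallyOfFiniteType f]
    (hf : f ≫ q = X.hom)
    (hrig : RigidityFor X q) (x x' : X.left) (hx : IsClosed ({x} : Set X.left))
    (hx' : IsClosed ({x'} : Set X.left)) :
    FlatMor.fibreDimAt f x = FlatMor.fibreDimAt f x' := by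
  let c : 𝟙_ (Over (Spec (.of K))) ⟶ X :=
    Over.homMk (pointOfClosedPoint X.hom x hx) (pointOfClosedPoint_comp X.hom x hx)
  let c' : 𝟙_ (Over (Spec (.of K))) ⟶ X :=
    Over.homMk (pointOfClosedPoint X.hom x' hx') (pointOfClosedPoint_comp X.hom x' hx')
  have hc : c.left (IsLocalRing.closedPoint K) = x := pointOfClosedPoint_apply X.hom x hx _
  have hc' : c'.left (IsLocalRing.closedPoint K) = x' := pointOfClosedPoint_apply X.hom x' hx' _
  rw [fibreDimAt_eq, fibreDimAt_eq, ringKrullDim_fiber_stalk_eq_krullDim,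
    ringKrullDim_fiber_stalk_eq_krullDim, resTrdegNat_eq_zero_of_isClosed f x hx,
    resTrdegNat_eq_zero_of_isClosed f x' hx']
  have := krullDim_fibreGen_eq X q f hf hrig c c'
  rw [hc, hc'] at this
  rw [this]

set_option backward.isDefEq.respectTransparency false in
/-- Over an algebraically closed field, the fibre dimension of a morphism from a group scheme
satisfying rigidity is constant. -/
theorem exists_fibreDimAt_eq (X : Over (Spec (.of K))) [GrpObj X]
    [LocallyOfFiniteType X.hom] {Y : Scheme.{u}}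
    (q : Y ⟶ Spec (.of K)) [IsSeparated q] (f : X.left ⟶ Y) [LocallyOfFiniteType f]
    (hf : f ≫ q = X.hom) (hrig : RigidityFor X q) :
    ∃ d : ℕ, ∀ x : X.left, FlatMor.fibreDimAt f x = d := by
  haveI : JacobsonSpace X.left := LocallyOfFiniteType.jacobsonSpace X.hom
  have hnat : ∀ x : X.left, ∃ n : ℕ, FlatMor.fibreDimAt f x = n := by
    intro x
    obtain ⟨n, hn⟩ := exists_ringKrullDim_fiber_stalk_eq_natCast f x
    refine ⟨n + resTrdegNat f x, ?_⟩
    rw [fibreDimAt_eq, hn]
    push_cast
    rfl
  -- a closed point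
  obtain ⟨x₀, -, hx₀⟩ := nonempty_inter_closedPoints (X := X.left) (Z := Set.univ)
    ⟨η[X].left (IsLocalRing.closedPoint K), trivial⟩ isClosed_univ.isLocallyClosed
  have hx₀' : IsClosed ({x₀} : Set X.left) := hx₀
  obtain ⟨d, hd⟩ := hnat x₀
  refine ⟨d, fun x => ?_⟩
  obtain ⟨n, hn⟩ := hnat x
  have hcl : ∀ z : X.left, IsClosed ({z} : Set X.left) → FlatMor.fibreDimAt f z = d :=
    fun z hz => (fibreDimAt_eq_of_isClosed X q f hf hrig z x₀ hz hx₀').trans hd
  apply le_antisymm
  · -- the open set `{D ≤ d}` contains all closed points, hence everything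
    have hopen := isOpen_fibreDimAt_le d X.left Y f
    by_contra hlt
    obtain ⟨z, hz, hz'⟩ := nonempty_inter_closedPoints (X := X.left)
      (Z := {x | FlatMor.fibreDimAt f x ≤ d}ᶜ) ⟨x, hlt⟩ hopen.isClosed_compl.isLocallyClosed
    apply hz
    change FlatMor.fibreDimAt f z ≤ d
    rw [hcl z hz']
  · -- the open set `{D ≤ n}` contains a closed point in the closure of `x`
    have hopen := isOpen_fibreDimAt_le n X.left Y f
    obtain ⟨z, ⟨hz1, hz2⟩, hz'⟩ := nonempty_inter_closedPoints (X := X.left)
      (Z := closure {x} ∩ {x | FlatMor.fibreDimAt f x ≤ n})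
      ⟨x, subset_closure rfl, hn.le⟩ (isClosed_closure.isLocallyClosed.inter hopen.isLocallyClosed)
    have : FlatMor.fibreDimAt f z ≤ n := hz2
    rw [hcl z hz'] at this
    rw [hn]
    exact this

end AlgClosed

end Translate

section Maximal

/-- At a point which is maximal in its fibre, the residual transcendence degree is the fibre
dimension. -/
theorem resTrdegNat_eq_of_maximal {X Y : Scheme.{u}} (f : X ⟶ Y) [LocallyOfFiniteType f] (x : X)
    (hmax : ∀ t : X, t ⤳ x → f t = f x → t = x) (d : ℕ) (hd : FlatMor.fibreDimAt f x = d) :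
    resTrdegNat f x = d := by
  rw [fibreDimAt_eq, ringKrullDim_fiber_stalk_eq_krullDim] at hd
  haveI : Nonempty ↥{t : X | t ⤳ x ∧ f t = f x} := ⟨⟨x, specializes_rfl, rfl⟩⟩
  haveI : Subsingleton ↥{t : X | t ⤳ x ∧ f t = f x} :=
    ⟨fun a b => Subtype.ext ((hmax a.1 a.2.1 a.2.2).trans (hmax b.1 b.2.1 b.2.2).symm)⟩
  rw [Order.krullDim_eq_zero, zero_add] at hd
  exact_mod_cast hd

end Maximal

section Integral

/-- Residue field extensions of an integral ring map are algebraic (spectrum version). -/
theorem resTrdeg_SpecMap_of_isIntegral {R R' : Type u} [CommRing R] [CommRing R'] [Algebra R R']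
    [Algebra.IsIntegral R R'] (x : Spec (CommRingCat.of R')) :
    resTrdeg (Spec.map (CommRingCat.ofHom (algebraMap R R'))) x = 0 := by
  haveI : x.asIdeal.IsPrime := x.2
  rw [resTrdeg_SpecMap x (x.asIdeal.under R) x.asIdeal rfl]
  haveI : Algebra.IsAlgebraic (R ⧸ x.asIdeal.under R) (R' ⧸ x.asIdeal) :=
    Algebra.IsIntegral.isAlgebraic
  exact trdeg_eq_zero

set_option backward.isDefEq.respectTransparency false in
/-- Residue field extensions of integral morphisms of affine schemes are algebraic. -/
theorem resTrdeg_eq_zero_of_isIntegralHom_of_isAffine {A B : Scheme.{u}} [IsAffine A] [IsAffine B]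
    (g : A ⟶ B) [IsIntegralHom g] (x : A) : resTrdeg g x = 0 := by
  have hint : g.appTop.hom.IsIntegral :=
    ((HasAffineProperty.iff_of_isAffine (P := @IsIntegralHom)).mp ‹IsIntegralHom g›).2
  have e : g = A.isoSpec.hom ≫ Spec.map g.appTop ≫ B.isoSpec.inv := by
    rw [Scheme.isoSpec_hom_naturality_assoc, Iso.hom_inv_id, Category.comp_id]
  rw [resTrdeg_congr e, resTrdeg_comp_of_bijective_left _ _ _
    (residueFieldMap_bijective_of_isPreimmersion _ _),
    resTrdeg_comp_of_bijective_right _ _ _ (residueFieldMap_bijective_of_isPreimmersion _ _)]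
  letI : Algebra Γ(B, ⊤) Γ(A, ⊤) := g.appTop.hom.toAlgebra
  haveI : Algebra.IsIntegral Γ(B, ⊤) Γ(A, ⊤) := ⟨hint⟩
  exact resTrdeg_SpecMap_of_isIntegral (R := Γ(B, ⊤)) (R' := Γ(A, ⊤)) _

set_option backward.isDefEq.respectTransparency false in
/-- Residue field extensions of integral morphisms are algebraic. -/
theorem resTrdeg_eq_zero_of_isIntegralHom {P' P : Scheme.{u}} (π : P' ⟶ P) [IsIntegralHom π]
    (x' : P') : resTrdeg π x' = 0 := by
  obtain ⟨_, ⟨V, hV, rfl⟩, hxV, -⟩ := P.isBasis_affineOpens.exists_subset_of_mem_open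
    (Set.mem_univ (π x')) isOpen_univ
  have hU : IsAffineOpen (π ⁻¹ᵁ V) := hV.preimage π
  haveI : IsAffine (V : Scheme) := hV
  haveI : IsAffine ((π ⁻¹ᵁ V : P'.Opens) : Scheme) := hU
  let x'' : (π ⁻¹ᵁ V : P'.Opens) := ⟨x', hxV⟩
  have e1 : resTrdeg π x' = resTrdeg ((π ⁻¹ᵁ V).ι ≫ π) x'' :=
    (resTrdeg_comp_of_bijective_left (π ⁻¹ᵁ V).ι π x''
      (residueFieldMap_bijective_of_isPreimmersion _ _)).symm
  rw [e1, resTrdeg_congr (morphismRestrict_ι π V).symm,
    resTrdeg_comp_of_bijective_right _ _ _ (residueFieldMap_bijective_of_isPreimmersion _ _)]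
  exact resTrdeg_eq_zero_of_isIntegralHom_of_isAffine (π ∣_ V) x''

/-- Residual transcendence degrees are invariant under integral base change. -/
theorem resTrdeg_eq_of_isIntegralHom_square {X' Y' X Y : Scheme.{u}} (f' : X' ⟶ Y') (f : X ⟶ Y)
    (πX : X' ⟶ X) (πY : Y' ⟶ Y) [IsIntegralHom πX] [IsIntegralHom πY]
    (h : πX ≫ f = f' ≫ πY) (x' : X') : resTrdeg f' x' = resTrdeg f (πX x') := by
  have h1 := resTrdeg_comp πX f x'
  have h2 := resTrdeg_comp f' πY x'
  rw [resTrdeg_eq_zero_of_isIntegralHom πX x', add_zero] at h1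
  rw [resTrdeg_eq_zero_of_isIntegralHom πY (f' x'), zero_add] at h2
  rw [← h1, ← h2, resTrdeg_congr h]

end Integral

section Components

/-- The dimension of an irreducible component of a fibre is the residual transcendence degree at
its generic point, which is a maximal point of the fibre. -/
theorem exists_maximal_dim_irreducibleComponent_fiber {X Y : Scheme.{u}} (f : X ⟶ Y)
    [LocallyOfFiniteType f] (y : Y) (Z : Set ↥(f.fiber y))
    (hZ : Z ∈ irreducibleComponents ↥(f.fiber y)) :
    ∃ x : X, f x = y ∧ (∀ t : X, t ⤳ x → f t = f x → t = x) ∧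
      topologicalKrullDim ↥Z = ((resTrdegNat f x : ℕ∞) : WithBot ℕ∞) := by
  have hirr : IsIrreducible Z := hZ.1
  have hcl : IsClosed Z := isClosed_of_mem_irreducibleComponents Z hZ
  obtain ⟨ξ, hξ⟩ := QuasiSober.sober hirr hcl
  have hZξ : Z = closure {ξ} := hξ.def.symm
  have hmaxξ : ∀ t : f.fiber y, t ⤳ ξ → t = ξ := by
    intro t ht
    have h1 : closure ({ξ} : Set (f.fiber y)) ⊆ closure {t} :=
      (specializes_iff_closure_subset).mp ht
    have h2 : IsIrreducible (closure ({t} : Set (f.fiber y))) := isIrreducible_singleton.closure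
    have h3 : closure ({t} : Set (f.fiber y)) ⊆ Z := hZ.2 h2 (hZξ ▸ h1)
    have h4 : ξ ⤳ t := by
      rw [specializes_iff_mem_closure, ← hZξ]
      exact h3 (subset_closure rfl)
    exact (h4.antisymm ht).eq.symm
  obtain ⟨hfx, hmax⟩ := fiberι_maximal_of_maximal f y ξ hmaxξ
  refine ⟨f.fiberι y ξ, hfx, fun t ht hft => hmax t ht (hft.trans hfx), ?_⟩
  rw [← trdegNat_fiber_eq_resTrdegNat, hZξ]
  exact (isDimFun_trdegNat (k := Y.residueField y)
    (f.fiberToSpecResidueField y)).topologicalKrullDim_closure_singleton ξ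

/-- Maximal points of fibres lift to maximal points of fibres along surjective maps of
morphisms. -/
theorem exists_maximal_lift {X' Y' X Y : Scheme.{u}} (f' : X' ⟶ Y') (f : X ⟶ Y)
    (πX : X' ⟶ X) (πY : Y' ⟶ Y) [LocallyOfFiniteType f'] (hsq : πX ≫ f = f' ≫ πY)
    (hsurj : Function.Surjective πX) (x : X) (hmax : ∀ t : X, t ⤳ x → f t = f x → t = x) :
    ∃ x' : X', πX x' = x ∧ ∀ t : X', t ⤳ x' → f' t = f' x' → t = x' := by
  obtain ⟨x₀, hx₀⟩ := hsurj x
  obtain ⟨n, hn⟩ := exists_ringKrullDim_fiber_stalk_eq_natCast f' x₀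
  obtain ⟨z, hz1, hz2, hz3, -⟩ := exists_maximal_fiber_generization f' x₀ n hn
  refine ⟨z, ?_, hz3⟩
  apply hmax
  · rw [← hx₀]
    exact hz2.map πX.continuous
  · have e : ∀ w : X', f (πX w) = πY (f' w) := fun w => by
      have := congr(($hsq) w)
      simpa only [Scheme.Hom.comp_apply] using this
    rw [e, hz1, ← e, hx₀]

end Components

section Main

variable {k : Type u} [Field k]

open scoped Obj

set_option backward.isDefEq.respectTransparency false in
/-- The residual transcendence degree of a morphism from an abelian variety to a separated scheme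
is the same at all points which are maximal in their fibres. -/
theorem exists_resTrdegNat_eq_of_maximal (X : Over (Spec (.of k))) [GrpObj X]
    [IsProper X.hom] [GeometricallyIntegral X.hom] {Y : Scheme.{u}} (q : Y ⟶ Spec (.of k))
    [IsSeparated q] (f : X.left ⟶ Y) (hf : f ≫ q = X.hom) :
    ∃ d : ℕ, ∀ x : X.left, (∀ t : X.left, t ⤳ x → f t = f x → t = x) → resTrdegNat f x = d := by
  let K := AlgebraicClosure k
  let φ : Spec (.of K) ⟶ Spec (.of k) := Spec.map (CommRingCat.ofHom (algebraMap k K))
  let F := Over.pullback φ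
  let X' := F.obj X
  haveI : IsProper X'.hom := by dsimp [X', F]; infer_instance
  haveI : GeometricallyIntegral X'.hom := by dsimp [X', F]; infer_instance
  letI : GrpObj X' := F.grpObjObj
  let q' : pullback q φ ⟶ Spec (.of K) := pullback.snd q φ
  let f' : X'.left ⟶ pullback q φ :=
    pullback.map X.hom φ q φ f (𝟙 _) (𝟙 _) (by rw [hf, Category.comp_id]) (by simp)
  have hf' : f' ≫ q' = X'.hom := by
    dsimp only [f', q']
    rw [pullback.lift_snd, Category.comp_id]
    rfl
  haveI : LocallyOfFiniteType (f ≫ q) := by rw [hf]; infer_instance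
  haveI hlft : LocallyOfFiniteType f := locallyOfFiniteType_of_comp f q
  haveI : LocallyOfFiniteType (f' ≫ q') := by rw [hf']; infer_instance
  haveI hlft' : LocallyOfFiniteType f' := locallyOfFiniteType_of_comp f' q'
  obtain ⟨d, hd⟩ := exists_fibreDimAt_eq X' q' f' hf'
    (FibreComp.rigidityFor_of_perfectField X' q')
  refine ⟨d, fun x hmax => ?_⟩
  haveI : IsIntegralHom φ := by
    rw [IsIntegralHom.SpecMap_iff]
    exact Algebra.IsIntegral.isIntegral (R := k) (A := K)
  haveI : Surjective φ := ⟨fun x => ⟨IsLocalRing.closedPoint K, Subsingleton.elim _ _⟩⟩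
  have hsq : pullback.fst X.hom φ ≫ f = f' ≫ pullback.fst q φ := by
    dsimp only [f']
    rw [pullback.lift_fst]
  obtain ⟨x', hx', hmax'⟩ := exists_maximal_lift f' f (pullback.fst X.hom φ) (pullback.fst q φ)
    hsq (pullback.fst X.hom φ).surjective x hmax
  have h1 := resTrdegNat_eq_of_maximal f' x' hmax' d (hd x')
  have h2 := resTrdeg_eq_of_isIntegralHom_square f' f (pullback.fst X.hom φ)
    (pullback.fst q φ) hsq x'
  rw [resTrdeg_eq_resTrdegNat, resTrdeg_eq_resTrdegNat, hx'] at h2
  have h3 : resTrdegNat f' x' = resTrdegNat f x := by exact_mod_cast h2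
  rw [← h3, h1]

/-- All irreducible components of all fibres of a morphism from an abelian variety to a separated
scheme have the same dimension. -/
theorem exists_dim_irreducibleComponent_fiber_eq (X : Over (Spec (.of k))) [GrpObj X]
    [IsProper X.hom] [GeometricallyIntegral X.hom] {Y : Scheme.{u}} (q : Y ⟶ Spec (.of k))
    [IsSeparated q] (f : X.left ⟶ Y) (hf : f ≫ q = X.hom) :
    ∃ d : ℕ, ∀ (y : Y) (Z : Set ↥(f.fiber y)), Z ∈ irreducibleComponents ↥(f.fiber y) →
      topologicalKrullDim ↥Z = d := by
  haveI : LocallyOfFiniteType (f ≫ q) := by rw [hf]; infer_instance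
  haveI hlft : LocallyOfFiniteType f := locallyOfFiniteType_of_comp f q
  obtain ⟨d, hd⟩ := exists_resTrdegNat_eq_of_maximal X q f hf
  refine ⟨d, fun y Z hZ => ?_⟩
  obtain ⟨x, hx, hmax, hdim⟩ := exists_maximal_dim_irreducibleComponent_fiber f y Z hZ
  rw [hdim, hd x hmax]
  rfl

end Main

end Groth.Agent.Lib.Helper22.FibreEquidim
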