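import Mathlib
import Groth.Agent.Lib.Helper67.FiberStalk

set_option autoImplicit false
universe u

namespace Groth.Agent.Lib.Helper22.StalkPrime

open CategoryTheory AlgebraicGeometry IsLocalRing
open Groth.Agent.Lib.Helper67.FiberStalk

variable {X S : Scheme.{u}} (f : X ⟶ S) (x : X)

theorem exists_prime_of_specializes {w : X} (hw : w ⤳ x) :
    ∃ 𝔭 : Spec (X.presheaf.stalk x), (X.fromSpecStalk x) 𝔭 = w := by
  have : w ∈ Set.range (X.fromSpecStalk x) := by
    rw [Scheme.range_fromSpecStalk]; exact hw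
  exact this

theorem fromSpecStalk_specializes (𝔭 : Spec (X.presheaf.stalk x)) :
    (X.fromSpecStalk x) 𝔭 ⤳ x := by
  have : (X.fromSpecStalk x) 𝔭 ∈ Set.range (X.fromSpecStalk x) := ⟨_, rfl⟩
  rw [Scheme.range_fromSpecStalk] at this
  exact this

theorem specializes_iff_le (𝔭 𝔭' : Spec (X.presheaf.stalk x)) :
    (X.fromSpecStalk x) 𝔭 ⤳ (X.fromSpecStalk x) 𝔭' ↔
      PrimeSpectrum.asIdeal 𝔭 ≤ PrimeSpectrum.asIdeal 𝔭' := by
  rw [(X.fromSpecStalk x).isEmbedding.isInducing.specializes_iff]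
  exact (PrimeSpectrum.le_iff_specializes 𝔭 𝔭').symm

theorem fibIdeal_le_iff (𝔭 : Spec (X.presheaf.stalk x)) :
    fibIdeal f x ≤ PrimeSpectrum.asIdeal 𝔭 ↔ f ((X.fromSpecStalk x) 𝔭) = f x := by
  have hnat := Scheme.SpecMap_stalkMap_fromSpecStalk f (x := x)
  have h1 : f ((X.fromSpecStalk x) 𝔭) =
      (S.fromSpecStalk (f x)) ((Spec.map (f.stalkMap x)) 𝔭) := by
    rw [← Scheme.Hom.comp_apply, ← Scheme.Hom.comp_apply, hnat]
  rw [h1]
  have h2 : ∀ q : Spec (S.presheaf.stalk (f x)),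
      (S.fromSpecStalk (f x)) q = f x ↔ q = closedPoint _ := by
    intro q
    constructor
    · intro h
      apply (S.fromSpecStalk (f x)).isEmbedding.injective
      rw [h, Scheme.fromSpecStalk_closedPoint]
    · rintro rfl
      exact Scheme.fromSpecStalk_closedPoint
  rw [h2, fibIdeal, Ideal.map_le_iff_le_comap]
  constructor
  · intro h
    apply PrimeSpectrum.ext
    show Ideal.comap (f.stalkMap x).hom (PrimeSpectrum.asIdeal 𝔭) = maximalIdeal _
    have := PrimeSpectrum.isPrime 𝔭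
    have hp : (Ideal.comap (f.stalkMap x).hom (PrimeSpectrum.asIdeal 𝔭)).IsPrime :=
      Ideal.comap_isPrime _ _
    exact le_antisymm (IsLocalRing.le_maximalIdeal hp.ne_top) h
  · intro h
    have := congrArg PrimeSpectrum.asIdeal h
    exact this.ge

theorem asIdeal_eq_fibIdeal_of_generic (ξ : X) (hξ : f ξ = f x)
    (hgen : ∀ w : X, w ⤳ x → f w = f x → ξ ⤳ w)
    (hred : (fibIdeal f x).IsRadical)
    (𝔭ξ : Spec (X.presheaf.stalk x)) (h𝔭ξ : (X.fromSpecStalk x) 𝔭ξ = ξ) :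
    PrimeSpectrum.asIdeal 𝔭ξ = fibIdeal f x := by
  apply le_antisymm
  · rw [← hred.radical, Ideal.radical_eq_sInf]
    apply le_sInf
    rintro I ⟨hJI, hI⟩
    let 𝔭 : Spec (X.presheaf.stalk x) := (⟨I, hI⟩ : PrimeSpectrum _)
    have h1 : f ((X.fromSpecStalk x) 𝔭) = f x := (fibIdeal_le_iff f x 𝔭).1 hJI
    have h2 : (X.fromSpecStalk x) 𝔭 ⤳ x := fromSpecStalk_specializes x 𝔭
    have h3 := hgen _ h2 h1
    rw [← h𝔭ξ, specializes_iff_le] at h3
    exact h3
  · rw [fibIdeal_le_iff, h𝔭ξ]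
    exact hξ

theorem asIdeal_eq_bot [IsNoetherianRing (X.presheaf.stalk x)] (t : X.presheaf.stalk x)
    (ht : fibIdeal f x = Ideal.span {t})
    (𝔮 𝔭ξ : Spec (X.presheaf.stalk x))
    (hle : PrimeSpectrum.asIdeal 𝔮 ≤ PrimeSpectrum.asIdeal 𝔭ξ)
    (h𝔭ξ : PrimeSpectrum.asIdeal 𝔭ξ = fibIdeal f x)
    (hζ : f ((X.fromSpecStalk x) 𝔮) ≠ f x) : PrimeSpectrum.asIdeal 𝔮 = ⊥ := by
  have htq : t ∉ PrimeSpectrum.asIdeal 𝔮 := by
    intro h
    apply hζ
    rw [← fibIdeal_le_iff, ht, Ideal.span_singleton_le_iff_mem]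
    exact h
  have hsub : PrimeSpectrum.asIdeal 𝔮 ≤ Ideal.span {t} • PrimeSpectrum.asIdeal 𝔮 := by
    intro b hb
    have hb' : b ∈ Ideal.span {t} := by
      rw [← ht, ← h𝔭ξ]
      exact hle hb
    obtain ⟨c, rfl⟩ := Ideal.mem_span_singleton'.1 hb'
    have hc : c ∈ PrimeSpectrum.asIdeal 𝔮 :=
      ((PrimeSpectrum.isPrime 𝔮).mem_or_mem hb).resolve_right htq
    rw [mul_comm]
    exact Submodule.smul_mem_smul (Ideal.mem_span_singleton_self t) hc
  apply Submodule.eq_bot_of_le_smul_of_le_jacobson_bot (Ideal.span {t}) (PrimeSpectrum.asIdeal 𝔮)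
    (IsNoetherian.noetherian _) hsub
  rw [IsLocalRing.jacobson_eq_maximalIdeal ⊥ bot_ne_top, ← ht]
  exact fibIdeal_le f x

/-- **Key lemma**: if the fibre through `x` is reduced at `x` and irreducible near `x` with generic
point `ξ`, the maximal ideal of the base at `f x` is principal, the local ring at `x` is Noetherian,
and `ζ ⤳ ξ` lies outside the fibre, then every generization of `x` is a specialization of `ζ`
(the local ring at `x` is a domain with generic point `ζ`). -/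
theorem specializes_of_reduced_fibre [IsNoetherianRing (X.presheaf.stalk x)]
    (t : X.presheaf.stalk x) (ht : fibIdeal f x = Ideal.span {t})
    (hred : (fibIdeal f x).IsRadical)
    (ξ : X) (hξx : ξ ⤳ x) (hξ : f ξ = f x)
    (hgen : ∀ w : X, w ⤳ x → f w = f x → ξ ⤳ w)
    (ζ : X) (hζξ : ζ ⤳ ξ) (hζ : f ζ ≠ f x) (w : X) (hw : w ⤳ x) : ζ ⤳ w := by
  obtain ⟨𝔭ξ, h𝔭ξ⟩ := exists_prime_of_specializes x hξx
  obtain ⟨𝔮, h𝔮⟩ := exists_prime_of_specializes x (hζξ.trans hξx)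
  obtain ⟨𝔭w, h𝔭w⟩ := exists_prime_of_specializes x hw
  have h1 := asIdeal_eq_fibIdeal_of_generic f x ξ hξ hgen hred 𝔭ξ h𝔭ξ
  have hle : PrimeSpectrum.asIdeal 𝔮 ≤ PrimeSpectrum.asIdeal 𝔭ξ := by
    rw [← specializes_iff_le, h𝔮, h𝔭ξ]
    exact hζξ
  have h2 := asIdeal_eq_bot f x t ht 𝔮 𝔭ξ hle h1 (by rw [h𝔮]; exact hζ)
  rw [← h𝔮, ← h𝔭w, specializes_iff_le, h2]
  exact bot_le

theorem exists_fibIdeal_eq_span {R : Type u} [CommRing R] [IsDomain R] [IsDiscreteValuationRing R]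
    {X : Scheme.{u}} (f : X ⟶ Spec (CommRingCat.of R)) (x : X) (hx : f x = closedPoint R) :
    ∃ t, fibIdeal f x = Ideal.span {t} := by
  obtain ⟨ϖ, hϖ⟩ := IsDiscreteValuationRing.exists_irreducible R
  have hm : maximalIdeal R = Ideal.span {ϖ} := hϖ.maximalIdeal_eq
  let p : PrimeSpectrum R := f x
  have hpm : p.asIdeal = maximalIdeal R := by
    show PrimeSpectrum.asIdeal (f x) = _
    rw [hx]; rfl
  have : IsLocalRing ((Spec.structureSheaf R).presheaf.stalk p) :=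
    inferInstanceAs (IsLocalRing ((Spec (CommRingCat.of R)).presheaf.stalk (f x)))
  have h1 : Ideal.map (algebraMap R ((Spec.structureSheaf R).presheaf.stalk p))
      p.asIdeal = maximalIdeal _ :=
    IsLocalization.AtPrime.map_eq_maximalIdeal p.asIdeal _
  have h2 : maximalIdeal ((Spec.structureSheaf R).presheaf.stalk p) =
      Ideal.span {algebraMap R ((Spec.structureSheaf R).presheaf.stalk p) ϖ} := by
    rw [← h1, hpm, hm, Ideal.map_span, Set.image_singleton]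
  refine ⟨(f.stalkMap x).hom (algebraMap R ((Spec.structureSheaf R).presheaf.stalk p) ϖ), ?_⟩
  have h3 : fibIdeal f x = Ideal.map (f.stalkMap x).hom
      (maximalIdeal ((Spec.structureSheaf R).presheaf.stalk p)) := rfl
  rw [h3, h2]
  exact (Ideal.map_span _ _).trans (by rw [Set.image_singleton]; rfl)

end Groth.Agent.Lib.Helper22.StalkPrime
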