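import Mathlib
import Groth.Prelude
import Groth.Agent.Lib.Helper22.StalkPrime
import Groth.Agent.Lib.Helper73.DimFormula.FieldExtScheme

set_option autoImplicit false
set_option linter.style.haveILetI false
universe u

namespace Groth.Agent.Lib.Helper22.FibreRed

open CategoryTheory AlgebraicGeometry IsLocalRing Limits
open Groth.Agent.Lib.Helper67.FiberStalk Groth.Agent.Lib.Helper73

set_option backward.isDefEq.respectTransparency false in
/-- Geometric reducedness of a fibre at a point gives reducedness of the local rings of the fibres
of any base change at the points above it. -/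
theorem isReduced_stalk_fiber_of_isPullback {X Y P T : Scheme.{u}} (f : X ⟶ Y)
    [LocallyOfFiniteType f] (h : T ⟶ Y)
    (fst : P ⟶ X) (snd : P ⟶ T) (hsq : IsPullback fst snd f h) (p : P) (y : Y)
    (hy : h.base (snd.base p) = y) (z : ↥(f.fiber y)) (hz : (f.fiberι y).base z = fst.base p)
    (hα : FBase.IsGeomReducedAt (f.fiberToSpecResidueField y) z) :
    _root_.IsReduced ((snd.fiber (snd.base p)).presheaf.stalk (snd.asFiber p)) := by
  subst hy
  letI alg : Algebra (IsLocalRing.ResidueField (Y.presheaf.stalk (h.base (snd.base p))))
        (T.residueField (snd.base p)) := (h.residueFieldMap (snd.base p)).hom.toAlgebra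
  have hP := isPullback_fiberToSpecResidueField_of_isPullback hsq (snd.base p)
  set Φ := fiberMapOfIsPullback f h fst snd hsq (snd.base p) with hΦ
  have hΦι : Φ ≫ f.fiberι (h.base (snd.base p)) = snd.fiberι (snd.base p) ≫ fst :=
    fiberMapOfIsPullback_fiberι f h fst snd hsq (snd.base p)
  let e := hP.isoPullback
  have he : e.hom ≫ pullback.fst _ _ = Φ := hP.isoPullback_hom_fst
  have hwz : (FBase.bcπ (f.fiberToSpecResidueField (h.base (snd.base p)))
      (T.residueField (snd.base p))).base (e.hom.base (snd.asFiber p)) = z := by
    apply (f.fiberι (h.base (snd.base p))).isEmbedding.injective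
    rw [hz]
    have h1 : (FBase.bcπ (f.fiberToSpecResidueField (h.base (snd.base p)))
        (T.residueField (snd.base p))).base (e.hom.base (snd.asFiber p)) =
        Φ.base (snd.asFiber p) := by
      rw [← he]
      rfl
    rw [h1]
    have h2 := congrArg (fun φ => φ.base (snd.asFiber p)) hΦι
    simp only [Scheme.Hom.comp_base, TopCat.hom_comp, ContinuousMap.comp_apply] at h2
    rw [h2]
    exact congrArg fst.base (snd.fiberι_asFiber p)
  have hred := hα (T.residueField (snd.base p)) (e.hom.base (snd.asFiber p)) hwz
  -- transfer along the isomorphism `e`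
  have hiso : IsIso (e.hom.stalkMap (snd.asFiber p)) := inferInstance
  let φ := (asIso (e.hom.stalkMap (snd.asFiber p))).commRingCatIsoToRingEquiv
  exact @isReduced_of_injective _ _ _ _ _ _ _ φ.symm.toRingHom φ.symm.injective hred

theorem isRadical_fibIdeal_of_isReduced {X S : Scheme.{u}} (f : X ⟶ S) (x : X)
    (h : _root_.IsReduced ((f.fiber (f.base x)).presheaf.stalk (f.asFiber x))) :
    (fibIdeal f x).IsRadical := by
  rw [Ideal.isRadical_iff_quotient_reduced]
  let φ := fiberStalkEquiv f x
  exact isReduced_of_injective φ.symm.toRingHom φ.symm.injective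

end Groth.Agent.Lib.Helper22.FibreRed
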