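import Groth.Agent.Lib.Lead.PullbackAff6
import Mathlib.AlgebraicGeometry.FunctionField

set_option autoImplicit false
universe u
open CategoryTheory CategoryTheory.Limits AlgebraicGeometry TopologicalSpace TensorProduct
open SDiv

namespace Groth.Agent.Lib.Helper22.GenRank

open Groth.Agent.Lib.Lead.PullbackAff

theorem map_genericPoint {X Y : Scheme.{u}} [IsIntegral X] [IsIntegral Y] (f : X ⟶ Y)
    [IsDominant f] : f (genericPoint X) = genericPoint Y := by
  have h1 := (genericPoint_spec X).image f.continuous
  rw [Set.image_univ, f.denseRange.closure_range] at h1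
  exact h1.eq (genericPoint_spec Y)

theorem rank_stalk_pullback {X Y : Scheme.{u}} (f : X ⟶ Y) (G : Y.Modules) [G.IsQuasicoherent]
    (x : X) (hK : IsField (Y.presheaf.stalk (f x))) :
    Module.rank (X.presheaf.stalk x) (((Scheme.Modules.pullback f).obj G).presheaf.stalk x) =
      Module.rank (Y.presheaf.stalk (f x)) (G.presheaf.stalk (f x)) := by
  let := (f.stalkMap x).hom.toAlgebra
  obtain ⟨e⟩ := nonempty_stalk_pullback_equiv f G x
  rw [e.rank_eq]
  let := hK.toField
  rw [Module.rank_baseChange, Cardinal.lift_id]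

theorem rank_pullback_generic {X Y : Scheme.{u}} [IsIntegral X] [IsIntegral Y] (f : X ⟶ Y) [IsDominant f]
    (G : Y.Modules) (hG : Coh.IsQCoh G) :
    Module.rank ↑(X.presheaf.stalk (genericPoint ↥X)) ↑(((Scheme.Modules.pullback f).obj G).presheaf.stalk (genericPoint ↥X)) =
      Module.rank ↑(Y.presheaf.stalk (genericPoint ↥Y)) ↑(G.presheaf.stalk (genericPoint ↥Y)) := by
  have h := map_genericPoint f
  have hG' : G.IsQuasicoherent := hG
  have hK : IsField (Y.presheaf.stalk (f (genericPoint X))) := by
    rw [h]
    exact Field.toIsField Y.functionField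
  rw [rank_stalk_pullback f G (genericPoint X) hK]
  rw [h]

end Groth.Agent.Lib.Helper22.GenRank
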