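import Groth.Agent.Lib.Helper22.FlatDimSpec
import Groth.Agent.Lib.Helper22.GenRank
import Groth.Agent.Lib.Helper73.DimFormula.Hypersurface

/-!
# A flat dominant closed subscheme of maximal codimension in a proper family of relative
dimension `≤ n` is finite and surjective (helper22, core of S19040)
-/

set_option autoImplicit false
set_option linter.style.haveILetI false
open CategoryTheory AlgebraicGeometry TopologicalSpace Topology Limits
universe u

namespace Groth.Agent.Lib.Helper22.FlatCodimFinite

open Groth.Agent.Lib.Helper73 Groth.Agent.Lib.Helper22.FlatDimSpec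

/-- A generization of a point lying over the generic point of an integral scheme lies over the
generic point. -/
theorem map_eq_genericPoint_of_specializes {P X : Scheme.{u}} [IsIntegral X] (π : P ⟶ X)
    (p t : P) (hp : π p = genericPoint X) (ht : t ⤳ p) : π t = genericPoint X := by
  have h1 : π t ⤳ π p := ht.map π.continuous
  rw [hp] at h1
  have h2 : genericPoint X ⤳ π t := genericPoint_specializes _
  exact (h1.antisymm h2).eq

set_option backward.isDefEq.respectTransparency false in
theorem core {X P W : Scheme.{u}} [IsIntegral X] [IsIntegral W] (π : P ⟶ X) [IsProper π] (n : ℕ)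
    (hπ : ∀ p : P, FlatMor.fibreDimAt π p ≤ ((n : ℕ) : WithBot ℕ∞))
    (i : W ⟶ P) [IsClosedImmersion i]
    (hcodim : ringKrullDim (P.presheaf.stalk (i.base (genericPoint W))) = n)
    (f : W ⟶ X) (hf : i ≫ π = f) [IsDominant f] [Flat f] : IsFinite f ∧ Surjective f := by
  subst hf
  haveI : IsProper (i ≫ π) := inferInstance
  set ξ := genericPoint W with hξ
  set η := genericPoint X with hη
  have hfξ : (i ≫ π) ξ = η := Groth.Agent.Lib.Helper22.GenRank.map_genericPoint (i ≫ π)
  have hπξ : π (i ξ) = η := by
    rw [← hfξ]; rfl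
  -- the residual transcendence degree at `ξ` vanishes
  have h0 : resTrdegNat π (i ξ) = 0 := by
    have h1 := fibreDimAt_eq π (i ξ)
    have h2 : ringKrullDim ((π.fiber (π.base (i ξ))).presheaf.stalk (π.asFiber (i ξ))) = n := by
      rw [ringKrullDim_fiber_stalk_eq_krullDim, ← hcodim, ringKrullDim_stalk_eq_coheight,
        Order.coheight_eq_krullDim_Ici]
      have hset : {t : P | t ⤳ i ξ ∧ π t = π (i ξ)} = {t : P | t ⤳ i ξ} := by
        ext t
        constructor
        · exact fun h => h.1
        · intro h
          exact ⟨h, by rw [hπξ]; exact map_eq_genericPoint_of_specializes π _ t hπξ h⟩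
      rw [hset]
      rfl
    rw [h2] at h1
    have h3 := hπ (i ξ)
    rw [h1] at h3
    have h4 : ((n + resTrdegNat π (i ξ) : ℕ) : WithBot ℕ∞) ≤ ((n : ℕ) : WithBot ℕ∞) := by
      exact_mod_cast h3
    have h5 : n + resTrdegNat π (i ξ) ≤ n := by exact_mod_cast h4
    omega
  have h0' : resTrdegNat (i ≫ π) ξ = 0 := by
    rw [resTrdegNat_comp_of_isPreimmersion]; exact h0
  -- all points of the generic fibre have fibre dimension `0`
  have hgen : ∀ w : W, (i ≫ π).base w = η → FlatMor.fibreDimAt (i ≫ π) w ≤ ((0 : ℕ) : WithBot ℕ∞) := by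
    intro w hw
    refine fibreDimAt_le_of_forall_generization (i ≫ π) w 0 fun ζ _ hζ => ?_
    by_cases hne : ξ = ζ
    · rw [← hne, h0']
    · have hsp : ξ ⤳ ζ := genericPoint_specializes ζ
      have hfib : (i ≫ π) ξ = (i ≫ π) ζ := by
        rw [hfξ, hζ]; exact hw.symm
      have := resTrdegNat_lt_of_specializes_fiber (i ≫ π) ζ ξ hsp hfib hne
      omega
  -- hence all points, by flatness
  have hall : ∀ w : W, FlatMor.fibreDimAt (i ≫ π) w ≤ ((0 : ℕ) : WithBot ℕ∞) := by
    intro w
    exact fibreDimAt_le_of_specializes (i ≫ π) 0 w η (genericPoint_specializes _) hgen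
  haveI : LocallyQuasiFinite (i ≫ π) := by
    rw [← Scheme.Hom.quasiFiniteLocus_eq_top_iff]
    ext w
    simp only [Scheme.Hom.mem_quasiFiniteLocus, TopologicalSpace.Opens.coe_top, Set.mem_univ,
      iff_true, SetLike.mem_coe]
    rw [quasiFiniteAt_iff_fibreDimAt_le_zero]
    exact_mod_cast hall w
  refine ⟨IsFinite.of_isProper_of_locallyQuasiFinite (i ≫ π), ?_⟩
  -- surjective: closed and dense range
  constructor
  have hcl : IsClosed (Set.range (i ≫ π)) := (i ≫ π).isClosedMap.isClosed_range
  have hd : DenseRange (i ≫ π) := (i ≫ π).denseRange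
  intro x
  have : Set.range (i ≫ π) = Set.univ := by
    rw [← hcl.closure_eq]; exact hd.closure_range
  have hx : x ∈ Set.range (i ≫ π) := by rw [this]; trivial
  exact hx

end Groth.Agent.Lib.Helper22.FlatCodimFinite
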