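import Groth.Agent.Lib.Helper22.MiracleFlat
import Groth.Agent.Lib.Helper67.FlatDepth12
import Groth.Agent.Lib.Helper73.DimFormula.FieldExtScheme

/-!
# Dimensions of fibres of flat morphisms of schemes of finite type over a field (helper22)

* `coheight_eq_of_flat_of_maximal`: for flat `f`, `dim O_{X,x} = dim O_{Y,f x}` at points maximal
  in their fibres.
* `exists_maximal_of_mem_irreducibleComponents`, `exists_irreducibleComponent_fiber_of_maximal`.
* `coheight_add_trdegNat_eq_of_flat`, `equidim_iff_fibres_equidim_of_flat`,
  `exists_dim_irreducibleComponents_of_irreducible`,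
  `dim_le_and_fibres_equidim_of_flat_of_irreducible`.
* `image_mem_irreducibleComponents_of_homeomorph`, `dim_irreducibleComponent_preimage_of_flat`.
-/

set_option linter.style.haveILetI false

open CategoryTheory Limits AlgebraicGeometry
open Groth.Agent.Lib.Helper73
open IsLocalRing

namespace Groth.Agent.Lib.Helper22.FlatDim

universe u

section Local

/-- For a flat morphism of locally Noetherian schemes, at a point which is maximal in its fibre
the local rings of source and target have the same dimension. -/
theorem coheight_eq_of_flat_of_maximal {X Y : Scheme.{u}} [IsLocallyNoetherian X]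
    [IsLocallyNoetherian Y] (f : X ⟶ Y) [Flat f] (x : X)
    (hmax : ∀ t : X, t ⤳ x → f t = f x → t = x) :
    Order.coheight x = Order.coheight (f x) := by
  have hfl : (f.stalkMap x).hom.Flat := Flat.stalkMap f x
  have dF : ringKrullDim (X.presheaf.stalk x ⧸
      (maximalIdeal (Y.presheaf.stalk (f x))).map (f.stalkMap x).hom) = 0 := by
    rw [Miracle.ringKrullDim_stalk_quotient_map_maximalIdeal]
    haveI : Nonempty ↥{t : X | t ⤳ x ∧ f t = f x} := ⟨⟨x, specializes_rfl, rfl⟩⟩
    haveI : Subsingleton ↥{t : X | t ⤳ x ∧ f t = f x} :=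
      ⟨fun a b => Subtype.ext ((hmax a.1 a.2.1 a.2.2).trans (hmax b.1 b.2.1 b.2.2).symm)⟩
    exact Order.krullDim_eq_zero
  have dS := ringKrullDim_stalk_eq_coheight x
  have dR := ringKrullDim_stalk_eq_coheight (f x)
  algebraize [(f.stalkMap x).hom]
  haveI : IsLocalHom (algebraMap (Y.presheaf.stalk (f x)) (X.presheaf.stalk x)) := by
    rw [RingHom.algebraMap_toAlgebra]; infer_instance
  have key := Groth.Agent.Lib.Helper67.ringKrullDim_eq_add_fibre_of_flat
    (R := Y.presheaf.stalk (f x)) (S := X.presheaf.stalk x)
  rw [RingHom.algebraMap_toAlgebra, dF, add_zero, dS, dR] at key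
  exact_mod_cast key

end Local

section Components

/-- An irreducible component of a scheme locally of finite type over a field has a generic point,
which is a maximal point, and its dimension is the transcendence degree at that point. -/
theorem exists_maximal_of_mem_irreducibleComponents {K : Type u} [Field K] {X : Scheme.{u}}
    (p : X ⟶ Spec (.of K)) [LocallyOfFiniteType p] (W : Set X)
    (hW : W ∈ irreducibleComponents X) :
    ∃ ξ : X, (∀ t : X, t ⤳ ξ → t = ξ) ∧
      topologicalKrullDim ↥W = ((trdegNat p ξ : ℕ∞) : WithBot ℕ∞) := by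
  have hirr : IsIrreducible W := hW.1
  have hcl : IsClosed W := isClosed_of_mem_irreducibleComponents W hW
  obtain ⟨ξ, hξ⟩ := QuasiSober.sober hirr hcl
  have hWξ : W = closure {ξ} := hξ.def.symm
  refine ⟨ξ, fun t ht => ?_, ?_⟩
  · have h1 : closure ({ξ} : Set X) ⊆ closure {t} := (specializes_iff_closure_subset).mp ht
    have h2 : IsIrreducible (closure ({t} : Set X)) := isIrreducible_singleton.closure
    have h3 : closure ({t} : Set X) ⊆ W := hW.2 h2 (hWξ ▸ h1)
    have h4 : ξ ⤳ t := by
      rw [specializes_iff_mem_closure, ← hWξ]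
      exact h3 (subset_closure rfl)
    exact (h4.antisymm ht).eq.symm
  · rw [hWξ]
    exact (isDimFun_trdegNat p).topologicalKrullDim_closure_singleton ξ

/-- A point which is maximal in its fibre is the generic point of an irreducible component of the
fibre, whose dimension is the residual transcendence degree. -/
theorem exists_irreducibleComponent_fiber_of_maximal {X Y : Scheme.{u}} (f : X ⟶ Y)
    [LocallyOfFiniteType f] (x : X) (hmax : ∀ t : X, t ⤳ x → f t = f x → t = x) :
    ∃ Z ∈ irreducibleComponents ↥(f.fiber (f x)),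
      topologicalKrullDim ↥Z = ((resTrdegNat f x : ℕ∞) : WithBot ℕ∞) := by
  let a := f.asFiber x
  refine ⟨irreducibleComponent a, irreducibleComponent_mem_irreducibleComponents a, ?_⟩
  have hcl : IsClosed (irreducibleComponent a) := isClosed_irreducibleComponent
  obtain ⟨η, hη⟩ := QuasiSober.sober (isIrreducible_irreducibleComponent (x := a)) hcl
  have h1 : η ⤳ a := hη.specializes mem_irreducibleComponent
  have h2 : f.fiberι (f x) η ⤳ x := by
    have := h1.map (f.fiberι (f x)).continuous
    rwa [f.fiberι_asFiber x] at this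
  have h3 : f (f.fiberι (f x) η) = f x := by
    have : f.fiberι (f x) η ∈ Set.range (f.fiberι (f x)) := ⟨_, rfl⟩
    rw [f.range_fiberι (f x)] at this
    exact this
  have h4 : f.fiberι (f x) η = x := hmax _ h2 h3
  have h5 : η = a := by
    apply (f.fiberι (f x)).isEmbedding.injective
    rw [h4, f.fiberι_asFiber x]
  rw [← hη.def, h5]
  have := (isDimFun_trdegNat (k := Y.residueField (f x))
    (f.fiberToSpecResidueField (f x))).topologicalKrullDim_closure_singleton a
  rw [this, trdegNat_fiber_eq_resTrdegNat, f.fiberι_asFiber x]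

end Components

section Main

variable {k : Type u} [Field k]

/-- The basic dimension relation for a flat morphism of schemes locally of finite type over a
field at a point which is maximal in its fibre. -/
theorem coheight_add_trdegNat_eq_of_flat {X Y : Scheme.{u}} (qX : X ⟶ Spec (.of k))
    (qY : Y ⟶ Spec (.of k)) [LocallyOfFiniteType qX] [LocallyOfFiniteType qY]
    (f : X ⟶ Y) (hf : f ≫ qY = qX) [Flat f] (x : X)
    (hmax : ∀ t : X, t ⤳ x → f t = f x → t = x) :
    haveI : LocallyOfFiniteType (f ≫ qY) := by rw [hf]; infer_instance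
    haveI : LocallyOfFiniteType f := locallyOfFiniteType_of_comp f qY
    Order.coheight x + (trdegNat qX x : ℕ∞) =
      Order.coheight (f x) + (trdegNat qY (f x) : ℕ∞) + (resTrdegNat f x : ℕ∞) := by
  haveI : LocallyOfFiniteType (f ≫ qY) := by rw [hf]; infer_instance
  haveI : LocallyOfFiniteType f := locallyOfFiniteType_of_comp f qY
  haveI : IsLocallyNoetherian X := LocallyOfFiniteType.isLocallyNoetherian qX
  haveI : IsLocallyNoetherian Y := LocallyOfFiniteType.isLocallyNoetherian qY
  have hcomp : trdegNat qX x = trdegNat qY (f x) + resTrdegNat f x := by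
    rw [AbVarIsogeny.trdegNat_eq_resTrdegNat, AbVarIsogeny.trdegNat_eq_resTrdegNat,
      ← resTrdegNat_comp]
    unfold resTrdegNat
    rw [resTrdeg_congr hf]
  rw [coheight_eq_of_flat_of_maximal f x hmax, hcomp]
  push_cast
  rw [add_assoc]

/-- A flat morphism between schemes of finite type over a field, with equidimensional target of
dimension `d`: the source is equidimensional of dimension `d + n` iff all fibres are
equidimensional of dimension `n`. -/
theorem equidim_iff_fibres_equidim_of_flat {X Y : Scheme.{u}} (qX : X ⟶ Spec (.of k))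
    (qY : Y ⟶ Spec (.of k)) [LocallyOfFiniteType qX] [LocallyOfFiniteType qY]
    (f : X ⟶ Y) (hf : f ≫ qY = qX) [Flat f] (d n : ℕ)
    (hY : ∀ Z ∈ irreducibleComponents (Y : Type u), topologicalKrullDim Z = (d : WithBot ℕ∞)) :
    (∀ Z ∈ irreducibleComponents (X : Type u),
        topologicalKrullDim Z = ((d + n : ℕ) : WithBot ℕ∞)) ↔
      ∀ (y : Y), ∀ Z ∈ irreducibleComponents (f.fiber y : Type u),
        topologicalKrullDim Z = (n : WithBot ℕ∞) := by
  haveI : LocallyOfFiniteType (f ≫ qY) := by rw [hf]; infer_instance
  haveI : LocallyOfFiniteType f := locallyOfFiniteType_of_comp f qY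
  constructor
  · intro hX y Z hZ
    obtain ⟨x, hx, hmax, hdim⟩ :=
      FibreEquidim.exists_maximal_dim_irreducibleComponent_fiber f y Z hZ
    have h1 := coheight_add_trdegNat_eq_of_flat qX qY f hf x hmax
    have h2 := Miracle.coheight_add_trdegNat_eq qX (d + n) hX x
    have h3 := Miracle.coheight_add_trdegNat_eq qY d hY (f x)
    rw [h2, h3] at h1
    have h4 : d + n = d + resTrdegNat f x := by exact_mod_cast h1
    rw [hdim]
    have : resTrdegNat f x = n := by omega
    rw [this]; rfl
  · intro hfib W hW
    obtain ⟨ξ, hξmax, hdim⟩ := exists_maximal_of_mem_irreducibleComponents qX W hW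
    have hmax : ∀ t : X, t ⤳ ξ → f t = f ξ → t = ξ := fun t ht _ => hξmax t ht
    obtain ⟨Z, hZ, hZdim⟩ := exists_irreducibleComponent_fiber_of_maximal f ξ hmax
    have hr : resTrdegNat f ξ = n := by
      have := hfib (f ξ) Z hZ
      rw [hZdim] at this
      exact_mod_cast this
    have h1 := coheight_add_trdegNat_eq_of_flat qX qY f hf ξ hmax
    have h3 := Miracle.coheight_add_trdegNat_eq qY d hY (f ξ)
    have h0 : Order.coheight ξ = 0 := by
      rw [Order.coheight_eq_zero]
      intro b hb
      have : b = ξ := hξmax b hb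
      rw [this]
    rw [h0, zero_add, h3, hr] at h1
    rw [hdim]
    have : trdegNat qX ξ = d + n := by exact_mod_cast h1
    rw [this]
    rfl

/-- An irreducible scheme locally of finite type over a field is equidimensional of finite
dimension. -/
theorem exists_dim_irreducibleComponents_of_irreducible {Y : Scheme.{u}} (qY : Y ⟶ Spec (.of k))
    [LocallyOfFiniteType qY] [IrreducibleSpace Y] :
    ∃ d : ℕ, topologicalKrullDim Y = (d : WithBot ℕ∞) ∧
      ∀ Z ∈ irreducibleComponents (Y : Type u), topologicalKrullDim Z = (d : WithBot ℕ∞) := by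
  refine ⟨resTrdegNat qY (genericPoint Y),
    AbVarIsogeny.topologicalKrullDim_eq_resTrdegNat_genericPoint qY, fun Z hZ => ?_⟩
  rw [irreducibleComponents_eq_singleton, Set.mem_singleton_iff] at hZ
  subst hZ
  have h1 := AbVarIsogeny.topologicalKrullDim_eq_resTrdegNat_genericPoint qY
  have h2 : topologicalKrullDim ↥(Set.univ : Set Y) = topologicalKrullDim Y :=
    IsHomeomorph.topologicalKrullDim_eq _ (Homeomorph.Set.univ Y).isHomeomorph
  rw [h2, h1]
  rfl

/-- Fibres of a flat morphism between irreducible schemes of finite type over a field are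
equidimensional of dimension `dim X - dim Y`. -/
theorem dim_le_and_fibres_equidim_of_flat_of_irreducible {X Y : Scheme.{u}}
    (qX : X ⟶ Spec (.of k)) (qY : Y ⟶ Spec (.of k)) [LocallyOfFiniteType qX]
    [LocallyOfFiniteType qY] [IrreducibleSpace X] [IrreducibleSpace Y]
    (f : X ⟶ Y) (hf : f ≫ qY = qX) [Flat f] :
    topologicalKrullDim Y ≤ topologicalKrullDim X ∧
      ∀ (y : Y), ∀ Z ∈ irreducibleComponents (f.fiber y : Type u),
        topologicalKrullDim Z + topologicalKrullDim Y = topologicalKrullDim X := by
  haveI : LocallyOfFiniteType (f ≫ qY) := by rw [hf]; infer_instance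
  haveI : LocallyOfFiniteType f := locallyOfFiniteType_of_comp f qY
  obtain ⟨e, he, hX⟩ := exists_dim_irreducibleComponents_of_irreducible qX
  obtain ⟨d, hd, hY⟩ := exists_dim_irreducibleComponents_of_irreducible qY
  have key : ∀ x : X, (∀ t : X, t ⤳ x → f t = f x → t = x) → e = d + resTrdegNat f x := by
    intro x hmax
    have h1 := coheight_add_trdegNat_eq_of_flat qX qY f hf x hmax
    have h2 := Miracle.coheight_add_trdegNat_eq qX e hX x
    have h3 := Miracle.coheight_add_trdegNat_eq qY d hY (f x)
    rw [h2, h3] at h1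
    exact_mod_cast h1
  rw [he, hd]
  constructor
  · have := key (genericPoint X) (fun t ht _ =>
      ((genericPoint_specializes t).antisymm ht).eq.symm)
    exact_mod_cast (by omega : d ≤ e)
  · intro y Z hZ
    obtain ⟨x, hx, hmax, hdim⟩ :=
      FibreEquidim.exists_maximal_dim_irreducibleComponent_fiber f y Z hZ
    have := key x hmax
    rw [hdim]
    exact_mod_cast (by omega : resTrdegNat f x + d = e)

end Main

section Homeo

/-- Homeomorphisms preserve irreducible components and their dimensions. -/
lemma image_mem_irreducibleComponents_of_homeomorph {A B : Type*} [TopologicalSpace A]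
    [TopologicalSpace B] (φ : A ≃ₜ B) (W : Set A) (hW : W ∈ irreducibleComponents A) :
    φ '' W ∈ irreducibleComponents B ∧ topologicalKrullDim ↥(φ '' W) = topologicalKrullDim ↥W :=
  ⟨image_mem_irreducibleComponents_of_isPreirreducible_fiber φ φ.continuous φ.isOpenMap
      (fun _ => (Set.subsingleton_singleton.preimage φ.injective).isPreirreducible)
      φ.surjective hW,
    (IsHomeomorph.topologicalKrullDim_eq _ (φ.image W).isHomeomorph).symm⟩

end Homeo

section BaseChange

variable {k : Type u} [Field k]

set_option backward.isDefEq.respectTransparency false in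
/-- Flat morphism `f : X → Y` of schemes of finite type over a field with `Y` irreducible and `X`
equidimensional of dimension `dim Y + n`: for every base change `f'` to a scheme `Y'` of finite
type and every irreducible closed subset `V` of `Y'`, the preimage of `V` under `f'` is
equidimensional of dimension `dim V + n`. -/
theorem dim_irreducibleComponent_preimage_of_flat {X Y Y' : Scheme.{u}}
    (qX : X ⟶ Spec (.of k)) (qY : Y ⟶ Spec (.of k)) (qY' : Y' ⟶ Spec (.of k))
    [LocallyOfFiniteType qX] [LocallyOfFiniteType qY] [LocallyOfFiniteType qY']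
    [IrreducibleSpace ↥Y] (f : X ⟶ Y) (hf : f ≫ qY = qX) [Flat f] (n : ℕ)
    (hX : ∀ Z : Set ↥X, Z ∈ irreducibleComponents ↥X →
      topologicalKrullDim ↥Z = topologicalKrullDim ↥Y + (n : WithBot ℕ∞))
    (g : Y' ⟶ Y)
    (V : Set ↥Y') (hV : IsClosed V) (hVirr : IsIrreducible V)
    (W : Set ↥((pullback.snd f g) ⁻¹' V))
    (hW : W ∈ irreducibleComponents ↥((pullback.snd f g) ⁻¹' V)) :
    topologicalKrullDim ↥W = topologicalKrullDim ↥V + (n : WithBot ℕ∞) := by
  haveI : LocallyOfFiniteType (f ≫ qY) := by rw [hf]; infer_instance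
  haveI : LocallyOfFiniteType f := locallyOfFiniteType_of_comp f qY
  -- the fibres of `f` are equidimensional of dimension `n`
  obtain ⟨d, hd, hY⟩ := exists_dim_irreducibleComponents_of_irreducible qY
  have hrel : Cyc.HasRelDim f n := by
    have key := (equidim_iff_fibres_equidim_of_flat qX qY f hf d n hY).mp
    intro y T hT
    refine key (fun Z hZ => ?_) y T hT
    rw [hX Z hZ, hd]
    push_cast; rfl
  -- base change to `Y'`
  let f' := pullback.snd f g
  have hrel' : Cyc.HasRelDim f' n :=
    hasRelDim_of_isPullback f g (pullback.fst f g) f' (IsPullback.of_hasPullback f g) n hrel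
  -- the closed subscheme `V'` of `Y'` with underlying set `V`
  let I := Scheme.IdealSheafData.vanishingIdeal ⟨V, hV⟩
  let i : I.subscheme ⟶ Y' := I.subschemeι
  have hri : Set.range i = V := by
    rw [Scheme.IdealSheafData.range_subschemeι, Scheme.IdealSheafData.coe_support_vanishingIdeal]
    rfl
  let f'' := pullback.snd f' i
  let j := pullback.fst f' i
  have hrel'' : Cyc.HasRelDim f'' n :=
    hasRelDim_of_isPullback f' i j f'' (IsPullback.of_hasPullback f' i) n hrel'
  have hrj : Set.range j = f' ⁻¹' V := by
    rw [Scheme.Pullback.range_fst, hri]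
  -- homeomorphisms
  let e1 : ↥I.subscheme ≃ₜ ↥V :=
    (i.isEmbedding.toHomeomorph).trans (Homeomorph.setCongr hri)
  let e2 : ↥(pullback f' i) ≃ₜ ↥(f' ⁻¹' V) :=
    (j.isEmbedding.toHomeomorph).trans (Homeomorph.setCongr hrj)
  haveI : IrreducibleSpace ↥V := Subtype.irreducibleSpace hVirr
  haveI : IrreducibleSpace ↥I.subscheme := e1.irreducibleSpace_iff.mpr inferInstance
  have hdimV : topologicalKrullDim ↥I.subscheme = topologicalKrullDim ↥V :=
    IsHomeomorph.topologicalKrullDim_eq _ e1.isHomeomorph
  -- apply the flat dimension theorem to `f''`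
  let qV : I.subscheme ⟶ Spec (.of k) := i ≫ qY'
  obtain ⟨d', hd', hV'⟩ := exists_dim_irreducibleComponents_of_irreducible qV
  have key := (equidim_iff_fibres_equidim_of_flat (f'' ≫ qV) qV f'' rfl d' n hV').mpr hrel''
  obtain ⟨h1, h2⟩ := image_mem_irreducibleComponents_of_homeomorph e2.symm W hW
  rw [← h2, key _ h1, ← hdimV, hd']
  push_cast; rfl

end BaseChange

end Groth.Agent.Lib.Helper22.FlatDim
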