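import Groth.Agent.Lib.Helper22.FlatDimDense
import Groth.Agent.Lib.Helper73.DimFormula.FibreDimSemi

set_option autoImplicit false
open CategoryTheory AlgebraicGeometry TopologicalSpace
universe u

namespace Groth.Agent.Lib.Helper22.FlatDimClosure

open Groth.Agent.Lib.Helper73 Groth.Agent.Lib.Helper22.FlatDimDense

/-- Fibre dimension bounds of a flat l.f.p. morphism extend to the closure of a subset of the
base. -/
theorem fibreDimAt_le_of_mem_closure_lfp {X S : Scheme.{u}} (f : X ⟶ S) [Flat f]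
    [LocallyOfFinitePresentation f] (T : Set S) (e : ℕ)
    (hle : ∀ x : X, f x ∈ T → FlatMor.fibreDimAt f x ≤ e) (x : X) (hx : f x ∈ closure T) :
    FlatMor.fibreDimAt f x ≤ e := by
  obtain ⟨n, hn⟩ := exists_fibreDimAt_eq_natCast f x
  obtain ⟨ζ, h1, h2, h3, hmax⟩ := exists_maximal_generization f x n hn
  have hCM := isCMAt_of_maximal_fiber f ζ (Flat.stalkMap f ζ) hmax
  obtain ⟨W, hζW, hW⟩ := exists_open_fibreDimAt_eq_of_isCMAt_fp f ζ hCM
  have hopen : IsOpen (f.base '' (W : Set X)) := f.isOpenMap _ W.isOpen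
  have hx' : f.base ζ ∈ closure T := by rw [h2]; exact hx
  obtain ⟨s, hsW, hsU⟩ := mem_closure_iff.mp hx' _ hopen ⟨ζ, hζW, rfl⟩
  obtain ⟨w, hw, rfl⟩ := hsW
  have h4 := hle w hsU
  rw [hW w hw, fibreDimAt_eq_resTrdegNat_of_maximal f ζ hmax, h3] at h4
  rw [hn]
  exact h4

/-- A morphism is quasi-finite at the points over an open over which it is locally quasi-finite. -/
theorem quasiFiniteAt_of_restrict {X S : Scheme.{u}} (f : X ⟶ S) (U : S.Opens)
    [LocallyQuasiFinite (f ∣_ U)] (x : X) (hx : f x ∈ U) : f.QuasiFiniteAt x := by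
  have h0 : (f ∣_ U ≫ U.ι).QuasiFiniteAt ⟨x, hx⟩ := Scheme.Hom.quasiFiniteAt _ _
  have h1 : ((f ⁻¹ᵁ U).ι ≫ f).QuasiFiniteAt ⟨x, hx⟩ := by
    have e : f ∣_ U ≫ U.ι = (f ⁻¹ᵁ U).ι ≫ f := morphismRestrict_ι f U
    rw [e] at h0
    exact h0
  have h2 := Scheme.Hom.quasiFiniteAt_comp_iff_of_isOpenImmersion.mp h1
  have e2 : (f ⁻¹ᵁ U).ι ⟨x, hx⟩ = x := rfl
  rw [e2] at h2
  exact h2

/-- Conversely the restriction is locally quasi-finite if the morphism is quasi-finite at all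
points over the open. -/
theorem locallyQuasiFinite_restrict {X S : Scheme.{u}} (f : X ⟶ S) [LocallyOfFiniteType f]
    (U : S.Opens) (h : ∀ x : X, f x ∈ U → f.QuasiFiniteAt x) : LocallyQuasiFinite (f ∣_ U) := by
  rw [← Scheme.Hom.quasiFiniteLocus_eq_top_iff]
  refine top_le_iff.mp fun x' _ => ?_
  rw [Scheme.Hom.mem_quasiFiniteLocus]
  have h2 : f.QuasiFiniteAt ((f ⁻¹ᵁ U).ι x') := h _ x'.2
  have h1 : ((f ⁻¹ᵁ U).ι ≫ f).QuasiFiniteAt x' :=
    Scheme.Hom.quasiFiniteAt_comp_iff_of_isOpenImmersion.mpr h2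
  have e : f ∣_ U ≫ U.ι = (f ⁻¹ᵁ U).ι ≫ f := morphismRestrict_ι f U
  rw [← e] at h1
  exact Scheme.Hom.quasiFiniteAt_comp_iff.mp h1

/-- A flat proper l.f.p. morphism finite over a dense open is finite. -/
theorem isFinite_of_dense {X S : Scheme.{u}} (f : X ⟶ S) [Flat f] [IsProper f]
    [LocallyOfFinitePresentation f] (U : S.Opens)
    (hU : Dense (U : Set ↑S)) [IsFinite (f ∣_ U)] : IsFinite f := by
  have key : ∀ x : X, FlatMor.fibreDimAt f x ≤ ((0 : ℕ) : WithBot ℕ∞) := by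
    intro x
    refine fibreDimAt_le_of_dense_lfp f U hU 0 ?_ x
    intro x hx
    have := (quasiFiniteAt_iff_fibreDimAt_le_zero f x).mp (quasiFiniteAt_of_restrict f U x hx)
    exact this
  haveI : LocallyQuasiFinite f := by
    rw [← Scheme.Hom.quasiFiniteLocus_eq_top_iff]
    refine top_le_iff.mp fun x _ => ?_
    rw [Scheme.Hom.mem_quasiFiniteLocus]
    exact (quasiFiniteAt_iff_fibreDimAt_le_zero f x).mpr (key x)
  exact IsFinite.of_isProper_of_locallyQuasiFinite f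

lemma withBot_enat_eq_zero_iff (a : WithBot ℕ∞) : a = 0 ↔ a ≤ 0 ∧ a ≠ ⊥ := by
  constructor
  · rintro rfl
    exact ⟨le_rfl, by simp⟩
  · rintro ⟨h1, h2⟩
    obtain ⟨b, rfl⟩ := WithBot.ne_bot_iff_exists.mp h2
    have : b ≤ 0 := by exact_mod_cast h1
    have : b = 0 := le_antisymm this zero_le
    rw [this]; rfl

/-- A fibre has dimension zero iff it is nonempty and the morphism is quasi-finite at each of
its points. -/
theorem dim_preimage_eq_zero_iff {X Y : Scheme.{u}} (f : X ⟶ Y) [LocallyOfFiniteType f] (y : Y) :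
    topologicalKrullDim (f.base ⁻¹' {y}) = 0 ↔
      y ∈ Set.range f ∧ ∀ x : X, f x = y → FlatMor.fibreDimAt f x ≤ ((0 : ℕ) : WithBot ℕ∞) := by
  rw [← IsHomeomorph.topologicalKrullDim_eq _ (f.fiberHomeo y).isHomeomorph,
    withBot_enat_eq_zero_iff, ← topologicalKrullDim_fiber_le_iff f y 0,
    Ne, topologicalKrullDim_fiber_eq_bot_iff, not_not, and_comm]
  rfl

/-- = S10889. -/
theorem isClopen_and_isFinite {X Y : Scheme.{u}} (f : X ⟶ Y) [IsProper f] [Flat f]
    [LocallyOfFinitePresentation f] :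
    IsClopen {y : Y | topologicalKrullDim (f.base ⁻¹' {y}) = 0} ∧
      ∀ U : Y.Opens, (U : Set Y) ⊆ {y : Y | topologicalKrullDim (f.base ⁻¹' {y}) = 0} →
        IsFinite (f ∣_ U) := by
  set V := {y : Y | topologicalKrullDim (f.base ⁻¹' {y}) = 0} with hV
  have hmem : ∀ y, y ∈ V ↔ y ∈ Set.range f ∧
      ∀ x : X, f x = y → FlatMor.fibreDimAt f x ≤ ((0 : ℕ) : WithBot ℕ∞) :=
    fun y => dim_preimage_eq_zero_iff f y
  have hFo : IsOpen {x : X | FlatMor.fibreDimAt f x ≤ ((0 : ℕ) : WithBot ℕ∞)} :=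
    isOpen_fibreDimAt_le 0 X Y f
  let F := {x : X | FlatMor.fibreDimAt f x ≤ ((0 : ℕ) : WithBot ℕ∞)}ᶜ
  have hFc : IsClosed F := hFo.isClosed_compl
  have hfF : IsClosed (f '' F) := f.isClosedMap _ hFc
  have hro : IsOpen (Set.range f) := f.isOpenMap.isOpen_range
  have hrc : IsClosed (Set.range f) := f.isClosedMap.isClosed_range
  have hVeq : V = Set.range f ∩ (f '' F)ᶜ := by
    ext y
    rw [hmem]
    constructor
    · rintro ⟨h1, h2⟩
      refine ⟨h1, ?_⟩
      rintro ⟨x, hxF, rfl⟩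
      exact hxF (h2 x rfl)
    · rintro ⟨h1, h2⟩
      refine ⟨h1, fun x hx => ?_⟩
      by_contra hcon
      exact h2 ⟨x, hcon, hx⟩
  refine ⟨⟨?_, ?_⟩, ?_⟩
  · rw [← closure_subset_iff_isClosed]
    intro y hy
    rw [hmem]
    refine ⟨closure_minimal (fun y hy => ((hmem y).mp hy).1) hrc hy, fun x hx => ?_⟩
    exact fibreDimAt_le_of_mem_closure_lfp f V 0 (fun x' hx' => ((hmem _).mp hx').2 x' rfl) x
      (by rw [hx]; exact hy)
  · rw [hVeq]
    exact hro.inter hfF.isOpen_compl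
  · intro U hU
    haveI : LocallyQuasiFinite (f ∣_ U) := locallyQuasiFinite_restrict f U fun x hx =>
      (quasiFiniteAt_iff_fibreDimAt_le_zero f x).mpr (((hmem _).mp (hU hx)).2 x rfl)
    exact IsFinite.of_isProper_of_locallyQuasiFinite (f ∣_ U)

end Groth.Agent.Lib.Helper22.FlatDimClosure
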