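import Groth.Agent.Lib.Helper22.ValTrdegSch
import Groth.Agent.Lib.Helper73.DimFormula.CMFlat.CMOpenFP
import Groth.Agent.Lib.Helper73.DimFormula.FieldExtScheme
import Groth.Agent.Lib.Helper73.DimFormula.EquidimAt
import Groth.Agent.Lib.Helper12.Subtr
import Groth.Agent.Lib.Helper41.QCClosure

/-!
# Fibre dimension bounds extend from a dense open for flat morphisms (helper22, Stacks 0D4J)

* `exists_maximal_generization`: a generization in the fibre realising `fibreDimAt`, maximal in
  the fibre.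
* `fibreDimAt_le_of_dense_lfp`: flat + l.f.p. (via helper73 CM locus `CMOpenFP`).
* `fibreDimAt_le_of_dense_retrocompact`: flat + l.f.t., `U` retrocompact (valuation rings).
* `fibreDimAt_le_of_dense` = S1240.
-/


set_option autoImplicit false
set_option linter.style.haveILetI false
open CategoryTheory AlgebraicGeometry TopologicalSpace Topology Limits
universe u

namespace Groth.Agent.Lib.Helper22.FlatDimDense

open Groth.Agent.Lib.Helper73

/-- A generization in the fibre realising the local fibre dimension; it is maximal in the fibre. -/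
theorem exists_maximal_generization {X Y : Scheme.{u}} (f : X ⟶ Y) [LocallyOfFiniteType f]
    (x : X) (n : ℕ) (hn : FlatMor.fibreDimAt f x = n) :
    ∃ ζ : X, ζ ⤳ x ∧ f.base ζ = f.base x ∧ resTrdegNat f ζ = n ∧
      ∀ t : X, t ⤳ ζ → f.base t = f.base ζ → t = ζ := by
  obtain ⟨ζ, h1, h2, h3⟩ : ∃ ζ : X, ζ ⤳ x ∧ f.base ζ = f.base x ∧ n ≤ resTrdegNat f ζ := by
    by_contra hcon
    push Not at hcon
    have h0 : resTrdegNat f x < n := hcon _ specializes_rfl rfl
    have h1 : FlatMor.fibreDimAt f x ≤ ((n - 1 : ℕ) : WithBot ℕ∞) := by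
      refine fibreDimAt_le_of_forall_generization f _ _ fun ζ hζ hsζ => ?_
      have := hcon ζ hζ hsζ
      omega
    rw [hn] at h1
    have h3 : n ≤ n - 1 := by exact_mod_cast h1
    omega
  have hle : ∀ t : X, t ⤳ x → f.base t = f.base x → resTrdegNat f t ≤ n := by
    intro t ht hft
    have := resTrdegNat_le_fibreDimAt_of_specializes f x t ht hft
    rw [hn] at this
    exact_mod_cast this
  refine ⟨ζ, h1, h2, le_antisymm (hle ζ h1 h2) h3, fun t ht hft => ?_⟩
  by_contra hne
  have := resTrdegNat_lt_of_specializes_fiber f ζ t ht hft hne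
  have := hle t (ht.trans h1) (hft.trans h2)
  omega

/-- Case of a morphism locally of finite presentation. -/
theorem fibreDimAt_le_of_dense_lfp {X S : Scheme.{u}} (f : X ⟶ S) [Flat f]
    [LocallyOfFinitePresentation f]
    (U : S.Opens) (hU : Dense (U : Set S)) (e : ℕ)
    (hle : ∀ x : X, f.base x ∈ U → FlatMor.fibreDimAt f x ≤ e) (x : X) :
    FlatMor.fibreDimAt f x ≤ e := by
  obtain ⟨n, hn⟩ := exists_fibreDimAt_eq_natCast f x
  obtain ⟨ζ, h1, h2, h3, hmax⟩ := exists_maximal_generization f x n hn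
  have hCM := isCMAt_of_maximal_fiber f ζ (Flat.stalkMap f ζ) hmax
  obtain ⟨W, hζW, hW⟩ := exists_open_fibreDimAt_eq_of_isCMAt_fp f ζ hCM
  have hopen : IsOpen (f.base '' (W : Set X)) := f.isOpenMap _ W.isOpen
  obtain ⟨s, hsW, hsU⟩ := hU.inter_open_nonempty _ hopen ⟨_, ζ, hζW, rfl⟩
  obtain ⟨w, hw, rfl⟩ := hsW
  have h4 := hle w hsU
  rw [hW w hw, fibreDimAt_eq_resTrdegNat_of_maximal f ζ hmax, h3] at h4
  rw [hn]
  exact h4


/-- Case of a retrocompact dense open: valuation rings. -/
theorem fibreDimAt_le_of_dense_retrocompact {X S : Scheme.{u}} (f : X ⟶ S) [Flat f]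
    [LocallyOfFiniteType f]
    (U : S.Opens) (hU : Dense (U : Set S)) (e : ℕ)
    (hle : ∀ x : X, f.base x ∈ U → FlatMor.fibreDimAt f x ≤ e)
    (h : IsRetrocompact (U : Set S)) (x : X) :
    FlatMor.fibreDimAt f x ≤ e := by
  -- a point of `U` specializing to `f x`
  haveI : QuasiCompact U.ι :=
    quasiCompact_iff_isSpectralMap.mpr (IsRetrocompact_iff_isSpectralMap_subtypeVal.mp h)
  have hcl : f.base x ∈ closure (Set.range U.ι.base) := by
    rw [Scheme.Opens.range_ι]
    exact hU.closure_eq ▸ Set.mem_univ _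
  obtain ⟨u, hu⟩ := Groth.Agent.Lib.Helper41.exists_specializes_of_mem_closure_range U.ι _ hcl
  have huU : U.ι.base u ∈ U := u.2
  obtain ⟨A, _, _, _, g, hgc, hgg⟩ := Groth.Agent.Lib.Helper12.exists_valuationRing_of_specializes hu
  set fst := pullback.fst f g with hfst
  set snd := pullback.snd f g with hsnd
  have hsq : IsPullback fst snd f g := IsPullback.of_hasPullback f g
  obtain ⟨p, hp1, hp2⟩ := Scheme.Pullback.exists_preimage_pullback (f := f) (g := g) x
    (IsLocalRing.closedPoint A) hgc.symm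
  obtain ⟨n, hn⟩ := exists_fibreDimAt_eq_natCast f x
  have hnp : FlatMor.fibreDimAt snd p = n := by
    rw [fibreDimAt_eq_of_isPullback f g fst snd hsq p, hp1, hn]
  obtain ⟨ζ, h1, h2, h3, hmax⟩ := exists_maximal_generization snd p n hnp
  -- lift the generic point
  have hgm : GeneralizingMap snd.base := Flat.generalizingMap snd
  set gp : ↥(Spec (CommRingCat.of A)) := ⟨⊥, Ideal.isPrime_bot⟩ with hgp
  have hgps : gp ⤳ snd.base ζ := (PrimeSpectrum.le_iff_specializes gp _).1 bot_le
  obtain ⟨ζ', hζ', hsζ'⟩ := hgm hgps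
  have h4 := Groth.Agent.Lib.Helper22.ValTrdeg.resTrdegNat_le_of_specializes snd hζ'
  have h5 := resTrdegNat_le_fibreDimAt snd ζ'
  rw [fibreDimAt_eq_of_isPullback f g fst snd hsq ζ'] at h5
  have h6 : f.base (fst.base ζ') ∈ U := by
    have := congrArg (fun φ => φ.base ζ') hsq.w
    simp only [Scheme.Hom.comp_base, TopCat.hom_comp, ContinuousMap.comp_apply] at this
    rw [this, hsζ', hgg]
    exact huU
  have h7 := h5.trans (hle _ h6)
  rw [hn]
  have h8 : resTrdegNat snd ζ' ≤ e := by exact_mod_cast h7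
  have : n ≤ e := by omega
  exact_mod_cast this

/-- Stacks 0D4J. -/
theorem fibreDimAt_le_of_dense {X S : Scheme.{u}} (f : X ⟶ S) [Flat f] [LocallyOfFiniteType f]
    (U : S.Opens) (hU : Dense (U : Set S)) (e : ℕ)
    (hle : ∀ x : X, f.base x ∈ U → FlatMor.fibreDimAt f x ≤ e)
    (h : LocallyOfFinitePresentation f ∨ IsRetrocompact (U : Set S)) (x : X) :
    FlatMor.fibreDimAt f x ≤ e := by
  rcases h with h | h
  · exact fibreDimAt_le_of_dense_lfp f U hU e hle x
  · exact fibreDimAt_le_of_dense_retrocompact f U hU e hle h x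

end Groth.Agent.Lib.Helper22.FlatDimDense
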