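import Groth.Prelude.Def_Neron
import Groth.Agent.Lib.Helper22.FlatDimDense

set_option autoImplicit false
open CategoryTheory AlgebraicGeometry TopologicalSpace Topology Limits
universe u

namespace Groth.Agent.Lib.Helper22.FlatDimSpec

open Groth.Agent.Lib.Helper73 Groth.Agent.Lib.Helper22.FlatDimDense

/-- For a flat morphism locally of finite type, a bound on the fibre dimension over a
generization `u` of `f x` gives the bound at `x` (valuation rings). -/
theorem fibreDimAt_le_of_specializes {X S : Scheme.{u}} (f : X ⟶ S) [Flat f]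
    [LocallyOfFiniteType f] (e : ℕ) (x : X) (u : S) (hu : u ⤳ f.base x)
    (hle : ∀ x' : X, f.base x' = u → FlatMor.fibreDimAt f x' ≤ e) :
    FlatMor.fibreDimAt f x ≤ e := by
  obtain ⟨A, _, _, _, g, hgc, hgg⟩ := Groth.Agent.Lib.Helper12.exists_valuationRing_of_specializes hu
  set fst := pullback.fst f g with hfst
  set snd := pullback.snd f g with hsnd
  have hsq : IsPullback fst snd f g := IsPullback.of_hasPullback f g
  obtain ⟨p, hp1, hp2⟩ := Scheme.Pullback.exists_preimage_pullback (f := f) (g := g) x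
    (IsLocalRing.closedPoint A) hgc.symm
  obtain ⟨n, hn⟩ := exists_fibreDimAt_eq_natCast f x
  have hnp : FlatMor.fibreDimAt snd p = n := by
    rw [fibreDimAt_eq_of_isPullback f g fst snd hsq p, hp1, hn]
  obtain ⟨ζ, h1, h2, h3, hmax⟩ := exists_maximal_generization snd p n hnp
  -- lift the generic point
  have hgm : GeneralizingMap snd.base := Flat.generalizingMap snd
  set gp : ↥(Spec (CommRingCat.of A)) := ⟨⊥, Ideal.isPrime_bot⟩ with hgp
  have hgps : gp ⤳ snd.base ζ := (PrimeSpectrum.le_iff_specializes gp _).1 bot_le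
  obtain ⟨ζ', hζ', hsζ'⟩ := hgm hgps
  have h4 := Groth.Agent.Lib.Helper22.ValTrdeg.resTrdegNat_le_of_specializes snd hζ'
  have h5 := resTrdegNat_le_fibreDimAt snd ζ'
  rw [fibreDimAt_eq_of_isPullback f g fst snd hsq ζ'] at h5
  have h6 : f.base (fst.base ζ') = u := by
    have := congrArg (fun φ => φ.base ζ') hsq.w
    simp only [Scheme.Hom.comp_base, TopCat.hom_comp, ContinuousMap.comp_apply] at this
    rw [this, hsζ', hgg]
  have h7 := h5.trans (hle _ h6)
  rw [hn]
  have h8 : resTrdegNat snd ζ' ≤ e := by exact_mod_cast h7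
  have : n ≤ e := by omega
  exact_mod_cast this

set_option backward.isDefEq.respectTransparency false in
/-- A flat l.f.t. scheme over a domain with locally quasi-finite generic fibre is locally
quasi-finite (= S18485). -/
theorem locallyQuasiFinite_of_genericFibre (R : Type u) [CommRing R] [IsDomain R]
    (H : Over (Spec (CommRingCat.of R))) [Flat H.hom] [LocallyOfFiniteType H.hom]
    [hG : LocallyQuasiFinite ((Neron.genericFibre R).obj H).hom] : LocallyQuasiFinite H.hom := by
  set f := H.hom with hf
  set gp := Neron.genPt R with hgp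
  have hsq : IsPullback (pullback.fst f gp) (pullback.snd f gp) f gp := IsPullback.of_hasPullback _ _
  haveI : LocallyQuasiFinite (pullback.snd f gp) := hG
  let η : ↥(Spec (CommRingCat.of R)) := ⟨⊥, Ideal.isPrime_bot⟩
  have hη : ∀ x' : H.left, f.base x' = η →
      FlatMor.fibreDimAt f x' ≤ ((0 : ℕ) : WithBot ℕ∞) := by
    intro x' hx'
    let pt : ↥(Spec (CommRingCat.of (FractionRing R))) := ⟨⊥, Ideal.isPrime_bot⟩
    have hpt : gp.base pt = η := by
      apply PrimeSpectrum.ext
      change Ideal.comap (algebraMap R (FractionRing R)) ⊥ = ⊥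
      rw [← RingHom.ker_eq_comap_bot]
      exact (RingHom.injective_iff_ker_eq_bot _).mp (IsFractionRing.injective R _)
    obtain ⟨p, hp1, hp2⟩ := Scheme.Pullback.exists_preimage_pullback (f := f) (g := gp) x' pt
      (hx'.trans hpt.symm)
    rw [← hp1, ← fibreDimAt_eq_of_isPullback f gp _ _ hsq p]
    exact (quasiFiniteAt_iff_fibreDimAt_le_zero _ p).mp (Scheme.Hom.quasiFiniteAt _ p)
  rw [← Scheme.Hom.quasiFiniteLocus_eq_top_iff]
  refine top_le_iff.mp fun x _ => ?_
  rw [Scheme.Hom.mem_quasiFiniteLocus, quasiFiniteAt_iff_fibreDimAt_le_zero]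
  exact fibreDimAt_le_of_specializes f 0 x η ((PrimeSpectrum.le_iff_specializes η _).1 bot_le) hη

end Groth.Agent.Lib.Helper22.FlatDimSpec
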