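import Groth.Agent.Lib.Helper22.FlatDimSpec

set_option autoImplicit false
open CategoryTheory AlgebraicGeometry TopologicalSpace Topology Limits
universe u

namespace Groth.Agent.Lib.Helper22.FlatLocalDim

open Groth.Agent.Lib.Helper73 Groth.Agent.Lib.Helper22.FlatDimDense

/-- Variant of `fibreDimAt_le_of_specializes` where flatness is only assumed after composing with a
flat morphism `j : X' ⟶ X` (e.g. the inclusion of the spectrum of a local ring). -/
theorem fibreDimAt_le_of_specializes' {X' X S : Scheme.{u}} (j : X' ⟶ X) (f : X ⟶ S) [Flat j]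
    [Flat (j ≫ f)] [LocallyOfFiniteType f] (e : ℕ) (x' : X') (u : S)
    (hu : u ⤳ f.base (j.base x'))
    (hle : ∀ t : X, f.base t = u → FlatMor.fibreDimAt f t ≤ e) :
    FlatMor.fibreDimAt f (j.base x') ≤ e := by
  obtain ⟨A, _, _, _, g, hgc, hgg⟩ := Groth.Agent.Lib.Helper12.exists_valuationRing_of_specializes hu
  set fst := pullback.fst f g with hfst
  set snd := pullback.snd f g with hsnd
  have hsq : IsPullback fst snd f g := IsPullback.of_hasPullback f g
  set j' := pullback.fst j fst with hj'
  set jV := pullback.snd j fst with hjV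
  have hsq1 : IsPullback j' jV j fst := IsPullback.of_hasPullback j fst
  have hsqb := hsq1.paste_vert hsq
  haveI : Flat (jV ≫ snd) := MorphismProperty.of_isPullback (P := @Flat) hsqb inferInstance
  obtain ⟨p, hp1, hp2⟩ := Scheme.Pullback.exists_preimage_pullback (f := f) (g := g) (j.base x')
    (IsLocalRing.closedPoint A) hgc.symm
  obtain ⟨p', hp'1, hp'2⟩ := Scheme.Pullback.exists_preimage_pullback (f := j) (g := fst) x' p
    hp1.symm
  obtain ⟨n, hn⟩ := exists_fibreDimAt_eq_natCast f (j.base x')
  have hnp : FlatMor.fibreDimAt snd p = n := by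
    rw [fibreDimAt_eq_of_isPullback f g fst snd hsq p, hp1, hn]
  obtain ⟨ζ, h1, h2, h3, hmax⟩ := exists_maximal_generization snd p n hnp
  -- lift `ζ` to `X'_V`
  have hgmj : GeneralizingMap jV.base := Flat.generalizingMap jV
  have hζp : ζ ⤳ jV.base p' := by rw [hp'2]; exact h1
  obtain ⟨ζ'', hζ'', hjζ''⟩ := hgmj hζp
  -- lift the generic point
  have hgm : GeneralizingMap (jV ≫ snd).base := Flat.generalizingMap (jV ≫ snd)
  set gp : ↥(Spec (CommRingCat.of A)) := ⟨⊥, Ideal.isPrime_bot⟩ with hgp
  have hgps : gp ⤳ (jV ≫ snd).base ζ'' := (PrimeSpectrum.le_iff_specializes gp _).1 bot_le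
  obtain ⟨ζ''', hζ''', hsζ'''⟩ := hgm hgps
  set ζ' := jV.base ζ''' with hζ'def
  have hζ' : ζ' ⤳ ζ := by
    rw [← hjζ'']; exact hζ'''.map jV.continuous
  have hsζ' : snd.base ζ' = gp := by
    rw [← hsζ''']; rfl
  have h4 := Groth.Agent.Lib.Helper22.ValTrdeg.resTrdegNat_le_of_specializes snd hζ'
  have h5 := resTrdegNat_le_fibreDimAt snd ζ'
  rw [fibreDimAt_eq_of_isPullback f g fst snd hsq ζ'] at h5
  have h6 : f.base (fst.base ζ') = u := by
    have := congrArg (fun φ => φ.base ζ') hsq.w
    simp only [Scheme.Hom.comp_base, TopCat.hom_comp, ContinuousMap.comp_apply] at this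
    rw [this, hsζ', hgg]
  have h7 := h5.trans (hle _ h6)
  rw [hn]
  have h8 : resTrdegNat snd ζ' ≤ e := by exact_mod_cast h7
  have : n ≤ e := by omega
  exact_mod_cast this

theorem lft_specMap (A C : Type u) [CommRing A] [CommRing C] [Algebra A C]
    [Algebra.FiniteType A C] :
    LocallyOfFiniteType (Spec.map (CommRingCat.ofHom (algebraMap A C))) :=
  (HasRingHomProperty.Spec_iff (P := @LocallyOfFiniteType)).mpr
    (RingHom.finiteType_algebraMap.mpr inferInstance)

section Core

variable {A C B : Type u} [CommRing A] [CommRing C] [CommRing B] [IsDomain C]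
  [Algebra A C] [Algebra.FiniteType A C]
  [Algebra C B] [Algebra A B] [IsScalarTower A C B] [Module.Flat C B] [Module.Flat A B]
  [IsLocalRing B]

set_option backward.isDefEq.respectTransparency false in
/-- For a finite type extension of domains `A ⊆ C` and a flat local `C`-algebra `B` which is flat
over `A`, the fibre dimension at the image of the closed point of `B` is the generic one. -/
theorem fibreDimAt_eq_generic :
    haveI := lft_specMap A C
    FlatMor.fibreDimAt (Spec.map (CommRingCat.ofHom (algebraMap A C)))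
      ((Spec.map (CommRingCat.ofHom (algebraMap C B))).base (IsLocalRing.closedPoint B)) =
      ((resTrdegNat (Spec.map (CommRingCat.ofHom (algebraMap A C)))
        (⟨⊥, Ideal.isPrime_bot⟩ : PrimeSpectrum C) : ℕ) : WithBot ℕ∞) := by
  haveI hlft := lft_specMap A C
  set f := Spec.map (CommRingCat.ofHom (algebraMap A C)) with hf
  set j := Spec.map (CommRingCat.ofHom (algebraMap C B)) with hj
  haveI : Flat j := (HasRingHomProperty.Spec_iff (P := @Flat)).mpr
    (RingHom.flat_algebraMap_iff.mpr inferInstance)
  have hjf : j ≫ f = Spec.map (CommRingCat.ofHom (algebraMap A B)) := by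
    rw [hj, hf, ← Spec.map_comp, ← CommRingCat.ofHom_comp, ← IsScalarTower.algebraMap_eq]
  haveI : Flat (j ≫ f) := by
    rw [hjf]
    exact (HasRingHomProperty.Spec_iff (P := @Flat)).mpr
      (RingHom.flat_algebraMap_iff.mpr inferInstance)
  set ξ : ↥(Spec (CommRingCat.of C)) := (⟨⊥, Ideal.isPrime_bot⟩ : PrimeSpectrum C) with hξ
  set x := j.base (IsLocalRing.closedPoint B) with hx
  set n := resTrdegNat f ξ with hn
  have hξall : ∀ t : ↥(Spec (CommRingCat.of C)), ξ ⤳ t := fun t =>
    (PrimeSpectrum.le_iff_specializes ξ t).1 bot_le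
  have hmax : ∀ t : ↥(Spec (CommRingCat.of C)), t ⤳ ξ → f.base t = f.base ξ → t = ξ := by
    intro t ht _
    have h1 : @LE.le (PrimeSpectrum C) _ t (⟨⊥, Ideal.isPrime_bot⟩ : PrimeSpectrum C) :=
      (PrimeSpectrum.le_iff_specializes _ _).2 ht
    have h2 : (t : PrimeSpectrum C).asIdeal ≤ ⊥ := h1
    exact PrimeSpectrum.ext (le_bot_iff.mp h2)
  have hξdim : FlatMor.fibreDimAt f ξ = ((n : ℕ) : WithBot ℕ∞) :=
    fibreDimAt_eq_resTrdegNat_of_maximal f ξ hmax
  apply le_antisymm
  · refine fibreDimAt_le_of_specializes' j f n (IsLocalRing.closedPoint B) (f.base ξ)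
      ((hξall _).map f.continuous) ?_
    intro t ht
    refine fibreDimAt_le_of_forall_generization f t n fun ζ _ hfζ => ?_
    by_cases hζ : ξ = ζ
    · rw [← hζ]
    · exact (resTrdegNat_lt_of_specializes_fiber f ζ ξ (hξall ζ) (by rw [hfζ, ht]) hζ).le
  · obtain ⟨m, hm⟩ := exists_fibreDimAt_eq_natCast f x
    have hopen := isOpen_fibreDimAt_le m _ _ f
    have hxm : x ∈ {t | FlatMor.fibreDimAt f t ≤ ((m : ℕ) : WithBot ℕ∞)} := by
      change FlatMor.fibreDimAt f x ≤ _
      rw [hm]
    have hξm := (hξall x).mem_open hopen hxm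
    change FlatMor.fibreDimAt f ξ ≤ _ at hξm
    rw [hm, ← hξdim]
    exact hξm

end Core

section Q3

open IsLocalRing

variable {A C B : Type u} [CommRing A] [CommRing C] [CommRing B]
  [Algebra A C] [Algebra C B] [Algebra A B] [IsScalarTower A C B]
  [IsLocalRing A] [IsLocalRing B] [IsLocalHom (algebraMap A B)] (M : Submonoid C)
  [IsLocalization M B]

set_option backward.isDefEq.respectTransparency false in
include M in
/-- The generizations of the closed point of a local localization `B` of `C` inside the fibre of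
`Spec C → Spec A` form a poset of dimension `dim B / m_A B`. -/
theorem krullDim_generizations_eq :
    Order.krullDim ↥{t : ↥(Spec (CommRingCat.of C)) |
        t ⤳ (Spec.map (CommRingCat.ofHom (algebraMap C B))).base (closedPoint B) ∧
        (Spec.map (CommRingCat.ofHom (algebraMap A C))).base t =
          (Spec.map (CommRingCat.ofHom (algebraMap A C))).base
            ((Spec.map (CommRingCat.ofHom (algebraMap C B))).base (closedPoint B))} =
      ringKrullDim (B ⧸ (maximalIdeal A).map (algebraMap A B)) := by
  set f := Spec.map (CommRingCat.ofHom (algebraMap A C)) with hf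
  set j := Spec.map (CommRingCat.ofHom (algebraMap C B)) with hj
  set I := (maximalIdeal A).map (algebraMap A B) with hI
  have hjf : j ≫ f = Spec.map (CommRingCat.ofHom (algebraMap A B)) := by
    rw [hj, hf, ← Spec.map_comp, ← CommRingCat.ofHom_comp, ← IsScalarTower.algebraMap_eq]
  have h1 : ringKrullDim (B ⧸ I) = Order.krullDim ↥(PrimeSpectrum.zeroLocus (I : Set B)) :=
    Order.krullDim_eq_of_orderIso (Ideal.primeSpectrumQuotientOrderIsoZeroLocus I)
  rw [h1]
  have hfx : f.base (j.base (closedPoint B)) = closedPoint A := by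
    rw [← Scheme.Hom.comp_apply, hjf]
    exact IsLocalRing.comap_closedPoint (algebraMap A B)
  have hfj : ∀ a : PrimeSpectrum B, f.base (j.base a) = closedPoint A ↔
      I ≤ a.asIdeal := by
    intro a
    rw [← Scheme.Hom.comp_apply, hjf]
    constructor
    · intro h
      rw [hI, Ideal.map_le_iff_le_comap]
      have := congrArg PrimeSpectrum.asIdeal h
      exact this.ge
    · intro h
      apply PrimeSpectrum.ext
      rw [hI, Ideal.map_le_iff_le_comap] at h
      haveI : (a.asIdeal.comap (algebraMap A B)).IsPrime := Ideal.comap_isPrime _ _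
      exact ((maximalIdeal.isMaximal A).eq_of_le (Ideal.IsPrime.ne_top inferInstance) h).symm
  refine krullDim_subtype_eq_of_antitone (fun a : PrimeSpectrum B => j.base a) ?_
    (PrimeSpectrum.zeroLocus (I : Set B)) _ ?_ ?_
  · intro a a'
    change j.base a' ⤳ j.base a ↔ a' ≤ a
    rw [← PrimeSpectrum.le_iff_specializes]
    constructor
    · intro h
      have h' : a'.asIdeal.comap (algebraMap C B) ≤ a.asIdeal.comap (algebraMap C B) := h
      have := Ideal.map_mono (f := algebraMap C B) h'
      rwa [IsLocalization.map_under M B, IsLocalization.map_under M B] at this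
    · intro h
      exact Ideal.comap_mono (f := algebraMap C B) h
  · intro a ha
    refine ⟨?_, ?_⟩
    · exact ((PrimeSpectrum.le_iff_specializes a (closedPoint B)).1
        (le_maximalIdeal a.2.ne_top)).map j.continuous
    · rw [hfx, hfj]
      exact ha
  · rintro t ⟨ht1, ht2⟩
    have hle : (t : PrimeSpectrum C).asIdeal ≤ (maximalIdeal B).comap (algebraMap C B) :=
      (PrimeSpectrum.le_iff_specializes _ _).2 ht1
    have hdisj : Disjoint (M : Set C) ((t : PrimeSpectrum C).asIdeal : Set C) := by
      rw [Set.disjoint_left]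
      intro m hm hmt
      have h2 : algebraMap C B m ∈ maximalIdeal B := hle hmt
      exact (IsLocalRing.mem_maximalIdeal _).mp h2 (IsLocalization.map_units B ⟨m, hm⟩)
    haveI : ((t : PrimeSpectrum C).asIdeal.map (algebraMap C B)).IsPrime :=
      IsLocalization.isPrime_of_isPrime_disjoint M B _ t.2 hdisj
    let a : PrimeSpectrum B := ⟨(t : PrimeSpectrum C).asIdeal.map (algebraMap C B), inferInstance⟩
    have hat : j.base a = t := by
      apply PrimeSpectrum.ext
      exact IsLocalization.under_map_of_isPrime_disjoint M B t.2 hdisj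
    refine ⟨a, ?_, hat⟩
    change I ≤ a.asIdeal
    rw [← hfj, hat, ht2, hfx]

end Q3

section Final

open IsLocalRing

variable {A C B : Type u} [CommRing A] [CommRing C] [CommRing B] [IsDomain A] [IsDomain C]
  [IsDomain B] [Algebra A C] [Algebra.FiniteType A C] [Algebra C B] [Algebra A B]
  [IsScalarTower A C B] [IsLocalRing A] [IsLocalRing B] [IsLocalHom (algebraMap A B)]
  [FaithfulSMul A C] [FaithfulSMul C B] [Module.Flat A B] (M : Submonoid C) [IsLocalization M B]

set_option backward.isDefEq.respectTransparency false in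
include M in
theorem dim_add_trdeg_eq_aux :
    ∃ d e : ℕ, ringKrullDim (B ⧸ (maximalIdeal A).map (algebraMap A B)) = d ∧
      Algebra.trdeg (ResidueField A) (ResidueField B) = e ∧ Algebra.trdeg A B = (d + e : ℕ) := by
  haveI : Module.Flat C B := IsLocalization.flat B M
  haveI hlft := lft_specMap A C
  set f := Spec.map (CommRingCat.ofHom (algebraMap A C)) with hf
  set j := Spec.map (CommRingCat.ofHom (algebraMap C B)) with hj
  set x := j.base (closedPoint B) with hx
  set ξ : ↥(Spec (CommRingCat.of C)) := (⟨⊥, Ideal.isPrime_bot⟩ : PrimeSpectrum C) with hξ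
  have hcore : FlatMor.fibreDimAt f x = ((resTrdegNat f ξ : ℕ) : WithBot ℕ∞) :=
    fibreDimAt_eq_generic (A := A) (C := C) (B := B)
  obtain ⟨d, hd⟩ := exists_ringKrullDim_fiber_stalk_eq_natCast f x
  have hd' : ringKrullDim (B ⧸ (maximalIdeal A).map (algebraMap A B)) = d := by
    rw [← krullDim_generizations_eq (A := A) M, ← hd]
    exact (ringKrullDim_fiber_stalk_eq_krullDim f x).symm
  have hsum := fibreDimAt_eq f x
  rw [hcore, hd] at hsum
  have hsum' : resTrdegNat f ξ = d + resTrdegNat f x := by exact_mod_cast hsum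
  refine ⟨d, resTrdegNat f x, hd', ?_, ?_⟩
  · -- residue field extension
    set p := maximalIdeal A with hp
    set q := (maximalIdeal B).comap (algebraMap C B) with hq
    haveI : q.IsPrime := Ideal.comap_isPrime _ _
    haveI : q.LiesOver p := ⟨by
      rw [hq, Ideal.under, Ideal.comap_comap, ← IsScalarTower.algebraMap_eq]
      exact ((maximalIdeal B).over_def (maximalIdeal A))⟩
    have h1 := resTrdeg_SpecMap (R := A) (R' := C) x p q rfl
    rw [resTrdeg_eq_resTrdegNat] at h1
    rw [h1]
    refine trdeg_eq_trdeg_quotient_of_ratio (residue A) ((residue B).comp (algebraMap C B))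
      ?_ ?_ ?_ p q ?_ ?_
    · intro a
      change residue B (algebraMap A B a) = residue B (algebraMap C B (algebraMap A C a))
      rw [← IsScalarTower.algebraMap_apply]
    · intro z
      obtain ⟨a, rfl⟩ := residue_surjective z
      exact ⟨a, 1, by rw [map_one]; exact one_ne_zero, by rw [map_one, mul_one]⟩
    · intro z
      obtain ⟨y, rfl⟩ := residue_surjective z
      obtain ⟨⟨a, m⟩, ham⟩ := IsLocalization.surj M y
      refine ⟨a, m.1, ?_, ?_⟩
      · change residue B (algebraMap C B m.1) ≠ 0
        rw [Ne, residue_eq_zero_iff]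
        exact (IsLocalRing.mem_maximalIdeal _).not.mpr
          (not_not.mpr (IsLocalization.map_units B m))
      · change residue B y * residue B (algebraMap C B m.1) = residue B (algebraMap C B a)
        rw [← map_mul, ham]
    · exact ker_residue.symm
    · rw [← RingHom.comap_ker, ker_residue]
  · -- generic point
    haveI : (⊥ : Ideal C).IsPrime := Ideal.isPrime_bot
    haveI : (⊥ : Ideal A).IsPrime := Ideal.isPrime_bot
    haveI : (⊥ : Ideal C).LiesOver (⊥ : Ideal A) := ⟨by
      rw [Ideal.under, ← RingHom.ker_eq_comap_bot]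
      exact ((RingHom.injective_iff_ker_eq_bot _).1 (FaithfulSMul.algebraMap_injective A C)).symm⟩
    have h1 := resTrdeg_SpecMap (R := A) (R' := C) ξ ⊥ ⊥ rfl
    rw [resTrdeg_eq_resTrdegNat] at h1
    have h2 : Algebra.trdeg (A ⧸ (⊥ : Ideal A)) (C ⧸ (⊥ : Ideal C)) = Algebra.trdeg A C := by
      refine trdeg_eq_of_ringEquiv_square (RingEquiv.quotientBot A) (RingEquiv.quotientBot C) ?_
      rintro ⟨r⟩
      rfl
    haveI : Algebra.IsAlgebraic C B := IsLocalization.isAlgebraic B M
    have h3 : Algebra.trdeg C B = 0 := trdeg_eq_zero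
    have h4 := trdeg_add_eq (R := A) (S := C) (A := B)
    rw [h3, add_zero, ← h2, ← h1, hsum'] at h4
    exact h4.symm

end Final

section Main

open IsLocalRing

theorem dim_add_trdeg_eq {A B : Type u} [CommRing A] [CommRing B] [IsDomain A] [IsDomain B]
    [IsLocalRing A] [IsLocalRing B] [Algebra A B] [IsLocalHom (algebraMap A B)] [FaithfulSMul A B]
    [Algebra.EssFiniteType A B] [Module.Flat A B] :
    ∃ d e : ℕ, ringKrullDim (B ⧸ Ideal.map (algebraMap A B) (maximalIdeal A)) = d ∧
      Algebra.trdeg (ResidueField A) (ResidueField B) = e ∧ Algebra.trdeg A B = (d + e : ℕ) := by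
  haveI : FaithfulSMul A (Algebra.EssFiniteType.subalgebra A B) :=
    (faithfulSMul_iff_algebraMap_injective _ _).mpr (by
      intro a b hab
      apply FaithfulSMul.algebraMap_injective A B
      have := congrArg (algebraMap (Algebra.EssFiniteType.subalgebra A B) B) hab
      rwa [← IsScalarTower.algebraMap_apply, ← IsScalarTower.algebraMap_apply] at this)
  haveI : FaithfulSMul (Algebra.EssFiniteType.subalgebra A B) B :=
    (faithfulSMul_iff_algebraMap_injective _ _).mpr Subtype.val_injective
  exact dim_add_trdeg_eq_aux (A := A) (C := Algebra.EssFiniteType.subalgebra A B) (B := B)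
    (Algebra.EssFiniteType.submonoid A B)

end Main

end Groth.Agent.Lib.Helper22.FlatLocalDim
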