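import Groth.Prelude.Def_GLin
import Groth.Agent.Lib.Helper96.LinRed
import Groth.Agent.Lib.Helper96.CoalgChange
import Mathlib.RingTheory.Jacobson.Ring
import Mathlib.FieldTheory.IsAlgClosed.Basic

set_option autoImplicit false
universe u v w

open TensorProduct Groth.Agent.Lib.Helper96

namespace Groth.Agent.Lib.Helper22.GITLib

section Basic

variable {k : Type u} [Field k] {A : Type v} [CommRing A] [Bialgebra k A]
  {R : Type w} [CommRing R] [Algebra k R] [HopfRep.Comod k A R] [GLin.IsCoactAlg k A R]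

noncomputable def evL (x : R →ₐ[k] k) : R ⊗[k] A →ₗ[k] A :=
  (TensorProduct.lid k A).toLinearMap ∘ₗ x.toLinearMap.rTensor A

@[simp] theorem evL_tmul (x : R →ₐ[k] k) (r : R) (a : A) : evL x (r ⊗ₜ[k] a) = x r • a := by
  simp [evL]

theorem orbitHom_apply (x : R →ₐ[k] k) (f : R) :
    GLin.orbitHom k A x f = evL x (HopfRep.Comod.coact (k := k) (A := A) f) := by
  unfold GLin.orbitHom evL
  simp only [AlgHom.coe_comp, Function.comp_apply, GLin.coactAlgHom_apply, LinearMap.coe_comp,
    LinearEquiv.coe_coe]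
  generalize HopfRep.Comod.coact (k := k) (A := A) f = y
  induction y using TensorProduct.induction_on with
  | zero => simp
  | add a b ha hb => simp only [map_add, ha, hb]
  | tmul r a => simp

theorem comul_evL (x : R →ₐ[k] k) (y : R ⊗[k] A) :
    CoalgebraStruct.comul (R := k) (evL x y) =
      (evL x).rTensor A ((TensorProduct.assoc k R A A).symm
        ((CoalgebraStruct.comul (R := k) (A := A)).lTensor R y)) := by
  induction y using TensorProduct.induction_on with
  | zero => simp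
  | add a b ha hb => simp only [map_add, ha, hb]
  | tmul r a =>
    simp only [evL_tmul, map_smul, LinearMap.lTensor_tmul]
    generalize CoalgebraStruct.comul (R := k) a = z
    induction z using TensorProduct.induction_on with
    | zero => simp
    | add a b ha hb => simp only [tmul_add, map_add, smul_add, ha, hb]
    | tmul a₁ a₂ => simp [TensorProduct.smul_tmul']

theorem isHom_orbitHom (x : R →ₐ[k] k) :
    IsHom (inferInstance : HopfRep.Comod k A R) (HopfRep.Comod.regular k A)
      (GLin.orbitHom k A x).toLinearMap := by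
  apply LinearMap.ext
  intro f
  show CoalgebraStruct.comul (R := k) (GLin.orbitHom k A x f) =
    (GLin.orbitHom k A x).toLinearMap.rTensor A (HopfRep.Comod.coact (k := k) (A := A) f)
  have hco := LinearMap.congr_fun (HopfRep.Comod.coassoc (k := k) (A := A) (V := R)) f
  simp only [LinearMap.coe_comp, Function.comp_apply, LinearEquiv.coe_coe] at hco
  rw [orbitHom_apply, comul_evL, ← hco, LinearEquiv.symm_apply_apply,
    ← LinearMap.comp_apply, ← LinearMap.rTensor_comp]
  congr 2

theorem counit_evL (x : R →ₐ[k] k) (y : R ⊗[k] A) :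
    CoalgebraStruct.counit (R := k) (evL x y) =
      x (slice R (CoalgebraStruct.counit (R := k) (A := A)) y) := by
  induction y using TensorProduct.induction_on with
  | zero => simp
  | add a b ha hb => simp only [map_add, ha, hb]
  | tmul r a => simp [mul_comm]

theorem counit_orbitHom (x : R →ₐ[k] k) (f : R) :
    CoalgebraStruct.counit (R := k) (GLin.orbitHom k A x f) = x f := by
  rw [orbitHom_apply, counit_evL, slice_counit_coact]

theorem ker_orbitHom_le (x : R →ₐ[k] k) :
    RingHom.ker (GLin.orbitHom k A x) ≤ RingHom.ker x := by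
  intro f hf
  rw [RingHom.mem_ker] at hf ⊢
  rw [← counit_orbitHom (A := A) x f, hf, map_zero]

theorem orbitHom_of_mem_invariants (x : R →ₐ[k] k) {f : R} (hf : f ∈ GLin.invariants k A R) :
    GLin.orbitHom k A x f = algebraMap k A (x f) := by
  rw [orbitHom_apply, (GLin.mem_invariants_iff k A R f).mp hf, evL_tmul,
    Algebra.algebraMap_eq_smul_one]

theorem eq_of_inOrbitClosure (x z : R →ₐ[k] k) (h : GLin.InOrbitClosure k A x z)
    {f : R} (hf : f ∈ GLin.invariants k A R) : z f = x f := by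
  have h1 : f - algebraMap k R (x f) ∈ RingHom.ker (GLin.orbitHom k A x) := by
    rw [RingHom.mem_ker, map_sub, orbitHom_of_mem_invariants x hf, AlgHom.commutes, sub_self]
  have h2 := h h1
  rw [RingHom.mem_ker, map_sub, AlgHom.commutes, sub_eq_zero] at h2
  simpa using h2

theorem exists_invariant_of_mem_sup
    (hss : IsSS (inferInstance : HopfRep.Comod k A R))
    (I₁ I₂ : Submodule k R) (h₁ : IsSub (inferInstance : HopfRep.Comod k A R) I₁)
    (h₂ : IsSub (inferInstance : HopfRep.Comod k A R) I₂) (h : (1 : R) ∈ I₁ ⊔ I₂) :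
    ∃ f ∈ GLin.invariants k A R, f ∈ I₂ ∧ 1 - f ∈ I₁ := by
  obtain ⟨D, hD, hcompl⟩ := hss (I₁ ⊓ I₂) (isSub_inf _ h₁ h₂)
  have hC : IsSub (inferInstance : HopfRep.Comod k A R) (D ⊓ I₂) := isSub_inf _ hD h₂
  have hI₂ : I₂ ≤ I₁ ⊔ (D ⊓ I₂) := by
    intro b hb
    have hb' : b ∈ (I₁ ⊓ I₂) ⊔ D := by rw [hcompl.sup_eq_top]; trivial
    obtain ⟨n, hn, d, hd, rfl⟩ := Submodule.mem_sup.mp hb'
    refine Submodule.mem_sup.mpr ⟨n, hn.1, d, ⟨hd, ?_⟩, rfl⟩
    have : d = (n + d) - n := by abel
    rw [this]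
    exact I₂.sub_mem hb hn.2
  have hdisj : I₁ ⊓ (D ⊓ I₂) = ⊥ := by
    rw [eq_bot_iff, ← hcompl.inf_eq_bot]
    intro b hb
    exact ⟨⟨hb.1, hb.2.2⟩, hb.2.1⟩
  have h1 : (1 : R) ∈ I₁ ⊔ (D ⊓ I₂) := by
    obtain ⟨a, ha, b, hb, hab⟩ := Submodule.mem_sup.mp h
    rw [← hab]
    exact Submodule.add_mem _ (Submodule.mem_sup_left ha) (hI₂ hb)
  obtain ⟨w, hw, f, hf, hwf⟩ := Submodule.mem_sup.mp h1
  refine ⟨f, ?_, hf.2, ?_⟩
  · rw [GLin.mem_invariants_iff]
    apply slice_ext
    intro g
    have e1 : slice R g (HopfRep.Comod.coact (k := k) (A := A) f) - slice R g (f ⊗ₜ[k] (1 : A)) ∈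
        D ⊓ I₂ := by
      refine Submodule.sub_mem _ ((isSub_iff_slice _ _).mp hC f hf g) ?_
      rw [slice_tmul]
      exact Submodule.smul_mem _ _ hf
    have e2 : slice R g (HopfRep.Comod.coact (k := k) (A := A) w) - slice R g (w ⊗ₜ[k] (1 : A)) ∈
        I₁ := by
      refine Submodule.sub_mem _ ((isSub_iff_slice _ _).mp h₁ w hw g) ?_
      rw [slice_tmul]
      exact Submodule.smul_mem _ _ hw
    have e3 : (slice R g (HopfRep.Comod.coact (k := k) (A := A) w) - slice R g (w ⊗ₜ[k] (1 : A))) +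
        (slice R g (HopfRep.Comod.coact (k := k) (A := A) f) - slice R g (f ⊗ₜ[k] (1 : A))) = 0 := by
      have := GLin.IsCoactAlg.coact_one (k := k) (A := A) (R := R)
      rw [← hwf, map_add, Algebra.TensorProduct.one_def, ← hwf, TensorProduct.add_tmul] at this
      have h' := congrArg (slice R g) this
      rw [map_add, map_add] at h'
      rw [← sub_eq_zero] at h'
      rw [← h']
      abel
    have e4 : slice R g (HopfRep.Comod.coact (k := k) (A := A) f) - slice R g (f ⊗ₜ[k] (1 : A)) ∈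
        I₁ ⊓ (D ⊓ I₂) := by
      refine ⟨?_, e1⟩
      have : slice R g (HopfRep.Comod.coact (k := k) (A := A) f) - slice R g (f ⊗ₜ[k] (1 : A)) =
          -(slice R g (HopfRep.Comod.coact (k := k) (A := A) w) - slice R g (w ⊗ₜ[k] (1 : A))) :=
        eq_neg_of_add_eq_zero_right e3
      rw [this]
      exact Submodule.neg_mem _ e2
    rw [hdisj, Submodule.mem_bot, sub_eq_zero] at e4
    exact e4
  · have : 1 - f = w := by rw [← hwf]; abel
    rw [this]
    exact hw

end Basic

section Null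

variable {k : Type u} [Field k] [IsAlgClosed k] {R : Type w} [CommRing R] [Algebra k R]
  [Algebra.FiniteType k R]

theorem exists_point_of_ne_top (I : Ideal R) (hI : I ≠ ⊤) :
    ∃ z : R →ₐ[k] k, I ≤ RingHom.ker z := by
  obtain ⟨m, hm, hIm⟩ := Ideal.exists_le_maximal I hI
  let _ := Ideal.Quotient.field m
  have : Algebra.FiniteType k (R ⧸ m) := inferInstance
  have := finite_of_finite_type_of_isJacobsonRing k (R ⧸ m)
  have hbij : Function.Bijective (algebraMap k (R ⧸ m)) :=
    IsAlgClosed.algebraMap_bijective_of_isIntegral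
  let e : k ≃ₐ[k] (R ⧸ m) := AlgEquiv.ofBijective (Algebra.ofId k _) hbij
  refine ⟨(e.symm : (R ⧸ m) →ₐ[k] k).comp (Ideal.Quotient.mkₐ k m), ?_⟩
  intro f hf
  rw [RingHom.mem_ker]
  have : Ideal.Quotient.mk m f = 0 := Ideal.Quotient.eq_zero_iff_mem.mpr (hIm hf)
  simp [this]

end Null

section Main

theorem isSS_of_isLinearlyReductive {k : Type u} [Field k] {A : Type v} [CommRing A]
    [HopfAlgebra k A] (hG : HopfRep.IsLinearlyReductive k A) {V : Type w} [AddCommGroup V]
    [Module k V] (c : HopfRep.Comod k A V) : IsSS c := by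
  obtain ⟨α, hα, h1⟩ := isLinearlyReductive_iff_exists_integral.mp hG
  exact isSS_of_integral c α hα h1

variable {k : Type u} [Field k] [IsAlgClosed k] {A : Type v} [CommRing A] [HopfAlgebra k A]
  {R : Type w} [CommRing R] [Algebra k R] [Algebra.FiniteType k R] [HopfRep.Comod k A R]
  [GLin.IsCoactAlg k A R]

theorem exists_invariant_of_ker_sup_eq_top (hG : HopfRep.IsLinearlyReductive k A)
    (x₁ x₂ : R →ₐ[k] k)
    (h : RingHom.ker (GLin.orbitHom k A x₁) ⊔ RingHom.ker (GLin.orbitHom k A x₂) = ⊤) :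
    ∃ f ∈ GLin.invariants k A R, x₂ f = 0 ∧ x₁ f = 1 := by
  have h1 : (1 : R) ∈ RingHom.ker (GLin.orbitHom k A x₁) ⊔ RingHom.ker (GLin.orbitHom k A x₂) := by
    rw [h]; trivial
  obtain ⟨a, ha, b, hb, hab⟩ := Submodule.mem_sup.mp h1
  have h1' : (1 : R) ∈ LinearMap.ker (GLin.orbitHom k A x₁).toLinearMap ⊔
      LinearMap.ker (GLin.orbitHom k A x₂).toLinearMap :=
    Submodule.mem_sup.mpr ⟨a, ha, b, hb, hab⟩
  obtain ⟨f, hf, hf2, hf1⟩ := exists_invariant_of_mem_sup
    (isSS_of_isLinearlyReductive hG _) _ _ (isSub_ker (isHom_orbitHom x₁))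
    (isSub_ker (isHom_orbitHom x₂)) h1'
  refine ⟨f, hf, ?_, ?_⟩
  · exact ker_orbitHom_le (A := A) x₂ hf2
  · have := ker_orbitHom_le (A := A) x₁ hf1
    rw [RingHom.mem_ker, map_sub, map_one, sub_eq_zero] at this
    exact this.symm

theorem exists_common_point (hG : HopfRep.IsLinearlyReductive k A) (x₁ x₂ : R →ₐ[k] k)
    (h : ∀ f ∈ GLin.invariants k A R, x₁ f = x₂ f) :
    ∃ z : R →ₐ[k] k, GLin.InOrbitClosure k A x₁ z ∧ GLin.InOrbitClosure k A x₂ z := by
  by_contra hno
  have htop : RingHom.ker (GLin.orbitHom k A x₁) ⊔ RingHom.ker (GLin.orbitHom k A x₂) = ⊤ := by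
    by_contra hne
    obtain ⟨z, hz⟩ := exists_point_of_ne_top (k := k) _ hne
    exact hno ⟨z, le_trans le_sup_left hz, le_trans le_sup_right hz⟩
  obtain ⟨f, hf, h2, h1⟩ := exists_invariant_of_ker_sup_eq_top hG x₁ x₂ htop
  have := h f hf
  rw [h1, h2] at this
  exact one_ne_zero this

end Main

end Groth.Agent.Lib.Helper22.GITLib
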