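import Groth.Agent.Lib.Helper22.GIT
import Mathlib.RingTheory.MvPolynomial.Homogeneous

set_option autoImplicit false
universe u v w

open TensorProduct Groth.Agent.Lib.Helper96

namespace Groth.Agent.Lib.Helper22.GITLib

section Graded

variable {k : Type u} [Field k] {A : Type v} [CommRing A] [Algebra k A] {ι : Type w}

noncomputable def gr (k : Type u) [Field k] (A : Type v) [CommRing A] [Algebra k A] (ι : Type w) (d : ℕ) :
    Submodule k (MvPolynomial ι k ⊗[k] A) :=
  Submodule.span k {y | ∃ h : MvPolynomial ι k, h.IsHomogeneous d ∧ ∃ a : A, y = h ⊗ₜ[k] a}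

theorem gr_mul {d e : ℕ} {x y : MvPolynomial ι k ⊗[k] A} (hx : x ∈ gr k A ι d)
    (hy : y ∈ gr k A ι e) : x * y ∈ gr k A ι (d + e) := by
  unfold gr at hx hy
  induction hx using Submodule.span_induction with
  | mem x hx =>
    obtain ⟨h, hh, a, rfl⟩ := hx
    induction hy using Submodule.span_induction with
    | mem y hy =>
      obtain ⟨h', hh', a', rfl⟩ := hy
      rw [Algebra.TensorProduct.tmul_mul_tmul]
      exact Submodule.subset_span ⟨h * h', hh.mul hh', a * a', rfl⟩
    | zero => simp
    | add y y' _ _ hy hy' => rw [mul_add]; exact add_mem hy hy'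
    | smul c y _ hy => rw [mul_smul_comm]; exact Submodule.smul_mem _ _ hy
  | zero => simp
  | add x x' _ _ hx hx' => rw [add_mul]; exact add_mem hx hx'
  | smul c x _ hx => rw [smul_mul_assoc]; exact Submodule.smul_mem _ _ hx

theorem one_mem_gr : (1 : MvPolynomial ι k ⊗[k] A) ∈ gr k A ι 0 :=
  Submodule.subset_span ⟨1, MvPolynomial.isHomogeneous_one _ _, 1, rfl⟩

theorem pow_mem_gr {y : MvPolynomial ι k ⊗[k] A} (hy : y ∈ gr k A ι 1) (n : ℕ) :
    y ^ n ∈ gr k A ι n := by
  induction n with
  | zero => rw [pow_zero]; exact one_mem_gr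
  | succ n ih => rw [pow_succ]; exact gr_mul ih hy

theorem prod_mem_gr (t : Finset ι) (s : ι → ℕ) (y : ι → MvPolynomial ι k ⊗[k] A)
    (hy : ∀ i, y i ∈ gr k A ι 1) : ∏ i ∈ t, y i ^ s i ∈ gr k A ι (∑ i ∈ t, s i) := by
  classical
  induction t using Finset.induction_on with
  | empty => simp only [Finset.prod_empty, Finset.sum_empty]; exact one_mem_gr
  | insert i t hi ih =>
    rw [Finset.prod_insert hi, Finset.sum_insert hi]
    exact gr_mul (pow_mem_gr (hy i) _) ih

theorem rTensor_homogeneousComponent_of_mem {d e : ℕ} {y : MvPolynomial ι k ⊗[k] A}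
    (hy : y ∈ gr k A ι e) :
    (MvPolynomial.homogeneousComponent d).rTensor A y = if d = e then y else 0 := by
  unfold gr at hy
  induction hy using Submodule.span_induction with
  | mem y hy =>
    obtain ⟨h, hh, a, rfl⟩ := hy
    rw [LinearMap.rTensor_tmul, MvPolynomial.homogeneousComponent_of_mem hh]
    split_ifs <;> simp
  | zero => simp
  | add y y' _ _ hy hy' => rw [map_add, hy, hy']; split_ifs <;> simp
  | smul c y _ hy => rw [map_smul, hy]; split_ifs <;> simp

end Graded

section Linear

variable {k : Type u} [Field k] {A : Type v} [CommRing A] [Bialgebra k A]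
  {ι : Type w} [Fintype ι] [HopfRep.Comod k A (MvPolynomial ι k)]
  [GLin.IsCoactAlg k A (MvPolynomial ι k)]

theorem coact_X_mem (hlin : GLin.IsLinear k A ι) (i : ι) :
    GLin.coactAlgHom k A (MvPolynomial ι k) (MvPolynomial.X i) ∈ gr k A ι 1 := by
  obtain ⟨m, hm⟩ := hlin i
  rw [GLin.coactAlgHom_apply, hm]
  exact Submodule.sum_mem _ fun j _ =>
    Submodule.subset_span ⟨MvPolynomial.X j, MvPolynomial.isHomogeneous_X _ _, m j, rfl⟩

theorem coact_monomial_mem (hlin : GLin.IsLinear k A ι) (s : ι →₀ ℕ) (a : k) :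
    HopfRep.Comod.coact (k := k) (A := A) (MvPolynomial.monomial s a) ∈ gr k A ι s.degree := by
  rw [← GLin.coactAlgHom_apply, MvPolynomial.monomial_eq, map_mul, Finsupp.prod, map_prod,
    MvPolynomial.C_eq_algebraMap, AlgHom.commutes, Algebra.algebraMap_eq_smul_one, smul_mul_assoc,
    one_mul]
  refine Submodule.smul_mem _ _ ?_
  simp only [map_pow]
  rw [Finsupp.degree_apply]
  exact prod_mem_gr s.support s _ (coact_X_mem hlin)

theorem coact_homogeneousComponent (hlin : GLin.IsLinear k A ι) (d : ℕ) (p : MvPolynomial ι k) :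
    HopfRep.Comod.coact (k := k) (A := A) (MvPolynomial.homogeneousComponent d p) =
      (MvPolynomial.homogeneousComponent d).rTensor A (HopfRep.Comod.coact (k := k) (A := A) p) := by
  induction p using MvPolynomial.induction_on' with
  | monomial s a =>
    rw [rTensor_homogeneousComponent_of_mem (coact_monomial_mem hlin s a),
      MvPolynomial.homogeneousComponent_of_mem (MvPolynomial.isHomogeneous_monomial a rfl)]
    split_ifs <;> simp
  | add p q hp hq => simp only [map_add, hp, hq]

theorem homogeneousComponent_mem_invariants (hlin : GLin.IsLinear k A ι) {f : MvPolynomial ι k}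
    (hf : f ∈ GLin.invariants k A (MvPolynomial ι k)) (d : ℕ) :
    MvPolynomial.homogeneousComponent d f ∈ GLin.invariants k A (MvPolynomial ι k) := by
  rw [GLin.mem_invariants_iff] at hf ⊢
  rw [coact_homogeneousComponent hlin, hf, LinearMap.rTensor_tmul]

theorem orbitHom_origin (hlin : GLin.IsLinear k A ι) :
    GLin.orbitHom k A (GLin.vecPt k ι (fun _ => (0 : k))) =
      (Algebra.ofId k A).comp (GLin.vecPt k ι (fun _ => (0 : k))) := by
  apply MvPolynomial.algHom_ext
  intro i
  obtain ⟨m, hm⟩ := hlin i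
  rw [orbitHom_apply, hm, map_sum]
  simp

theorem eq_origin_of_inOrbitClosure (hlin : GLin.IsLinear k A ι) (z : MvPolynomial ι k →ₐ[k] k)
    (hz : GLin.InOrbitClosure k A (GLin.vecPt k ι (fun _ => (0 : k))) z) :
    z = GLin.vecPt k ι (fun _ => (0 : k)) := by
  apply MvPolynomial.algHom_ext
  intro i
  have h1 : (MvPolynomial.X i : MvPolynomial ι k) ∈
      RingHom.ker (GLin.orbitHom k A (GLin.vecPt k ι (fun _ => (0 : k)))) := by
    rw [RingHom.mem_ker, orbitHom_origin hlin]
    simp
  have := hz h1
  rw [RingHom.mem_ker] at this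
  rw [this]
  simp

end Linear

end Groth.Agent.Lib.Helper22.GITLib
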