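import Groth.Agent.Lib.Helper22.RelCartier

set_option autoImplicit false
universe u
open CategoryTheory CategoryTheory.Limits AlgebraicGeometry TopologicalSpace TensorProduct

namespace Groth.Agent.Lib.Helper22.GenFib

theorem inl_injective_of_isPushout {A B A' P : CommRingCat.{u}} {φ : A ⟶ B} {γ : A ⟶ A'}
    {inl : B ⟶ P} {inr : A' ⟶ P} (h : IsPushout φ γ inl inr)
    (hfl : φ.hom.Flat) (hγ : Function.Injective γ.hom) : Function.Injective inl.hom := by
  algebraize [φ.hom, γ.hom]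
  let e := ((CommRingCat.isPushout_tensorProduct A B A').isoIsPushout B A' h).commRingCatIsoToRingEquiv
  have h1 : Function.Injective (Algebra.TensorProduct.includeLeft : B →ₐ[A] B ⊗[A] A') :=
    Algebra.TensorProduct.includeLeft_injective (S := A) hγ
  have h2 : ∀ t : B, e (t ⊗ₜ[A] (1 : A')) = inl.hom t := by
    intro t
    have := congr($((CommRingCat.isPushout_tensorProduct A B A').inl_isoIsPushout_hom B A' h).hom t)
    exact this
  intro x y hxy
  apply h1
  apply e.injective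
  change e (x ⊗ₜ[A] (1 : A')) = e (y ⊗ₜ[A] (1 : A'))
  rw [h2, h2, hxy]


theorem genericPoint_mem_of_nonempty {Y : Scheme.{u}} [IsIntegral Y] (V : Y.Opens)
    (hV : (V : Set Y).Nonempty) : genericPoint Y ∈ V := by
  have := (genericPoint_spec Y).mem_open_set_iff V.2
  rw [Set.univ_inter] at this
  exact this.mpr hV

theorem fromSpecResidueField_appLE_injective {Y : Scheme.{u}} [IsIntegral Y] (V : Y.Opens)
    (hle : ⊤ ≤ (Y.fromSpecResidueField (genericPoint Y)) ⁻¹ᵁ V) :
    Function.Injective ((Y.fromSpecResidueField (genericPoint Y)).appLE V ⊤ hle).hom := by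
  rw [injective_iff_map_eq_zero]
  intro s hs
  rw [← AlgebraicGeometry.basicOpen_eq_bot_iff]
  by_contra hne
  have hne' : ((Y.basicOpen s : Y.Opens) : Set Y).Nonempty := by
    rw [← Opens.not_nonempty_iff_eq_bot, not_not] at hne
    exact hne
  have hη := genericPoint_mem_of_nonempty _ hne'
  set g := Y.fromSpecResidueField (genericPoint Y) with hg
  have hx : ∀ x : Spec (Y.residueField (genericPoint Y)), x ∈ g ⁻¹ᵁ (Y.basicOpen s) := by
    intro x
    change g x ∈ Y.basicOpen s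
    rw [hg, Scheme.fromSpecResidueField_apply]
    exact hη
  have h2 : (Spec (Y.residueField (genericPoint Y))).basicOpen ((g.appLE V ⊤ hle).hom s) = ⊥ := by
    rw [hs]
    exact Scheme.basicOpen_zero _ _
  have h3 : (Spec (Y.residueField (genericPoint Y))).basicOpen ((g.appLE V ⊤ hle).hom s) =
      ⊤ ⊓ g ⁻¹ᵁ (Y.basicOpen s) := by
    rw [Scheme.preimage_basicOpen, Scheme.Hom.appLE]
    exact Scheme.basicOpen_res _ _ _
  rw [h3] at h2
  have x : Spec (Y.residueField (genericPoint Y)) := IsLocalRing.closedPoint _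
  have : x ∈ (⊤ ⊓ g ⁻¹ᵁ (Y.basicOpen s) : Opens _) := ⟨trivial, hx x⟩
  rw [h2] at this
  exact this


variable {X Y : Scheme.{u}} (f : X ⟶ Y)

theorem fiberι_appLE_injective [Flat f] [IsIntegral Y]
    {U : X.Opens} (hU : IsAffineOpen U) {V : Y.Opens} (hV : IsAffineOpen V)
    (e : U ≤ f ⁻¹ᵁ V) (hη : genericPoint Y ∈ V) :
    Function.Injective ((f.fiberι (genericPoint Y)).appLE U
      ((f.fiberι (genericPoint Y)) ⁻¹ᵁ U ⊓ (f.fiberToSpecResidueField (genericPoint Y)) ⁻¹ᵁ ⊤)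
      inf_le_left).hom := by
  have H : IsPullback (f.fiberι (genericPoint Y)) (f.fiberToSpecResidueField (genericPoint Y)) f
      (Y.fromSpecResidueField (genericPoint Y)) := IsPullback.of_hasPullback _ _
  have hUST : (⊤ : (Spec (Y.residueField (genericPoint Y))).Opens) ≤
      (Y.fromSpecResidueField (genericPoint Y)) ⁻¹ᵁ V := by
    intro x _
    change (Y.fromSpecResidueField (genericPoint Y)) x ∈ V
    rw [Scheme.fromSpecResidueField_apply]
    exact hη
  have hpush := (isIso_pushoutSection_iff H hUST e rfl).mp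
    (isIso_pushoutSection_of_isAffineOpen H hUST e rfl hV (isAffineOpen_top _) hU)
  exact inl_injective_of_isPushout hpush (f.flat_appLE hV hU e)
    (fromSpecResidueField_appLE_injective V hUST)


theorem exists_chart_generic [IsIntegral Y] (x : X) (W : X.Opens) (hx : x ∈ W) :
    ∃ (U : X.Opens) (V : Y.Opens), IsAffineOpen U ∧ IsAffineOpen V ∧ x ∈ U ∧ U ≤ W ∧
      U ≤ f ⁻¹ᵁ V ∧ genericPoint Y ∈ V := by
  obtain ⟨V, hV, hxV, -⟩ := exists_isAffineOpen_mem_and_subset (U := (⊤ : Y.Opens))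
    (x := f x) trivial
  have hxW : x ∈ W ⊓ f ⁻¹ᵁ V := ⟨hx, hxV⟩
  obtain ⟨U, hU, hxU, hUW⟩ := exists_isAffineOpen_mem_and_subset hxW
  replace hUW : U ≤ W ⊓ f ⁻¹ᵁ V := hUW
  exact ⟨U, V, hU, hV, hxU, hUW.trans inf_le_left, hUW.trans inf_le_right,
    genericPoint_mem_of_nonempty V ⟨f x, hxV⟩⟩

theorem isReduced_of_flat_generic_fibre [Flat f] [IsIntegral Y]
    (h : IsReduced (f.fiber (genericPoint Y))) : IsReduced X := by
  have : ∀ x : X, _root_.IsReduced (X.presheaf.stalk x) := by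
    intro x
    obtain ⟨U, V, hU, hV, hxU, -, e, hη⟩ := exists_chart_generic f x ⊤ trivial
    have h1 : _root_.IsReduced Γ(X, U) :=
      isReduced_of_injective _ (fiberι_appLE_injective f hU hV e hη)
    let := X.presheaf.algebra_section_stalk (⟨x, hxU⟩ : U)
    have := hU.isLocalization_stalk ⟨x, hxU⟩
    exact isReduced_localizationPreserves (hU.primeIdealOf ⟨x, hxU⟩).asIdeal.primeCompl
      (X.presheaf.stalk x) h1
  exact isReduced_of_isReduced_stalk X

theorem preimage_nonempty_of_chart [Flat f] [IsIntegral Y]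
    {U : X.Opens} (hU : IsAffineOpen U) {V : Y.Opens} (hV : IsAffineOpen V)
    (e : U ≤ f ⁻¹ᵁ V) (hη : genericPoint Y ∈ V) (hne : (U : Set X).Nonempty) :
    ∃ z : f.fiber (genericPoint Y), f.fiberι (genericPoint Y) z ∈ U := by
  by_contra hcon
  push Not at hcon
  have hbot : (f.fiberι (genericPoint Y)) ⁻¹ᵁ U ⊓
      (f.fiberToSpecResidueField (genericPoint Y)) ⁻¹ᵁ ⊤ = ⊥ := by
    ext z
    simp only [Opens.coe_inf, Set.mem_inter_iff, SetLike.mem_coe, Opens.coe_bot,
      Set.mem_empty_iff_false, iff_false, not_and]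
    intro hz
    exact absurd hz (hcon z)
  have hinj := fiberι_appLE_injective f hU hV e hη
  have hss : Subsingleton Γ(f.fiber (genericPoint Y), (f.fiberι (genericPoint Y)) ⁻¹ᵁ U ⊓
      (f.fiberToSpecResidueField (genericPoint Y)) ⁻¹ᵁ ⊤) := by
    rw [hbot]; infer_instance
  have : Nonempty U := hne.to_subtype
  have hnt : Nontrivial Γ(X, U) := inferInstance
  obtain ⟨a, b, hab⟩ := hnt
  exact hab (hinj (Subsingleton.elim _ _))

theorem irreducibleSpace_of_flat_generic_fibre [Flat f] [IsIntegral Y]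
    (h : IrreducibleSpace (f.fiber (genericPoint Y))) : IrreducibleSpace X := by
  obtain ⟨z₀⟩ := h.toNonempty
  refine @IrreducibleSpace.mk _ _ ⟨?_⟩ ⟨f.fiberι (genericPoint Y) z₀⟩
  rintro u v hu hv ⟨x, -, hxu⟩ ⟨y, -, hyv⟩
  obtain ⟨U₁, V₁, hU₁, hV₁, hxU₁, hU₁u, e₁, hη₁⟩ := exists_chart_generic f x ⟨u, hu⟩ hxu
  obtain ⟨U₂, V₂, hU₂, hV₂, hyU₂, hU₂v, e₂, hη₂⟩ := exists_chart_generic f y ⟨v, hv⟩ hyv
  obtain ⟨z₁, hz₁⟩ := preimage_nonempty_of_chart f hU₁ hV₁ e₁ hη₁ ⟨x, hxU₁⟩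
  obtain ⟨z₂, hz₂⟩ := preimage_nonempty_of_chart f hU₂ hV₂ e₂ hη₂ ⟨y, hyU₂⟩
  obtain ⟨z, hz1, hz2⟩ := nonempty_preirreducible_inter
    ((f.fiberι (genericPoint Y)) ⁻¹ᵁ U₁).2 ((f.fiberι (genericPoint Y)) ⁻¹ᵁ U₂).2
    ⟨z₁, hz₁⟩ ⟨z₂, hz₂⟩
  exact ⟨f.fiberι (genericPoint Y) z, trivial, hU₁u hz1, hU₂v hz2⟩

theorem isIntegral_of_flat_integral_generic_fibre [Flat f] [IsIntegral Y]
    (h : IsIntegral (f.fiber (genericPoint Y))) : IsIntegral X := by
  have := isReduced_of_flat_generic_fibre f inferInstance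
  have := irreducibleSpace_of_flat_generic_fibre f inferInstance
  exact isIntegral_of_irreducibleSpace_of_isReduced X

end Groth.Agent.Lib.Helper22.GenFib
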