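import Groth.Agent.Lib.Helper2.FreeModAff
import Groth.Agent.Lib.Helper2.FinTypeAff
import Groth.Agent.Lib.Helper21.RelFPSch
import Groth.Agent.Lib.Lead.PullbackAff6
import Mathlib.AlgebraicGeometry.FunctionField
import Mathlib.RingTheory.Localization.Finiteness

set_option autoImplicit false
universe u
open TensorProduct

namespace Groth.Agent.Lib.Helper22.GenFree

/-- Core of generic freeness for a finite module over a domain: sections `m i` whose images form a
`K`-basis of the generic stalk give an injective map `A^r → M` whose cokernel is killed by a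
nonzero `f`. -/
theorem exists_injective_smul_le {A : Type u} [CommRing A] [IsDomain A] (S : Submonoid A)
    (hS : S ≤ nonZeroDivisors A)
    {M : Type u} [AddCommGroup M] [Module A M] [Module.Finite A M]
    {K : Type u} [Field K] [Algebra A K] [IsLocalization S K]
    {MK : Type u} [AddCommGroup MK] [Module A MK] [Module K MK] [IsScalarTower A K MK]
    (g : M →ₗ[A] MK) [IsLocalizedModule S g] :
    ∃ (m : Fin (Module.finrank K MK) → M) (f : A), f ∈ S ∧
      Function.Injective (Fintype.linearCombination A m) ∧
      ∀ x : M, f • x ∈ LinearMap.range (Fintype.linearCombination A m) := by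
  classical
  have hfin : Module.Finite K MK := Module.Finite.of_isLocalizedModule S g
  let b := Module.finBasis K MK
  -- lift (multiples of) the basis vectors
  have hsurj : ∀ i, ∃ (mi : M) (si : S), (si : A) • b i = g mi := by
    intro i
    obtain ⟨⟨mi, si⟩, h⟩ := IsLocalizedModule.surj S g (b i)
    exact ⟨mi, si, h⟩
  choose m s hms using hsurj
  have hinjAK : Function.Injective (algebraMap A K) :=
    IsLocalization.injective K hS
  have hunit : ∀ i, IsUnit (algebraMap A K (s i)) := fun i => IsLocalization.map_units K (s i)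
  -- the images `g (m i)` are linearly independent over `K`
  have hli : LinearIndependent K (fun i => g (m i)) := by
    have h1 : (fun i => g (m i)) = fun i => (algebraMap A K (s i)) • b i := by
      funext i
      rw [← hms i, algebraMap_smul]
    rw [h1]
    have := b.linearIndependent.units_smul (fun i => (hunit i).unit)
    exact this
  have hspan : ⊤ ≤ Submodule.span K (Set.range fun i => g (m i)) := by
    rw [← b.span_eq, Submodule.span_le]
    rintro _ ⟨i, rfl⟩
    have h2 : b i = ((hunit i).unit⁻¹ : Kˣ) • g (m i) := by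
      rw [← hms i, ← algebraMap_smul K ((s i : A)) (b i), Units.smul_def, smul_smul,
        IsUnit.val_inv_mul, one_smul]
    rw [h2]
    exact Submodule.smul_mem _ _ (Submodule.subset_span ⟨i, rfl⟩)
  -- injectivity
  have hinj : Function.Injective (Fintype.linearCombination A m) := by
    rw [injective_iff_map_eq_zero]
    intro a ha
    have h3 : ∑ i, (algebraMap A K (a i)) • g (m i) = 0 := by
      have := congrArg g ha
      rw [Fintype.linearCombination_apply, map_sum, map_zero] at this
      rw [← this]
      refine Finset.sum_congr rfl fun i _ => ?_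
      rw [map_smul, algebraMap_smul]
    have h4 := Fintype.linearIndependent_iff.mp hli (fun i => algebraMap A K (a i)) h3
    funext i
    exact hinjAK (by rw [h4 i, Pi.zero_apply, map_zero])
  -- every element has a nonzero multiple in the range
  have hmult : ∀ x : M, ∃ d : S, (d : A) • x ∈ LinearMap.range (Fintype.linearCombination A m) := by
    intro x
    have hx : g x ∈ Submodule.span K (Set.range fun i => g (m i)) := hspan trivial
    rw [Submodule.mem_span_range_iff_exists_fun] at hx
    obtain ⟨c, hc⟩ := hx
    obtain ⟨d, hd⟩ := IsLocalization.exist_integer_multiples_of_finite S c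
    choose a ha using hd
    have h5 : g ((d : A) • x - Fintype.linearCombination A m a) = 0 := by
      rw [map_sub, map_smul, Fintype.linearCombination_apply, map_sum, ← hc, Finset.smul_sum,
        sub_eq_zero]
      refine Finset.sum_congr rfl fun i _ => ?_
      rw [map_smul, ← algebraMap_smul K (a i) (g (m i)), ha i, smul_assoc]
    obtain ⟨t, ht⟩ := (IsLocalizedModule.eq_zero_iff S g).mp h5
    refine ⟨t * d, ?_⟩
    rw [Submonoid.smul_def, smul_sub, sub_eq_zero] at ht
    refine ⟨(t : A) • a, ?_⟩
    rw [map_smul, ← ht, Submonoid.coe_mul, mul_smul]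
  -- a common multiplier for a finite generating set
  obtain ⟨T, hT⟩ := (Module.finite_def.mp (inferInstance : Module.Finite A M))
  choose d hd using hmult
  refine ⟨m, ∏ x ∈ T, (d x : A), Submonoid.prod_mem _ (fun x _ => (d x).2), hinj, ?_⟩
  intro x
  have hx : x ∈ Submodule.span A (T : Set M) := hT ▸ trivial
  refine Submodule.span_induction (p := fun x _ => (∏ x ∈ T, (d x : A)) • x ∈
    LinearMap.range (Fintype.linearCombination A m)) ?_ ?_ ?_ ?_ hx
  · intro y hy
    rw [← Finset.mul_prod_erase T _ hy, mul_comm, mul_smul]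
    exact Submodule.smul_mem _ _ (hd y)
  · rw [smul_zero]; exact Submodule.zero_mem _
  · intro y z _ _ hy hz
    rw [smul_add]; exact Submodule.add_mem _ hy hz
  · intro a y _ hy
    rw [smul_comm]; exact Submodule.smul_mem _ _ hy


/-- If `A^r → M` is injective with cokernel killed by the non-zero-divisor `f`, then the
localization of `M` away from `f` is free of rank `r` over `A_f`. -/
theorem nonempty_linearEquiv_away {A : Type u} [CommRing A] {M : Type u} [AddCommGroup M]
    [Module A M] {r : ℕ} (m : Fin r → M) (f : A) (hf : f ∈ nonZeroDivisors A)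
    (hinj : Function.Injective (Fintype.linearCombination A m))
    (hrange : ∀ x : M, f • x ∈ LinearMap.range (Fintype.linearCombination A m))
    (A' : Type u) [CommRing A'] [Algebra A A'] [IsLocalization.Away f A']
    (M' : Type u) [AddCommGroup M'] [Module A M'] [Module A' M'] [IsScalarTower A A' M']
    (ρ : M →ₗ[A] M') [IsLocalizedModule (Submonoid.powers f) ρ] :
    Nonempty (M' ≃ₗ[A'] (Fin r → A')) := by
  classical
  have hfu : IsUnit (algebraMap A A' f) := IsLocalization.Away.algebraMap_isUnit f
  have hpu : ∀ s : Submonoid.powers f, IsUnit (algebraMap A A' s) := fun s =>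
    IsLocalization.map_units A' s
  let φ' : (Fin r → A') →ₗ[A'] M' := Fintype.linearCombination A' (fun i => ρ (m i))
  have hcompat : ∀ a : Fin r → A, φ' (fun i => algebraMap A A' (a i)) =
      ρ (Fintype.linearCombination A m a) := by
    intro a
    simp only [φ', Fintype.linearCombination_apply, map_sum, map_smul, algebraMap_smul]
  have hinj' : Function.Injective φ' := by
    rw [injective_iff_map_eq_zero]
    intro a' ha'
    obtain ⟨b, hb⟩ := IsLocalization.exist_integer_multiples_of_finite (Submonoid.powers f) a'
    choose a ha using hb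
    have h1 : φ' (fun i => algebraMap A A' (a i)) = 0 := by
      have : (fun i => algebraMap A A' (a i)) = (algebraMap A A' (b : A)) • a' := by
        funext i
        rw [ha i, Pi.smul_apply, Algebra.smul_def, smul_eq_mul]
      rw [this, map_smul, ha', smul_zero]
    rw [hcompat] at h1
    obtain ⟨t, ht⟩ := (IsLocalizedModule.eq_zero_iff (Submonoid.powers f) ρ).mp h1
    rw [Submonoid.smul_def, ← map_smul] at ht
    have h2 : (t : A) • a = 0 := hinj (by rw [ht, map_zero])
    have ht0 : (t : A) ∈ nonZeroDivisors A := by
      obtain ⟨_, n, rfl⟩ := t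
      exact pow_mem hf n
    have h3 : ∀ i, a i = 0 := by
      intro i
      have := congrFun h2 i
      rw [Pi.smul_apply, smul_eq_mul, Pi.zero_apply] at this
      exact (mul_cancel_left_mem_nonZeroDivisors ht0 (x := a i) (y := 0)).mp (by rw [this, mul_zero])
    funext i
    have h4 : algebraMap A A' (b : A) * a' i = 0 := by
      have := ha i
      rw [h3 i, map_zero, Algebra.smul_def] at this
      exact this.symm
    exact (hpu b).mul_right_eq_zero.mp h4
  have hsurj' : Function.Surjective φ' := by
    intro y
    obtain ⟨⟨x, s⟩, hxs⟩ := IsLocalizedModule.surj (Submonoid.powers f) ρ y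
    obtain ⟨a, ha⟩ := hrange x
    -- (f * s) • y = ρ (f • x) = φ' (a)
    have h5 : (algebraMap A A' (f * (s : A))) • y = φ' (fun i => algebraMap A A' (a i)) := by
      rw [hcompat, ha, map_smul, ← hxs, Submonoid.smul_def, smul_smul, algebraMap_smul]
    have hu : IsUnit (algebraMap A A' (f * (s : A))) := by
      rw [map_mul]; exact hfu.mul (hpu s)
    refine ⟨(↑hu.unit⁻¹ : A') • (fun i => algebraMap A A' (a i)), ?_⟩
    rw [map_smul, ← h5, smul_smul, IsUnit.val_inv_mul, one_smul]
  exact ⟨(LinearEquiv.ofBijective φ' ⟨hinj', hsurj'⟩).symm⟩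

section Scheme

open CategoryTheory CategoryTheory.Limits AlgebraicGeometry TopologicalSpace
open Groth.Agent.Lib.Lead.PullbackAff Groth.Agent.Lib.Lead.QCohAff Scheme.Modules
open Groth.Agent.Lib.Helper21.RelFPSch Groth.Agent.Lib.Helper2.FinTypeAff Groth.Agent.Lib.Helper2.FreeModAff

theorem exists_open_iso_freeMod (X : Scheme.{u}) [IsIntegral X] (F : X.Modules) (hF : Coh.IsQCoh F)
    (hft : CohB1.IsFT F) :
    ∃ U : X.Opens, (U : Set ↥X).Nonempty ∧
      Nonempty (F.restrict U.ι ≅ FlatMod.freeMod (↑U)
        (Module.finrank ↑(X.presheaf.stalk (genericPoint ↥X))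
          ↑(F.presheaf.stalk (genericPoint ↥X)))) := by
  haveI : F.IsQuasicoherent := hF
  haveI : SheafOfModules.IsFiniteType (R := X.ringCatSheaf) F := hft
  obtain ⟨U₀, hU₀, hη, -⟩ := exists_isAffineOpen_mem_and_subset (U := (⊤ : X.Opens))
    (x := genericPoint X) trivial
  haveI : Nonempty U₀ := ⟨⟨genericPoint X, hη⟩⟩
  haveI : IsDomain Γ(X, U₀) := inferInstance
  haveI hfin : Module.Finite Γ(X, U₀) Γ(F, U₀) := finite_sections F hU₀
  letI algAK : Algebra Γ(X, U₀) (X.presheaf.stalk (genericPoint X)) :=
    X.presheaf.algebra_section_stalk ⟨genericPoint X, hη⟩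
  haveI locK := hU₀.isLocalization_stalk ⟨genericPoint X, hη⟩
  letI : Field (X.presheaf.stalk (genericPoint X)) := inferInstanceAs (Field X.functionField)
  have hS : (hU₀.primeIdealOf ⟨genericPoint X, hη⟩).asIdeal.primeCompl ≤
      nonZeroDivisors Γ(X, U₀) := by
    intro a ha
    refine mem_nonZeroDivisors_of_ne_zero ?_
    rintro rfl
    exact ha (Ideal.zero_mem _)
  haveI t1 : IsScalarTower Γ(X, U₀) (X.presheaf.stalk (genericPoint X))
      (StalkOver F U₀ (genericPoint X) hη) := IsScalarTower.of_algebraMap_smul fun r m => rfl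
  obtain ⟨m, f, hfS, hinj, hrange⟩ := exists_injective_smul_le
    (hU₀.primeIdealOf ⟨genericPoint X, hη⟩).asIdeal.primeCompl hS
    (K := X.presheaf.stalk (genericPoint X)) (germL F U₀ (genericPoint X) hη)
  refine ⟨X.basicOpen f, ⟨genericPoint X, ?_⟩, ?_⟩
  · rw [SetLike.mem_coe, Scheme.mem_basicOpen _ _ _ hη]
    exact (IsLocalization.AtPrime.isUnit_to_map_iff (X.presheaf.stalk (genericPoint X))
      (hU₀.primeIdealOf ⟨genericPoint X, hη⟩).asIdeal f).mpr hfS
  · rw [nonempty_iso_freeMod_iff F (hU₀.basicOpen f)]
    letI modAM' : Module Γ(X, U₀) Γ(F, X.basicOpen f) :=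
      Module.compHom _ (resRing X (X.basicOpen_le f))
    haveI t2 : IsScalarTower Γ(X, U₀) Γ(X, X.basicOpen f) Γ(F, X.basicOpen f) :=
      IsScalarTower.of_algebraMap_smul fun r m => rfl
    haveI := hU₀.isLocalization_basicOpen f
    haveI := isLocalizedModule_resL F hU₀ f
    exact nonempty_linearEquiv_away m f (hS hfS) hinj hrange Γ(X, X.basicOpen f)
      Γ(F, X.basicOpen f) (resL F (X.basicOpen_le f))

end Scheme

end Groth.Agent.Lib.Helper22.GenFree
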