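import Mathlib
import Groth.Agent.Lib.Helper22.GenStrDim

set_option autoImplicit false
set_option linter.style.haveILetI false
universe u

open AlgebraicGeometry CategoryTheory TopologicalSpace

namespace Groth.Agent.Lib.Helper22.GenStr

open Groth.Agent.Lib.Helper73

/-- A finite partition of a space into nonempty closed subsets bounds the number of connected
components from below. -/
lemma card_le_card_connectedComponents_of_partition {α ι : Type*} [TopologicalSpace α] [Finite ι]
    (A : ι → Set α) (hA : ∀ i, IsClosed (A i)) (hcov : ⋃ i, A i = Set.univ)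
    (hdisj : ∀ i j, i ≠ j → Disjoint (A i) (A j)) (hne : ∀ i, (A i).Nonempty) :
    ENat.card ι ≤ ENat.card (_root_.ConnectedComponents α) := by
  have hopen : ∀ i, IsOpen (A i) := by
    intro i
    have h1 : A i = (⋃ j ∈ {j | j ≠ i}, A j)ᶜ := by
      ext a
      simp only [Set.mem_compl_iff, Set.mem_iUnion, Set.mem_ofPred_eq, not_exists]
      constructor
      · intro ha j hj haj
        exact (hdisj j i hj).le_bot ⟨haj, ha⟩
      · intro h
        have : a ∈ ⋃ j, A j := by rw [hcov]; exact Set.mem_univ a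
        obtain ⟨j, hj⟩ := Set.mem_iUnion.1 this
        by_cases hji : j = i
        · rwa [← hji]
        · exact absurd hj (h j hji)
    rw [h1, isOpen_compl_iff]
    exact (Set.toFinite _).isClosed_biUnion fun j _ => hA j
  choose a ha using hne
  refine ENat.card_le_card_of_injective (f := fun i => _root_.ConnectedComponents.mk (a i)) ?_
  intro i j hij
  by_contra hne'
  rw [_root_.ConnectedComponents.coe_eq_coe'] at hij
  have h1 : connectedComponent (a j) ⊆ A j :=
    isPreconnected_connectedComponent.subset_isClopen ⟨hA j, hopen j⟩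
      ⟨a j, mem_connectedComponent, ha j⟩
  exact (hdisj i j hne').le_bot ⟨ha i, h1 hij⟩

variable {X Y : Scheme.{u}} (f : X ⟶ Y)

/-- The closure in `X` of a closed subset of a fibre meets the fibre only in that subset. -/
lemma exists_mem_of_mem_closure_image_fiberι (y : Y) (C : Set ↥(f.fiber y)) (hC : IsClosed C)
    (x : X) (hx : x ∈ closure (f.fiberι y '' C)) (hfx : f x = y) :
    ∃ z ∈ C, f.fiberι y z = x := by
  have hxr : x ∈ Set.range (f.fiberι y) := by rw [f.range_fiberι]; exact hfx
  obtain ⟨z, rfl⟩ := hxr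
  refine ⟨z, ?_, rfl⟩
  rw [← hC.closure_eq, (f.fiberι y).isEmbedding.isInducing.closure_eq_preimage_closure_image]
  exact hx

/-- Finite intersections of open neighbourhoods. -/
lemma exists_open_forall_of_finite {T : Type*} [TopologicalSpace T] {ι : Type*} [Finite ι] (t : T)
    (Q : ι → T → Prop) (h : ∀ i, ∃ V : Set T, IsOpen V ∧ t ∈ V ∧ ∀ y ∈ V, Q i y) :
    ∃ V : Set T, IsOpen V ∧ t ∈ V ∧ ∀ y ∈ V, ∀ i, Q i y := by
  choose V hVo htV hV using h
  exact ⟨⋂ i, V i, isOpen_iInter_of_finite hVo, Set.mem_iInter.2 htV,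
    fun y hy i => hV i y (Set.mem_iInter.1 hy i)⟩


/-- **Connected components of fibres near the generic point**: over a neighbourhood of the generic
point, fibres have at least as many connected components as the generic fibre. -/
theorem exists_open_forall_card_connectedComponents_fiber_le [LocallyOfFiniteType f]
    [QuasiCompact f] [IrreducibleSpace Y]
    [Finite (_root_.ConnectedComponents ↥(f.fiber (genericPoint Y)))] :
    ∃ V : Y.Opens, genericPoint Y ∈ V ∧ ∀ y ∈ V,
      ENat.card (_root_.ConnectedComponents ↥(f.fiber (genericPoint Y))) ≤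
        ENat.card (_root_.ConnectedComponents ↥(f.fiber y)) := by
  set η := genericPoint Y with hη
  choose r hr using _root_.ConnectedComponents.surjective_coe (α := ↥(f.fiber η))
  let C : _root_.ConnectedComponents ↥(f.fiber η) → Set ↥(f.fiber η) := fun c => connectedComponent (r c)
  have hCcl : ∀ c, IsClosed (C c) := fun c => isClosed_connectedComponent
  have hCmem : ∀ z : ↥(f.fiber η), z ∈ C (_root_.ConnectedComponents.mk z) := by
    intro z
    exact _root_.ConnectedComponents.coe_eq_coe'.1 (hr _).symm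
  have hCeq : ∀ c, ∀ z ∈ C c, _root_.ConnectedComponents.mk z = c := by
    intro c z hz
    rw [← hr c]
    exact _root_.ConnectedComponents.coe_eq_coe'.2 hz
  let T : _root_.ConnectedComponents ↥(f.fiber η) → Set X := fun c => closure (f.fiberι η '' C c)
  have hTcl : ∀ c, IsClosed (T c) := fun c => isClosed_closure
  have hTsub : ∀ c, f.fiberι η '' C c ⊆ T c := fun c => subset_closure
  -- V₁ : generizations
  obtain ⟨V₁, hη₁, hV₁, -⟩ := exists_open_generic f
  -- V₂ : disjointness
  let Z : Set X := ⋃ p : {p : _root_.ConnectedComponents ↥(f.fiber η) × _root_.ConnectedComponents ↥(f.fiber η) //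
    p.1 ≠ p.2}, T p.1.1 ∩ T p.1.2
  have hZcl : IsClosed Z := isClosed_iUnion_of_finite fun p => (hTcl _).inter (hTcl _)
  obtain ⟨V₂, hη₂, hV₂⟩ := exists_open_disjoint_of_isClosed f Z hZcl (by
    intro z hz hfz
    obtain ⟨⟨⟨c, c'⟩, hcc'⟩, hz1, hz2⟩ := Set.mem_iUnion.1 hz
    obtain ⟨w, hw, hwz⟩ := exists_mem_of_mem_closure_image_fiberι f η (C c) (hCcl c) z hz1 hfz
    obtain ⟨w', hw', hwz'⟩ := exists_mem_of_mem_closure_image_fiberι f η (C c') (hCcl c') z hz2 hfz
    have : w = w' := (f.fiberι η).isEmbedding.injective (hwz.trans hwz'.symm)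
    subst this
    exact hcc' ((hCeq c w hw).symm.trans (hCeq c' w hw')))
  -- V₃ : nonemptiness
  obtain ⟨V₃, hV₃o, hη₃, hV₃⟩ := exists_open_forall_of_finite (ι := _root_.ConnectedComponents ↥(f.fiber η))
    η (fun c y => ∃ t : X, t ∈ T c ∧ f t = y) (by
      intro c
      obtain ⟨V, hηV, hV⟩ := exists_open_forall_exists_le_resTrdegNat f (f.fiberι η (r c))
        (map_fiberι f η (r c))
      refine ⟨V, V.isOpen, hηV, fun y hy => ?_⟩
      obtain ⟨t, ht, hty, -⟩ := hV y hy
      refine ⟨t, ?_, hty⟩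
      exact ht.mem_closed (hTcl c) (hTsub c ⟨r c, mem_connectedComponent, rfl⟩))
  refine ⟨V₁ ⊓ V₂ ⊓ ⟨V₃, hV₃o⟩, ⟨⟨hη₁, hη₂⟩, hη₃⟩, fun y hy => ?_⟩
  obtain ⟨⟨hy1, hy2⟩, hy3⟩ := hy
  refine card_le_card_connectedComponents_of_partition
    (fun c => f.fiberι y ⁻¹' T c) (fun c => (hTcl c).preimage (f.fiberι y).continuous) ?_ ?_ ?_
  · rw [Set.eq_univ_iff_forall]
    intro z'
    obtain ⟨x', hx'x, hfx'⟩ := hV₁ (f.fiberι y z') (by rw [map_fiberι]; exact hy1)
    have hx'r : x' ∈ Set.range (f.fiberι η) := by rw [f.range_fiberι]; exact hfx'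
    obtain ⟨w, rfl⟩ := hx'r
    refine Set.mem_iUnion.2 ⟨_root_.ConnectedComponents.mk w, ?_⟩
    exact hx'x.mem_closed (hTcl _) (hTsub _ ⟨w, hCmem w, rfl⟩)
  · intro c c' hcc'
    rw [Set.disjoint_left]
    intro z' hz1 hz2
    refine hV₂ (f.fiberι y z') (Set.mem_iUnion.2 ⟨⟨⟨c, c'⟩, hcc'⟩, hz1, hz2⟩) ?_
    rw [map_fiberι]; exact hy2
  · intro c
    obtain ⟨t, htT, hty⟩ := hV₃ y hy3 c
    refine ⟨(f.fiberHomeo y).symm ⟨t, hty⟩, ?_⟩
    change f.fiberι y _ ∈ T c
    rw [f.fiberι_fiberHomeo_symm y ⟨t, hty⟩]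
    exact htT

end Groth.Agent.Lib.Helper22.GenStr
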