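import Mathlib
import Groth.Agent.Lib.Helper22.GenStrComp

set_option autoImplicit false
set_option linter.style.haveILetI false
universe u

open AlgebraicGeometry CategoryTheory TopologicalSpace

namespace Groth.Agent.Lib.Helper22.GenStr

open Groth.Agent.Lib.Helper73

variable {X Y : Scheme.{u}} (f : X ⟶ Y)

/-- **Irreducible components of fibres near the generic point**: over a neighbourhood of the
generic point, fibres have at least as many irreducible components as the generic fibre. -/
theorem exists_open_forall_encard_irreducibleComponents_fiber_le [LocallyOfFiniteType f]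
    [QuasiCompact f] [IrreducibleSpace Y]
    (hfin : (irreducibleComponents ↥(f.fiber (genericPoint Y))).Finite) :
    ∃ V : Y.Opens, genericPoint Y ∈ V ∧ ∀ y ∈ V,
      (irreducibleComponents ↥(f.fiber (genericPoint Y))).encard ≤
        (irreducibleComponents ↥(f.fiber y)).encard := by
  set η := genericPoint Y with hη
  haveI : Finite ↥(irreducibleComponents ↥(f.fiber η)) := hfin.to_subtype
  have hgp : ∀ c : ↥(irreducibleComponents ↥(f.fiber η)), ∃ z : ↥(f.fiber η),
      IsGenericPoint z c.1 := fun c =>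
    QuasiSober.sober c.2.1 (isClosed_of_mem_irreducibleComponents _ c.2)
  choose z hz using hgp
  let ξ : ↥(irreducibleComponents ↥(f.fiber η)) → X := fun c => f.fiberι η (z c)
  let T : ↥(irreducibleComponents ↥(f.fiber η)) → Set X := fun c => closure {ξ c}
  let d : ↥(irreducibleComponents ↥(f.fiber η)) → ℕ := fun c => resTrdegNat f (ξ c)
  have hTcl : ∀ c, IsClosed (T c) := fun c => isClosed_closure
  have hξη : ∀ c, f (ξ c) = η := fun c => map_fiberι f η (z c)
  have hδ := isDimFun_trdegNat (k := Y.residueField η) (f.fiberToSpecResidueField η)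
  -- (i) every point of the generic fibre is a specialization of some `ξ c`
  have hcov : ∀ w : ↥(f.fiber η), ∃ c, ξ c ⤳ f.fiberι η w := by
    intro w
    refine ⟨⟨irreducibleComponent w, irreducibleComponent_mem_irreducibleComponents w⟩, ?_⟩
    exact ((hz _).specializes mem_irreducibleComponent).map (f.fiberι η).continuous
  -- (ii) on `T c ∩ T c'` the generic fibre has smaller transcendence degree
  have hlt : ∀ c c', c ≠ c' → ∀ x ∈ T c ∩ T c', f x = η → resTrdegNat f x < d c := by
    intro c c' hcc' x hx hfx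
    have hxr : x ∈ Set.range (f.fiberι η) := by rw [f.range_fiberι]; exact hfx
    obtain ⟨w, rfl⟩ := hxr
    have h1 : z c ⤳ w := (f.fiberι η).isEmbedding.isInducing.specializes_iff.1
      (specializes_iff_mem_closure.2 hx.1)
    have h2 : z c' ⤳ w := (f.fiberι η).isEmbedding.isInducing.specializes_iff.1
      (specializes_iff_mem_closure.2 hx.2)
    have hne : z c ≠ w := by
      rintro rfl
      apply hcc'
      have hsub : c.1 ⊆ c'.1 := by
        rw [← (hz c).def]
        exact closure_minimal (Set.singleton_subset_iff.2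
          (h2.mem_closed (isClosed_of_mem_irreducibleComponents _ c'.2) (hz c').mem))
          (isClosed_of_mem_irreducibleComponents _ c'.2)
      exact Subtype.ext (c.2.eq_of_subset c'.2.1 hsub)
    have h3 := hδ.strictMono (hδ.lt_of_specializes_of_ne h1 hne)
    rw [trdegNat_fiber_eq_resTrdegNat, trdegNat_fiber_eq_resTrdegNat] at h3
    exact h3
  -- V₁ : generizations
  obtain ⟨V₁, hη₁, hV₁, -⟩ := exists_open_generic f
  -- V₂ : the bound (ii) spreads out
  obtain ⟨V₂, hV₂o, hη₂, hV₂⟩ := exists_open_forall_of_finite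
    (ι := {p : ↥(irreducibleComponents ↥(f.fiber η)) × ↥(irreducibleComponents ↥(f.fiber η)) //
      p.1 ≠ p.2}) η
    (fun p y => ∀ x ∈ T p.1.1 ∩ T p.1.2, f x = y → resTrdegNat f x < d p.1.1) (by
      rintro ⟨⟨c, c'⟩, hcc'⟩
      obtain ⟨V, hηV, hV⟩ := exists_open_forall_resTrdegNat_lt f (T c ∩ T c')
        ((hTcl c).inter (hTcl c')) (d c) (hlt c c' hcc')
      exact ⟨V, V.isOpen, hηV, fun y hy x hx hfx => hV x hx (by rw [hfx]; exact hy)⟩)
  -- V₃ : points of large transcendence degree
  obtain ⟨V₃, hV₃o, hη₃, hV₃⟩ := exists_open_forall_of_finite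
    (ι := ↥(irreducibleComponents ↥(f.fiber η))) η
    (fun c y => ∃ t : X, t ∈ T c ∧ f t = y ∧ d c ≤ resTrdegNat f t) (by
      intro c
      obtain ⟨V, hηV, hV⟩ := exists_open_forall_exists_le_resTrdegNat f (ξ c) (hξη c)
      refine ⟨V, V.isOpen, hηV, fun y hy => ?_⟩
      obtain ⟨t, ht, hty, hle⟩ := hV y hy
      exact ⟨t, specializes_iff_mem_closure.1 ht, hty, hle⟩)
  refine ⟨V₁ ⊓ ⟨V₂, hV₂o⟩ ⊓ ⟨V₃, hV₃o⟩, ⟨⟨hη₁, hη₂⟩, hη₃⟩, fun y hy => ?_⟩
  obtain ⟨⟨hy1, hy2⟩, hy3⟩ := hy
  choose t htT hty htd using hV₃ y hy3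
  -- `t c` lies in `T c` only
  have honly : ∀ c c', t c ∈ T c' → c' = c := by
    intro c c' h
    by_contra hne
    have := hV₂ y hy2 ⟨⟨c, c'⟩, fun e => hne e.symm⟩ (t c) ⟨htT c, h⟩ (hty c)
    exact absurd (htd c) (not_le.2 this)
  let tb : ↥(irreducibleComponents ↥(f.fiber η)) → ↥(f.fiber y) := fun c =>
    (f.fiberHomeo y).symm ⟨t c, hty c⟩
  have htb : ∀ c, f.fiberι y (tb c) = t c := fun c => f.fiberι_fiberHomeo_symm y ⟨t c, hty c⟩
  let A : ↥(irreducibleComponents ↥(f.fiber η)) → Set ↥(f.fiber y) := fun c => f.fiberι y ⁻¹' T c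
  have hAcl : ∀ c, IsClosed (A c) := fun c => (hTcl c).preimage (f.fiberι y).continuous
  have hAcov : ∀ z' : ↥(f.fiber y), ∃ c, z' ∈ A c := by
    intro z'
    obtain ⟨x', hx'x, hfx'⟩ := hV₁ (f.fiberι y z') (by rw [map_fiberι]; exact hy1)
    have hx'r : x' ∈ Set.range (f.fiberι η) := by rw [f.range_fiberι]; exact hfx'
    obtain ⟨w, rfl⟩ := hx'r
    obtain ⟨c, hc⟩ := hcov w
    exact ⟨c, specializes_iff_mem_closure.1 (hc.trans hx'x)⟩
  -- each irreducible component of the fibre lies in some `A c`
  have hKsub : ∀ c, irreducibleComponent (tb c) ⊆ A c := by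
    intro c
    letI : Fintype ↥(irreducibleComponents ↥(f.fiber η)) := Fintype.ofFinite _
    obtain ⟨S, hS, hKS⟩ := (isIrreducible_iff_sUnion_isClosed.1
      (isIrreducible_irreducibleComponent (x := tb c))) (Finset.univ.image A)
      (by
        intro S hS
        obtain ⟨c', -, rfl⟩ := Finset.mem_image.1 hS
        exact hAcl c')
      (by
        intro z' _
        obtain ⟨c', hc'⟩ := hAcov z'
        exact Set.mem_sUnion.2 ⟨A c', Finset.mem_coe.2 (Finset.mem_image.2 ⟨c', Finset.mem_univ _, rfl⟩), hc'⟩)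
    obtain ⟨c', -, rfl⟩ := Finset.mem_image.1 hS
    have h1 : tb c ∈ A c' := hKS mem_irreducibleComponent
    have h2 : t c ∈ T c' := by
      have : f.fiberι y (tb c) ∈ T c' := h1
      rwa [htb] at this
    have h3 := honly c c' h2
    subst h3
    exact hKS
  change ENat.card ↥(irreducibleComponents ↥(f.fiber η)) ≤
    ENat.card ↥(irreducibleComponents ↥(f.fiber y))
  refine ENat.card_le_card_of_injective (f := fun c =>
    (⟨irreducibleComponent (tb c), irreducibleComponent_mem_irreducibleComponents _⟩ :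
      ↥(irreducibleComponents ↥(f.fiber y)))) ?_
  intro c c' hcc'
  have h1 : irreducibleComponent (tb c) = irreducibleComponent (tb c') := congrArg Subtype.val hcc'
  have h2 : tb c' ∈ A c := by
    apply hKsub c
    rw [h1]
    exact mem_irreducibleComponent
  have h3 : t c' ∈ T c := by
    have : f.fiberι y (tb c') ∈ T c := h2
    rwa [htb] at this
  exact honly c' c h3

end Groth.Agent.Lib.Helper22.GenStr
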