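import Mathlib
import Groth.Agent.Lib.Helper22.GenStrIrr

set_option autoImplicit false
set_option linter.style.haveILetI false
universe u

open AlgebraicGeometry CategoryTheory TopologicalSpace

namespace Groth.Agent.Lib.Helper22.GenStr

open Groth.Agent.Lib.Helper73 Groth.Agent.Lib.Helper72.FibDimIrr

variable {X Y : Scheme.{u}} (f : X ⟶ Y)

/-- Fibres of a morphism of finite type are Noetherian spaces. -/
lemma noetherianSpace_fiber [LocallyOfFiniteType f] [QuasiCompact f] (y : Y) :
    NoetherianSpace ↥(f.fiber y) := by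
  haveI : CompactSpace ↥(f.fiber y) :=
    QuasiCompact.compactSpace_of_compactSpace (f.fiberToSpecResidueField y)
  haveI : IsLocallyNoetherian (f.fiber y) :=
    LocallyOfFiniteType.isLocallyNoetherian (f.fiberToSpecResidueField y)
  haveI : IsNoetherian (f.fiber y) := {}
  infer_instance

/-- **Nowhere dense closed subsets of fibres near the generic point**. -/
theorem exists_open_forall_isNowhereDense_fiber [LocallyOfFiniteType f]
    [QuasiCompact f] [IrreducibleSpace Y] (Z : Set X) (hZ : IsClosed Z)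
    (h : IsNowhereDense (f.fiberι (genericPoint Y) ⁻¹' Z)) :
    ∃ V : Y.Opens, genericPoint Y ∈ V ∧ ∀ y ∈ V, IsNowhereDense (f.fiberι y ⁻¹' Z) := by
  set η := genericPoint Y with hη
  haveI : NoetherianSpace ↥(f.fiber η) := noetherianSpace_fiber f η
  have hfin : (irreducibleComponents ↥(f.fiber η)).Finite :=
    NoetherianSpace.finite_irreducibleComponents
  haveI : Finite ↥(irreducibleComponents ↥(f.fiber η)) := hfin.to_subtype
  have hgp : ∀ c : ↥(irreducibleComponents ↥(f.fiber η)), ∃ z : ↥(f.fiber η),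
      IsGenericPoint z c.1 := fun c =>
    QuasiSober.sober c.2.1 (isClosed_of_mem_irreducibleComponents _ c.2)
  choose z hz using hgp
  let ξ : ↥(irreducibleComponents ↥(f.fiber η)) → X := fun c => f.fiberι η (z c)
  let T : ↥(irreducibleComponents ↥(f.fiber η)) → Set X := fun c => closure {ξ c}
  let d : ↥(irreducibleComponents ↥(f.fiber η)) → ℕ := fun c => resTrdegNat f (ξ c)
  have hTcl : ∀ c, IsClosed (T c) := fun c => isClosed_closure
  have hξη : ∀ c, f (ξ c) = η := fun c => map_fiberι f η (z c)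
  have hδ := isDimFun_trdegNat (k := Y.residueField η) (f.fiberToSpecResidueField η)
  have hZηcl : IsClosed (f.fiberι η ⁻¹' Z) := hZ.preimage (f.fiberι η).continuous
  have hint : interior (f.fiberι η ⁻¹' Z) = ∅ := hZηcl.isNowhereDense_iff.1 h
  -- (i) every point of the generic fibre is a specialization of some `ξ c`
  have hcov : ∀ w : ↥(f.fiber η), ∃ c, ξ c ⤳ f.fiberι η w := by
    intro w
    refine ⟨⟨irreducibleComponent w, irreducibleComponent_mem_irreducibleComponents w⟩, ?_⟩
    exact ((hz _).specializes mem_irreducibleComponent).map (f.fiberι η).continuous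
  -- (ii) generic points of components of the generic fibre are not in `Z`
  have hξZ : ∀ c, z c ∉ f.fiberι η ⁻¹' Z := by
    intro c hc
    let O : Set ↥(f.fiber η) := (⋃ c' ∈ {c' | c' ≠ c}, c'.1)ᶜ
    have hOo : IsOpen O := by
      rw [isOpen_compl_iff]
      exact (Set.toFinite _).isClosed_biUnion fun c' _ =>
        isClosed_of_mem_irreducibleComponents _ c'.2
    have hzO : z c ∈ O := by
      simp only [O, Set.mem_compl_iff, Set.mem_iUnion, Set.mem_ofPred_eq, not_exists]
      intro c' hc'c hzc'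
      apply hc'c
      have hsub : c.1 ⊆ c'.1 := by
        rw [← (hz c).def]
        exact closure_minimal (Set.singleton_subset_iff.2 hzc')
          (isClosed_of_mem_irreducibleComponents _ c'.2)
      exact (Subtype.ext (c.2.eq_of_subset c'.2.1 hsub)).symm
    have hOsub : O ⊆ f.fiberι η ⁻¹' Z := by
      intro w hw
      have hwc : w ∈ c.1 := by
        by_contra hwc
        apply hw
        refine Set.mem_biUnion (x := ⟨irreducibleComponent w,
          irreducibleComponent_mem_irreducibleComponents w⟩) ?_ mem_irreducibleComponent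
        rintro rfl
        exact hwc mem_irreducibleComponent
      exact ((hz c).specializes hwc).mem_closed hZηcl hc
    have : z c ∈ interior (f.fiberι η ⁻¹' Z) := mem_interior.2 ⟨O, hOsub, hOo, hzO⟩
    rw [hint] at this
    exact this
  -- (iii) on `Z ∩ T c` the generic fibre has smaller transcendence degree
  have hlt : ∀ c, ∀ x ∈ Z ∩ T c, f x = η → resTrdegNat f x < d c := by
    intro c x hx hfx
    have hxr : x ∈ Set.range (f.fiberι η) := by rw [f.range_fiberι]; exact hfx
    obtain ⟨w, rfl⟩ := hxr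
    have h1 : z c ⤳ w := (f.fiberι η).isEmbedding.isInducing.specializes_iff.1
      (specializes_iff_mem_closure.2 hx.2)
    have hne : z c ≠ w := by
      rintro rfl
      exact hξZ c hx.1
    have h3 := hδ.strictMono (hδ.lt_of_specializes_of_ne h1 hne)
    rw [trdegNat_fiber_eq_resTrdegNat, trdegNat_fiber_eq_resTrdegNat] at h3
    exact h3
  -- V₁ : generizations
  obtain ⟨V₁, hη₁, hV₁, -⟩ := exists_open_generic f
  -- V₂ : the bound (iii) spreads out
  obtain ⟨V₂, hV₂o, hη₂, hV₂⟩ := exists_open_forall_of_finite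
    (ι := ↥(irreducibleComponents ↥(f.fiber η))) η
    (fun c y => ∀ x ∈ Z ∩ T c, f x = y → resTrdegNat f x < d c) (by
      intro c
      obtain ⟨V, hηV, hV⟩ := exists_open_forall_resTrdegNat_lt f (Z ∩ T c)
        (hZ.inter (hTcl c)) (d c) (hlt c)
      exact ⟨V, V.isOpen, hηV, fun y hy x hx hfx => hV x hx (by rw [hfx]; exact hy)⟩)
  refine ⟨V₁ ⊓ ⟨V₂, hV₂o⟩, ⟨hη₁, hη₂⟩, fun y hy => ?_⟩
  obtain ⟨hy1, hy2⟩ := hy
  have hZycl : IsClosed (f.fiberι y ⁻¹' Z) := hZ.preimage (f.fiberι y).continuous
  rw [hZycl.isNowhereDense_iff]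
  by_contra hne
  obtain ⟨z', hz'⟩ := Set.nonempty_iff_ne_empty.2 hne
  obtain ⟨m, hmz', hmmax⟩ := exists_maximal_specializes z'
  have hmint : m ∈ interior (f.fiberι y ⁻¹' Z) := hmz'.mem_open isOpen_interior hz'
  have hmZ : f.fiberι y m ∈ Z := (interior_subset hmint : m ∈ f.fiberι y ⁻¹' Z)
  obtain ⟨hfm, hmax⟩ := fiberι_maximal_of_maximal f y m hmmax
  obtain ⟨x', hx'x, hfx'⟩ := hV₁ (f.fiberι y m) (by rw [hfm]; exact hy1)
  have hx'r : x' ∈ Set.range (f.fiberι η) := by rw [f.range_fiberι]; exact hfx'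
  obtain ⟨w, rfl⟩ := hx'r
  obtain ⟨c, hc⟩ := hcov w
  have hcm : ξ c ⤳ f.fiberι y m := hc.trans hx'x
  obtain ⟨t, -, htm, hft, hle⟩ := exists_generization_resTrdegNat_ge f (ξ c) (f.fiberι y m) hcm
  have : t = f.fiberι y m := hmax t htm (hft.trans hfm)
  subst this
  have := hV₂ y hy2 c (f.fiberι y m) ⟨hmZ, specializes_iff_mem_closure.1 hcm⟩ hfm
  exact absurd hle (not_le.2 this)

end Groth.Agent.Lib.Helper22.GenStr
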