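import Groth.Agent.Lib.Helper22.FlatDim
import Groth.Agent.Lib.Helper73.DimFormula.Chevalley
import Groth.Agent.Lib.Helper73.DimFormula.EquidimAt

/-!
# Generic fibre dimension for a dominant morphism from an irreducible scheme (helper22)

For `f : X ⟶ Y` locally of finite type with `X` irreducible with generic point `ξ`, put
`d = resTrdegNat f ξ` (the dimension of the generic fibre).
* `le_dim_irreducibleComponent_fiber`: every irreducible component of every fibre has dim `≥ d`
  (Chevalley semicontinuity + irreducibility of `X`).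
* `exists_open_forall_fibreDimAt_le`: (`X` Noetherian) all fibre dimensions are `≤ d` over an open
  neighbourhood of `f ξ`.
* `exists_open_forall_dim_irreducibleComponent_fiber_eq`: over that neighbourhood all irreducible
  components of all fibres have dimension exactly `d`.
* `topologicalKrullDim_fiber_genericPoint`: `dim X_{f ξ} = d`.
-/

set_option autoImplicit false
set_option linter.style.haveILetI false
universe u
open CategoryTheory CategoryTheory.Limits AlgebraicGeometry

namespace Groth.Agent.Lib.Helper22.GenericFibreDim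

open Groth.Agent.Lib.Helper73 Groth.Agent.Lib.Helper22

/-- At a point maximal in its fibre, the fibre dimension is the residual transcendence degree. -/
theorem fibreDimAt_eq_resTrdegNat_of_maximal {X Y : Scheme.{u}} (f : X ⟶ Y)
    [LocallyOfFiniteType f] (x : X) (hmax : ∀ t : X, t ⤳ x → f t = f x → t = x) :
    FlatMor.fibreDimAt f x = ((resTrdegNat f x : ℕ) : WithBot ℕ∞) :=
  fibreDimAt_eq_of_forall_maximal f x _ fun ζ h1 h2 _ => by rw [hmax ζ h1 h2]

/-- Lower bound: if `X` is irreducible, every irreducible component of every fibre has dimension at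
least the fibre dimension at the generic point. -/
theorem le_dim_irreducibleComponent_fiber {X Y : Scheme.{u}} [IrreducibleSpace X] (f : X ⟶ Y)
    [LocallyOfFiniteType f] (y : Y) (Z : Set ↥(f.fiber y))
    (hZ : Z ∈ irreducibleComponents ↥(f.fiber y)) :
    ((resTrdegNat f (genericPoint X) : ℕ) : WithBot ℕ∞) ≤ topologicalKrullDim ↥Z := by
  obtain ⟨x, hx, hmax, hdim⟩ := FibreEquidim.exists_maximal_dim_irreducibleComponent_fiber f y Z hZ
  have h1 := fibreDimAt_eq_resTrdegNat_of_maximal f x hmax
  have hopen := isOpen_fibreDimAt_le (resTrdegNat f x) X Y f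
  have hξ : genericPoint X ∈ {x' : X | FlatMor.fibreDimAt f x' ≤
      ((resTrdegNat f x : ℕ) : WithBot ℕ∞)} :=
    (genericPoint_specializes x).mem_open hopen h1.le
  have h2 := fibreDimAt_eq_resTrdegNat_of_maximal f (genericPoint X)
    (fun t ht _ => ((genericPoint_specializes t).antisymm ht).eq.symm)
  rw [hdim]
  change FlatMor.fibreDimAt f (genericPoint X) ≤ _ at hξ
  rw [h2] at hξ
  exact hξ

/-- If `X` is irreducible, at every point of the fibre through the generic point the fibre
dimension is the residual transcendence degree of the generic point. -/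
theorem fibreDimAt_eq_of_map_eq_map_genericPoint {X Y : Scheme.{u}} [IrreducibleSpace X]
    (f : X ⟶ Y) [LocallyOfFiniteType f] (x : X) (hx : f x = f (genericPoint X)) :
    FlatMor.fibreDimAt f x = ((resTrdegNat f (genericPoint X) : ℕ) : WithBot ℕ∞) := by
  refine fibreDimAt_eq_of_forall_maximal f x _ fun ζ _ h2 hζ => ?_
  have : genericPoint X = ζ :=
    hζ _ (genericPoint_specializes ζ) (by rw [h2, hx])
  rw [this]

/-- Upper bound near the generic point: if `X` is an irreducible Noetherian space, there is an open
neighbourhood of `f ξ` over which all fibre dimensions are at most that at the generic point. -/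
theorem exists_open_forall_fibreDimAt_le {X Y : Scheme.{u}} [IrreducibleSpace X]
    [TopologicalSpace.NoetherianSpace X] (f : X ⟶ Y) [LocallyOfFiniteType f]
    (hgen : ∀ y : Y, f (genericPoint X) ⤳ y) :
    ∃ U : Y.Opens, f (genericPoint X) ∈ U ∧ ∀ x : X, f x ∈ U →
      FlatMor.fibreDimAt f x ≤ ((resTrdegNat f (genericPoint X) : ℕ) : WithBot ℕ∞) := by
  set d := resTrdegNat f (genericPoint X) with hd
  have hopen := isOpen_fibreDimAt_le d X Y f
  let Z : TopologicalSpace.Closeds X :=
    ⟨{x : X | FlatMor.fibreDimAt f x ≤ ((d : ℕ) : WithBot ℕ∞)}ᶜ, hopen.isClosed_compl⟩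
  obtain ⟨T, hTfin, hTcl, hTirr, hZT⟩ :=
    TopologicalSpace.NoetherianSpace.exists_finite_set_isClosed_irreducible Z.2
  have hclosed : IsClosed (⋃ t ∈ T, closure (f '' t)) :=
    hTfin.isClosed_biUnion fun _ _ => isClosed_closure
  refine ⟨⟨(⋃ t ∈ T, closure (f '' t))ᶜ, hclosed.isOpen_compl⟩, ?_, ?_⟩
  · intro hmem
    simp only [Set.mem_iUnion, exists_prop] at hmem
    obtain ⟨t, htT, hξt⟩ := hmem
    obtain ⟨z, hz⟩ := QuasiSober.sober (hTirr t htT) (hTcl t htT)
    have h1 : closure (f '' t) ⊆ closure {f z} := by
      refine closure_minimal ?_ isClosed_closure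
      rw [← hz.def]
      refine (image_closure_subset_closure_image f.continuous).trans ?_
      rw [Set.image_singleton]
    have h2 : f z ⤳ f (genericPoint X) := specializes_iff_mem_closure.mpr (h1 hξt)
    have h3 : f z = f (genericPoint X) := (h2.antisymm (hgen (f z))).eq
    have hzt : z ∈ t := hz.mem
    have hzZ : z ∈ Z.carrier := by rw [hZT]; exact ⟨t, htT, hzt⟩
    exact hzZ (fibreDimAt_eq_of_map_eq_map_genericPoint f z h3).le
  · intro x hx
    by_contra hcon
    have hxZ : x ∈ Z.carrier := hcon
    rw [hZT] at hxZ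
    obtain ⟨t, htT, hxt⟩ := hxZ
    refine hx ?_
    simp only [Set.mem_iUnion, exists_prop]
    exact ⟨t, htT, subset_closure ⟨x, hxt, rfl⟩⟩

/-- The dimension of the fibre through the generic point of an irreducible scheme. -/
theorem topologicalKrullDim_fiber_genericPoint {X Y : Scheme.{u}} [IrreducibleSpace X]
    (f : X ⟶ Y) [LocallyOfFiniteType f] :
    topologicalKrullDim ↥(f.fiber (f (genericPoint X))) =
      ((resTrdegNat f (genericPoint X) : ℕ) : WithBot ℕ∞) := by
  rw [topologicalKrullDim_fiber_eq_iSup]
  apply le_antisymm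
  · refine iSup_le fun z => ?_
    rw [trdegNat_fiber_eq_resTrdegNat]
    have hz : f (f.fiberι _ z) = f (genericPoint X) := by
      have : f.fiberι _ z ∈ Set.range (f.fiberι (f (genericPoint X))) := ⟨z, rfl⟩
      rw [f.range_fiberι] at this
      exact this
    have h1 := resTrdegNat_le_fibreDimAt f (f.fiberι _ z)
    rw [fibreDimAt_eq_of_map_eq_map_genericPoint f _ hz] at h1
    exact h1
  · refine le_trans ?_ (le_iSup _ (f.asFiber (genericPoint X)))
    rw [trdegNat_fiber_eq_resTrdegNat, f.fiberι_asFiber]
    exact le_rfl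

/-- Over a neighbourhood of the image of the generic point, all irreducible components of all
fibres have the dimension of the generic fibre. -/
theorem exists_open_forall_dim_irreducibleComponent_fiber_eq {X Y : Scheme.{u}}
    [IrreducibleSpace X] [TopologicalSpace.NoetherianSpace X] (f : X ⟶ Y) [LocallyOfFiniteType f]
    (hgen : ∀ y : Y, f (genericPoint X) ⤳ y) :
    ∃ U : Y.Opens, f (genericPoint X) ∈ U ∧ ∀ y ∈ U, ∀ Z ∈ irreducibleComponents ↥(f.fiber y),
      topologicalKrullDim ↥Z = ((resTrdegNat f (genericPoint X) : ℕ) : WithBot ℕ∞) := by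
  obtain ⟨U, hξU, hU⟩ := exists_open_forall_fibreDimAt_le f hgen
  refine ⟨U, hξU, fun y hy Z hZ => le_antisymm ?_ (le_dim_irreducibleComponent_fiber f y Z hZ)⟩
  obtain ⟨x, hx, hmax, hdim⟩ := FibreEquidim.exists_maximal_dim_irreducibleComponent_fiber f y Z hZ
  have h1 := fibreDimAt_eq_resTrdegNat_of_maximal f x hmax
  have h2 := hU x (by rw [hx]; exact hy)
  rw [h1] at h2
  rw [hdim]
  exact h2

end Groth.Agent.Lib.Helper22.GenericFibreDim
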