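import Mathlib
import Groth.Agent.Lib.Helper78.GeomRedApprox
import Groth.Agent.Lib.Helper51.GeomIrr
import Groth.Agent.S1336
import Groth.Agent.S4664

/-!
# Noetherian approximation preserving a constructible property of the fibres (helper22)

Generalisation of helper78's `GeomRedApprox.exists_approx` to an arbitrary constructible relation
`P(X, k)` (`ConsProp.IsCons P`): a finitely presented morphism of affine schemes all of whose fibres
satisfy `P` is the base change of a morphism of finite type over a finitely generated `ℤ`-algebra all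
of whose fibres satisfy `P`.  Instance: geometric irreducibility (`isCons_PGI`, from `S1336`:
the number of geometric irreducible components is constant near the generic point).
-/

set_option autoImplicit false
universe u

namespace Groth.Agent.Lib.Helper22.GeomApprox

open TensorProduct
open AlgebraicGeometry CategoryTheory Limits Topology
open Groth.Agent.Lib.Helper78.GeomRedApprox

variable (P : ∀ ⦃Y T : Scheme.{u}⦄, (Y ⟶ T) → Prop)

/-- a one-scheme relation seen as a relation on morphisms (forgetting the first morphism) -/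
def PSnd : ∀ ⦃X Y T : Scheme.{u}⦄, (X ⟶ Y) → (Y ⟶ T) → Prop :=
  fun _ _ _ _ g => P g

theorem locusMor_PSnd {X Y S : Scheme.{u}} (f : X ⟶ Y) (g : Y ⟶ S) :
    ConsProp.locusMor (PSnd P) f g = ConsProp.locus P g := rfl

variable {P}

theorem isConsMor_PSnd (hP : ConsProp.IsCons P) : ConsProp.IsConsMor (PSnd P) := by
  refine ⟨?_, ?_⟩
  · intro X X' Y Y' T T' f g f' g' eX eY h _ _ _ _ _ _ _ _ hY hX
    exact hP.1 g g' eY h hY
  · intro X Y S f g _ _ _ _ _ _
    rw [locusMor_PSnd]
    exact hP.2 g

/-- the locus of a constructible property of the fibres of a finitely presented morphism to an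
affine scheme is constructible -/
theorem isConstructible_locus_of_isAffine (hP : ConsProp.IsCons P) {Y S : Scheme.{u}} [IsAffine S]
    (g : Y ⟶ S) [LocallyOfFinitePresentation g] [QuasiCompact g] [QuasiSeparated g] :
    IsConstructible (ConsProp.locus P g) := by
  have := Groth.Agent.Lib.Helper78.ConsMor.isConstructible_locusMor_of_isAffine (isConsMor_PSnd hP)
    (𝟙 Y) g
  rwa [locusMor_PSnd] at this

/-- **Noetherian approximation preserving a constructible property of the fibres**, for spectra. -/
theorem exists_approx_Spec (hP : ConsProp.IsCons P) {A B : Type u} [CommRing A] [CommRing B]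
    [Algebra A B] [Algebra.FinitePresentation A B]
    (hAll : ∀ q : Spec (CommRingCat.of A),
      P ((Spec.map (CommRingCat.ofHom (algebraMap A B))).fiberToSpecResidueField q)) :
    ∃ (X₀ S₀ : Scheme.{u}) (f₀ : X₀ ⟶ S₀) (g : Spec (CommRingCat.of A) ⟶ S₀)
      (g' : Spec (CommRingCat.of B) ⟶ X₀), IsAffine X₀ ∧ IsAffine S₀ ∧
      IsPullback g' (Spec.map (CommRingCat.ofHom (algebraMap A B))) f₀ g ∧
      Algebra.FiniteType ℤ Γ(S₀, ⊤) ∧ LocallyOfFiniteType f₀ ∧
      ∀ y : S₀, P (f₀.fiberToSpecResidueField y) := by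
  classical
  let Pr := Algebra.Presentation.ofFinitePresentation A B
  let e₀ : A ⊗[Pr.Core] Pr.ModelOfHasCoeffs Pr.Core ≃ₐ[A] B := Pr.tensorModelOfHasCoeffsEquiv Pr.Core
  have sq0 := isPullback_of_algEquiv e₀
  set x₀ := Spec.map (CommRingCat.ofHom ((e₀ : A ⊗[Pr.Core] Pr.ModelOfHasCoeffs Pr.Core →+* B).comp
        (Algebra.TensorProduct.includeRight :
          Pr.ModelOfHasCoeffs Pr.Core →ₐ[Pr.Core] A ⊗[Pr.Core] Pr.ModelOfHasCoeffs Pr.Core).toRingHom))
    with hx₀
  set f₀' := Spec.map (CommRingCat.ofHom (algebraMap Pr.Core (Pr.ModelOfHasCoeffs Pr.Core))) with hf₀'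
  set s₀ := Spec.map (CommRingCat.ofHom (algebraMap Pr.Core A)) with hs₀
  have : LocallyOfFinitePresentation f₀' := by
    rw [hf₀', HasRingHomProperty.Spec_iff (P := @LocallyOfFinitePresentation)]
    exact (RingHom.finitePresentation_algebraMap).2 inferInstance
  -- the constructible locus
  have hE : IsConstructible (ConsProp.locus P f₀') := isConstructible_locus_of_isAffine hP f₀'
  have hloc : ∀ q : Spec (CommRingCat.of A), s₀ q ∈ ConsProp.locus P f₀' := by
    intro q
    have e := Groth.Agent.Lib.Helper78.ConsOne.locus_of_isPullback hP.1 sq0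
    have hq : q ∈ ConsProp.locus P (Spec.map (CommRingCat.ofHom (algebraMap A B))) := hAll q
    rw [e] at hq
    exact hq
  obtain ⟨F, hF⟩ := exists_finset_forall_comap_mem (A₀ := Pr.Core) (A := A)
    (ConsProp.locus P f₀') hE (fun q => hloc q)
  -- the enlarged finitely generated subalgebra
  set A₁ : Subalgebra Pr.Core A := Algebra.adjoin Pr.Core (F : Set A) with hA₁
  set ι₁ := Spec.map (CommRingCat.ofHom (algebraMap Pr.Core A₁)) with hι₁
  set g := Spec.map (CommRingCat.ofHom (algebraMap A₁ A)) with hg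
  have hgι : g ≫ ι₁ = s₀ := by
    rw [hg, hι₁, hs₀, ← Spec.map_comp, ← CommRingCat.ofHom_comp,
      ← IsScalarTower.algebraMap_eq Pr.Core A₁ A]
  have w : x₀ ≫ f₀' = (Spec.map (CommRingCat.ofHom (algebraMap A B)) ≫ g) ≫ ι₁ := by
    rw [Category.assoc, hgι]
    exact sq0.w
  refine ⟨pullback f₀' ι₁, Spec (CommRingCat.of A₁), pullback.snd f₀' ι₁, g,
    pullback.lift x₀ (Spec.map (CommRingCat.ofHom (algebraMap A B)) ≫ g) w, inferInstance,
    inferInstance, ?_, ?_, inferInstance, ?_⟩
  · refine IsPullback.of_right ?_ (pullback.lift_snd _ _ w) (IsPullback.of_hasPullback f₀' ι₁)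
    rw [pullback.lift_fst, hgι]
    exact sq0
  · have : Algebra.FiniteType Pr.Core A₁ :=
      (Subalgebra.fg_iff_finiteType A₁).1 (Subalgebra.fg_adjoin_finset F)
    have : Algebra.FiniteType ℤ A₁ := Algebra.FiniteType.trans (S := Pr.Core) inferInstance inferInstance
    exact Algebra.FiniteType.equiv (inferInstance : Algebra.FiniteType ℤ A₁)
      (Scheme.ΓSpecIso (CommRingCat.of A₁)).symm.commRingCatIsoToRingEquiv.toIntAlgEquiv
  · intro y
    have e := Groth.Agent.Lib.Helper78.ConsOne.locus_of_isPullback hP.1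
      (IsPullback.of_hasPullback f₀' ι₁)
    have hy : y ∈ ConsProp.locus P (pullback.snd f₀' ι₁) := by
      rw [e]
      exact hF y
    exact hy

/-- **Noetherian approximation preserving a constructible property of the fibres**, for a finitely
presented morphism of affine schemes. -/
theorem exists_approx (hP : ConsProp.IsCons P) {X S : Scheme.{u}} (f : X ⟶ S) [IsAffine X]
    [IsAffine S] [LocallyOfFinitePresentation f]
    (hAll : ∀ s : S, P (f.fiberToSpecResidueField s)) :
    ∃ (X₀ S₀ : Scheme.{u}) (f₀ : X₀ ⟶ S₀) (g : S ⟶ S₀) (g' : X ⟶ X₀), IsAffine X₀ ∧ IsAffine S₀ ∧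
      IsPullback g' f f₀ g ∧ Algebra.FiniteType ℤ Γ(S₀, ⊤) ∧ LocallyOfFiniteType f₀ ∧
      ∀ y : S₀, P (f₀.fiberToSpecResidueField y) := by
  let _ : Algebra Γ(S, ⊤) Γ(X, ⊤) := f.appTop.hom.toAlgebra
  have : Algebra.FinitePresentation Γ(S, ⊤) Γ(X, ⊤) :=
    (HasRingHomProperty.iff_of_isAffine (P := @LocallyOfFinitePresentation)).1 inferInstance
  have hnat : X.isoSpec.hom ≫ Spec.map f.appTop = f ≫ S.isoSpec.hom :=
    Scheme.isoSpec_hom_naturality f
  have sq : IsPullback X.isoSpec.hom f (Spec.map f.appTop) S.isoSpec.hom :=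
    IsPullback.of_horiz_isIso ⟨hnat⟩
  have sq' : IsPullback X.isoSpec.inv (Spec.map f.appTop) f S.isoSpec.inv :=
    IsPullback.of_horiz_isIso ⟨by
      rw [← cancel_mono S.isoSpec.hom, Category.assoc, Category.assoc, Iso.inv_hom_id,
        Category.comp_id, ← hnat, Iso.inv_hom_id_assoc]⟩
  have hAll' : ∀ q : Spec (CommRingCat.of Γ(S, ⊤)),
      P ((Spec.map (CommRingCat.ofHom (algebraMap Γ(S, ⊤) Γ(X, ⊤)))).fiberToSpecResidueField q) := by
    intro q
    have e := Groth.Agent.Lib.Helper78.ConsOne.locus_of_isPullback hP.1 sq'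
    have hq : q ∈ ConsProp.locus P (Spec.map f.appTop) := by
      rw [e]
      exact hAll _
    exact hq
  obtain ⟨X₀, S₀, f₀, g, g', h1, h2, h3, h4, h5, h6⟩ :=
    exists_approx_Spec (A := Γ(S, ⊤)) (B := Γ(X, ⊤)) hP hAll'
  exact ⟨X₀, S₀, f₀, S.isoSpec.hom ≫ g, X.isoSpec.hom ≫ g', h1, h2, sq.paste_horiz h3, h4, h5, h6⟩


/-! ### geometric irreducibility -/

/-- the relation "geometrically irreducible" -/
def PGI : ∀ ⦃Y T : Scheme.{u}⦄, (Y ⟶ T) → Prop := fun _ _ g => GeometricallyIrreducible g

theorem isFieldStable_PGI : ConsProp.IsFieldStable PGI.{u} := by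
  intro Y Y' T T' g g' e h _ _ _ _ _ _ hP
  constructor
  · intro hg
    exact MorphismProperty.of_isPullback (P := @GeometricallyIrreducible) hP hg
  · intro hg'
    have : Nonempty T' := inferInstance
    have : Surjective h := Groth.Agent.Lib.Helper78.GeomRedCons.surjective_of_subsingleton h
    have : GeometricallyIrreducible (pullback.snd g h) := by
      have sq : IsPullback hP.isoPullback.inv (pullback.snd g h) g' (𝟙 T') :=
        IsPullback.of_horiz_isIso ⟨by simp⟩
      exact MorphismProperty.of_isPullback (P := @GeometricallyIrreducible) sq hg'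
    exact Groth.Agent.S4664.result g h

theorem irreducibleSpace_of_encard_eq_one {T : Type*} [TopologicalSpace T]
    (h : (irreducibleComponents T).encard = 1) : IrreducibleSpace T := by
  obtain ⟨Z, hZ⟩ := Set.encard_eq_one.1 h
  have hZmem : Z ∈ irreducibleComponents T := by rw [hZ]; exact rfl
  have huniv : Z = Set.univ := by
    apply Set.eq_univ_of_forall
    intro x
    have hx : irreducibleComponent x ∈ irreducibleComponents T :=
      irreducibleComponent_mem_irreducibleComponents x
    rw [hZ] at hx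
    rw [← Set.mem_singleton_iff.1 hx]
    exact mem_irreducibleComponent
  have hirr : IsIrreducible (Set.univ : Set T) := huniv ▸ hZmem.1
  exact (irreducibleSpace_def T).2 hirr

theorem encard_irreducibleComponents_eq_one {T : Type*} [TopologicalSpace T] [IrreducibleSpace T] :
    (irreducibleComponents T).encard = 1 := by
  rw [irreducibleComponents_eq_singleton]
  exact Set.encard_singleton _

theorem nGeomIrredComp_eq_one_iff {X Y : Scheme.{u}} (f : X ⟶ Y) (y : Y) :
    MoreMor.nGeomIrredComp f y = 1 ↔ GeometricallyIrreducible (f.fiberToSpecResidueField y) := by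
  constructor
  · intro h
    refine @Groth.Agent.Lib.Helper51.geometricallyIrreducible_of_separableClosure
      (Y.residueField y) _ _ (f.fiberToSpecResidueField y) ?_
    exact irreducibleSpace_of_encard_eq_one h
  · intro h
    have : IrreducibleSpace ↥(MoreMor.geomFiber f y) :=
      GeometricallyIrreducible.geometrically_irreducibleSpace _ _ _ (.of_hasPullback _ _)
    exact encard_irreducibleComponents_eq_one

theorem isOpen_of_isOpen_preimage_closure_genericPoint {S : Scheme.{u}} [IrreducibleSpace S]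
    {V : Set S} (hVcl : V ⊆ closure {genericPoint S})
    (hV : IsOpen (Subtype.val ⁻¹' V : Set ↥(closure ({genericPoint S} : Set S)))) : IsOpen V := by
  have hcl : closure {genericPoint S} = (Set.univ : Set S) := genericPoint_spec S
  have hVe : V = Subtype.val '' (Subtype.val ⁻¹' V : Set ↥(closure ({genericPoint S} : Set S))) := by
    rw [Subtype.image_preimage_coe]
    exact (Set.inter_eq_right.2 hVcl).symm
  rw [hVe]
  have hop : IsOpen (closure ({genericPoint S} : Set S)) := by
    rw [hcl]
    exact isOpen_univ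
  exact hop.isOpenMap_subtype_val _ hV

theorem isCons_PGI : ConsProp.IsCons PGI.{u} := by
  refine ⟨isFieldStable_PGI, ?_⟩
  intro X S u _ _ _ _
  obtain ⟨V, hVcl, hηV, hVopen, hconst⟩ := Groth.Agent.S1336.result u (genericPoint S)
  have hVo : IsOpen V := isOpen_of_isOpen_preimage_closure_genericPoint hVcl hVopen
  by_cases h1 : MoreMor.nGeomIrredComp u (genericPoint S) = 1
  · left
    refine ⟨genericPoint S, mem_interior.2 ⟨V, ?_, hVo, hηV⟩⟩
    intro y hy
    show GeometricallyIrreducible _
    rw [← nGeomIrredComp_eq_one_iff, hconst y hy, h1]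
  · right
    refine ⟨genericPoint S, mem_interior.2 ⟨V, ?_, hVo, hηV⟩⟩
    intro y hy hcon
    apply h1
    rw [← hconst y hy]
    exact (nGeomIrredComp_eq_one_iff u y).2 hcon


/-- **Noetherian approximation of a geometrically irreducible morphism of affine schemes.** -/
theorem exists_approx_geomIrr {X S : Scheme.{u}} (f : X ⟶ S) [IsAffine X] [IsAffine S]
    [LocallyOfFinitePresentation f] [GeometricallyIrreducible f] :
    ∃ (X₀ S₀ : Scheme.{u}) (f₀ : X₀ ⟶ S₀) (g : S ⟶ S₀) (g' : X ⟶ X₀), IsAffine X₀ ∧ IsAffine S₀ ∧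
      IsPullback g' f f₀ g ∧ Algebra.FiniteType ℤ Γ(S₀, ⊤) ∧ LocallyOfFiniteType f₀ ∧
      GeometricallyIrreducible f₀ := by
  obtain ⟨X₀, S₀, f₀, g, g', h1, h2, h3, h4, h5, h6⟩ :=
    exists_approx isCons_PGI f (fun s => (inferInstance :
      GeometricallyIrreducible (f.fiberToSpecResidueField s)))
  exact ⟨X₀, S₀, f₀, g, g', h1, h2, h3, h4, h5,
    (GeometricallyIrreducible.iff_geometricallyIrreducible_fiber f₀).2 h6⟩

end Groth.Agent.Lib.Helper22.GeomApprox
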