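import Groth.Prelude.Def_FDesc
import Mathlib.AlgebraicGeometry.PullbackCarrier
import Mathlib.AlgebraicGeometry.Geometrically.Integral
import Mathlib.AlgebraicGeometry.Geometrically.Connected
import Mathlib.AlgebraicGeometry.Morphisms.Flat

set_option autoImplicit false
open CategoryTheory AlgebraicGeometry
universe u

namespace Groth.Agent.Lib.Helper22.GeomBC

open TensorProduct in
/-- a common field extension of two field extensions -/
theorem exists_compositum (k K L : Type u) [Field k] [Field K] [Field L] [Algebra k K] [Algebra k L] :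
    ∃ (Ω : Type u) (_ : Field Ω) (iK : K →+* Ω) (iL : L →+* Ω),
      iK.comp (algebraMap k K) = iL.comp (algebraMap k L) := by
  obtain ⟨m, hm⟩ := Ideal.exists_maximal (K ⊗[k] L)
  let _ : Field ((K ⊗[k] L) ⧸ m) := Ideal.Quotient.field m
  refine ⟨(K ⊗[k] L) ⧸ m, inferInstance,
    (Ideal.Quotient.mk m).comp (Algebra.TensorProduct.includeLeft (R := k) (S := k) (A := K) (B := L)).toRingHom,
    (Ideal.Quotient.mk m).comp (Algebra.TensorProduct.includeRight (R := k) (A := K) (B := L)).toRingHom, ?_⟩
  ext x
  simp only [RingHom.coe_comp, Function.comp_apply, AlgHom.toRingHom_eq_coe, RingHom.coe_coe,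
    Algebra.TensorProduct.includeLeft_apply, Algebra.TensorProduct.includeRight_apply]
  congr 1
  rw [Algebra.algebraMap_eq_smul_one, Algebra.algebraMap_eq_smul_one, TensorProduct.smul_tmul]

theorem surjective_Spec_map_field {L Ω : Type u} [Field L] [Field Ω] (φ : L →+* Ω) :
    Surjective (Spec.map (CommRingCat.ofHom φ)) := by
  constructor
  intro x
  obtain ⟨y⟩ : Nonempty ↥(Spec (CommRingCat.of Ω)) := inferInstance
  exact ⟨y, Subsingleton.elim _ _⟩

/-- a property of schemes descending along flat surjective morphisms holds geometrically for `f` as soon as it holds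
geometrically for one base change of `f` to a field extension -/
theorem geometrically_of_bcStr (P : ObjectProperty Scheme.{u}) [P.IsClosedUnderIsomorphisms]
    (hdesc : ∀ {Y Z : Scheme.{u}} (g : Y ⟶ Z), Surjective g → Flat g → P Y → P Z)
    {k K : Type u} [Field k] [Field K] [Algebra k K] {X : Scheme.{u}}
    (f : X ⟶ Spec (CommRingCat.of k)) (h : geometrically P (FBase.bcStr f K)) :
    geometrically P f := by
  refine geometrically_iff_of_isClosedUnderIsomorphisms.mpr fun L _ y ↦ ?_
  obtain ⟨φ, rfl⟩ := Spec.map_surjective y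
  let _ : Algebra k L := φ.hom.toAlgebra
  obtain ⟨Ω, _, iK, iL, hcomp⟩ := exists_compositum k K L
  let sk := Spec.map (CommRingCat.ofHom (algebraMap k K))
  let a := Spec.map (CommRingCat.ofHom iK)
  let b := Spec.map (CommRingCat.ofHom iL)
  have hab : a ≫ sk = b ≫ Spec.map φ := by
    simp only [a, b, sk, ← Spec.map_comp]
    congr 1
    ext x
    exact (RingHom.congr_fun hcomp x)
  have hW : P (Limits.pullback (FBase.bcStr f K) a) := pullback_of_geometrically h Ω a
  let e₁ : Limits.pullback (FBase.bcStr f K) a ≅ Limits.pullback f (a ≫ sk) :=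
    Limits.pullbackLeftPullbackSndIso f sk a
  let e₂ : Limits.pullback f (a ≫ sk) ≅ Limits.pullback f (b ≫ Spec.map φ) :=
    Limits.pullback.congrHom rfl hab
  let e₃ : Limits.pullback (Limits.pullback.snd f (Spec.map φ)) b ≅
      Limits.pullback f (b ≫ Spec.map φ) :=
    Limits.pullbackLeftPullbackSndIso f (Spec.map φ) b
  let e := e₁ ≪≫ e₂ ≪≫ e₃.symm
  have hc' : P (Limits.pullback (Limits.pullback.snd f (Spec.map φ)) b) :=
    P.prop_of_iso e hW
  have hb : Surjective b := surjective_Spec_map_field iL
  have hbf : Flat b := inferInstance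
  let i := Limits.pullback.fst (Limits.pullback.snd f (Spec.map φ)) b
  have hi : Surjective i := inferInstance
  have hif : Flat i := inferInstance
  exact hdesc i hi hif hc'

theorem geometrically_bcStr (P : ObjectProperty Scheme.{u})
    {k K : Type u} [Field k] [Field K] [Algebra k K] {X : Scheme.{u}}
    (f : X ⟶ Spec (CommRingCat.of k)) (h : geometrically P f) :
    geometrically P (FBase.bcStr f K) :=
  MorphismProperty.pullback_snd (P := geometrically P) _ _ h

theorem stalkMap_injective_of_flat {Y Z : Scheme.{u}} (g : Y ⟶ Z) [Flat g] (y : Y) :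
    Function.Injective (g.stalkMap y).hom := by
  algebraize [(g.stalkMap y).hom]
  have : Module.FaithfullyFlat (Z.presheaf.stalk (g y)) (Y.presheaf.stalk y) :=
    @Module.FaithfullyFlat.of_flat_of_isLocalHom _ _ _ _ _ _ _
      (Flat.stalkMap g y) (g.toLRSHom.prop y)
  exact ‹RingHom.FaithfullyFlat _›.injective

theorem isReduced_of_flat_of_surjective {Y Z : Scheme.{u}} (g : Y ⟶ Z) (hs : Surjective g)
    (hf : Flat g) (hY : IsReduced Y) : IsReduced Z := by
  have : ∀ z : Z, _root_.IsReduced (Z.presheaf.stalk z) := by
    intro z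
    obtain ⟨y, rfl⟩ := g.surjective z
    exact isReduced_of_injective (g.stalkMap y).hom (stalkMap_injective_of_flat g y)
  exact isReduced_of_isReduced_stalk Z

theorem irreducibleSpace_of_surjective {Y Z : Scheme.{u}} (g : Y ⟶ Z) (hs : Surjective g)
    (hY : IrreducibleSpace Y) : IrreducibleSpace Z := by
  have h1 : IsIrreducible (Set.range g) := by
    rw [← Set.image_univ]
    exact (IrreducibleSpace.isIrreducible_univ Y).image _ g.continuous.continuousOn
  rw [g.surjective.range_eq] at h1
  exact (irreducibleSpace_def Z).mpr h1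

theorem isIntegral_of_flat_of_surjective {Y Z : Scheme.{u}} (g : Y ⟶ Z) (hs : Surjective g)
    (hf : Flat g) (hY : IsIntegral Y) : IsIntegral Z := by
  rw [isIntegral_iff_irreducibleSpace_and_isReduced] at hY ⊢
  exact ⟨irreducibleSpace_of_surjective g hs hY.1, isReduced_of_flat_of_surjective g hs hf hY.2⟩

end Groth.Agent.Lib.Helper22.GeomBC
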