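import Mathlib
import Groth.Agent.S1386
import Groth.Agent.Lib.Helper19.Grp.SurjFlat
import Groth.Agent.Lib.Helper22.AbSchIsogeny
import Groth.Agent.Lib.Helper22.AbVarIsogeny2

set_option autoImplicit false
universe u

open CategoryTheory CategoryTheory.Limits AlgebraicGeometry MonoidalCategory
  CartesianMonoidalCategory MonObj GrpObj

namespace Groth.Agent.Lib.Helper22.GrpFibreFlat

open Groth.Agent.Lib.Helper22.AbSchIsogeny

/-- Fibrewise flatness criterion in the form: `p = f ≫ g` flat at `x` and the fibre map flat
imply `g` flat at `f x` and `f` flat at `x`. -/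
theorem flat_stalkMap_of_flat_fibreMap {X Y S : Scheme.{u}} (f : X ⟶ Y) (g : Y ⟶ S) (p : X ⟶ S)
    (hp : f ≫ g = p) [LocallyOfFinitePresentation p] [LocallyOfFiniteType g] (x : X)
    (hX : (p.stalkMap x).hom.Flat) (hfib : Flat (fibreMap p g f hp (p x))) :
    (g.stalkMap (f x)).hom.Flat ∧ (f.stalkMap x).hom.Flat := by
  subst hp
  have h := (Groth.Agent.S1386.result f g).1 x
  refine h.mp ⟨hX, ?_⟩
  have e : MoreMor.fiberMap f g (g (f x)) = fibreMap (f ≫ g) g f rfl ((f ≫ g) x) := by
    unfold MoreMor.fiberMap fibreMap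
    apply pullback.hom_ext
    · exact (pullback.lift_fst _ _ _).trans (pullback.lift_fst _ _ _).symm
    · exact (pullback.lift_snd _ _ _).trans
        ((pullback.lift_snd _ _ _).trans (Category.comp_id _)).symm
  rw [e]
  exact @Flat.stalkMap _ _ _ hfib _

section Grp

open scoped Obj

variable {S : Scheme.{u}}

lemma pullback_map_left (X Y : Over S) (f : X ⟶ Y) (s : S) :
    ((Over.pullback (S.fromSpecResidueField s)).map f).left =
      fibreMap X.hom Y.hom f.left (Over.w f) s := by
  apply pullback.hom_ext
  · simp only [fibreMap, Over.pullback_obj_left, Over.pullback_map_left]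
    exact (pullback.lift_fst _ _ _).trans (pullback.lift_fst _ _ _).symm
  · simp only [fibreMap, Over.pullback_obj_left, Over.pullback_map_left]
    exact (pullback.lift_snd _ _ _).trans
      ((pullback.lift_snd _ _ _).trans (Category.comp_id _)).symm

set_option backward.isDefEq.respectTransparency false in
theorem flat_fibreMap_of_surjective (X Y : Over S) [GrpObj X] [GrpObj Y]
    [LocallyOfFiniteType X.hom] [LocallyOfFiniteType Y.hom] [GeometricallyReduced Y.hom]
    (f : X ⟶ Y) [IsMonHom f] [QuasiCompact f.left] [Surjective f.left] (s : S) :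
    Flat (fibreMap X.hom Y.hom f.left (Over.w f) s) := by
  let φ : Spec (CommRingCat.of ↑(S.residueField s)) ⟶ S := S.fromSpecResidueField s
  let F := Over.pullback φ
  let A' := F.obj X
  let B' := F.obj Y
  letI : GrpObj A' := F.grpObjObj
  letI : GrpObj B' := F.grpObjObj
  haveI : IsMonHom (F.map f) := inferInstance
  haveI : LocallyOfFiniteType A'.hom := by dsimp [A', F]; infer_instance
  haveI : LocallyOfFiniteType B'.hom := by dsimp [B', F]; infer_instance
  have e : (F.map f).left = fibreMap X.hom Y.hom f.left (Over.w f) s := pullback_map_left X Y f s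
  haveI : QuasiCompact (F.map f).left := by
    rw [e]; exact MorphismProperty.of_isPullback (isPullback_fibreMap _ _ _ (Over.w f) s) ‹_›
  haveI : Surjective (F.map f).left := by
    rw [e]; exact MorphismProperty.of_isPullback (isPullback_fibreMap _ _ _ (Over.w f) s) ‹_›
  haveI : IsReduced B'.left := inferInstanceAs (IsReduced (Y.hom.fiber s))
  rw [← e]
  exact Groth.Agent.Lib.Helper19.flat_of_surjective_of_isReduced _ A' B' (F.map f)

end Grp

section Dim

open Groth.Agent.Lib.Helper73

/-- Finite surjective morphisms of schemes locally of finite type over a field preserve the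
dimension. -/
theorem topologicalKrullDim_eq_of_isFinite_of_surjective {k : Type u} [Field k]
    {A B : Scheme.{u}} (p : A ⟶ Spec (.of k)) (q : B ⟶ Spec (.of k)) [LocallyOfFiniteType p]
    [LocallyOfFiniteType q] (f : A ⟶ B) (hf : f ≫ q = p) [IsFinite f] [Surjective f] :
    topologicalKrullDim A = topologicalKrullDim B := by
  subst hf
  rw [topologicalKrullDim_eq_iSup_trdegNat (f ≫ q), topologicalKrullDim_eq_iSup_trdegNat q]
  have key : ∀ x : A, trdegNat (f ≫ q) x = trdegNat q (f x) := by
    intro x
    rw [trdegNat_eq_resTrdegNat, trdegNat_eq_resTrdegNat, resTrdegNat_comp]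
    have h0 : resTrdegNat f x = 0 := by
      have := FibreEquidim.resTrdeg_eq_zero_of_isIntegralHom f x
      rw [resTrdeg_eq_resTrdegNat] at this
      exact_mod_cast this
    omega
  apply le_antisymm
  · refine iSup_le fun x => ?_
    rw [key]
    exact le_iSup (fun y : B => ((trdegNat q y : ℕ∞) : WithBot ℕ∞)) (f x)
  · refine iSup_le fun y => ?_
    obtain ⟨x, rfl⟩ := f.surjective y
    rw [← key]
    exact le_iSup (fun x : A => ((trdegNat (f ≫ q) x : ℕ∞) : WithBot ℕ∞)) x

end Dim

section Main

variable {S : Scheme.{u}}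

theorem flat_and_dim_eq (X Y : Over S) [GrpObj X] [Flat X.hom] [LocallyOfFinitePresentation X.hom]
    [GrpObj Y] [LocallyOfFinitePresentation Y.hom] [GeometricallyReduced Y.hom]
    (f : X ⟶ Y) [IsMonHom f] [IsFinite f.left] [Surjective f.left] :
    Flat f.left ∧ ∀ s : S, topologicalKrullDim ↥(X.hom.fiber s) = topologicalKrullDim ↥(Y.hom.fiber s) := by
  constructor
  · rw [Flat.iff_flat_stalkMap]
    intro x
    exact (flat_stalkMap_of_flat_fibreMap f.left Y.hom X.hom (Over.w f) x (Flat.stalkMap X.hom x)
      (flat_fibreMap_of_surjective X Y f (X.hom x))).2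
  · intro s
    haveI : IsFinite (fibreMap X.hom Y.hom f.left (Over.w f) s) :=
      MorphismProperty.of_isPullback (isPullback_fibreMap _ _ _ (Over.w f) s) ‹_›
    haveI : Surjective (fibreMap X.hom Y.hom f.left (Over.w f) s) :=
      MorphismProperty.of_isPullback (isPullback_fibreMap _ _ _ (Over.w f) s) ‹_›
    exact topologicalKrullDim_eq_of_isFinite_of_surjective (k := ↑(S.residueField s))
      (X.hom.fiberToSpecResidueField s) (Y.hom.fiberToSpecResidueField s)
      (fibreMap X.hom Y.hom f.left (Over.w f) s) (fibreMap_snd _ _ _ (Over.w f) s)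

end Main

end Groth.Agent.Lib.Helper22.GrpFibreFlat
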