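import Mathlib
import Groth.Agent.Lib.Helper22.GrpFibreFlat

set_option autoImplicit false
universe u

open CategoryTheory CategoryTheory.Limits AlgebraicGeometry MonoidalCategory
  CartesianMonoidalCategory MonObj GrpObj

namespace Groth.Agent.Lib.Helper22.GrpFibreFlat2

open Groth.Agent.Lib.Helper22.AbSchIsogeny Groth.Agent.Lib.Helper22.GrpFibreFlat

lemma flat_of_isField {R S : Type u} [CommRing R] [CommRing S] (φ : R →+* S) (h : IsField R) :
    φ.Flat := by
  letI := h.toField
  algebraize [φ]
  show Module.Flat R S
  infer_instance

variable (k : Type u) [Field k]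

/-- A surjective homomorphism of locally algebraic groups over a field with reduced
target is flat (no quasi-compactness needed). -/
theorem flat_of_surjective_of_isReduced (H G : Over (Spec (CommRingCat.of k))) [GrpObj H]
    [GrpObj G] [LocallyOfFiniteType H.hom] [LocallyOfFiniteType G.hom] (f : H ⟶ G) [IsMonHom f]
    [Surjective f.left] [IsReduced G.left] : Flat f.left := by
  let e : G.left := η[G].left (IsLocalRing.closedPoint k)
  have hZ : irreducibleComponent e ∈ irreducibleComponents G.left :=
    irreducibleComponent_mem_irreducibleComponents e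
  obtain ⟨ηpt, hη⟩ := QuasiSober.sober (isIrreducible_irreducibleComponent (x := e))
    (isClosed_irreducibleComponent)
  have hfield : IsField (G.left.presheaf.stalk ηpt) :=
    isField_stalk_of_closure_mem_irreducibleComponents _ ηpt (by rw [hη.def]; exact hZ)
  obtain ⟨x, hx⟩ := f.left.surjective ηpt
  refine Groth.Agent.Lib.Helper19.flat_of_exists_flat_stalkMap k H G f x ?_
  subst hx
  exact flat_of_isField _ hfield

section Grp

open scoped Obj

variable {k} {S : Scheme.{u}}

set_option backward.isDefEq.respectTransparency false in
theorem flat_fibreMap_of_surjective' (X Y : Over S) [GrpObj X] [GrpObj Y]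
    [LocallyOfFiniteType X.hom] [LocallyOfFiniteType Y.hom] [GeometricallyReduced Y.hom]
    (f : X ⟶ Y) [IsMonHom f] [Surjective f.left] (s : S) :
    Flat (fibreMap X.hom Y.hom f.left (Over.w f) s) := by
  let φ : Spec (CommRingCat.of ↑(S.residueField s)) ⟶ S := S.fromSpecResidueField s
  let F := Over.pullback φ
  let A' := F.obj X
  let B' := F.obj Y
  letI : GrpObj A' := F.grpObjObj
  letI : GrpObj B' := F.grpObjObj
  haveI : IsMonHom (F.map f) := inferInstance
  haveI : LocallyOfFiniteType A'.hom := by dsimp [A', F]; infer_instance
  haveI : LocallyOfFiniteType B'.hom := by dsimp [B', F]; infer_instance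
  have e : (F.map f).left = fibreMap X.hom Y.hom f.left (Over.w f) s := pullback_map_left X Y f s
  haveI : Surjective (F.map f).left := by
    rw [e]; exact MorphismProperty.of_isPullback (isPullback_fibreMap _ _ _ (Over.w f) s) ‹_›
  haveI : IsReduced B'.left := inferInstanceAs (IsReduced (Y.hom.fiber s))
  rw [← e]
  exact flat_of_surjective_of_isReduced _ A' B' (F.map f)

/-- A surjective homomorphism from a flat l.f.p. group scheme to an l.f.p. group scheme with
geometrically reduced fibres is flat, and the target is flat over the base. -/
theorem flat_and_flat_of_surjective (G H : Over S) [GrpObj G] [GrpObj H]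
    [LocallyOfFinitePresentation G.hom] [Flat G.hom]
    [LocallyOfFinitePresentation H.hom] [GeometricallyReduced H.hom]
    (f : G ⟶ H) [IsMonHom f] [Surjective f.left] : Flat f.left ∧ Flat H.hom := by
  have key : ∀ x : G.left,
      (H.hom.stalkMap (f.left x)).hom.Flat ∧ (f.left.stalkMap x).hom.Flat := fun x =>
    flat_stalkMap_of_flat_fibreMap f.left H.hom G.hom (Over.w f) x (Flat.stalkMap G.hom x)
      (flat_fibreMap_of_surjective' G H f (G.hom x))
  constructor
  · rw [Flat.iff_flat_stalkMap]; exact fun x => (key x).2
  · rw [Flat.iff_flat_stalkMap]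
    intro y
    obtain ⟨x, rfl⟩ := f.left.surjective y
    exact (key x).1

end Grp

end Groth.Agent.Lib.Helper22.GrpFibreFlat2
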