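import Mathlib.CategoryTheory.Monoidal.Cartesian.Grp
import Mathlib.CategoryTheory.Limits.Shapes.Pullback.IsPullback.Basic

set_option autoImplicit false
universe v u
open CategoryTheory CategoryTheory.Limits MonoidalCategory CartesianMonoidalCategory MonObj GrpObj

namespace Groth.Agent.Lib.Helper22.KerShear

variable {C : Type u} [Category.{v} C] [CartesianMonoidalCategory C]
  {A B : C} [GrpObj A] [GrpObj B] (u : A ⟶ B) [IsMonHom u]
  {K : C} (i : K ⟶ A) (hK : IsPullback i (toUnit K) u η[B])

include hK in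
/-- The kernel shear square: `(k, a) ↦ k * a` and `(k, a) ↦ a` exhibit `K ⊗ A` as `A ×_B A`. -/
theorem isPullback_shear :
    IsPullback ((fst K A ≫ i) * snd K A) (snd K A) u u := by
  have hiu : i ≫ u = 1 := by
    rw [hK.w, Hom.one_def]
  refine ⟨⟨?_⟩, ⟨PullbackCone.IsLimit.mk _
    (fun s => lift (hK.lift (s.fst * s.snd⁻¹) (toUnit _) ?_) s.snd) ?_ ?_ ?_⟩⟩
  · rw [MonObj.mul_comp, Category.assoc, hiu]
    simp [MonObj.comp_one]
  · rw [MonObj.mul_comp, GrpObj.inv_comp, s.condition]
    simp [Hom.one_def]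
  · intro s
    rw [MonObj.comp_mul]
    simp
  · intro s
    simp
  · intro s m h1 h2
    apply CartesianMonoidalCategory.hom_ext
    · apply hK.hom_ext
      · rw [lift_fst, hK.lift_fst, Category.assoc]
        rw [← h1, ← h2, MonObj.comp_mul]
        simp
      · exact toUnit_unique _ _
    · simp [h2]

end Groth.Agent.Lib.Helper22.KerShear
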