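import Mathlib
import Groth.Agent.Lib.Helper22.KerShear

set_option autoImplicit false
universe u

open CategoryTheory CategoryTheory.Limits AlgebraicGeometry MonoidalCategory
  CartesianMonoidalCategory MonObj GrpObj

namespace Groth.Agent.Lib.Helper22.GrpFinite

variable (k : Type u) [Field k]

set_option backward.isDefEq.respectTransparency false in
/-- A flat, locally quasi-finite, surjective homomorphism from a quasi-compact separated group
scheme over a field is finite (descent of universal closedness along the homomorphism itself,
using the kernel shear isomorphism). -/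
theorem isFinite_of_flat_of_locallyQuasiFinite (A B : Over (Spec (CommRingCat.of k)))
    [GrpObj A] [GrpObj B] (u : A ⟶ B) [IsMonHom u] [Flat u.left] [LocallyQuasiFinite u.left]
    [Surjective u.left] [QuasiCompact A.hom] [IsSeparated A.hom] [IsSeparated B.hom]
    [LocallyOfFiniteType A.hom] : IsFinite u.left := by
  let K : Over (Spec (CommRingCat.of k)) := pullback u η[B]
  let i : K ⟶ A := pullback.fst u η[B]
  have hK : IsPullback i (toUnit K) u η[B] := by
    have := IsPullback.of_hasPullback u η[B]
    rwa [show pullback.snd u η[B] = toUnit K from toUnit_unique _ _] at this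
  have sq := (KerShear.isPullback_shear u i hK).map (Over.forget _)
  have hKsq := hK.map (Over.forget _)
  simp only [Over.forget_obj, Over.forget_map] at sq hKsq
  have hw : u.left ≫ B.hom = A.hom := Over.w u
  haveI : QuasiCompact (u.left ≫ B.hom) := by rw [hw]; infer_instance
  haveI : QuasiCompact u.left := QuasiCompact.of_comp u.left B.hom
  haveI : IsSeparated (u.left ≫ B.hom) := by rw [hw]; infer_instance
  haveI : IsSeparated u.left := IsSeparated.of_comp u.left B.hom
  haveI : LocallyOfFiniteType (u.left ≫ B.hom) := by rw [hw]; infer_instance
  haveI : LocallyOfFiniteType u.left := locallyOfFiniteType_of_comp u.left B.hom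
  haveI : LocallyQuasiFinite (toUnit K).left := MorphismProperty.of_isPullback hKsq ‹_›
  haveI : QuasiCompact (toUnit K).left := MorphismProperty.of_isPullback hKsq ‹_›
  haveI : IsLocallyArtinian (𝟙_ (Over (Spec (CommRingCat.of k)))).left :=
    inferInstanceAs (IsLocallyArtinian (Spec (CommRingCat.of k)))
  haveI : IsFinite (toUnit K).left := IsFinite.of_locallyQuasiFinite _
  have hKhom : K.hom = (toUnit K).left := by
    exact (Over.w (toUnit K)).symm.trans (Category.comp_id _)
  haveI : IsFinite K.hom := by rw [hKhom]; infer_instance
  haveI : UniversallyClosed (snd K A).left := by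
    rw [Over.snd_left]
    infer_instance
  haveI : UniversallyClosed u.left :=
    MorphismProperty.of_isPullback_of_descendsAlong (P := @UniversallyClosed)
      (Q := @Surjective ⊓ @Flat ⊓ @QuasiCompact) sq.flip
      ⟨⟨inferInstance, inferInstance⟩, inferInstance⟩ inferInstance
  haveI : IsProper u.left := {}
  exact IsFinite.of_isProper_of_locallyQuasiFinite u.left

end Groth.Agent.Lib.Helper22.GrpFinite
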