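import Mathlib
import Groth.Agent.Lib.Helper22.GrpFinite
import Groth.Agent.Lib.Helper22.GrpFibreFlat2
import Groth.Agent.Lib.Helper22.FibreComp2
import Groth.Agent.Lib.Helper19.Grp.MulCover
import Groth.Agent.Lib.Helper93.Birat

set_option autoImplicit false
universe u

open CategoryTheory CategoryTheory.Limits AlgebraicGeometry MonoidalCategory
  CartesianMonoidalCategory MonObj GrpObj

namespace Groth.Agent.Lib.Helper22.GrpIsogeny

open Groth.Agent.Lib.Helper22.AbSchIsogeny Groth.Agent.Lib.Helper22.GrpFibreFlat
open Groth.Agent.Lib.Helper19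

variable {S : Scheme.{u}}

/-- Smooth morphisms are geometrically reduced. -/
lemma geometricallyReduced_of_smooth {X Y : Scheme.{u}} (p : X ⟶ Y) [Smooth p] :
    GeometricallyReduced p := by
  refine ⟨fun K _ y Z fst snd h => ?_⟩
  haveI : Smooth snd := MorphismProperty.of_isPullback h ‹Smooth p›
  haveI := FibreComp.geometricallyReduced_of_smooth snd
  exact GeometricallyReduced.geometrically_isReduced (f := snd) (𝟙 _) (𝟙 _) snd
    (IsPullback.of_id_fst)

/-- transport between the two models of the fibre map -/
lemma snd_iff_fibreMap (P : MorphismProperty Scheme.{u}) [P.IsStableUnderBaseChange]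
    (G H : Over S) (f : G ⟶ H) (s : S) :
    P (pullback.snd f.left (H.hom.fiberι s)) ↔ P (fibreMap G.hom H.hom f.left (Over.w f) s) := by
  haveI : P.RespectsIso := MorphismProperty.IsStableUnderBaseChange.respectsIso
  have h := isPullback_fibreMap G.hom H.hom f.left (Over.w f) s
  rw [← h.isoPullback_hom_snd, P.cancel_left_of_respectsIso]

section Surj

open scoped Obj

set_option backward.isDefEq.respectTransparency false in
/-- The fibres of a smooth group scheme with geometrically connected fibres are irreducible. -/
lemma irreducibleSpace_fibre (H : Over S) [Smooth H.hom] [GeometricallyConnected H.hom] (s : S) :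
    IrreducibleSpace ((Over.pullback (S.fromSpecResidueField s)).obj H).left := by
  let φ : Spec (CommRingCat.of ↑(S.residueField s)) ⟶ S := S.fromSpecResidueField s
  let B' := (Over.pullback φ).obj H
  haveI : Smooth B'.hom := by dsimp [B']; infer_instance
  haveI : GeometricallyConnected B'.hom := by dsimp [B']; infer_instance
  haveI : ConnectedSpace B'.left := GeometricallyConnected.connectedSpace_of_subsingleton B'.hom
  exact FibreComp.irreducibleSpace_of_smooth B'.hom

/-- A flat l.f.p. homomorphism to a smooth group scheme with geometrically connected fibres is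
surjective. -/
theorem surjective_of_flat (G H : Over S) [GrpObj G] [GrpObj H] [Smooth H.hom]
    [GeometricallyConnected H.hom] (f : G ⟶ H) [IsMonHom f] [Flat f.left]
    [LocallyOfFinitePresentation f.left] : Surjective f.left := by
  have hopen : IsOpen (Set.range f.left) := f.left.isOpenMap.isOpen_range
  have hd : ∀ s : S, Dense ((FibLoci.fibι H s) ⁻¹' (Set.range f.left)) := by
    intro s
    haveI := irreducibleSpace_fibre H s
    refine IsOpen.dense (hopen.preimage (FibLoci.fibι H s).continuous) ?_
    have hx : H.hom (f.left ((η[G] : 𝟙_ (Over S) ⟶ G).left s)) = s := by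
      rw [← Scheme.Hom.comp_apply, Over.w f]
      exact FibLoci.hom_unit_apply G s
    have hmem : f.left ((η[G] : 𝟙_ (Over S) ⟶ G).left s) ∈ Set.range (H.hom.fiberι s) := by
      rw [H.hom.range_fiberι]; exact hx
    obtain ⟨y₁, hy₁⟩ := hmem
    exact ⟨y₁, ⟨_, hy₁.symm⟩⟩
  have h := MulCover.surjective_tensorHom_mul H f f hopen hopen hd hd
  have e : (f ⊗ₘ f) ≫ μ[H] = μ[G] ≫ f := (IsMonHom.mul_hom (f := f)).symm
  rw [e, Over.comp_left] at h
  exact Surjective.of_comp μ[G].left f.left

end Surj

section Main

open scoped Obj

set_option backward.isDefEq.respectTransparency false in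
/-- The fibre maps of a flat, locally quasi-finite l.f.p. homomorphism of smooth separated
quasi-compact group schemes with connected fibres are finite and surjective. -/
theorem isFinite_fibreMap_of_flat (G H : Over S) [GrpObj G] [GrpObj H]
    [Smooth G.hom] [IsSeparated G.hom] [QuasiCompact G.hom]
    [Smooth H.hom] [IsSeparated H.hom] [GeometricallyConnected H.hom]
    (f : G ⟶ H) [IsMonHom f] [Flat f.left] [LocallyQuasiFinite f.left]
    [LocallyOfFinitePresentation f.left] (s : S) :
    IsFinite (fibreMap G.hom H.hom f.left (Over.w f) s) ∧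
      Surjective (fibreMap G.hom H.hom f.left (Over.w f) s) := by
  haveI : Surjective f.left := surjective_of_flat G H f
  let φ : Spec (CommRingCat.of ↑(S.residueField s)) ⟶ S := S.fromSpecResidueField s
  let F := Over.pullback φ
  let A' := F.obj G
  let B' := F.obj H
  letI : GrpObj A' := F.grpObjObj
  letI : GrpObj B' := F.grpObjObj
  haveI : IsMonHom (F.map f) := inferInstance
  haveI : LocallyOfFiniteType A'.hom := by dsimp [A', F]; infer_instance
  haveI : QuasiCompact A'.hom := by dsimp [A', F]; infer_instance
  haveI : IsSeparated A'.hom := by dsimp [A', F]; infer_instance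
  haveI : IsSeparated B'.hom := by dsimp [B', F]; infer_instance
  have e : (F.map f).left = fibreMap G.hom H.hom f.left (Over.w f) s := pullback_map_left G H f s
  have hpb := isPullback_fibreMap G.hom H.hom f.left (Over.w f) s
  haveI : Surjective (F.map f).left := by
    rw [e]; exact MorphismProperty.of_isPullback hpb ‹_›
  haveI : Flat (F.map f).left := by
    rw [e]; exact MorphismProperty.of_isPullback hpb ‹_›
  haveI : LocallyQuasiFinite (F.map f).left := by
    rw [e]; exact MorphismProperty.of_isPullback hpb ‹_›
  rw [← e]
  exact ⟨GrpFinite.isFinite_of_flat_of_locallyQuasiFinite _ A' B' (F.map f), inferInstance⟩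

/-- (i) ⇔ (iv) for isogenies of smooth group schemes. -/
theorem isogeny_iff (G H : Over S) [GrpObj G] [GrpObj H]
    [Smooth G.hom] [IsSeparated G.hom] [QuasiCompact G.hom] [GeometricallyConnected G.hom]
    [Smooth H.hom] [IsSeparated H.hom] [QuasiCompact H.hom] [GeometricallyConnected H.hom]
    (f : G ⟶ H) [IsMonHom f] :
    (Flat f.left ∧ LocallyQuasiFinite f.left ∧ LocallyOfFinitePresentation f.left) ↔
      ∀ s : S, IsFinite (pullback.snd f.left (H.hom.fiberι s)) ∧
        Surjective (pullback.snd f.left (H.hom.fiberι s)) := by
  haveI : LocallyOfFinitePresentation (f.left ≫ H.hom) := by rw [Over.w f]; infer_instance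
  haveI : LocallyOfFinitePresentation f.left :=
    Groth.Agent.Lib.Helper93.Birat.locallyOfFinitePresentation_of_comp f.left H.hom
  constructor
  · rintro ⟨_, _, _⟩ s
    rw [snd_iff_fibreMap @IsFinite, snd_iff_fibreMap @Surjective]
    exact isFinite_fibreMap_of_flat G H f s
  · intro h
    have h' : ∀ s, IsFinite (fibreMap G.hom H.hom f.left (Over.w f) s) ∧
        Surjective (fibreMap G.hom H.hom f.left (Over.w f) s) := by
      intro s
      rw [← snd_iff_fibreMap @IsFinite, ← snd_iff_fibreMap @Surjective]
      exact h s
    haveI : Surjective f.left :=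
      (surjective_iff_forall_fibreMap G.hom H.hom f.left (Over.w f)).mpr fun s => (h' s).2
    haveI : GeometricallyReduced H.hom := geometricallyReduced_of_smooth H.hom
    refine ⟨(GrpFibreFlat2.flat_and_flat_of_surjective G H f).1, ?_, inferInstance⟩
    rw [locallyQuasiFinite_iff_forall_fibreMap G.hom H.hom f.left (Over.w f)]
    intro s
    haveI := (h' s).1
    infer_instance

end Main

end Groth.Agent.Lib.Helper22.GrpIsogeny
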