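import Mathlib
import Groth.Agent.Lib.Helper22.GrpIsogeny
import Groth.Agent.Lib.Helper19.Grp.FlatPt

set_option autoImplicit false
universe u

open CategoryTheory CategoryTheory.Limits AlgebraicGeometry MonoidalCategory
  CartesianMonoidalCategory MonObj GrpObj

namespace Groth.Agent.Lib.Helper22.GrpFlatLocus

open Groth.Agent.Lib.Helper22.AbSchIsogeny Groth.Agent.Lib.Helper22.GrpFibreFlat
open Groth.Agent.Lib.Helper22.GrpIsogeny

variable {S : Scheme.{u}}

theorem flat_iff_surjective (A B : Over S) [GrpObj A] [Smooth A.hom]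
    [GrpObj B] [Smooth B.hom] [GeometricallyConnected B.hom]
    (f : A ⟶ B) [IsMonHom f] :
    Flat f.left ↔ Surjective f.left := by
  haveI : LocallyOfFinitePresentation (f.left ≫ B.hom) := by rw [Over.w f]; infer_instance
  haveI : LocallyOfFinitePresentation f.left :=
    Groth.Agent.Lib.Helper93.Birat.locallyOfFinitePresentation_of_comp f.left B.hom
  constructor
  · intro _
    exact surjective_of_flat A B f
  · intro _
    haveI : GeometricallyReduced B.hom := geometricallyReduced_of_smooth B.hom
    exact (GrpFibreFlat2.flat_and_flat_of_surjective A B f).1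

/-- The two-sided fibrewise flatness criterion, for a factorisation `p = f ≫ g`. -/
theorem cpf_iff {X Y S : Scheme.{u}} (f : X ⟶ Y) (g : Y ⟶ S) (p : X ⟶ S)
    (hp : f ≫ g = p) [LocallyOfFinitePresentation p] [LocallyOfFiniteType g] (x : X) :
    ((p.stalkMap x).hom.Flat ∧ ((fibreMap p g f hp (p x)).stalkMap (p.asFiber x)).hom.Flat) ↔
      ((g.stalkMap (f x)).hom.Flat ∧ (f.stalkMap x).hom.Flat) := by
  subst hp
  have h := (Groth.Agent.S1386.result f g).1 x
  have e : MoreMor.fiberMap f g (g (f x)) = fibreMap (f ≫ g) g f rfl ((f ≫ g) x) := by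
    unfold MoreMor.fiberMap fibreMap
    apply pullback.hom_ext
    · exact (pullback.lift_fst _ _ _).trans (pullback.lift_fst _ _ _).symm
    · exact (pullback.lift_snd _ _ _).trans
        ((pullback.lift_snd _ _ _).trans (Category.comp_id _)).symm
  rw [e] at h
  exact h

/-- If `f ≫ g` and `f` are flat at `x`, then `g` is flat at `f x`. -/
theorem flat_stalkMap_of_comp {X Y S : Scheme.{u}} (f : X ⟶ Y) (g : Y ⟶ S) (x : X)
    (hfg : ((f ≫ g).stalkMap x).hom.Flat) (hf : (f.stalkMap x).hom.Flat) :
    (g.stalkMap (f x)).hom.Flat := by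
  rw [Scheme.Hom.stalkMap_comp] at hfg
  refine Groth.Agent.Lib.Helper19.CommRingCat.flat_of_comp_of_faithfullyFlat _ _ ?_ hfg
  algebraize [(f.stalkMap x).hom]
  haveI : IsLocalHom (algebraMap (Y.presheaf.stalk (f x)) (X.presheaf.stalk x)) :=
    inferInstanceAs (IsLocalHom (f.stalkMap x).hom)
  haveI : Module.FaithfullyFlat (Y.presheaf.stalk (f x)) (X.presheaf.stalk x) :=
    Module.FaithfullyFlat.of_flat_of_isLocalHom
  exact (RingHom.faithfullyFlat_algebraMap_iff).mpr inferInstance

section Locus

open scoped Obj

set_option backward.isDefEq.respectTransparency false in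
/-- Pointwise: `u` is flat at `x` iff the fibre of `u` over the image of `x` in `S` is flat. -/
theorem flat_stalkMap_iff_flat_fibre (G H : Over S) [GrpObj G] [GrpObj H] (u : G ⟶ H)
    [IsMonHom u] [Flat G.hom] [LocallyOfFinitePresentation G.hom] [LocallyOfFiniteType H.hom]
    (x : G.left) :
    (u.left.stalkMap x).hom.Flat ↔
      Flat ((Over.pullback (S.fromSpecResidueField (G.hom x))).map u).left := by
  set s := G.hom x with hs
  let φ : Spec (CommRingCat.of ↑(S.residueField s)) ⟶ S := S.fromSpecResidueField s
  let F := Over.pullback φ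
  let A' := F.obj G
  let B' := F.obj H
  letI : GrpObj A' := F.grpObjObj
  letI : GrpObj B' := F.grpObjObj
  haveI : IsMonHom (F.map u) := inferInstance
  haveI : LocallyOfFiniteType A'.hom := by dsimp [A', F]; infer_instance
  haveI : LocallyOfFiniteType B'.hom := by dsimp [B', F]; infer_instance
  have e : (F.map u).left = fibreMap G.hom H.hom u.left (Over.w u) s := pullback_map_left G H u s
  have hcpf := cpf_iff u.left H.hom G.hom (Over.w u) x
  have hG : (G.hom.stalkMap x).hom.Flat := Flat.stalkMap G.hom x
  constructor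
  · intro hx
    have hH : (H.hom.stalkMap (u.left x)).hom.Flat := by
      refine flat_stalkMap_of_comp u.left H.hom x ?_ hx
      have : Flat (u.left ≫ H.hom) := by rw [Over.w u]; infer_instance
      exact Flat.stalkMap _ x
    have h2 := (hcpf.mpr ⟨hH, hx⟩).2
    refine Groth.Agent.Lib.Helper19.flat_of_exists_flat_stalkMap _ A' B' (F.map u)
      (G.hom.asFiber x) ?_
    rw [e]
    exact h2
  · intro hflat
    have hflat' : Flat (fibreMap G.hom H.hom u.left (Over.w u) s) := by rw [← e]; exact hflat
    exact (hcpf.mp ⟨hG, @Flat.stalkMap _ _ _ hflat' _⟩).2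

/-- SGA3 VI_B 2.5-type statement for flatness. -/
theorem flat_locus (G H : Over S) [GrpObj G] [GrpObj H] (u : G ⟶ H) [IsMonHom u]
    [Flat G.hom] [LocallyOfFinitePresentation G.hom] [LocallyOfFiniteType H.hom] :
    IsOpen {s : S | Flat ((Over.pullback (S.fromSpecResidueField s)).map u).left} ∧
    {x : G.left | (u.left.stalkMap x).hom.Flat} =
      G.hom.base ⁻¹' {s : S | Flat ((Over.pullback (S.fromSpecResidueField s)).map u).left} := by
  have h2 : {x : G.left | (u.left.stalkMap x).hom.Flat} =
      G.hom.base ⁻¹' {s : S | Flat ((Over.pullback (S.fromSpecResidueField s)).map u).left} := by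
    ext x
    exact flat_stalkMap_iff_flat_fibre G H u x
  refine ⟨?_, h2⟩
  -- openness of the flat locus in `G`
  haveI : LocallyOfFinitePresentation (u.left ≫ H.hom) := by rw [Over.w u]; infer_instance
  have hW : IsOpen {x : G.left | (u.left.stalkMap x).hom.Flat} := by
    have h := (Groth.Agent.S1386.result u.left H.hom).2
    convert h using 1
    ext x
    simp only [Set.mem_ofPred_eq]
    constructor
    · intro hx
      refine ⟨flat_stalkMap_of_comp u.left H.hom x ?_ hx, hx⟩
      have : Flat (u.left ≫ H.hom) := by rw [Over.w u]; infer_instance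
      exact Flat.stalkMap _ x
    · exact fun h => h.2
  -- pull back along the unit section
  have hU : {s : S | Flat ((Over.pullback (S.fromSpecResidueField s)).map u).left} =
      (η[G] : 𝟙_ (Over S) ⟶ G).left ⁻¹' {x : G.left | (u.left.stalkMap x).hom.Flat} := by
    rw [h2]
    ext s
    simp only [Set.mem_preimage, Set.mem_ofPred_eq]
    rw [Groth.Agent.Lib.Helper19.FibLoci.hom_unit_apply G s]
  rw [hU]
  exact hW.preimage (η[G] : 𝟙_ (Over S) ⟶ G).left.continuous

end Locus

end Groth.Agent.Lib.Helper22.GrpFlatLocus
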