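import Groth.Agent.Lib.Helper22.SecCompDimConst
import Groth.Agent.Lib.Helper41.QCClosure
import Groth.Agent.Lib.Helper8.LocConstr
import Groth.Agent.S10309

/-!
# Local constancy of the dimension of the section component, finite presentation case
(helper22, EGA IV 15.6.7)
-/

set_option autoImplicit false
set_option linter.style.haveILetI false
open CategoryTheory AlgebraicGeometry TopologicalSpace Topology Limits
universe u

namespace Groth.Agent.Lib.Helper22.SecCompDimConstFP

open Groth.Agent.Lib.Helper73 Groth.Agent.Lib.Helper19 Groth.Agent.Lib.Helper22.SecComp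
open Groth.Agent.Lib.Helper67.FiberStalk Groth.Agent.Lib.Helper22
open Groth.Agent.Lib.Helper22.SecCompDimConst

/-- A point in the closure of an open locally constructible subset of a scheme has a generization
in the subset. -/
theorem exists_specializes_of_mem_closure_of_isLocallyConstructible {Y : Scheme.{u}} (U : Set Y)
    (hU : IsLocallyConstructible U) (y₀ : Y) (hy₀ : y₀ ∈ closure U) :
    ∃ u ∈ U, u ⤳ y₀ := by
  obtain ⟨W, hW, hy₀W, -⟩ :=
    exists_isAffineOpen_mem_and_subset (X := Y) (x := y₀) (U := ⊤) trivial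
  set φ := hW.fromSpec with hφ
  have hrange : Set.range φ.base = (W : Set Y) := hW.range_fromSpec
  obtain ⟨p₀, hp₀⟩ : y₀ ∈ Set.range φ.base := hrange ▸ hy₀W
  have hcons : IsConstructible (φ.base ⁻¹' U) :=
    (hU.preimage_of_isOpenEmbedding φ.isOpenEmbedding).isConstructible
  have hp₀cl : p₀ ∈ closure (φ.base ⁻¹' U) := by
    rw [← φ.isOpenEmbedding.isOpenMap.preimage_closure_eq_closure_preimage φ.continuous]
    show φ.base p₀ ∈ closure U
    rw [hp₀]; exact hy₀
  obtain ⟨S, _, ψ, hψ⟩ := PrimeSpectrum.exists_range_eq_of_isConstructible hcons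
  rw [← hψ] at hp₀cl
  obtain ⟨p, hp⟩ := Groth.Agent.Lib.Helper41.exists_comap_specializes_of_mem_closure_range ψ p₀
    hp₀cl
  refine ⟨φ.base (PrimeSpectrum.comap ψ p), ?_, ?_⟩
  · have : PrimeSpectrum.comap ψ p ∈ φ.base ⁻¹' U := by rw [← hψ]; exact ⟨p, rfl⟩
    exact this
  · rw [← hp₀]
    exact hp.map φ.continuous

/-- (K)(β) without Noetherian hypotheses. -/
theorem dim_le_of_beta {X Y : Scheme.{u}} (f : X ⟶ Y) [LocallyOfFiniteType f] (g : Y ⟶ X)
    (hg : g ≫ f = 𝟙 Y)
    (hirrX : ∀ y : Y, IsIrreducible (connectedComponentIn (f.base ⁻¹' {y}) (g.base y)))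
    (y₀ : Y)
    (hopen : ∀ ξ ∈ connectedComponentIn (f.base ⁻¹' {y₀}) (g.base y₀),
      connectedComponentIn (f.base ⁻¹' {y₀}) (g.base y₀) ⊆ closure {ξ} → EGA43.IsUnivOpenAt f ξ)
    (y' : Y) (hy' : y' ⤳ y₀)
    (hβ : topologicalKrullDim ↥(f.fiber y') =
      topologicalKrullDim ↥(connectedComponentIn (f.base ⁻¹' {y'}) (g.base y'))) :
    topologicalKrullDim ↥(connectedComponentIn (f.base ⁻¹' {y₀}) (g.base y₀)) ≤
      topologicalKrullDim ↥(connectedComponentIn (f.base ⁻¹' {y'}) (g.base y')) := by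
  obtain ⟨ξ, hξy, hξC, hξsp, hξgen, hξdim⟩ :=
    exists_generic_sectionComponent f g hg y₀ (hirrX y₀)
  have hmaxξ : ∀ x' : X, f.base x' = f.base ξ → ξ ∈ closure {x'} → x' = ξ := by
    intro x' hx' hcl
    have h1 : x' ⤳ ξ := specializes_iff_mem_closure.mpr hcl
    have h2 : x' ∈ connectedComponentIn (f.base ⁻¹' {y₀}) (g.base y₀) :=
      hξgen x' (hx'.trans hξy) ξ hξC h1
    exact (h1.antisymm (hξsp x' h2)).eq
  have hopenξ := hopen ξ hξC (fun x hx => specializes_iff_mem_closure.mp (hξsp x hx))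
  have h1 := UnivOpenDim.fibreDimAt_le_dim_inter_fibre_of_isUnivOpenAt f ξ hmaxξ hopenξ ⊤
    trivial y' (hξy ▸ hy')
  have hmax' : ∀ t : X, t ⤳ ξ → f.base t = f.base ξ → t = ξ := fun t ht hft =>
    hmaxξ t hft (specializes_iff_mem_closure.mp ht)
  have h2 : FlatMor.fibreDimAt f ξ = ((resTrdegNat f ξ : ℕ) : WithBot ℕ∞) :=
    GenericFibreDim.fibreDimAt_eq_resTrdegNat_of_maximal f ξ hmax'
  have h3 : topologicalKrullDim ↥(((⊤ : X.Opens) : Set X) ∩ f.base ⁻¹' {y'}) =
      topologicalKrullDim ↥(f.fiber y') := by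
    rw [TopologicalSpace.Opens.coe_top, Set.univ_inter]
    exact (IsHomeomorph.topologicalKrullDim_eq _ (f.fiberHomeo y').isHomeomorph).symm
  rw [hξdim, ← hβ, ← h3]
  rw [h2] at h1
  exact_mod_cast h1

/-- A DVR through a proper specialization to a point with Noetherian local ring. -/
theorem exists_dvr_of_noetherian_stalk {Y : Scheme.{u}} (y₀ y' : Y)
    [IsNoetherianRing (Y.presheaf.stalk y₀)] (hsp : y' ⤳ y₀) (hne : y₀ ≠ y') :
    ∃ (A : Type u) (_ : CommRing A) (_ : IsDomain A) (_ : IsDiscreteValuationRing A)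
      (h : Spec (CommRingCat.of A) ⟶ Y), h.base (IsLocalRing.closedPoint A) = y₀ ∧
        h.base (⟨⊥, Ideal.isPrime_bot⟩ : PrimeSpectrum A) = y' := by
  have hy' : y' ∈ Set.range (Y.fromSpecStalk y₀).base := by
    rw [Scheme.range_fromSpecStalk]; exact hsp
  obtain ⟨p', hp'⟩ := hy'
  haveI : IsLocallyNoetherian (Spec (Y.presheaf.stalk y₀)) := inferInstance
  let c : ↥(Spec (Y.presheaf.stalk y₀)) := IsLocalRing.closedPoint (Y.presheaf.stalk y₀)
  have hc : (Y.fromSpecStalk y₀).base c = y₀ := Scheme.fromSpecStalk_closedPoint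
  have hsp' : p' ⤳ c :=
    (PrimeSpectrum.le_iff_specializes p' c).1 (IsLocalRing.le_maximalIdeal p'.2.ne_top)
  have hne' : c ≠ p' := by
    intro e
    apply hne
    rw [← hc, e, hp']
  obtain ⟨A, i1, i2, i3, h, hcl, hgen⟩ := exists_dvr (Y := Spec (Y.presheaf.stalk y₀)) c p' hsp' hne'
  refine ⟨A, i1, i2, i3, h ≫ Y.fromSpecStalk y₀, ?_, ?_⟩
  · show (Y.fromSpecStalk y₀).base (h.base (IsLocalRing.closedPoint A)) = y₀
    rw [hcl]; exact hc
  · show (Y.fromSpecStalk y₀).base (h.base (⟨⊥, Ideal.isPrime_bot⟩ : PrimeSpectrum A)) = y'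
    rw [hgen]; exact hp'

/-- EGA IV 15.6.7 (finite presentation form). -/
theorem dim_sectionComponent_const_fp {X Y : Scheme.{u}} (f : X ⟶ Y)
    [LocallyOfFinitePresentation f] (g : Y ⟶ X) (hg : g ≫ f = 𝟙 Y)
    (hgi : ∀ (y : Y) (K : Type u) [Field K]
      [Algebra (IsLocalRing.ResidueField (Y.presheaf.stalk y)) K],
      IsIrreducible ((FBase.bcπ (f.fiberToSpecResidueField y) K ≫ f.fiberι y).base ⁻¹'
        (connectedComponentIn (f.base ⁻¹' {y}) (g.base y))))
    (y₀ : Y)
    (hopen : ∀ ξ ∈ connectedComponentIn (f.base ⁻¹' {y₀}) (g.base y₀),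
      connectedComponentIn (f.base ⁻¹' {y₀}) (g.base y₀) ⊆ closure {ξ} → EGA43.IsUnivOpenAt f ξ)
    (hαβ : (FBase.IsGeomReducedAt (f.fiberToSpecResidueField (f.base (g.base y₀)))
        (f.asFiber (g.base y₀)) ∧ IsNoetherianRing (Y.presheaf.stalk y₀)) ∨
      (∀ y' : Y, y₀ ∈ closure {y'} → closure {y'} ∈ irreducibleComponents (Y : Type u) →
        topologicalKrullDim ↥(f.fiber y') =
          topologicalKrullDim ↥(connectedComponentIn (f.base ⁻¹' {y'}) (g.base y')))) :
    ∃ V ∈ nhds y₀, ∀ z ∈ V,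
      topologicalKrullDim ↥(connectedComponentIn (f.base ⁻¹' {z}) (g.base z)) =
        topologicalKrullDim ↥(connectedComponentIn (f.base ⁻¹' {y₀}) (g.base y₀)) := by
  have hirrX : ∀ y, IsIrreducible (connectedComponentIn (f.base ⁻¹' {y}) (g.base y)) := fun y =>
    isIrreducible_of_geom f y _ (connectedComponentIn_subset _ _) (hgi y _)
  have husc := upperSemicontinuous_dim_sectionComponent f g hg hirrX
  have hgenz : ∀ y' : Y, y' ⤳ y₀ →
      topologicalKrullDim ↥(connectedComponentIn (f.base ⁻¹' {y₀}) (g.base y₀)) ≤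
        topologicalKrullDim ↥(connectedComponentIn (f.base ⁻¹' {y'}) (g.base y')) := by
    intro y' hy'
    rcases hαβ with ⟨hα, hN⟩ | hβ
    · by_cases e : y₀ = y'
      · subst e; exact le_rfl
      · obtain ⟨A, _, _, _, h, hcl, hgen⟩ := exists_dvr_of_noetherian_stalk y₀ y' hy' e
        exact dim_le_of_dvr f g hg hgi h y₀ y' hcl hgen hopen hα
    · obtain ⟨y'', hy''y', hmax⟩ :=
        Groth.Agent.Lib.Helper51.exists_specializes_closure_mem_irreducibleComponents y'
      have hy''y₀ : y'' ⤳ y₀ := hy''y'.trans hy'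
      have h1 := dim_le_of_beta f g hg hirrX y₀ hopen y'' hy''y₀
        (hβ y'' (specializes_iff_mem_closure.mp hy''y₀) hmax)
      exact h1.trans (dim_sectionComponent_le_of_specializes f g hg hirrX y'' y' hy''y')
  obtain ⟨ξ, -, -, -, -, hdim⟩ := exists_generic_sectionComponent f g hg y₀ (hirrX y₀)
  have hc : topologicalKrullDim ↥(connectedComponentIn (f.base ⁻¹' {y₀}) (g.base y₀)) <
      ((resTrdegNat f ξ + 1 : ℕ) : WithBot ℕ∞) := by
    rw [hdim]; exact_mod_cast Nat.lt_succ_self _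
  have hV₁ := husc y₀ _ hc
  have hupper : ∀ z : Y, topologicalKrullDim ↥(connectedComponentIn (f.base ⁻¹' {z}) (g.base z)) <
      ((resTrdegNat f ξ + 1 : ℕ) : WithBot ℕ∞) →
      topologicalKrullDim ↥(connectedComponentIn (f.base ⁻¹' {z}) (g.base z)) ≤
        topologicalKrullDim ↥(connectedComponentIn (f.base ⁻¹' {y₀}) (g.base y₀)) := by
    intro z h1
    obtain ⟨ξz, -, -, -, -, hdimz⟩ := exists_generic_sectionComponent f g hg z (hirrX z)
    rw [hdimz] at h1
    rw [hdim, hdimz]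
    have h2 : resTrdegNat f ξz < resTrdegNat f ξ + 1 := by exact_mod_cast h1
    exact_mod_cast Nat.lt_succ_iff.mp h2
  rcases Nat.eq_zero_or_pos (resTrdegNat f ξ) with h0 | hpos
  · refine ⟨_, hV₁, fun z hz => le_antisymm (hupper z hz) ?_⟩
    obtain ⟨ξz, -, -, -, -, hdimz⟩ := exists_generic_sectionComponent f g hg z (hirrX z)
    rw [hdim, hdimz, h0]
    exact_mod_cast Nat.zero_le _
  · obtain ⟨m, hm⟩ : ∃ m, resTrdegNat f ξ = m + 1 := ⟨resTrdegNat f ξ - 1, by omega⟩
    set U : Set Y := {t : Y | FlatMor.fibreDimAt f (g.base t) ≤ ((m : ℕ) : WithBot ℕ∞)} with hU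
    have hLC : IsLocallyConstructible U :=
      Groth.Agent.Lib.Helper8.isLocallyConstructible_preimage g
        ((Groth.Agent.S10309.fibrewiseProp_fibreDimAt_le m).isLocallyConstructible f)
    have hy₀U : y₀ ∉ closure U := by
      intro hcl
      obtain ⟨u, huU, huy₀⟩ := exists_specializes_of_mem_closure_of_isLocallyConstructible U hLC y₀ hcl
      have h1 := hgenz u huy₀
      have h2 : FlatMor.fibreDimAt f (g.base u) ≤ ((m : ℕ) : WithBot ℕ∞) := huU
      rw [fibreDimAt_section_eq f g hg u (hirrX u)] at h2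
      rw [hdim, hm] at h1
      have h3 := h1.trans h2
      have h4 : m + 1 ≤ m := by exact_mod_cast h3
      omega
    refine ⟨_, Filter.inter_mem hV₁ (isClosed_closure.isOpen_compl.mem_nhds hy₀U), ?_⟩
    rintro z ⟨hz1, hz2⟩
    refine le_antisymm (hupper z hz1) ?_
    have hzU : z ∉ U := fun h => hz2 (subset_closure h)
    obtain ⟨ξz, -, -, -, -, hdimz⟩ := exists_generic_sectionComponent f g hg z (hirrX z)
    have h2 : ¬ FlatMor.fibreDimAt f (g.base z) ≤ ((m : ℕ) : WithBot ℕ∞) := hzU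
    rw [fibreDimAt_section_eq f g hg z (hirrX z), hdimz] at h2
    rw [hdim, hdimz, hm]
    have h3 : ¬ resTrdegNat f ξz ≤ m := fun h => h2 (by exact_mod_cast h)
    have h4 : m + 1 ≤ resTrdegNat f ξz := by omega
    exact_mod_cast h4

end Groth.Agent.Lib.Helper22.SecCompDimConstFP
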