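import Groth.Agent.S3404
import Groth.Agent.Lib.Helper12.Subtr

/-!
# Valuative criterion for universal openness at a point (helper22)
-/
set_option autoImplicit false
open CategoryTheory AlgebraicGeometry TopologicalSpace Topology Limits
universe u

namespace Groth.Agent.Lib.Helper22.UnivOpenVal

set_option backward.isDefEq.respectTransparency false in
/-- A morphism locally of finite presentation is universally open at `x` as soon as, for every
valuation ring `R` and `ψ : Spec R ⟶ Y`, every point of `X ×_Y Spec R` over `x` and the closed point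
has a generization over the generic point. -/
theorem isUnivOpenAt_of_valuative {X Y : Scheme.{u}} (v : X ⟶ Y) [LocallyOfFinitePresentation v]
    (x : X)
    (H : ∀ (R : Type u) [CommRing R] [IsDomain R] [ValuationRing R]
      (ψ : Spec (CommRingCat.of R) ⟶ Y) (x₁ : ↥(pullback v ψ)),
      (pullback.fst v ψ).base x₁ = x → (pullback.snd v ψ).base x₁ = IsLocalRing.closedPoint R →
      ∃ x₂ : ↥(pullback v ψ), x₂ ⤳ x₁ ∧
        (pullback.snd v ψ).base x₂ = (⟨⊥, Ideal.isPrime_bot⟩ : PrimeSpectrum R)) :
    EGA43.IsUnivOpenAt v x := by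
  intro Y' g x' hx'
  set v' := pullback.snd v g with hv'
  rw [((Groth.Agent.S3404.result v' x').2 inferInstance)]
  intro y'' hy''
  obtain ⟨R, _, _, _, φ, hφc, hφg⟩ :=
    Groth.Agent.Lib.Helper12.exists_valuationRing_of_specializes hy''
  set ψ := φ ≫ g with hψ
  have hsq₂ : IsPullback (pullback.fst v g) v' v g := IsPullback.of_hasPullback v g
  have hsq : IsPullback (pullback.fst v ψ) (pullback.snd v ψ) v (φ ≫ g) :=
    IsPullback.of_hasPullback v ψ
  let k : pullback v ψ ⟶ pullback v g :=
    pullback.lift (pullback.fst v ψ) (pullback.snd v ψ ≫ φ) (by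
      rw [Category.assoc, ← hψ]; exact pullback.condition)
  have hk1 : k ≫ pullback.fst v g = pullback.fst v ψ := pullback.lift_fst _ _ _
  have hk2 : k ≫ v' = pullback.snd v ψ ≫ φ := pullback.lift_snd _ _ _
  have hsq₁ : IsPullback k (pullback.snd v ψ) v' φ :=
    IsPullback.of_right (by rw [hk1]; exact hsq) hk2 hsq₂
  obtain ⟨x₁, hx₁1, hx₁2⟩ := Scheme.exists_preimage_of_isPullback hsq₁ x'
    (IsLocalRing.closedPoint R) hφc.symm
  have hfst : (pullback.fst v ψ).base x₁ = x := by
    rw [← hk1, Scheme.Hom.comp_apply, hx₁1, hx']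
  obtain ⟨x₂, hx₂, hx₂s⟩ := H R ψ x₁ hfst hx₁2
  refine ⟨k.base x₂, ?_, ?_⟩
  · rw [← hx₁1]; exact hx₂.map k.continuous
  · have := congr(($hk2) x₂)
    simp only [Scheme.Hom.comp_apply] at this
    rw [this, hx₂s, hφg]

end Groth.Agent.Lib.Helper22.UnivOpenVal
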