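import Groth.Agent.Lib.Helper72.GrpConn
import Groth.Agent.Lib.Helper22.SecCompDimConstFP
import Groth.Agent.Lib.Helper22.UnivOpenVal
import Groth.Agent.Lib.Helper73.DimFormula.GrpFibreDim
import Groth.Prelude

set_option autoImplicit false
set_option linter.style.haveILetI false
open CategoryTheory AlgebraicGeometry TopologicalSpace Topology Limits
universe u

namespace Groth.Agent.Lib.Helper22.GrpUnivOpen

open MonoidalCategory CartesianMonoidalCategory MonObj GrpObj
open Groth.Agent.Lib.Helper72.GrpComp Groth.Agent.Lib.Helper72.GrpConn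

variable {S : Scheme.{u}} (G : Over S) [GrpObj G]

/-- the unit section of a group scheme -/
noncomputable def eS : S ⟶ G.left := (η[G] : 𝟙_ (Over S) ⟶ G).left

lemma eS_hom : eS G ≫ G.hom = 𝟙 S := Over.w (η[G] : 𝟙_ (Over S) ⟶ G)

set_option backward.isDefEq.respectTransparency false in
/-- the unit section of a base change -/
lemma eS_bc_fst {T : Scheme.{u}} (h : T ⟶ S) :
    letI : GrpObj (Over.mk G.hom) := ‹GrpObj G›
    letI : GrpObj (Over.mk (pullback.snd G.hom h)) := Over.grpObjMkPullbackSnd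
    eS (Over.mk (pullback.snd G.hom h)) ≫ pullback.fst G.hom h = h ≫ eS G := by
  letI : GrpObj (Over.mk G.hom) := ‹GrpObj G›
  letI : GrpObj (Over.mk (pullback.snd G.hom h)) := Over.grpObjMkPullbackSnd
  have h1 : (η[Over.mk (pullback.snd G.hom h)] : 𝟙_ _ ⟶ Over.mk (pullback.snd G.hom h)) =
      Functor.LaxMonoidal.ε (Over.pullback h) ≫ (Over.pullback h).map η[Over.mk G.hom] :=
    Over.grpObjMkPullbackSnd_one
  unfold eS
  rw [h1]
  simp

set_option backward.isDefEq.respectTransparency false in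
/-- (L) the neutral component of every fibre is irreducible -/
theorem isIrreducible_neutralComponent (s : S) :
    IsIrreducible (connectedComponentIn (G.hom.base ⁻¹' {s}) ((eS G).base s)) := by
  letI : GrpObj (Over.mk G.hom) := ‹GrpObj G›
  let z := S.fromSpecResidueField s
  let Gs : Over (Spec (CommRingCat.of (S.residueField s))) := Over.mk (pullback.snd G.hom z)
  letI : GrpObj Gs := Over.grpObjMkPullbackSnd
  have hes : G.hom.base ((eS G).base s) = s := by
    have := congrArg (fun φ : S ⟶ S => φ.base s) (eS_hom G)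
    simpa using this
  let p : ↥(G.hom.fiber s) := (G.hom.fiberHomeo s).symm ⟨(eS G).base s, hes⟩
  have hp : (G.hom.fiberι s).base p = (eS G).base s := G.hom.fiberι_fiberHomeo_symm s ⟨_, hes⟩
  have hpe : p = ePt Gs := by
    apply (G.hom.fiberι s).isEmbedding.injective
    rw [hp]
    let cp : ↥(Spec (CommRingCat.of ↑(S.residueField s))) :=
      (show PrimeSpectrum ↑(S.residueField s) from IsLocalRing.closedPoint _)
    show _ = (pullback.fst G.hom z).base ((unitS Gs).base cp)
    have h1 : unitS Gs ≫ pullback.fst G.hom z = z ≫ eS G := eS_bc_fst G z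
    have h2 : (pullback.fst G.hom z).base ((unitS Gs).base cp) = (eS G).base (z.base cp) :=
      congrArg (fun φ : Spec (CommRingCat.of ↑(S.residueField s)) ⟶ G.left => φ.base cp) h1
    rw [h2]
    congr 1
    exact (Scheme.fromSpecResidueField_apply s _).symm
  have hirr : IsIrreducible (connectedComponent p) := by
    rw [hpe, connectedComponent_ePt Gs (irreducibleComponent_mem_irreducibleComponents _)
      mem_irreducibleComponent]
    exact isIrreducible_irreducibleComponent
  have hes' : (eS G).base s ∈ G.hom.base ⁻¹' {s} := hes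
  rw [connectedComponentIn_eq_image hes']
  have h2 : connectedComponent (⟨(eS G).base s, hes'⟩ : ↥(G.hom.base ⁻¹' {s})) =
      (G.hom.fiberHomeo s) '' connectedComponent p := by
    have h3 := (G.hom.fiberHomeo s).image_connectedComponentIn (s := Set.univ) (x := p)
      (Set.mem_univ _)
    rw [connectedComponentIn_univ, Set.image_univ, (G.hom.fiberHomeo s).surjective.range_eq,
      connectedComponentIn_univ] at h3
    rw [h3]
    congr 1
    exact ((G.hom.fiberHomeo s).apply_symm_apply _).symm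
  rw [h2, Set.image_image]
  exact hirr.image _ (continuous_subtype_val.comp (G.hom.fiberHomeo s).continuous).continuousOn

end Groth.Agent.Lib.Helper22.GrpUnivOpen

namespace Groth.Agent.Lib.Helper22.GrpUnivOpen

open Groth.Agent.Lib.Helper73 Groth.Agent.Lib.Helper19 Groth.Agent.Lib.Helper22.SecComp
open Groth.Agent.Lib.Helper22 Groth.Agent.Lib.Helper22.SecCompDimConst
open Groth.Agent.Lib.Helper22.SecCompDimConstFP

set_option backward.isDefEq.respectTransparency false in
/-- EGA IV 15.6.6 (one direction), valuation ring form without Noetherian hypotheses. -/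
theorem isUnivOpenAt_of_const_dim_val {X Y : Scheme.{u}}
    (f : X ⟶ Y) [LocallyOfFinitePresentation f] (g : Y ⟶ X) (hg : g ≫ f = 𝟙 Y)
    (hirrX : ∀ y : Y, IsIrreducible (connectedComponentIn (f.base ⁻¹' {y}) (g.base y)))
    (hirrBC : ∀ (R : Type u) [CommRing R] [IsDomain R] [ValuationRing R]
      (h : Spec (CommRingCat.of R) ⟶ Y),
      IsIrreducible (connectedComponentIn ((pullback.snd f h).base ⁻¹' {IsLocalRing.closedPoint R})
        ((pullback.lift (h ≫ g) (𝟙 _) (by simp [hg]) : Spec (CommRingCat.of R) ⟶ pullback f h).base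
          (IsLocalRing.closedPoint R))))
    (y : Y)
    (hc : ∃ V ∈ nhds y, ∀ z ∈ V,
      topologicalKrullDim ↥(connectedComponentIn (f.base ⁻¹' {z}) (g.base z)) =
        topologicalKrullDim ↥(connectedComponentIn (f.base ⁻¹' {y}) (g.base y)))
    (x : X) (hx : x ∈ connectedComponentIn (f.base ⁻¹' {y}) (g.base y)) :
    EGA43.IsUnivOpenAt f x := by
  have hxy : f.base x = y := connectedComponentIn_subset (f.base ⁻¹' {y}) (g.base y) hx
  apply UnivOpenVal.isUnivOpenAt_of_valuative f x
  intro A _ _ _ h x' hx'1 hx'2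
  set fst := pullback.fst f h with hfst
  set snd := pullback.snd f h with hsnd
  have hsq : IsPullback fst snd f h := IsPullback.of_hasPullback f h
  let s' : Spec (CommRingCat.of A) ⟶ pullback f h := pullback.lift (h ≫ g) (𝟙 _) (by simp [hg])
  have hs' : s' ≫ snd = 𝟙 _ := pullback.lift_snd _ _ _
  have hs'g : s' ≫ fst = h ≫ g := pullback.lift_fst _ _ _
  set s₀ : ↥(Spec (CommRingCat.of A)) := IsLocalRing.closedPoint A with hs₀
  set gp : ↥(Spec (CommRingCat.of A)) := ⟨⊥, Ideal.isPrime_bot⟩ with hgp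
  have hgps : gp ⤳ s₀ := (PrimeSpectrum.le_iff_specializes gp s₀).1 bot_le
  have hh : h.base s₀ = f.base x := by
    have := congrArg (fun φ => φ.base x') hsq.w
    simp only [Scheme.Hom.comp_base, TopCat.hom_comp, ContinuousMap.comp_apply] at this
    rw [← hx'2, ← this, hx'1]
  have hhs : h.base s₀ = y := hh.trans hxy
  set y' := h.base gp with hy'
  have hy'y : y' ⤳ y := hhs ▸ hgps.map h.continuous
  obtain ⟨V, hVy, hV⟩ := hc
  obtain ⟨O, hOV, hO, hyO⟩ := mem_nhds_iff.mp hVy
  have hdim := hV y' (hOV (hy'y.mem_open hO hyO))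
  obtain ⟨ξ, hξy, hξC, hξsp, hξgen, hξdim⟩ := exists_generic_sectionComponent f g hg y (hirrX y)
  obtain ⟨ξ', hξ'y, hξ'C, hξ'sp, hξ'gen, hξ'dim⟩ :=
    exists_generic_sectionComponent f g hg y' (hirrX y')
  have hnn : resTrdegNat f ξ' = resTrdegNat f ξ := by
    rw [hξdim, hξ'dim] at hdim
    exact_mod_cast hdim
  -- Step 1
  have hfd : ((resTrdegNat f ξ' : ℕ) : WithBot ℕ∞) ≤ FlatMor.fibreDimAt snd (s'.base gp) := by
    rw [fibreDimAt_eq_of_isPullback f h fst snd hsq (s'.base gp)]
    have h1 : fst.base (s'.base gp) = g.base y' := by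
      have := congrArg (fun φ => φ.base gp) hs'g
      exact this
    rw [h1]
    exact resTrdegNat_le_fibreDimAt_of_specializes f (g.base y') ξ'
      (hξ'sp _ (mem_sectionComponent f g hg y')) (hξ'y.trans (apply_section f g hg y').symm)
  obtain ⟨ω, hω1, hω2, hω3⟩ : ∃ ω : ↥(pullback f h), ω ⤳ s'.base gp ∧
      snd.base ω = snd.base (s'.base gp) ∧ resTrdegNat f ξ' ≤ resTrdegNat snd ω := by
    by_contra hcon
    push Not at hcon
    have h0 : resTrdegNat snd (s'.base gp) < resTrdegNat f ξ' := hcon _ specializes_rfl rfl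
    have h1 : FlatMor.fibreDimAt snd (s'.base gp) ≤ ((resTrdegNat f ξ' - 1 : ℕ) : WithBot ℕ∞) := by
      refine fibreDimAt_le_of_forall_generization snd _ _ fun ζ hζ hsζ => ?_
      have := hcon ζ hζ hsζ
      omega
    have h3 : resTrdegNat f ξ' ≤ resTrdegNat f ξ' - 1 := by exact_mod_cast hfd.trans h1
    omega
  have hsgp : snd.base (s'.base gp) = gp := apply_section snd s' hs' gp
  have hωgp : snd.base ω = gp := hω2.trans hsgp
  -- Step 2
  have hgps' : s'.base gp ⤳ s'.base s₀ := hgps.map s'.continuous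
  obtain ⟨t, hωt, hts, hft, hle⟩ := Groth.Agent.Lib.Helper72.FibDimIrr.exists_generization_resTrdegNat_ge
    snd ω (s'.base s₀) (hω1.trans hgps')
  have hts₀ : snd.base t = s₀ := hft.trans (apply_section snd s' hs' s₀)
  -- Step 3
  have hirrP : IsIrreducible (connectedComponentIn (snd.base ⁻¹' {s₀}) (s'.base s₀)) := hirrBC A h
  obtain ⟨τ, hτs, hτC, hτsp, hτgen, hτdim⟩ := exists_generic_sectionComponent snd s' hs' s₀ hirrP
  -- Step 4
  have htC : t ∈ connectedComponentIn (snd.base ⁻¹' {s₀}) (s'.base s₀) :=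
    mem_connectedComponentIn_of_specializes (F := snd.base ⁻¹' {s₀}) (s'.base s₀) t (s'.base s₀)
      hts₀ (mem_sectionComponent snd s' hs' s₀) hts
  have hτt : τ ⤳ t := hτsp t htC
  have hmemX : ∀ p : ↥(pullback f h), snd.base p = s₀ →
      (p ∈ connectedComponentIn (snd.base ⁻¹' {s₀}) (s'.base s₀) ↔
        fst.base p ∈ connectedComponentIn (f.base ⁻¹' {y}) (g.base y)) := by
    intro p hp
    have h1 := mem_connectedComponentIn_fibre_baseChange f g hg snd fst h hsq s' hs' hs'g p
    have h2 : f.base (fst.base p) = y := by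
      have := congrArg (fun φ => φ.base p) hsq.w
      simp only [Scheme.Hom.comp_base, TopCat.hom_comp, ContinuousMap.comp_apply] at this
      rw [this, hp, hhs]
    rw [hp] at h1
    rw [h2] at h1
    exact h1
  have hτeq : τ = t := by
    by_contra hne'
    have h1 := resTrdegNat_lt_of_specializes_fiber snd t τ hτt (hτs.trans hts₀.symm) hne'
    have h2 := resTrdegNat_le_of_isPullback f h fst snd hsq τ
    have h3 : fst.base τ ∈ connectedComponentIn (f.base ⁻¹' {y}) (g.base y) := (hmemX τ hτs).1 hτC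
    have h3y : f.base (fst.base τ) = y := connectedComponentIn_subset (f.base ⁻¹' {y}) (g.base y) h3
    have h4 : resTrdegNat f (fst.base τ) ≤ resTrdegNat f ξ := by
      by_cases e : ξ = fst.base τ
      · rw [← e]
      · exact (resTrdegNat_lt_of_specializes_fiber f _ ξ (hξsp _ h3) (hξy.trans h3y.symm) e).le
    omega
  -- Step 5
  have hx'C : x' ∈ connectedComponentIn (snd.base ⁻¹' {s₀}) (s'.base s₀) := by
    rw [hmemX x' hx'2, hx'1]
    exact hx
  exact ⟨ω, hωt.trans (hτeq ▸ hτsp x' hx'C), hωgp⟩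

/-- EGA IV 15.6.7, case (β), with only topological irreducibility of the section components. -/
theorem dim_sectionComponent_const_beta {X Y : Scheme.{u}} (f : X ⟶ Y)
    [LocallyOfFinitePresentation f] (g : Y ⟶ X) (hg : g ≫ f = 𝟙 Y)
    (hirrX : ∀ y : Y, IsIrreducible (connectedComponentIn (f.base ⁻¹' {y}) (g.base y)))
    (y₀ : Y)
    (hopen : ∀ ξ ∈ connectedComponentIn (f.base ⁻¹' {y₀}) (g.base y₀),
      connectedComponentIn (f.base ⁻¹' {y₀}) (g.base y₀) ⊆ closure {ξ} → EGA43.IsUnivOpenAt f ξ)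
    (hβ : ∀ y' : Y, y₀ ∈ closure {y'} → closure {y'} ∈ irreducibleComponents (Y : Type u) →
        topologicalKrullDim ↥(f.fiber y') =
          topologicalKrullDim ↥(connectedComponentIn (f.base ⁻¹' {y'}) (g.base y'))) :
    ∃ V ∈ nhds y₀, ∀ z ∈ V,
      topologicalKrullDim ↥(connectedComponentIn (f.base ⁻¹' {z}) (g.base z)) =
        topologicalKrullDim ↥(connectedComponentIn (f.base ⁻¹' {y₀}) (g.base y₀)) := by
  have husc := upperSemicontinuous_dim_sectionComponent f g hg hirrX
  have hgenz : ∀ y' : Y, y' ⤳ y₀ →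
      topologicalKrullDim ↥(connectedComponentIn (f.base ⁻¹' {y₀}) (g.base y₀)) ≤
        topologicalKrullDim ↥(connectedComponentIn (f.base ⁻¹' {y'}) (g.base y')) := by
    intro y' hy'
    obtain ⟨y'', hy''y', hmax⟩ :=
      Groth.Agent.Lib.Helper51.exists_specializes_closure_mem_irreducibleComponents y'
    have hy''y₀ : y'' ⤳ y₀ := hy''y'.trans hy'
    have h1 := dim_le_of_beta f g hg hirrX y₀ hopen y'' hy''y₀
      (hβ y'' (specializes_iff_mem_closure.mp hy''y₀) hmax)
    exact h1.trans (dim_sectionComponent_le_of_specializes f g hg hirrX y'' y' hy''y')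
  obtain ⟨ξ, -, -, -, -, hdim⟩ := exists_generic_sectionComponent f g hg y₀ (hirrX y₀)
  have hc : topologicalKrullDim ↥(connectedComponentIn (f.base ⁻¹' {y₀}) (g.base y₀)) <
      ((resTrdegNat f ξ + 1 : ℕ) : WithBot ℕ∞) := by
    rw [hdim]; exact_mod_cast Nat.lt_succ_self _
  have hV₁ := husc y₀ _ hc
  have hupper : ∀ z : Y, topologicalKrullDim ↥(connectedComponentIn (f.base ⁻¹' {z}) (g.base z)) <
      ((resTrdegNat f ξ + 1 : ℕ) : WithBot ℕ∞) →
      topologicalKrullDim ↥(connectedComponentIn (f.base ⁻¹' {z}) (g.base z)) ≤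
        topologicalKrullDim ↥(connectedComponentIn (f.base ⁻¹' {y₀}) (g.base y₀)) := by
    intro z h1
    obtain ⟨ξz, -, -, -, -, hdimz⟩ := exists_generic_sectionComponent f g hg z (hirrX z)
    rw [hdimz] at h1
    rw [hdim, hdimz]
    have h2 : resTrdegNat f ξz < resTrdegNat f ξ + 1 := by exact_mod_cast h1
    exact_mod_cast Nat.lt_succ_iff.mp h2
  rcases Nat.eq_zero_or_pos (resTrdegNat f ξ) with h0 | hpos
  · refine ⟨_, hV₁, fun z hz => le_antisymm (hupper z hz) ?_⟩
    obtain ⟨ξz, -, -, -, -, hdimz⟩ := exists_generic_sectionComponent f g hg z (hirrX z)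
    rw [hdim, hdimz, h0]
    exact_mod_cast Nat.zero_le _
  · obtain ⟨m, hm⟩ : ∃ m, resTrdegNat f ξ = m + 1 := ⟨resTrdegNat f ξ - 1, by omega⟩
    set U : Set Y := {t : Y | FlatMor.fibreDimAt f (g.base t) ≤ ((m : ℕ) : WithBot ℕ∞)} with hU
    have hLC : IsLocallyConstructible U :=
      Groth.Agent.Lib.Helper8.isLocallyConstructible_preimage g
        ((Groth.Agent.S10309.fibrewiseProp_fibreDimAt_le m).isLocallyConstructible f)
    have hy₀U : y₀ ∉ closure U := by
      intro hcl
      obtain ⟨u, huU, huy₀⟩ := exists_specializes_of_mem_closure_of_isLocallyConstructible U hLC y₀ hcl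
      have h1 := hgenz u huy₀
      have h2 : FlatMor.fibreDimAt f (g.base u) ≤ ((m : ℕ) : WithBot ℕ∞) := huU
      rw [fibreDimAt_section_eq f g hg u (hirrX u)] at h2
      rw [hdim, hm] at h1
      have h3 := h1.trans h2
      have h4 : m + 1 ≤ m := by exact_mod_cast h3
      omega
    refine ⟨_, Filter.inter_mem hV₁ (isClosed_closure.isOpen_compl.mem_nhds hy₀U), ?_⟩
    rintro z ⟨hz1, hz2⟩
    refine le_antisymm (hupper z hz1) ?_
    have hzU : z ∉ U := fun h => hz2 (subset_closure h)
    obtain ⟨ξz, -, -, -, -, hdimz⟩ := exists_generic_sectionComponent f g hg z (hirrX z)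
    have h2 : ¬ FlatMor.fibreDimAt f (g.base z) ≤ ((m : ℕ) : WithBot ℕ∞) := hzU
    rw [fibreDimAt_section_eq f g hg z (hirrX z), hdimz] at h2
    rw [hdim, hdimz, hm]
    have h3 : ¬ resTrdegNat f ξz ≤ m := fun h => h2 (by exact_mod_cast h)
    have h4 : m + 1 ≤ resTrdegNat f ξz := by omega
    exact_mod_cast h4

section Grp

open MonoidalCategory CartesianMonoidalCategory MonObj GrpObj

variable {S : Scheme.{u}} (G : Over S) [GrpObj G]

set_option backward.isDefEq.respectTransparency false in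
/-- irreducibility of the neutral component of the closed fibre of any base change -/
theorem isIrreducible_neutralComponent_bc {T : Scheme.{u}} (h : T ⟶ S) (t : T) :
    IsIrreducible (connectedComponentIn ((pullback.snd G.hom h).base ⁻¹' {t})
      ((pullback.lift (h ≫ eS G) (𝟙 _) (by simp [eS_hom G]) : T ⟶ pullback G.hom h).base t)) := by
  letI : GrpObj (Over.mk G.hom) := ‹GrpObj G›
  letI : GrpObj (Over.mk (pullback.snd G.hom h)) := Over.grpObjMkPullbackSnd
  have h1 : eS (Over.mk (pullback.snd G.hom h)) =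
      (pullback.lift (h ≫ eS G) (𝟙 _) (by simp [eS_hom G]) : T ⟶ pullback G.hom h) := by
    apply pullback.hom_ext
    · rw [pullback.lift_fst]; exact eS_bc_fst G h
    · rw [pullback.lift_snd]; exact eS_hom (Over.mk (pullback.snd G.hom h))
  rw [← h1]
  exact isIrreducible_neutralComponent (Over.mk (pullback.snd G.hom h)) t

end Grp

section Main

open MonoidalCategory CartesianMonoidalCategory MonObj GrpObj

set_option backward.isDefEq.respectTransparency false in
/-- SGA 3 VI_B 4.x (S5330). -/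
theorem main (S : Scheme.{u}) (G : Over S) [GrpObj G]
    [LocallyOfFinitePresentation G.hom] (s : S) :
    ((∀ x ∈ (SGA3x.neutralSet G ∩ G.hom.base ⁻¹' {s}), EGA43.IsUnivOpenAt G.hom x) ↔
      ∃ W : G.left.Opens, (∀ p : ↥(𝟙_ (Over S)).left, (𝟙_ (Over S)).hom.base p = s → η[G].left.base p ∈ W) ∧
        ∀ x ∈ (SGA3x.neutralSet G ∩ G.hom.base ⁻¹' {s}), x ∈ W → EGA43.IsUnivOpenAt G.hom x) ∧
    ((∀ x ∈ (SGA3x.neutralSet G ∩ G.hom.base ⁻¹' {s}), EGA43.IsUnivOpenAt G.hom x) ↔
      ∃ U : Set S, U ∈ nhds s ∧ ∀ t ∈ U, topologicalKrullDim ↥(G.hom.base ⁻¹' {t}) = topologicalKrullDim ↥(G.hom.base ⁻¹' {s})) := by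
  set f := G.hom with hf
  set e : S ⟶ G.left := eS G with he
  have hef : e ≫ f = 𝟙 S := eS_hom G
  have hefa : ∀ t : S, f.base (e.base t) = t := fun t => apply_section f e hef t
  have hirrX : ∀ t : S, IsIrreducible (connectedComponentIn (f.base ⁻¹' {t}) (e.base t)) :=
    fun t => isIrreducible_neutralComponent G t
  have hirrBC : ∀ (R : Type u) [CommRing R] [IsDomain R] [ValuationRing R]
      (h : Spec (CommRingCat.of R) ⟶ S),
      IsIrreducible (connectedComponentIn ((pullback.snd f h).base ⁻¹' {IsLocalRing.closedPoint R})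
        ((pullback.lift (h ≫ e) (𝟙 _) (by simp [hef]) : Spec (CommRingCat.of R) ⟶ pullback f h).base
          (IsLocalRing.closedPoint R))) := by
    intro R _ _ _ h
    exact isIrreducible_neutralComponent_bc G h _
  -- the neutral set over `s`
  have hN : SGA3x.neutralSet G ∩ f.base ⁻¹' {s} = connectedComponentIn (f.base ⁻¹' {s}) (e.base s) := by
    ext x
    constructor
    · rintro ⟨hx, hxs⟩
      obtain ⟨p, hp⟩ := Set.mem_iUnion.mp hx
      have hp' : x ∈ connectedComponentIn (f.base ⁻¹' {p}) (e.base p) := hp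
      have hfx : f.base x = p := connectedComponentIn_subset (f.base ⁻¹' {p}) (e.base p) hp'
      have hps : p = s := hfx.symm.trans hxs
      rw [← hps]; exact hp'
    · intro hx
      refine ⟨Set.mem_iUnion.mpr ⟨s, hx⟩, connectedComponentIn_subset (f.base ⁻¹' {s}) (e.base s) hx⟩
  -- dimensions
  have hdim : ∀ t : S, topologicalKrullDim ↥(f.base ⁻¹' {t}) =
      topologicalKrullDim ↥(connectedComponentIn (f.base ⁻¹' {t}) (e.base t)) := by
    intro t
    rw [← fibreDimAt_section_eq f e hef t (hirrX t),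
      ← (IsHomeomorph.topologicalKrullDim_eq _ (f.fiberHomeo t).isHomeomorph)]
    have := dim_fiber_eq_fibreDimAt_of_grpObj S G (e.base t)
    rw [← this, hefa t]
  have hfib : ∀ t : S, topologicalKrullDim ↥(f.fiber t) =
      topologicalKrullDim ↥(connectedComponentIn (f.base ⁻¹' {t}) (e.base t)) := by
    intro t
    rw [← hdim t]
    exact IsHomeomorph.topologicalKrullDim_eq _ (f.fiberHomeo t).isHomeomorph
  -- generic universal openness ⇒ constancy
  have key1 : (∀ ξ ∈ connectedComponentIn (f.base ⁻¹' {s}) (e.base s),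
      connectedComponentIn (f.base ⁻¹' {s}) (e.base s) ⊆ closure {ξ} → EGA43.IsUnivOpenAt f ξ) →
      ∃ U : Set S, U ∈ nhds s ∧ ∀ t ∈ U, topologicalKrullDim ↥(f.base ⁻¹' {t}) =
        topologicalKrullDim ↥(f.base ⁻¹' {s}) := by
    intro hopen
    obtain ⟨V, hV, hVd⟩ := dim_sectionComponent_const_beta f e hef hirrX s hopen
      (fun y' _ _ => hfib y')
    exact ⟨V, hV, fun t ht => by rw [hdim t, hdim s]; exact hVd t ht⟩
  -- constancy ⇒ universal openness
  have key2 : (∃ U : Set S, U ∈ nhds s ∧ ∀ t ∈ U, topologicalKrullDim ↥(f.base ⁻¹' {t}) =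
        topologicalKrullDim ↥(f.base ⁻¹' {s})) →
      ∀ x ∈ connectedComponentIn (f.base ⁻¹' {s}) (e.base s), EGA43.IsUnivOpenAt f x := by
    rintro ⟨U, hU, hUd⟩ x hx
    refine isUnivOpenAt_of_const_dim_val f e hef hirrX hirrBC s ⟨U, hU, fun t ht => ?_⟩ x hx
    rw [← hdim t, ← hdim s]; exact hUd t ht
  rw [hN]
  refine ⟨⟨fun hP => ⟨⊤, fun _ _ => trivial, fun x hx _ => hP x hx⟩, ?_⟩, ⟨fun hP => key1 fun ξ hξ _ => hP ξ hξ, key2⟩⟩
  rintro ⟨W, hW1, hW2⟩
  apply key2
  apply key1
  intro ξ hξ hcl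
  refine hW2 ξ hξ ?_
  have hes : e.base s ∈ (W : Set G.left) := hW1 s rfl
  have hsp : ξ ⤳ e.base s :=
    specializes_iff_mem_closure.mpr (hcl (mem_sectionComponent f e hef s))
  exact hsp.mem_open W.2 hes

end Main

end Groth.Agent.Lib.Helper22.GrpUnivOpen
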