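import Mathlib

set_option autoImplicit false
universe v u v' u'

open CategoryTheory CategoryTheory.Limits CategoryTheory.Pretriangulated CategoryTheory.Triangulated
open ZeroObject

namespace Groth.Agent.Lib.Helper22

variable {C : Type u} [Category.{v} C] [Preadditive C] [HasZeroObject C] [HasShift C ℤ]
  [∀ n : ℤ, (shiftFunctor C n).Additive] [Pretriangulated C] (t : TStructure C)
  {H : Type u'} [Category.{v'} H] [Preadditive H] [t.Heart H]

lemma heart_hom_shift_neg_eq_zero ⦃X Y : H⦄ ⦃n : ℤ⦄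
    (f : t.ιHeart.obj X ⟶ (t.ιHeart.obj Y)⟦n⟧) (hn : n < 0) : f = 0 := by
  have : t.IsGE ((t.ιHeart.obj Y)⟦n⟧) (-n) := t.isGE_shift (t.ιHeart.obj Y) 0 n (-n) (by lia)
  exact t.zero f 0 (-n) (by lia)

lemma heart_isClosedUnderBinaryProducts : t.heart.IsClosedUnderBinaryProducts where
  limitsOfShape_le := by
    rintro X ⟨p⟩
    have h1 := p.prop_diag_obj (.mk .left)
    have h2 := p.prop_diag_obj (.mk .right)
    rw [TStructure.mem_heart_iff] at h1 h2
    obtain ⟨h1l, h1g⟩ := h1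
    obtain ⟨h2l, h2g⟩ := h2
    have hT := binaryProductTriangle_distinguished (p.diag.obj (.mk .left)) (p.diag.obj (.mk .right))
    have hle : t.IsLE (p.diag.obj (.mk .left) ⨯ p.diag.obj (.mk .right)) 0 :=
      t.isLE₂ _ hT 0 h1l h2l
    have hge : t.IsGE (p.diag.obj (.mk .left) ⨯ p.diag.obj (.mk .right)) 0 :=
      t.isGE₂ _ hT 0 h1g h2g
    refine t.heart.prop_of_iso ?_ ((t.mem_heart_iff _).2 ⟨hle, hge⟩)
    exact IsLimit.conePointUniqueUpToIso (prodIsProd _ _)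
      ((IsLimit.postcomposeHomEquiv (diagramIsoPair p.diag) _).2 p.isLimit)

lemma heart_containsZero : t.heart.ContainsZero where
  exists_zero := ⟨0, isZero_zero C, (t.mem_heart_iff _).2 ⟨inferInstance, inferInstance⟩⟩

lemma heart_isClosedUnderFiniteProducts : t.heart.IsClosedUnderFiniteProducts := by
  have := heart_isClosedUnderBinaryProducts t
  have := heart_containsZero t
  exact .mk'

include t in
variable (H) in
lemma heart_hasFiniteProducts : HasFiniteProducts H := by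
  have := heart_isClosedUnderFiniteProducts t
  have h1 : HasFiniteProducts t.heart.FullSubcategory := inferInstance
  let F : H ⥤ t.heart.FullSubcategory := t.heart.lift t.ιHeart (fun X => t.ιHeart_obj_mem X)
  have hF : F ⋙ t.heart.ι = t.ιHeart := rfl
  have : F.Full := by
    have : (F ⋙ t.heart.ι).Full := by rw [hF]; infer_instance
    exact Functor.Full.of_comp_faithful F t.heart.ι
  have : F.Faithful := by
    have : (F ⋙ t.heart.ι).Faithful := by rw [hF]; infer_instance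
    exact Functor.Faithful.of_comp F t.heart.ι
  have : F.EssSurj := by
    refine ⟨fun ⟨Y, hY⟩ => ?_⟩
    have hY' : (t.ιHeart (H := H)).essImage Y := by
      rw [t.essImage_ιHeart H]; exact hY
    obtain ⟨X, ⟨e⟩⟩ := hY'
    exact ⟨X, ⟨t.heart.ι.preimageIso e⟩⟩
  have : F.IsEquivalence := { }
  exact ⟨fun n => Adjunction.hasLimitsOfShape_of_equivalence F⟩

variable [IsTriangulated C]

set_option backward.defeqAttrib.useBackward true in
set_option backward.isDefEq.respectTransparency false in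
lemma heart_admissible :
    AbelianSubcategory.admissibleMorphism (t.ιHeart (H := H)) = ⊤ := by
  ext X₁ X₂ f₁
  simp only [MorphismProperty.top_apply, iff_true]
  intro X₃ f₂ f₃ hT
  -- X₃ is ≤ 0 and ≥ -1
  have hle : t.IsLE X₃ 0 := by
    have h0 : t.IsLE ((t.ιHeart.obj X₁)⟦(1 : ℤ)⟧) (-1) :=
      t.isLE_shift (t.ιHeart.obj X₁) 0 1 (-1) (by lia)
    have h1 : t.IsLE ((t.ιHeart.obj X₁)⟦(1 : ℤ)⟧) 0 := t.isLE_of_le _ (-1) 0 (by lia)
    have h2 : t.IsLE (t.ιHeart.obj X₂) 0 := inferInstance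
    exact t.isLE₂ _ (rot_of_distTriang _ hT) 0 h2 h1
  have hge : t.IsGE X₃ (-1) := by
    have h1 : t.IsGE ((t.ιHeart.obj X₁)⟦(1 : ℤ)⟧) (-1) :=
      t.isGE_shift (t.ιHeart.obj X₁) 0 1 (-1) (by lia)
    have h2 : t.IsGE (t.ιHeart.obj X₂) (-1) := t.isGE_of_ge _ (-1) 0 (by lia)
    exact t.isGE₂ _ (rot_of_distTriang _ hT) (-1) h2 h1
  have hTr := t.triangleLTGE_distinguished 0 X₃
  -- K
  have hK1 : t.IsLE (((t.truncLT 0).obj X₃)⟦(-1 : ℤ)⟧) 0 := by
    have : t.IsLE ((t.truncLT 0).obj X₃) (-1) := t.isLE_truncLT_obj X₃ 0 (-1) (by lia)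
    exact t.isLE_shift _ (-1) (-1) 0 (by lia)
  have hK2 : t.IsGE (((t.truncLT 0).obj X₃)⟦(-1 : ℤ)⟧) 0 := by
    have : t.IsGE ((t.truncLT 0).obj X₃) (-1) := inferInstance
    exact t.isGE_shift _ (-1) (-1) 0 (by lia)
  have hK : (t.ιHeart (H := H)).essImage (((t.truncLT 0).obj X₃)⟦(-1 : ℤ)⟧) := by
    rw [t.essImage_ιHeart H]
    exact (t.mem_heart_iff _).2 ⟨hK1, hK2⟩
  have hQ : (t.ιHeart (H := H)).essImage ((t.truncGE 0).obj X₃) := by
    rw [t.essImage_ιHeart H]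
    exact (t.mem_heart_iff _).2 ⟨inferInstance, inferInstance⟩
  obtain ⟨K, ⟨eK⟩⟩ := hK
  obtain ⟨Q, ⟨eQ⟩⟩ := hQ
  let eK' : (t.ιHeart.obj K)⟦(1 : ℤ)⟧ ≅ (t.truncLT 0).obj X₃ :=
    (shiftFunctor C (1 : ℤ)).mapIso eK ≪≫ (shiftEquiv C (1 : ℤ)).counitIso.app _
  refine ⟨K, Q, eK'.hom ≫ (t.truncLTι 0).app X₃, (t.truncGEπ 0).app X₃ ≫ eQ.inv,
    eQ.hom ≫ (t.truncGEδLT 0).app X₃ ≫ eK'.inv⟦(1 : ℤ)⟧', ?_⟩
  refine isomorphic_distinguished _ hTr _ ?_
  refine Triangle.isoMk _ _ eK' (Iso.refl _) eQ ?_ ?_ ?_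
  · simp
  · simp
  · simp [← Functor.map_comp]

/-- The abelian category structure on the heart. -/
noncomputable def heartAbelian : Abelian H :=
  have := heart_hasFiniteProducts t H
  AbelianSubcategory.abelian t.ιHeart (heart_hom_shift_neg_eq_zero t) (heart_admissible t)

end Groth.Agent.Lib.Helper22
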