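import Groth.Agent.Lib.Lead.Inv2
import Groth.Agent.Lib.Helper2.KerSec
import Groth.Agent.Lib.Helper2.FreeModAff
import Groth.Prelude.Def_ClSub2
import Groth.Prelude.Def_BlowUp2
import Groth.Prelude.Def_Pic

/-! helper22: sections of the frozen ideal module `ClSub.idealMod I` on affine opens; invertible iff effective Cartier. -/

set_option autoImplicit false
set_option linter.style.haveILetI false
universe u

open AlgebraicGeometry CategoryTheory Opposite TopologicalSpace CategoryTheory.Limits

namespace Groth.Agent.Lib.Helper22.IdealModAff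

open Scheme.Modules Groth.Agent.Lib.Helper2.KerSec Groth.Agent.Lib.Lead.QCohAff
  Groth.Agent.Lib.Lead.Inv

variable {X : Scheme.{u}} (I : X.IdealSheafData)

/-- The inclusion of the sections of the ideal module into the ring of functions. -/
noncomputable def incl (W : X.Opens) : Γ(ClSub.idealMod I, W) →ₗ[Γ(X, W)] Γ(X, W) where
  toFun x := (kernel.ι (ClSub.toSubscheme I)).app W x
  map_add' x y := map_add _ x y
  map_smul' c x := Scheme.Modules.Hom.app_smul _ c x

theorem incl_injective (W : X.Opens) : Function.Injective (incl I W) :=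
  app_kernelι_injective (ClSub.toSubscheme I) W

theorem mem_ideal_iff (U : X.affineOpens) (a : Γ(X, U.1)) :
    a ∈ I.ideal U ↔ ∃ t : Γ(ClSub.idealMod I, U.1), incl I U.1 t = a := by
  rw [← Scheme.IdealSheafData.ker_subschemeι_app, RingHom.mem_ker]
  constructor
  · intro h
    exact exists_of_app_eq_zero (ClSub.toSubscheme I) U.1 a h
  · rintro ⟨t, rfl⟩
    exact app_kernelι_comp (ClSub.toSubscheme I) U.1 t

theorem structureModule_isQuasicoherent (Y : Scheme.{u}) :
    (Coh.structureModule Y).IsQuasicoherent := by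
  have h : (SheafOfModules.free (R := Y.ringCatSheaf) PUnit.{u+1}).IsQuasicoherent := inferInstance
  exact ObjectProperty.prop_of_iso (SheafOfModules.isQuasicoherent Y.ringCatSheaf)
    (coproductUniqueIso (fun _ : PUnit.{u+1} => SheafOfModules.unit Y.ringCatSheaf)) h

instance isQuasicoherent_idealMod : (ClSub.idealMod I).IsQuasicoherent := by
  unfold ClSub.idealMod
  haveI : (Coh.structureModule X).IsQuasicoherent := structureModule_isQuasicoherent X
  haveI : (Coh.structureModule I.subscheme).IsQuasicoherent :=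
    structureModule_isQuasicoherent I.subscheme
  haveI : ((Scheme.Modules.pushforward I.subschemeι).obj
      (Coh.structureModule I.subscheme)).IsQuasicoherent := inferInstance
  exact isQuasicoherent_kernel _

/-- invertible ⟹ effective Cartier -/
theorem isEffCartierIdeal_of_isInvertible (h : PicF.IsInvertible (ClSub.idealMod I)) :
    BlowUp.IsEffCartierIdeal I := by
  rw [isInvertible_iff_exists_isGen] at h
  intro x
  obtain ⟨U, hxU, e, he⟩ := h x
  obtain ⟨V, hV, hxV, hVU⟩ := exists_isAffineOpen_mem_and_subset (X := X) (x := x) (U := U) hxU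
  have hVU' : V ≤ U := hVU
  have he' := he.res hVU'
  generalize (ClSub.idealMod I).presheaf.map (homOfLE hVU').op e = e' at he'
  have hbij : Function.Bijective (fun r : Γ(X, V) => r • e') := by
    have h0 := he' V le_rfl
    have hfun : (fun r : Γ(X, V) => r • (ClSub.idealMod I).presheaf.map
        (homOfLE (le_refl V)).op e') = fun r : Γ(X, V) => r • e' := by
      funext r
      rw [res_self]
    rw [← hfun]
    exact h0
  refine ⟨⟨V, hV⟩, hxV, incl I V e', ?_, ?_⟩
  · rw [mem_nonZeroDivisors_iff_right]
    intro r hr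
    have h1 : incl I V (r • e') = 0 := by rw [_root_.map_smul]; exact hr
    have h2 : r • e' = 0 := incl_injective I V (h1.trans (map_zero _).symm)
    have h3 : (0 : Γ(X, V)) • e' = 0 := zero_smul _ _
    exact hbij.1 (h2.trans h3.symm)
  · ext a
    rw [mem_ideal_iff, Ideal.mem_span_singleton']
    constructor
    · rintro ⟨t, rfl⟩
      obtain ⟨r, rfl⟩ := hbij.2 t
      exact ⟨r, ((incl I V).map_smul r e').symm⟩
    · rintro ⟨r, rfl⟩
      exact ⟨r • e', (incl I V).map_smul r e'⟩

/-- effective Cartier ⟹ invertible -/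
theorem isInvertible_of_isEffCartierIdeal (h : BlowUp.IsEffCartierIdeal I) :
    PicF.IsInvertible (ClSub.idealMod I) := by
  intro x
  obtain ⟨U, hxU, f, hf, hI⟩ := h x
  refine ⟨U.1, hxU, ?_⟩
  have hfI : f ∈ I.ideal U := by rw [hI]; exact Ideal.mem_span_singleton_self f
  obtain ⟨e, he⟩ := (mem_ideal_iff I U f).1 hfI
  let φ : Γ(X, U.1) →ₗ[Γ(X, U.1)] Γ(ClSub.idealMod I, U.1) := LinearMap.toSpanSingleton _ _ e
  have hφ : Function.Bijective φ := by
    constructor
    · rw [injective_iff_map_eq_zero]
      intro r hr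
      have h1 : r * f = 0 := by
        have h2 := congrArg (incl I U.1) hr
        rw [LinearMap.toSpanSingleton_apply, _root_.map_smul, he, map_zero] at h2
        exact h2
      exact (mem_nonZeroDivisors_iff_right.1 hf) r h1
    · intro m
      have hm : incl I U.1 m ∈ I.ideal U := (mem_ideal_iff I U _).2 ⟨m, rfl⟩
      rw [hI, Ideal.mem_span_singleton'] at hm
      obtain ⟨r, hr⟩ := hm
      refine ⟨r, incl_injective I U.1 ?_⟩
      rw [LinearMap.toSpanSingleton_apply, _root_.map_smul, he]
      exact hr
  let ψ := LinearEquiv.ofBijective φ hφ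
  obtain ⟨ε⟩ := (Groth.Agent.Lib.Helper2.FreeModAff.nonempty_iso_freeMod_iff (ClSub.idealMod I) U.2 1).2
    ⟨ψ.symm ≪≫ₗ (LinearEquiv.funUnique (Fin 1) Γ(X, U.1) Γ(X, U.1)).symm⟩
  exact ⟨ε ≪≫ coproductUniqueIso _⟩

theorem isInvertible_idealMod_iff :
    PicF.IsInvertible (ClSub.idealMod I) ↔ BlowUp.IsEffCartierIdeal I :=
  ⟨isEffCartierIdeal_of_isInvertible I, isInvertible_of_isEffCartierIdeal I⟩

end Groth.Agent.Lib.Helper22.IdealModAff
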