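import Groth.Agent.Lib.Helper72.FibDimIrr
import Groth.Agent.Lib.Helper73.DimFormula.EquidimAt
import Groth.Agent.Lib.Helper73.DimFormula.OpenFT

/-!
# Section components of fibres (EGA IV 15.6) (helper22)

For `f : X ⟶ Y` lft with a section `g`, `X⁰_y` = connected component of `f⁻¹(y)` containing `g y`,
assumed irreducible.
* `dim_image_eq` (dimension of image under embedding), `exists_generic_connectedComponentIn`.
* `exists_generic_sectionComponent`, `upperSemicontinuous_dim_sectionComponent`,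
  `subset_closure_sectionComponent` (S3419).
-/

set_option autoImplicit false
set_option linter.style.haveILetI false
open CategoryTheory AlgebraicGeometry TopologicalSpace Topology Limits
universe u

namespace Groth.Agent.Lib.Helper22.SecComp

open Groth.Agent.Lib.Helper73 Groth.Agent.Lib.Helper72.FibDim Groth.Agent.Lib.Helper72.FibDimIrr

/-- The dimension of the image of a subset under an embedding. -/
theorem dim_image_eq {A B : Type*} [TopologicalSpace A] [TopologicalSpace B] (e : A → B)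
    (he : IsEmbedding e) (S : Set A) :
    topologicalKrullDim ↥(e '' S) = topologicalKrullDim ↥S := by
  let φ : ↥S ≃ ↥(e '' S) := Equiv.Set.image e S he.injective
  have hφ : IsInducing φ := by
    have h1 : IsInducing ((Subtype.val : ↥(e '' S) → B) ∘ φ) := by
      have : (Subtype.val : ↥(e '' S) → B) ∘ φ = e ∘ (Subtype.val : ↥S → A) := by
        ext s; rfl
      rw [this]
      exact he.isInducing.comp IsInducing.subtypeVal
    exact (IsInducing.subtypeVal.of_comp_iff).mp h1
  exact (IsHomeomorph.topologicalKrullDim_eq φ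
    (φ.toHomeomorphOfIsInducing hφ).isHomeomorph).symm

section Top

variable {T : Type*} [TopologicalSpace T] (F : Set T) [QuasiSober ↥F] {δ : ↥F → ℕ}
  (hδ : IsDimFun δ)

include hδ in
/-- Structure of an irreducible connected component of a subspace carrying a dimension
function. -/
theorem exists_generic_connectedComponentIn (x₀ : T) (hx₀ : x₀ ∈ F)
    (hirr : IsIrreducible (connectedComponentIn F x₀)) :
    ∃ (ξ : T) (hξ : ξ ∈ F), ξ ∈ connectedComponentIn F x₀ ∧
      (∀ x ∈ connectedComponentIn F x₀, ξ ⤳ x) ∧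
      (∀ t ∈ F, ∀ x ∈ connectedComponentIn F x₀, t ⤳ x → t ∈ connectedComponentIn F x₀) ∧
      topologicalKrullDim ↥(connectedComponentIn F x₀) = ((δ ⟨ξ, hξ⟩ : ℕ∞) : WithBot ℕ∞) := by
  have hC := connectedComponentIn_eq_image hx₀
  set K : Set ↥F := connectedComponent (⟨x₀, hx₀⟩ : ↥F) with hK
  have hKc : IsClosed K := isClosed_connectedComponent
  have hKi : IsIrreducible K := by
    refine ⟨⟨⟨x₀, hx₀⟩, mem_connectedComponent⟩, ?_⟩
    have h1 := Groth.Agent.Lib.Helper84.isPreirreducible_preimage_val F _ hirr.2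
      (connectedComponentIn_subset F x₀)
    have h2 : (Subtype.val : ↥F → T) ⁻¹' connectedComponentIn F x₀ = K := by
      rw [hC, Set.preimage_image_eq _ Subtype.val_injective]
    rwa [h2] at h1
  obtain ⟨ξ', hξ'⟩ := QuasiSober.sober hKi hKc
  have hξ'K : closure {ξ'} = K := hξ'.def
  have hmemK : ∀ x : T, x ∈ connectedComponentIn F x₀ ↔ ∃ h : x ∈ F, (⟨x, h⟩ : ↥F) ∈ K := by
    intro x
    rw [hC]
    constructor
    · rintro ⟨k, hk, rfl⟩; exact ⟨k.2, hk⟩
    · rintro ⟨h, hk⟩; exact ⟨⟨x, h⟩, hk, rfl⟩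
  refine ⟨ξ'.1, ξ'.2, ?_, ?_, ?_, ?_⟩
  · rw [hmemK]; exact ⟨ξ'.2, by rw [← hξ'K]; exact subset_closure rfl⟩
  · intro x hx
    obtain ⟨h, hk⟩ := (hmemK x).1 hx
    rw [← hξ'K] at hk
    exact (specializes_iff_mem_closure.mpr hk : ξ' ⤳ ⟨x, h⟩).map continuous_subtype_val
  · intro t ht x hx htx
    obtain ⟨h, hk⟩ := (hmemK x).1 hx
    rw [hmemK]
    refine ⟨ht, ?_⟩
    have h1 : (⟨t, ht⟩ : ↥F) ⤳ ⟨x, h⟩ := IsInducing.subtypeVal.specializes_iff.mp htx
    have h2 : IsPreconnected (closure ({(⟨t, ht⟩ : ↥F)} : Set ↥F)) :=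
      isIrreducible_singleton.closure.isConnected.isPreconnected
    have h3 := h2.subset_connectedComponent (specializes_iff_mem_closure.mp h1)
    rw [← connectedComponent_eq hk] at h3
    exact h3 (subset_closure rfl)
  · rw [hC, dim_image_eq _ IsEmbedding.subtypeVal, ← hξ'K]
    exact hδ.topologicalKrullDim_closure_singleton ξ'

end Top


section Scheme

variable {X Y : Scheme.{u}} (f : X ⟶ Y) [LocallyOfFiniteType f] (g : Y ⟶ X)

omit [LocallyOfFiniteType f] in
theorem apply_section (hg : g ≫ f = 𝟙 Y) (y : Y) : f.base (g.base y) = y := by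
  have := congrArg (fun φ : Y ⟶ Y => φ.base y) hg
  simpa using this

/-- The generic point of the (irreducible) section component of a fibre. -/
theorem exists_generic_sectionComponent (hg : g ≫ f = 𝟙 Y) (y : Y)
    (hirr : IsIrreducible (connectedComponentIn (f.base ⁻¹' {y}) (g.base y))) :
    ∃ ξ : X, f.base ξ = y ∧ ξ ∈ connectedComponentIn (f.base ⁻¹' {y}) (g.base y) ∧
      (∀ x ∈ connectedComponentIn (f.base ⁻¹' {y}) (g.base y), ξ ⤳ x) ∧
      (∀ t : X, f.base t = y → ∀ x ∈ connectedComponentIn (f.base ⁻¹' {y}) (g.base y), t ⤳ x →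
        t ∈ connectedComponentIn (f.base ⁻¹' {y}) (g.base y)) ∧
      topologicalKrullDim ↥(connectedComponentIn (f.base ⁻¹' {y}) (g.base y)) =
        ((resTrdegNat f ξ : ℕ∞) : WithBot ℕ∞) := by
  have hgy : g.base y ∈ f.base ⁻¹' {y} := by
    change f.base (g.base y) = y
    have := congrArg (fun φ : Y ⟶ Y => φ.base y) hg
    simpa using this
  haveI := quasiSober_fibre f y
  obtain ⟨ξ, hξF, hξC, h1, h2, h3⟩ := exists_generic_connectedComponentIn (f.base ⁻¹' {y})
    (isDimFun_fibre f y) (g.base y) hgy hirr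
  exact ⟨ξ, hξF, hξC, h1, fun t ht x hx htx => h2 t ht x hx htx, h3⟩

omit [LocallyOfFiniteType f] in
theorem mem_sectionComponent (hg : g ≫ f = 𝟙 Y) (y : Y) :
    g.base y ∈ connectedComponentIn (f.base ⁻¹' {y}) (g.base y) := by
  apply mem_connectedComponentIn
  change f.base (g.base y) = y
  have := congrArg (fun φ : Y ⟶ Y => φ.base y) hg
  simpa using this

theorem upperSemicontinuous_dim_sectionComponent (hg : g ≫ f = 𝟙 Y)
    (hirr : ∀ y : Y, IsIrreducible (connectedComponentIn (f.base ⁻¹' {y}) (g.base y))) :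
    UpperSemicontinuous (fun y : Y =>
      topologicalKrullDim ↥(connectedComponentIn (f.base ⁻¹' {y}) (g.base y))) := by
  intro y c hc
  obtain ⟨ξ, hξy, hξC, hsp, hgen, hdim⟩ := exists_generic_sectionComponent f g hg y (hirr y)
  -- fibre dimension at g y
  have hgy : f.base (g.base y) = y := apply_section f g hg y
  have hfd : FlatMor.fibreDimAt f (g.base y) ≤ ((resTrdegNat f ξ : ℕ) : WithBot ℕ∞) := by
    refine fibreDimAt_le_of_forall_generization f (g.base y) _ fun η hη hfη => ?_
    have hηy : f.base η = y := hfη.trans hgy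
    have hηC := hgen η hηy (g.base y) (mem_sectionComponent f g hg y) hη
    have h1 := hsp η hηC
    by_cases hne : ξ = η
    · rw [hne]
    · exact (resTrdegNat_lt_of_specializes_fiber f η ξ h1 (hξy.trans hηy.symm) hne).le
  have hopen := isOpen_fibreDimAt_lt f (resTrdegNat f ξ + 1)
  have hmem : g.base y ∈ {x : X | FlatMor.fibreDimAt f x <
      ((resTrdegNat f ξ + 1 : ℕ) : WithBot ℕ∞)} := by
    refine lt_of_le_of_lt hfd ?_
    exact_mod_cast Nat.lt_succ_self _
  have hV : g.base ⁻¹' {x : X | FlatMor.fibreDimAt f x <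
      ((resTrdegNat f ξ + 1 : ℕ) : WithBot ℕ∞)} ∈ nhds y :=
    (hopen.preimage g.continuous).mem_nhds hmem
  filter_upwards [hV] with z hz
  obtain ⟨ξz, hξzy, hξzC, hspz, -, hdimz⟩ := exists_generic_sectionComponent f g hg z (hirr z)
  have hgz : f.base (g.base z) = z := apply_section f g hg z
  have h1 := resTrdegNat_le_fibreDimAt_of_specializes f (g.base z) ξz
    (hspz _ (mem_sectionComponent f g hg z)) (hξzy.trans hgz.symm)
  have h2 : ((resTrdegNat f ξz : ℕ) : WithBot ℕ∞) < ((resTrdegNat f ξ + 1 : ℕ) : WithBot ℕ∞) :=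
    lt_of_le_of_lt h1 hz
  have h3 : resTrdegNat f ξz ≤ resTrdegNat f ξ := by
    have : resTrdegNat f ξz < resTrdegNat f ξ + 1 := by exact_mod_cast h2
    omega
  change topologicalKrullDim ↥(connectedComponentIn (f.base ⁻¹' {z}) (g.base z)) < c
  rw [hdimz]
  have hc' : ((resTrdegNat f ξ : ℕ∞) : WithBot ℕ∞) < c := by
    rw [← hdim]; exact hc
  refine lt_of_le_of_lt ?_ hc'
  exact_mod_cast h3

theorem subset_closure_sectionComponent (hg : g ≫ f = 𝟙 Y)
    (hirr : ∀ y : Y, IsIrreducible (connectedComponentIn (f.base ⁻¹' {y}) (g.base y)))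
    (y y' : Y) (hyy' : y' ⤳ y)
    (hdimeq : topologicalKrullDim ↥(connectedComponentIn (f.base ⁻¹' {y'}) (g.base y')) =
      topologicalKrullDim ↥(connectedComponentIn (f.base ⁻¹' {y}) (g.base y))) :
    connectedComponentIn (f.base ⁻¹' {y}) (g.base y) ⊆
      closure (connectedComponentIn (f.base ⁻¹' {y'}) (g.base y')) := by
  obtain ⟨ξ, hξy, hξC, hsp, hgen, hdim⟩ := exists_generic_sectionComponent f g hg y (hirr y)
  obtain ⟨ξ', hξ'y, hξ'C, hsp', -, hdim'⟩ := exists_generic_sectionComponent f g hg y' (hirr y')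
  have hn : resTrdegNat f ξ' = resTrdegNat f ξ := by
    rw [hdim, hdim'] at hdimeq
    exact_mod_cast hdimeq
  -- ξ' ⤳ g y' ⤳ g y
  have h1 : ξ' ⤳ g.base y := (hsp' _ (mem_sectionComponent f g hg y')).trans
    (hyy'.map g.continuous)
  obtain ⟨t, hξ't, htgy, hft, hle⟩ := exists_generization_resTrdegNat_ge f ξ' (g.base y) h1
  have hgy : f.base (g.base y) = y := apply_section f g hg y
  have hty : f.base t = y := hft.trans hgy
  have htC := hgen t hty (g.base y) (mem_sectionComponent f g hg y) htgy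
  have hξt : ξ ⤳ t := hsp t htC
  have htξ : t = ξ := by
    by_contra hne
    have := resTrdegNat_lt_of_specializes_fiber f t ξ hξt (hξy.trans hty.symm) (Ne.symm hne)
    omega
  subst htξ
  intro x hx
  have h2 : ξ' ⤳ x := hξ't.trans (hsp x hx)
  exact closure_mono (Set.singleton_subset_iff.mpr hξ'C) (specializes_iff_mem_closure.mp h2)

end Scheme

end Groth.Agent.Lib.Helper22.SecComp
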