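import Groth.Agent.Lib.Helper22.ValTrdegSch
import Groth.Agent.Lib.Helper22.SectionComp
import Groth.Agent.Lib.Helper73.DimFormula.ProductDim
import Groth.Agent.Lib.Helper72.FibDim
import Groth.Agent.Lib.Helper12.Subtr
import Groth.Agent.Lib.Helper41.QCClosure
import Groth.Agent.S3404

/-!
# Lower semicontinuity of the dimension of closures of images in fibres (helper22, EGA IV 14.3)

* `exists_lift_resTrdegNat_eq`: in `X ×_Y Y'`, a point over `(x, y')` with the same residual
  transcendence degree as `x`.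
* `mem_closure_fibre_of_isPullback`: closures inside fibres lift along base change (the map of
  fibres is open).
* `exists_generization_of_isOpenMap`: open morphisms of schemes are generalizing (via `S3404`).
* `exists_specializes_of_mem_closure_fibre`: closure of a subset of a fibre over a point with
  quasi-compact `Spec κ(η) ⟶ Y`.
* `dim_fibre_inter_closed_eq_iSup`, `dim_closure_images_le_of_specializes` (`S4972`).
-/
set_option autoImplicit false
set_option linter.style.haveILetI false
open CategoryTheory AlgebraicGeometry TopologicalSpace Topology Limits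
universe u

namespace Groth.Agent.Lib.Helper22.ImgDim

open Groth.Agent.Lib.Helper73 Groth.Agent.Lib.Helper72.FibDim

/-- L1: in a pullback square, a point of `X` and a point of `Y'` over the same point of `Y` have a
common lift with the same residual transcendence degree. -/
theorem exists_lift_resTrdegNat_eq {X Y Y' : Scheme.{u}} (f : X ⟶ Y) [LocallyOfFiniteType f]
    (g : Y' ⟶ Y) (x : X) (y' : Y') (h : f x = g y') :
    ∃ x' : ↥(pullback f g), pullback.fst f g x' = x ∧ pullback.snd f g x' = y' ∧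
      resTrdegNat (pullback.snd f g) x' = resTrdegNat f x := by
  set p := pullback.fst f g with hp
  set f' := pullback.snd f g with hf'
  have hsq : IsPullback p f' f g := IsPullback.of_hasPullback f g
  let I := Scheme.IdealSheafData.vanishingIdeal ⟨closure ({x} : Set X), isClosed_closure⟩
  let i : I.subscheme ⟶ X := I.subschemeι
  have hrange : Set.range i = closure ({x} : Set X) := by
    rw [Scheme.IdealSheafData.range_subschemeι]
    exact Scheme.IdealSheafData.coe_support_vanishingIdeal _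
  obtain ⟨x₀, hx₀⟩ : x ∈ Set.range i := by rw [hrange]; exact subset_closure rfl
  have hgen : ∀ t : I.subscheme, x₀ ⤳ t := by
    intro t
    rw [← i.isEmbedding.isInducing.specializes_iff, hx₀]
    have : i t ∈ closure ({x} : Set X) := hrange ▸ ⟨t, rfl⟩
    exact specializes_iff_mem_closure.mpr this
  have hsq₀ : IsPullback (pullback.fst i p) (pullback.snd i p) i p := IsPullback.of_hasPullback i p
  have hpaste := hsq₀.paste_vert hsq
  obtain ⟨x'₁, hx'₁p, hx'₁f⟩ := Scheme.Pullback.exists_preimage_pullback (f := f) (g := g) x y' h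
  obtain ⟨w₁, hw₁a, hw₁b⟩ := Scheme.Pullback.exists_preimage_pullback (f := i) (g := p) x₀ x'₁
    (hx₀.trans hx'₁p.symm)
  obtain ⟨w, hww₁, hwf, hwmax⟩ := exists_maximal_fiber_specializes (pullback.snd i p ≫ f') w₁
  have hfstw : pullback.fst i p w = x₀ := by
    have h1 : pullback.fst i p w ⤳ x₀ := by
      rw [← hw₁a]; exact hww₁.map (pullback.fst i p).continuous
    have h2 := hgen (pullback.fst i p w)
    haveI : T0Space I.subscheme := inferInstance
    exact (h1.antisymm h2).eq
  have h2 := (resTrdegNat_eq_of_isPullback_of_maximal (i ≫ f) g (pullback.fst i p)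
    (pullback.snd i p ≫ f') hpaste w hwmax).1
  rw [resTrdegNat_comp_of_isPreimmersion, resTrdegNat_comp_of_isPreimmersion, hfstw, hx₀] at h2
  refine ⟨pullback.snd i p w, ?_, ?_, h2⟩
  · have := congrArg (fun φ => φ.base w) hsq₀.w
    simp only [Scheme.Hom.comp_base, TopCat.hom_comp, ContinuousMap.comp_apply] at this
    rw [← this, hfstw, hx₀]
  · have h3 : (pullback.snd i p ≫ f') w = (pullback.snd i p ≫ f') w₁ := hwf
    simp only [Scheme.Hom.comp_base, TopCat.hom_comp, ContinuousMap.comp_apply] at h3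
    rw [h3, hw₁b, hx'₁f]

/-- L4: closure in a fibre lifts along the (open) map of fibres of a base change. -/
theorem mem_closure_fibre_of_isPullback {X Y X' Y' : Scheme.{u}} (f : X ⟶ Y) (g : Y' ⟶ Y)
    (p : X' ⟶ X) (f' : X' ⟶ Y') (hsq : IsPullback p f' f g) (y' : Y') (B : Set X)
    (x' : X') (hx' : f' x' = y') (hcl : p x' ∈ closure (B ∩ f ⁻¹' {g y'})) :
    x' ∈ closure (p ⁻¹' B ∩ f' ⁻¹' {y'}) := by
  set ρ := fiberMapOfIsPullback f g p f' hsq y' with hρ
  have hP := isPullback_fiberToSpecResidueField_of_isPullback hsq y'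
  have hρo : UniversallyOpen ρ :=
    universallyOpen_of_isPullback_field (k := Y.residueField (g y'))
      (K := Y'.residueField y') (g.residueFieldMap y').hom
      (f.fiberToSpecResidueField (g y')) (f'.fiberToSpecResidueField y') ρ hP
  have hcomm : ∀ a, f.fiberι (g y') (ρ a) = p (f'.fiberι y' a) := by
    intro a
    have := congrArg (fun φ => φ.base a) (fiberMapOfIsPullback_fiberι f g p f' hsq y')
    simpa only [Scheme.Hom.comp_base, TopCat.hom_comp, ContinuousMap.comp_apply] using this
  obtain ⟨a, ha⟩ : x' ∈ Set.range (f'.fiberι y') := by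
    rw [f'.range_fiberι y']; exact hx'
  rw [mem_closure_iff]
  intro U hU hxU
  have hU' : IsOpen ((f'.fiberι y') ⁻¹' U) := hU.preimage (f'.fiberι y').continuous
  have hρU : IsOpen (ρ '' ((f'.fiberι y') ⁻¹' U)) := ρ.isOpenMap _ hU'
  obtain ⟨V, hV, hVeq⟩ := (f.fiberι (g y')).isEmbedding.isInducing.isOpen_iff.mp hρU
  have hzV : p x' ∈ V := by
    have : ρ a ∈ (f.fiberι (g y')) ⁻¹' V := by
      rw [hVeq]; exact ⟨a, by simpa [ha] using hxU, rfl⟩
    have h2 : f.fiberι (g y') (ρ a) ∈ V := this
    rwa [hcomm a, ha] at h2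
  obtain ⟨b, hbV, hbB, hbF⟩ := mem_closure_iff.mp hcl V hV hzV
  obtain ⟨c, hc⟩ : b ∈ Set.range (f.fiberι (g y')) := by
    rw [f.range_fiberι (g y')]; exact hbF
  have hcV : c ∈ (f.fiberι (g y')) ⁻¹' V := by
    change f.fiberι (g y') c ∈ V; rw [hc]; exact hbV
  rw [hVeq] at hcV
  obtain ⟨u, huU, huc⟩ := hcV
  refine ⟨f'.fiberι y' u, huU, ?_, ?_⟩
  · change p (f'.fiberι y' u) ∈ B
    rw [← hcomm u, huc, hc]; exact hbB
  · have : f'.fiberι y' u ∈ Set.range (f'.fiberι y') := ⟨u, rfl⟩
    rw [f'.range_fiberι y'] at this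
    exact this

/-- L2: an open morphism of schemes is generalizing (via `S3404`). -/
theorem exists_generization_of_isOpenMap {X Y : Scheme.{u}} (f : X ⟶ Y) (hf : IsOpenMap f.base)
    (x : X) (y' : Y) (h : y' ⤳ f.base x) : ∃ x' : X, x' ⤳ x ∧ f.base x' = y' := by
  refine (Groth.Agent.S3404.result f x).1 ?_ y' h
  intro U hU
  obtain ⟨W, hWU, hW, hxW⟩ := mem_nhds_iff.mp hU
  exact mem_nhds_iff.mpr ⟨f.base '' W, Set.image_mono hWU, hf W hW, ⟨x, hxW, rfl⟩⟩

set_option backward.isDefEq.respectTransparency false in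
/-- L3: closure of a subset of a fibre over a point with quasi-compact residue field inclusion:
every point of the closure is a specialization of a point of the closure lying in the fibre. -/
theorem exists_specializes_of_mem_closure_fibre {X Y : Scheme.{u}} (q : X ⟶ Y) (η : Y)
    [QuasiCompact (Y.fromSpecResidueField η)] (E : Set X) (hE : E ⊆ q ⁻¹' {η}) (x : X)
    (hx : x ∈ closure E) : ∃ x' : X, x' ∈ closure E ∧ q x' = η ∧ x' ⤳ x := by
  let I := Scheme.IdealSheafData.vanishingIdeal ⟨closure E, isClosed_closure⟩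
  let i : I.subscheme ⟶ X := I.subschemeι
  have hrange : Set.range i = closure E := by
    rw [Scheme.IdealSheafData.range_subschemeι]
    exact Scheme.IdealSheafData.coe_support_vanishingIdeal _
  let k : (i ≫ q).fiber η ⟶ X := (i ≫ q).fiberι η ≫ i
  have hk : E ⊆ Set.range k := by
    intro e he
    obtain ⟨t, ht⟩ : e ∈ Set.range i := by rw [hrange]; exact subset_closure he
    have : t ∈ Set.range ((i ≫ q).fiberι η) := by
      rw [(i ≫ q).range_fiberι η]
      change (i ≫ q) t = η
      simp only [Scheme.Hom.comp_base, TopCat.hom_comp, ContinuousMap.comp_apply]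
      rw [ht]; exact hE he
    obtain ⟨a, ha⟩ := this
    exact ⟨a, by simp only [k, Scheme.Hom.comp_base, TopCat.hom_comp, ContinuousMap.comp_apply]; rw [ha, ht]⟩
  have hx2 : x ∈ closure (Set.range k.base) := closure_mono hk hx
  haveI : QuasiCompact ((i ≫ q).fiberι η) := by
    unfold Scheme.Hom.fiberι
    infer_instance
  haveI : QuasiCompact k := by
    change QuasiCompact ((i ≫ q).fiberι η ≫ i)
    infer_instance
  obtain ⟨a, ha⟩ := Groth.Agent.Lib.Helper41.exists_specializes_of_mem_closure_range k x hx2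
  refine ⟨k a, ?_, ?_, ha⟩
  · rw [← hrange]; exact ⟨(i ≫ q).fiberι η a, rfl⟩
  · have : (i ≫ q).fiberι η a ∈ Set.range ((i ≫ q).fiberι η) := ⟨a, rfl⟩
    rw [(i ≫ q).range_fiberι η] at this
    have h2 : (i ≫ q) ((i ≫ q).fiberι η a) = η := this
    simpa only [k, Scheme.Hom.comp_base, TopCat.hom_comp, ContinuousMap.comp_apply] using h2

set_option backward.isDefEq.respectTransparency false in
/-- Main step for EGA IV 14.3-type lower semicontinuity. -/
theorem exists_generization_point {X S : Scheme.{u}} (f : X ⟶ S) [LocallyOfFiniteType f]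
    {ι : Type u} (Y : ι → Scheme.{u}) (g : ∀ i, Y i ⟶ S) [∀ i, UniversallyOpen (g i)]
    (v : ∀ i, Y i ⟶ X) (hv : ∀ i, v i ≫ f = g i) (s s' : S) (hs : s' ⤳ s) (z : X)
    (hz : f.base z = s)
    (hzc : z ∈ closure ((⋃ i, Set.range (v i).base) ∩ f.base ⁻¹' {s})) :
    ∃ z' : X, f.base z' = s' ∧
      z' ∈ closure ((⋃ i, Set.range (v i).base) ∩ f.base ⁻¹' {s'}) ∧
      resTrdegNat f z ≤ resTrdegNat f z' := by
  obtain ⟨R, _, _, _, φ, hφc, hφg⟩ :=
    Groth.Agent.Lib.Helper12.exists_valuationRing_of_specializes hs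
  subst hφc hφg
  set T : Set X := ⋃ i, Set.range (v i).base with hT
  set p := pullback.fst f φ with hp
  set q := pullback.snd f φ with hq
  have hsq : IsPullback p q f φ := IsPullback.of_hasPullback f φ
  haveI : LocallyOfFiniteType q := MorphismProperty.of_isPullback hsq inferInstance
  set m : ↥(Spec (CommRingCat.of R)) := IsLocalRing.closedPoint R with hm
  set η : ↥(Spec (CommRingCat.of R)) := (⟨⊥, Ideal.isPrime_bot⟩ : PrimeSpectrum R) with hη
  have hηm : η ⤳ m := (PrimeSpectrum.le_iff_specializes η m).1 bot_le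
  -- L1
  obtain ⟨zR, hzRp, hzRq, hzRt⟩ := exists_lift_resTrdegNat_eq f φ z m hz
  -- L4
  have h4 : zR ∈ closure (p ⁻¹' T ∩ q ⁻¹' {m}) :=
    mem_closure_fibre_of_isPullback f φ p q hsq m T zR hzRq (by rw [hzRp]; exact hzc)
  -- step 5
  have h5 : p ⁻¹' T ∩ q ⁻¹' {m} ⊆ closure (p ⁻¹' T ∩ q ⁻¹' {η}) := by
    rintro w ⟨hwT, hwm⟩
    obtain ⟨i, y, hy⟩ : ∃ i, ∃ y, (v i).base y = p w := by
      have : p w ∈ T := hwT
      rw [hT, Set.mem_iUnion] at this
      obtain ⟨i, y, hy⟩ := this
      exact ⟨i, y, hy⟩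
    obtain ⟨b, hb1, hb2⟩ := Scheme.Pullback.exists_preimage_pullback (f := v i) (g := p) y w hy
    have hsq₀ : IsPullback (pullback.fst (v i) p) (pullback.snd (v i) p) (v i) p :=
      IsPullback.of_hasPullback _ _
    have hpaste := hsq₀.paste_vert hsq
    rw [hv i] at hpaste
    haveI hopen : UniversallyOpen (pullback.snd (v i) p ≫ q) :=
      MorphismProperty.of_isPullback hpaste inferInstance
    have hb3 : (pullback.snd (v i) p ≫ q).base b = m := by
      simp only [Scheme.Hom.comp_base, TopCat.hom_comp, ContinuousMap.comp_apply]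
      rw [hb2]; exact hwm
    obtain ⟨b', hb'b, hb'η⟩ := exists_generization_of_isOpenMap (pullback.snd (v i) p ≫ q)
      (pullback.snd (v i) p ≫ q).isOpenMap b η (by rw [hb3]; exact hηm)
    have hw' : (pullback.snd (v i) p).base b' ⤳ w := by
      rw [← hb2]; exact hb'b.map (pullback.snd (v i) p).continuous
    have hmem : (pullback.snd (v i) p).base b' ∈ p ⁻¹' T ∩ q ⁻¹' {η} := by
      refine ⟨?_, ?_⟩
      · change p ((pullback.snd (v i) p).base b') ∈ T
        have := congrArg (fun φ => φ.base b') hsq₀.w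
        simp only [Scheme.Hom.comp_base, TopCat.hom_comp, ContinuousMap.comp_apply] at this
        rw [← this, hT, Set.mem_iUnion]
        exact ⟨i, _, rfl⟩
      · simp only [Scheme.Hom.comp_base, TopCat.hom_comp, ContinuousMap.comp_apply] at hb'η
        exact hb'η
    exact closure_mono (Set.singleton_subset_iff.mpr hmem) (specializes_iff_mem_closure.mp hw')
  have h6 : zR ∈ closure (p ⁻¹' T ∩ q ⁻¹' {η}) := closure_minimal h5 isClosed_closure h4
  -- L3
  obtain ⟨z'R, hz'cl, hz'η, hz'sp⟩ := exists_specializes_of_mem_closure_fibre q η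
    (p ⁻¹' T ∩ q ⁻¹' {η}) Set.inter_subset_right zR h6
  have h7 := Groth.Agent.Lib.Helper22.ValTrdeg.resTrdegNat_le_of_specializes q hz'sp
  have h8 := resTrdegNat_le_of_isPullback f φ p q hsq z'R
  have hfp : ∀ t, f.base (p.base t) = φ.base (q.base t) := by
    intro t
    have := congrArg (fun ψ => ψ.base t) hsq.w
    simpa only [Scheme.Hom.comp_base, TopCat.hom_comp, ContinuousMap.comp_apply] using this
  refine ⟨p z'R, ?_, ?_, ?_⟩
  · rw [hfp, hz'η]
  · have h9 : p.base z'R ∈ closure (p.base '' (p ⁻¹' T ∩ q ⁻¹' {η})) :=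
      image_closure_subset_closure_image p.continuous ⟨z'R, hz'cl, rfl⟩
    refine closure_mono ?_ h9
    rintro _ ⟨t, ⟨ht1, ht2⟩, rfl⟩
    refine ⟨ht1, ?_⟩
    change f.base (p.base t) = _
    rw [hfp]
    exact congrArg φ.base ht2
  · rw [← hzRt]
    exact h7.trans h8

/-- The dimension of a closed subset of a set-theoretic fibre as a supremum of residual
transcendence degrees. -/
theorem dim_fibre_inter_closed_eq_iSup {X S : Scheme.{u}} (f : X ⟶ S) [LocallyOfFiniteType f]
    (t : S) (C : Set X) (hC : IsClosed C) :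
    topologicalKrullDim ↥(f.base ⁻¹' {t} ∩ C) =
      ⨆ z : ↥((Subtype.val : ↥(f.base ⁻¹' {t}) → X) ⁻¹' C),
        ((resTrdegNat f z.1.1 : ℕ∞) : WithBot ℕ∞) := by
  haveI := quasiSober_fibre f t
  have hδ := isDimFun_fibre f t
  have hZ : IsClosed ((Subtype.val : ↥(f.base ⁻¹' {t}) → X) ⁻¹' C) :=
    hC.preimage continuous_subtype_val
  have h1 := hδ.topologicalKrullDim_closed_eq_iSup hZ
  have h2 := Groth.Agent.Lib.Helper22.SecComp.dim_image_eq
    (Subtype.val : ↥(f.base ⁻¹' {t}) → X) IsEmbedding.subtypeVal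
    ((Subtype.val : ↥(f.base ⁻¹' {t}) → X) ⁻¹' C)
  rw [Subtype.image_preimage_coe] at h2
  rw [h2, h1]

/-- **EGA IV 14.3-type lower semicontinuity** (`S4972`): the dimension of the closure, in the
fibre, of the images of universally open `S`-schemes does not decrease under generization. -/
theorem dim_closure_images_le_of_specializes {X S : Scheme.{u}} (f : X ⟶ S)
    [LocallyOfFiniteType f]
    {ι : Type u} (Y : ι → Scheme.{u}) (g : ∀ i, Y i ⟶ S) [∀ i, UniversallyOpen (g i)]
    (v : ∀ i, Y i ⟶ X) (hv : ∀ i, v i ≫ f = g i) (s s' : S) (hs : s' ⤳ s) :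
    topologicalKrullDim
        ↥(f.base ⁻¹' {s} ∩ closure ((⋃ i, Set.range (v i).base) ∩ f.base ⁻¹' {s})) ≤
      topologicalKrullDim
        ↥(f.base ⁻¹' {s'} ∩ closure ((⋃ i, Set.range (v i).base) ∩ f.base ⁻¹' {s'})) := by
  rw [dim_fibre_inter_closed_eq_iSup f s _ isClosed_closure,
    dim_fibre_inter_closed_eq_iSup f s' _ isClosed_closure]
  refine iSup_le fun z => ?_
  obtain ⟨z', hz's, hz'c, hle⟩ := exists_generization_point f Y g v hv s s' hs z.1.1 z.1.2 z.2
  refine le_iSup_of_le ⟨⟨z', hz's⟩, hz'c⟩ ?_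
  exact_mod_cast hle

end Groth.Agent.Lib.Helper22.ImgDim
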