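import Mathlib

set_option autoImplicit false
set_option linter.style.haveILetI false
universe u

open AlgebraicGeometry CategoryTheory Limits

namespace Groth.Agent.Lib.Helper22.IntegralExtend

/-- If `g` is mono and `h = v ≫ g`, then `V` is the pullback of `h` along `g`. -/
noncomputable def pullbackIsoOfMono {V U S : Scheme.{u}} (v : V ⟶ U) (g : U ⟶ S) [Mono g] :
    V ≅ pullback (v ≫ g) g where
  hom := pullback.lift (𝟙 V) v (Category.id_comp _)
  inv := pullback.fst _ _
  hom_inv_id := pullback.lift_fst _ _ _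
  inv_hom_id := by
    apply pullback.hom_ext
    · rw [Category.assoc, pullback.lift_fst, Category.comp_id, Category.id_comp]
    · rw [← cancel_mono g, Category.assoc, Category.assoc, pullback.lift_snd_assoc, Category.id_comp,
        pullback.condition]

theorem pullbackIsoOfMono_hom_snd {V U S : Scheme.{u}} (v : V ⟶ U) (g : U ⟶ S) [Mono g] :
    (pullbackIsoOfMono v g).hom ≫ pullback.snd (v ≫ g) g = v :=
  pullback.lift_snd _ _ _

theorem pullback_snd_eq {V U S : Scheme.{u}} (v : V ⟶ U) (g : U ⟶ S) [Mono g] :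
    pullback.snd (v ≫ g) g = (pullbackIsoOfMono v g).inv ≫ v := by
  rw [Iso.eq_inv_comp, pullbackIsoOfMono_hom_snd]

variable {S V : Scheme.{u}} (U : S.Opens) [QuasiCompact U.ι] (v : V ⟶ (U : Scheme.{u}))
  [IsIntegralHom v]

instance : QuasiCompact (v ≫ U.ι) := inferInstance
instance : QuasiSeparated (v ≫ U.ι) := inferInstance

instance : IsIntegralHom (pullback.snd (v ≫ U.ι) U.ι) := by
  rw [pullback_snd_eq]
  infer_instance

/-- the iso `V ≅ N ×_S U`. -/
noncomputable def isoPullbackNorm :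
    V ≅ pullback (v ≫ U.ι).fromNormalization U.ι :=
  pullbackIsoOfMono v U.ι ≪≫ asIso (pullback.snd (v ≫ U.ι) U.ι).toNormalization ≪≫
    asIso ((v ≫ U.ι).normalizationPullback U.ι)

theorem isoPullbackNorm_hom_snd :
    (isoPullbackNorm U v).hom ≫ pullback.snd (v ≫ U.ι).fromNormalization U.ι = v := by
  simp only [isoPullbackNorm, Iso.trans_hom, asIso_hom, Category.assoc,
    Scheme.Hom.normalizationPullback_snd, Scheme.Hom.toNormalization_fromNormalization]
  exact pullbackIsoOfMono_hom_snd v U.ι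

theorem isPullback_norm :
    IsPullback ((isoPullbackNorm U v).hom ≫ pullback.fst (v ≫ U.ι).fromNormalization U.ι) v
      (v ≫ U.ι).fromNormalization U.ι := by
  refine IsPullback.of_iso_pullback ⟨?_⟩ (isoPullbackNorm U v) rfl (isoPullbackNorm_hom_snd U v)
  rw [Category.assoc, pullback.condition, ← Category.assoc, isoPullbackNorm_hom_snd]

theorem range_subset_inl_of_disjoint {N Z S U' T : Scheme.{u}} (p : N ⟶ S) (z : Z ⟶ S)
    (j : U' ⟶ S) (hdisj : Disjoint (Set.range z) (Set.range j))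
    (a : T ⟶ N ⨿ Z) (b : T ⟶ U') (hab : a ≫ coprod.desc p z = b ≫ j) :
    Set.range a ⊆ Set.range (coprod.inl : N ⟶ N ⨿ Z) := by
  rintro _ ⟨t, rfl⟩
  have hcompl := isCompl_range_inl_inr N Z
  have hmem : a t ∈ Set.range (coprod.inl : N ⟶ N ⨿ Z) ∪ Set.range (coprod.inr : Z ⟶ N ⨿ Z) := by
    have h0 : Set.range (coprod.inl : N ⟶ N ⨿ Z) ∪ Set.range (coprod.inr : Z ⟶ N ⨿ Z) = Set.univ :=
      hcompl.sup_eq_top
    rw [h0]; trivial
  rcases hmem with h | ⟨w, hw⟩
  · exact h
  · exfalso
    have h1 : (coprod.desc p z) (a t) = z w := by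
      rw [← hw, ← Scheme.Hom.comp_apply, coprod.inr_desc]
    have h2 : (coprod.desc p z) (a t) = j (b t) := by
      rw [← Scheme.Hom.comp_apply, hab, Scheme.Hom.comp_apply]
    exact Set.disjoint_iff_forall_ne.mp hdisj ⟨w, rfl⟩ ⟨b t, rfl⟩ (h1.symm.trans h2)

/-- adding a summand that misses the image of `j` does not change the pullback along `j`. -/
theorem isPullback_inl_of_disjoint {N Z V S U' : Scheme.{u}} (p : N ⟶ S) (z : Z ⟶ S)
    (j : U' ⟶ S) (i' : V ⟶ N) (v : V ⟶ U') (H : IsPullback i' v p j)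
    (hdisj : Disjoint (Set.range z) (Set.range j)) :
    IsPullback (i' ≫ coprod.inl) v (coprod.desc p z) j := by
  have w : (i' ≫ coprod.inl) ≫ coprod.desc p z = v ≫ j := by
    rw [Category.assoc, coprod.inl_desc, H.w]
  have hr : ∀ s : PullbackCone (coprod.desc p z) j,
      Set.range s.fst ⊆ Set.range (coprod.inl : N ⟶ N ⨿ Z) :=
    fun s => range_subset_inl_of_disjoint p z j hdisj s.fst s.snd s.condition
  have hc : ∀ s : PullbackCone (coprod.desc p z) j,
      IsOpenImmersion.lift coprod.inl s.fst (hr s) ≫ p = s.snd ≫ j := by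
    intro s
    have h1 : IsOpenImmersion.lift coprod.inl s.fst (hr s) ≫ coprod.inl ≫ coprod.desc p z =
        s.fst ≫ coprod.desc p z := by
      rw [← Category.assoc, IsOpenImmersion.lift_fac]
    rw [coprod.inl_desc] at h1
    rw [h1, s.condition]
  refine IsPullback.of_isLimit (PullbackCone.IsLimit.mk w
    (fun s => H.lift (IsOpenImmersion.lift coprod.inl s.fst (hr s)) s.snd (hc s)) ?_ ?_ ?_)
  · intro s
    rw [← Category.assoc, H.lift_fst, IsOpenImmersion.lift_fac]
  · intro s
    rw [H.lift_snd]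
  · intro s m hm1 hm2
    apply H.hom_ext
    · rw [H.lift_fst, ← cancel_mono (coprod.inl : N ⟶ N ⨿ Z), IsOpenImmersion.lift_fac,
        Category.assoc, hm1]
    · rw [H.lift_snd, hm2]


/-- Stacks-type extension: a surjective integral morphism over a retrocompact open extends. -/
theorem exists_integral_extension {S V : Scheme.{u}} (U : S.Opens) [QuasiCompact U.ι]
    (v : V ⟶ (U : Scheme.{u})) [IsIntegralHom v] [Surjective v] :
    ∃ (V' : Scheme.{u}) (π : V' ⟶ S) (i : V ⟶ V'),
      Surjective π ∧ IsIntegralHom π ∧ IsPullback i v π U.ι := by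
  let Zc : TopologicalSpace.Closeds S := ⟨(U : Set S)ᶜ, U.isOpen.isClosed_compl⟩
  let 𝓙 := Scheme.IdealSheafData.vanishingIdeal Zc
  have hz : Set.range 𝓙.subschemeι = (U : Set S)ᶜ := by
    rw [Scheme.IdealSheafData.range_subschemeι, Scheme.IdealSheafData.coe_support_vanishingIdeal]
    rfl
  have hdisj : Disjoint (Set.range 𝓙.subschemeι) (Set.range U.ι) := by
    rw [hz, Scheme.Opens.range_ι]
    exact disjoint_compl_left
  have H := isPullback_inl_of_disjoint (v ≫ U.ι).fromNormalization 𝓙.subschemeι U.ι _ v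
    (isPullback_norm U v) hdisj
  refine ⟨_, coprod.desc (v ≫ U.ι).fromNormalization 𝓙.subschemeι, _, ⟨?_⟩, inferInstance, H⟩
  intro s
  by_cases hs : s ∈ U
  · obtain ⟨y, hy⟩ := v.surjective ⟨s, hs⟩
    refine ⟨(((isoPullbackNorm U v).hom ≫
        pullback.fst (v ≫ U.ι).fromNormalization U.ι) ≫ coprod.inl) y, ?_⟩
    rw [← Scheme.Hom.comp_apply, H.w, Scheme.Hom.comp_apply, hy]
    rfl
  · have hmem : s ∈ Set.range 𝓙.subschemeι := by
      rw [hz]
      exact hs
    obtain ⟨w, hw⟩ := hmem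
    refine ⟨(coprod.inr : 𝓙.subscheme ⟶ _ ⨿ 𝓙.subscheme) w, ?_⟩
    rw [← Scheme.Hom.comp_apply, coprod.inr_desc, hw]

end Groth.Agent.Lib.Helper22.IntegralExtend
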