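import Groth.Agent.Lib.Helper57.EtQF2
import Groth.Agent.Lib.Helper57.EtQF1
import Groth.Agent.Lib.Helper73.DimFormula.AffineSpaceQF

set_option autoImplicit false
set_option linter.unusedSectionVars false
open CategoryTheory AlgebraicGeometry TopologicalSpace Topology Limits
universe u v

namespace Groth.Agent.Lib.Helper22.LocalStructure

section Alg

variable (R : Type u) [CommRing R] (σ : Type v) [Finite σ]

set_option backward.isDefEq.respectTransparency false in
/-- The tautological presentation of a polynomial ring, with no relations. -/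
noncomputable def mvPres : Algebra.Presentation R (MvPolynomial σ R) σ PEmpty.{1} where
  __ := Algebra.Generators.mvPolynomial R σ
  relation := PEmpty.elim
  span_range_relation_eq_ker := by
    simp only [Set.range_eq_empty, Ideal.span_empty]
    symm
    rw [← RingHom.injective_iff_ker_eq_bot]
    change Function.Injective (MvPolynomial.aeval MvPolynomial.X)
    intro a b hab
    simpa using hab

/-- The tautological pre-submersive presentation of a polynomial ring. -/
noncomputable def mvPreSub :
    Algebra.PreSubmersivePresentation R (MvPolynomial σ R) σ PEmpty.{1} where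
  toPresentation := mvPres R σ
  map := PEmpty.elim
  map_inj (a b : PEmpty) h := by contradiction

set_option backward.isDefEq.respectTransparency false in
lemma mvPreSub_jacobian : (mvPreSub R σ).jacobian = 1 := by
  rw [Algebra.PreSubmersivePresentation.jacobian_eq_jacobiMatrix_det, Matrix.det_isEmpty, map_one]

/-- The tautological submersive presentation of a polynomial ring. -/
noncomputable def mvSub : Algebra.SubmersivePresentation R (MvPolynomial σ R) σ PEmpty.{1} where
  __ := mvPreSub R σ
  jacobian_isUnit := by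
    rw [mvPreSub_jacobian]
    exact isUnit_one

theorem isStandardSmoothOfRelativeDimension_mvPolynomial (n : ℕ) (hn : Nat.card σ = n) :
    Algebra.IsStandardSmoothOfRelativeDimension n R (MvPolynomial σ R) :=
  (mvSub R σ).isStandardSmoothOfRelativeDimension (by
    simp [Algebra.Presentation.dimension, hn])

end Alg

open AlgebraicGeometry.AffineSpace

set_option backward.isDefEq.respectTransparency.types false in
/-- Affine `n`-space over `S` is smooth of relative dimension `n`. -/
instance smoothOfRelativeDimension_affineSpace (n : ℕ) (S : Scheme.{u}) :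
    SmoothOfRelativeDimension n (𝔸(ULift.{u} (Fin n); S) ↘ S) :=
  haveI := smoothOfRelativeDimension_isStableUnderBaseChange n
  MorphismProperty.pullback_fst _ _ <| by
  have := isIso_of_isTerminal specULiftZIsTerminal.{u} terminalIsTerminal (terminal.from _)
  rw [← terminal.comp_from (Spec.map (CommRingCat.ofHom MvPolynomial.C)),
    MorphismProperty.cancel_right_of_respectsIso (P := @SmoothOfRelativeDimension n),
    HasRingHomProperty.Spec_iff (P := @SmoothOfRelativeDimension n)]
  refine RingHom.locally_of RingHom.isStandardSmoothOfRelativeDimension_respectsIso _ ?_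
  have hs : Algebra.IsStandardSmoothOfRelativeDimension n (ULift.{u} ℤ)
      (MvPolynomial (ULift.{u} (Fin n)) (ULift.{u} ℤ)) :=
    isStandardSmoothOfRelativeDimension_mvPolynomial _ _ n (by simp)
  rw [RingHom.IsStandardSmoothOfRelativeDimension]
  convert! hs
  exact Algebra.algebra_ext _ _ fun _ ↦ rfl

open Groth.Agent.Lib.Helper73 Groth.Agent.Lib.Helper57.EtQF in
set_option backward.isDefEq.respectTransparency false in
/-- Local structure of a morphism locally of finite type (Stacks 052E-type statement). -/
theorem exists_local_structure {X S : Scheme.{u}} (f : X ⟶ S) [LocallyOfFiniteType f] (x : X)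
    (n : ℕ) (hn : FlatMor.fibreDimAt f x = n) :
    ∃ (X' Y : Scheme.{u}) (g : X' ⟶ X) (π : X' ⟶ Y) (h : Y ⟶ S) (x' : X'), g ≫ f = π ≫ h ∧
      Etale g ∧ g x' = x ∧
      Function.Surjective (g.residueFieldMap x') ∧ IsFinite π ∧ SmoothOfRelativeDimension n h ∧
      ∀ z : ↑X', π z = π x' → z = x' := by
  obtain ⟨U, g₁, hxU, -, hg₁, hqf⟩ :=
    exists_locallyQuasiFinite_toAffineSpace f x n hn.le ⊤ trivial
  haveI : LocallyOfFiniteType (g₁ ≫ (𝔸(ULift.{u} (Fin n); S) ↘ S)) := by
    rw [hg₁]; infer_instance
  haveI : LocallyOfFiniteType g₁ := locallyOfFiniteType_of_comp g₁ (𝔸(ULift.{u} (Fin n); S) ↘ S)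
  set x₀ : ↥(U : Scheme.{u}) := ⟨x, hxU⟩ with hx₀
  have hx₀q : g₁.QuasiFiniteAt x₀ := g₁.quasiFiniteAt x₀
  obtain ⟨Y, g, u, hg, hu, hiso, V, v, hfin, hvV, hv1, hv2, huniq⟩ :=
    exists_etale_nbhd_split' g₁ x₀ hx₀q
  haveI := hg
  haveI := hfin
  refine ⟨V, Y, V.ι ≫ pullback.fst g₁ g ≫ U.ι, V.ι ≫ pullback.snd g₁ g,
    g ≫ (𝔸(ULift.{u} (Fin n); S) ↘ S), ⟨v, hvV⟩, ?_, ?_, ?_, ?_, hfin, ?_, ?_⟩
  · rw [Category.assoc, Category.assoc, ← hg₁, Category.assoc, pullback.condition_assoc]
  · infer_instance
  · change U.ι (pullback.fst g₁ g (V.ι ⟨v, hvV⟩)) = x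
    have : V.ι ⟨v, hvV⟩ = v := rfl
    rw [this, hv1]
    rfl
  · have hvv : V.ι ⟨v, hvV⟩ = v := rfl
    rw [Scheme.residueFieldMap_comp, Scheme.residueFieldMap_comp]
    haveI : IsIso (g.residueFieldMap (pullback.snd g₁ g (V.ι ⟨v, hvV⟩))) := by
      rw [hvv, hv2]; exact hiso
    have h1 := residueFieldMap_fst_surjective (f := g₁) (g := g) (V.ι ⟨v, hvV⟩)
    have h2 : Function.Surjective (V.ι.residueFieldMap ⟨v, hvV⟩).hom :=
      (ConcreteCategory.bijective_of_isIso (V.ι.residueFieldMap ⟨v, hvV⟩)).surjective
    have h3 : Function.Surjective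
        (U.ι.residueFieldMap ((pullback.fst g₁ g) (V.ι ⟨v, hvV⟩))).hom :=
      (ConcreteCategory.bijective_of_isIso _).surjective
    exact h2.comp (h1.comp h3)
  · have : SmoothOfRelativeDimension (0 + n) (g ≫ (𝔸(ULift.{u} (Fin n); S) ↘ S)) :=
      inferInstance
    rwa [zero_add] at this
  · rintro ⟨z, hzV⟩ hz
    have hz' : pullback.snd g₁ g z = pullback.snd g₁ g v := hz
    rw [hv2] at hz'
    exact Subtype.ext (huniq z hzV hz')

end Groth.Agent.Lib.Helper22.LocalStructure
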