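import Groth.Agent.Lib.Helper22.AbVarIsogeny2
import Groth.Agent.Lib.Helper73.DimFormula.Equidim
import Groth.Agent.Lib.Helper73.DimFormula.JacobsonLocal

/-!
# Miracle flatness for morphisms with equidimensional fibres (helper22)

* `krullDim_subtype_eq_of_antitone`.
* `map_fromSpecStalk_eq_iff`, `ringKrullDim_stalk_quotient_map_maximalIdeal`:
  `dim O_{X,x}/m_{f x} O_{X,x}` is the Krull dimension of the generizations of `x` in its fibre.
* `coheight_add_trdegNat_eq`: `dim O_{Z,z} + trdeg κ(z) = n` on equidimensional schemes l.f.t.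
  over a field.
* `flat_of_equidim_fibres`: miracle flatness for CM source, regular target, equidimensional
  fibres.
-/

set_option linter.style.haveILetI false

open CategoryTheory Limits AlgebraicGeometry
open Groth.Agent.Lib.Helper73
open IsLocalRing

namespace Groth.Agent.Lib.Helper22.Miracle

universe u

section Order

variable {α β : Type*} [Preorder α] [Preorder β]

/-- Transport of the Krull dimension of subsets along an order-reversing, order-reflecting map. -/
lemma krullDim_subtype_eq_of_antitone (e : α → β) (he : ∀ a a', e a ≤ e a' ↔ a' ≤ a)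
    (A : Set α) (B : Set β) (hAB : ∀ a ∈ A, e a ∈ B) (hBA : ∀ b ∈ B, ∃ a ∈ A, e a = b) :
    Order.krullDim ↥B = Order.krullDim ↥A := by
  rw [← Order.krullDim_orderDual (α := ↥A)]
  apply le_antisymm
  · have hch : ∀ t : ↥B, ∃ w, w ∈ A ∧ e w = t.1 := fun t => hBA t.1 t.2
    choose g hgA hg using hch
    refine Order.krullDim_le_of_strictMono
      (fun t => OrderDual.toDual (⟨g t, hgA t⟩ : ↥A)) ?_
    intro t t' htt'
    rw [lt_iff_le_not_ge] at htt'
    rw [OrderDual.toDual_lt_toDual, lt_iff_le_not_ge]
    refine ⟨?_, fun h => htt'.2 ?_⟩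
    · change g t' ≤ g t
      rw [← he, hg, hg]; exact htt'.1
    · change g t ≤ g t' at h
      rw [← he, hg, hg] at h; exact h
  · refine Order.krullDim_le_of_strictMono
      (fun w : (↥A)ᵒᵈ => (⟨e (OrderDual.ofDual w).1, hAB _ (OrderDual.ofDual w).2⟩ : ↥B)) ?_
    intro w w' hww'
    rw [lt_iff_le_not_ge] at hww' ⊢
    refine ⟨?_, fun h => hww'.2 ?_⟩
    · change e _ ≤ e _
      rw [he]; exact hww'.1
    · change e _ ≤ e _ at h
      rw [he] at h; exact h

end Order

section Stalk

set_option backward.isDefEq.respectTransparency.types false in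
/-- A generization `t` of `x`, given by a prime `P` of `O_{X,x}`, lies in the fibre through `x` iff
`P` contains the extension of the maximal ideal of `O_{Y,f x}`. -/
lemma map_fromSpecStalk_eq_iff {X Y : Scheme.{u}} (f : X ⟶ Y) (x : X)
    (P : PrimeSpectrum (X.presheaf.stalk x)) :
    f ((X.fromSpecStalk x) P) = f x ↔
      (maximalIdeal (Y.presheaf.stalk (f x))).map (f.stalkMap x).hom ≤ P.asIdeal := by
  have h1 : f ((X.fromSpecStalk x) P) =
      (Y.fromSpecStalk (f x)) (Spec.map (f.stalkMap x) P) := by
    rw [← Scheme.Hom.comp_apply, ← Scheme.Hom.comp_apply, Scheme.SpecMap_stalkMap_fromSpecStalk]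
  have h2 : (Y.fromSpecStalk (f x)) (closedPoint (Y.presheaf.stalk (f x))) = f x :=
    Scheme.fromSpecStalk_closedPoint
  have h0 : f ((X.fromSpecStalk x) P) = f x ↔
      Spec.map (f.stalkMap x) P = closedPoint (Y.presheaf.stalk (f x)) := by
    rw [h1]
    constructor
    · intro h
      exact (Y.fromSpecStalk (f x)).isEmbedding.injective (h.trans h2.symm)
    · intro h
      rw [h]; exact h2
  rw [h0]
  constructor
  · intro h
    have h3 : (Spec.map (f.stalkMap x) P).asIdeal =
        maximalIdeal (Y.presheaf.stalk (f x)) := congrArg PrimeSpectrum.asIdeal h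
    rw [← h3]
    exact Ideal.map_comap_le
  · intro h
    apply PrimeSpectrum.ext
    have h3 : maximalIdeal (Y.presheaf.stalk (f x)) ≤ P.asIdeal.comap (f.stalkMap x).hom :=
      Ideal.map_le_iff_le_comap.mp h
    haveI : (P.asIdeal.comap (f.stalkMap x).hom).IsPrime := Ideal.comap_isPrime _ _
    exact ((maximalIdeal.isMaximal _).eq_of_le (Ideal.IsPrime.ne_top inferInstance) h3).symm

set_option backward.isDefEq.respectTransparency.types false in
/-- The dimension of the closed fibre of the local homomorphism `O_{Y,f x} → O_{X,x}` is the Krull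
dimension of the poset of generizations of `x` inside the fibre of `f`. -/
theorem ringKrullDim_stalk_quotient_map_maximalIdeal {X Y : Scheme.{u}} (f : X ⟶ Y) (x : X) :
    ringKrullDim (X.presheaf.stalk x ⧸
      (maximalIdeal (Y.presheaf.stalk (f x))).map (f.stalkMap x).hom) =
      Order.krullDim ↥{t : X | t ⤳ x ∧ f t = f x} := by
  set I := (maximalIdeal (Y.presheaf.stalk (f x))).map (f.stalkMap x).hom with hI
  have h1 : ringKrullDim (X.presheaf.stalk x ⧸ I) =
      Order.krullDim ↥(PrimeSpectrum.zeroLocus (I : Set (X.presheaf.stalk x))) :=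
    Order.krullDim_eq_of_orderIso (Ideal.primeSpectrumQuotientOrderIsoZeroLocus I)
  rw [h1]
  symm
  refine krullDim_subtype_eq_of_antitone
    (fun a : PrimeSpectrum (X.presheaf.stalk x) => (X.fromSpecStalk x) a)
    (fromSpecStalk_le_iff x) _ _ ?_ ?_
  · intro P hP
    refine ⟨?_, (map_fromSpecStalk_eq_iff f x P).mpr hP⟩
    have : (X.fromSpecStalk x) P ∈ Set.range (X.fromSpecStalk x) := ⟨_, rfl⟩
    rw [Scheme.range_fromSpecStalk] at this
    exact this
  · rintro t ⟨ht1, ht2⟩
    have hr : t ∈ Set.range (X.fromSpecStalk x) := by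
      rw [Scheme.range_fromSpecStalk]; exact ht1
    obtain ⟨P, rfl⟩ := hr
    exact ⟨P, (map_fromSpecStalk_eq_iff f x P).mp ht2, rfl⟩

end Stalk

section Dim

/-- For an equidimensional scheme of dimension `n`, locally of finite type over a field,
`dim O_{Z,z} + trdeg κ(z) = n` at every point. -/
theorem coheight_add_trdegNat_eq {K : Type u} [Field K] {Z : Scheme.{u}}
    (p : Z ⟶ Spec (.of K)) [LocallyOfFiniteType p] (n : ℕ)
    (hZ : ∀ C ∈ irreducibleComponents (Z : Type u), topologicalKrullDim C = n) (z : Z) :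
    Order.coheight z + (trdegNat p z : ℕ∞) = n := by
  have h := (isDimFun_trdegNat p).coheight_add_eq_iSup_components z
  have h2 : (⨆ C ∈ {C : Set Z | C ∈ irreducibleComponents Z ∧ z ∈ C}, topologicalKrullDim ↥C) =
      ((n : ℕ∞) : WithBot ℕ∞) := by
    apply le_antisymm
    · refine iSup₂_le fun C hC => ?_
      rw [hZ C hC.1]; rfl
    · have hC : irreducibleComponent z ∈ {C : Set Z | C ∈ irreducibleComponents Z ∧ z ∈ C} :=
        ⟨irreducibleComponent_mem_irreducibleComponents z, mem_irreducibleComponent⟩
      refine le_trans (le_of_eq ?_) (le_iSup₂ (f := fun (C : Set Z)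
        (_ : C ∈ {C : Set Z | C ∈ irreducibleComponents Z ∧ z ∈ C}) =>
        topologicalKrullDim ↥C) (irreducibleComponent z) hC)
      rw [hZ _ hC.1]; rfl
  rw [h2] at h
  exact_mod_cast h

/-- Irreducible components of the scheme-theoretic fibre have the dimensions of the irreducible
components of the topological fibre. -/
theorem topologicalKrullDim_irreducibleComponent_fiber {X Y : Scheme.{u}} (f : X ⟶ Y) (y : Y)
    (m : WithBot ℕ∞)
    (h : ∀ Z ∈ irreducibleComponents ↥(f.base ⁻¹' {y}), topologicalKrullDim ↥Z = m) :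
    ∀ C ∈ irreducibleComponents ↥(f.fiber y), topologicalKrullDim ↥C = m := by
  intro C hC
  let φ := f.fiberHomeo y
  have h1 : φ '' C ∈ irreducibleComponents ↥(f.base ⁻¹' {y}) :=
    image_mem_irreducibleComponents_of_isPreirreducible_fiber φ φ.continuous φ.isOpenMap
      (fun _ => (Set.subsingleton_singleton.preimage φ.injective).isPreirreducible)
      φ.surjective hC
  rw [← h _ h1]
  exact IsHomeomorph.topologicalKrullDim_eq _ (φ.image C).isHomeomorph

end Dim

section Main

variable (k : Type u) [Field k]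

/-- Miracle flatness: a morphism from a Cohen–Macaulay equidimensional scheme to a regular
equidimensional scheme, both locally of finite type over a field, with equidimensional fibres of
the expected dimension, is flat. -/
theorem flat_of_equidim_fibres {X Y : Scheme.{u}}
    (q : Y ⟶ Spec (CommRingCat.of k)) [LocallyOfFiniteType q] (f : X ⟶ Y)
    [LocallyOfFiniteType (f ≫ q)]
    (hY : ∀ y : Y, IsRegularLocalRing (Y.presheaf.stalk y))
    (hX : ∀ x : X, LocCoh.IsCohenMacaulayLocalRing (X.presheaf.stalk x))
    (e d : ℕ) (hde : d ≤ e)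
    (hXe : ∀ Z ∈ irreducibleComponents (X : Type u), topologicalKrullDim Z = e)
    (hYd : ∀ Z ∈ irreducibleComponents (Y : Type u), topologicalKrullDim Z = d)
    (hfib : ∀ y : Y, ∀ Z ∈ irreducibleComponents (f.base ⁻¹' {y}),
      topologicalKrullDim Z = (e - d : ℕ)) :
    Flat f := by
  haveI hlft : LocallyOfFiniteType f := locallyOfFiniteType_of_comp f q
  apply Flat.of_stalkMap
  intro x
  -- the three dimension formulas
  have hx := coheight_add_trdegNat_eq (f ≫ q) e hXe x
  have hy := coheight_add_trdegNat_eq q d hYd (f x)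
  have hF := coheight_add_trdegNat_eq (K := Y.residueField (f x))
    (f.fiberToSpecResidueField (f x)) (e - d)
    (topologicalKrullDim_irreducibleComponent_fiber f (f x) _ (hfib (f x))) (f.asFiber x)
  rw [trdegNat_fiber_eq_resTrdegNat, f.fiberι_asFiber x] at hF
  have hcomp : trdegNat (f ≫ q) x = trdegNat q (f x) + resTrdegNat f x := by
    rw [AbVarIsogeny.trdegNat_eq_resTrdegNat, AbVarIsogeny.trdegNat_eq_resTrdegNat,
      resTrdegNat_comp]
  rw [hcomp] at hx
  -- dimensions of the local rings
  have dS := ringKrullDim_stalk_eq_coheight x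
  have dR := ringKrullDim_stalk_eq_coheight (f x)
  have dF : ringKrullDim (X.presheaf.stalk x ⧸
      (maximalIdeal (Y.presheaf.stalk (f x))).map (f.stalkMap x).hom) =
      Order.coheight (f.asFiber x) := by
    rw [ringKrullDim_stalk_quotient_map_maximalIdeal, ← ringKrullDim_fiber_stalk_eq_krullDim,
      ringKrullDim_stalk_eq_coheight]
  haveI := hY (f x)
  haveI := hX x
  algebraize [(f.stalkMap x).hom]
  haveI : IsLocalHom (algebraMap (Y.presheaf.stalk (f x)) (X.presheaf.stalk x)) := by
    rw [RingHom.algebraMap_toAlgebra]; infer_instance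
  apply Groth.Agent.S2082.result
  rw [RingHom.algebraMap_toAlgebra, dS, dR, dF]
  have fin : ∀ (a : ℕ∞) (t n : ℕ), a + (t : ℕ∞) = n → ∃ a' : ℕ, a = a' := by
    intro a t n h
    have : a ≠ ⊤ := by
      rintro rfl
      simp at h
    exact ⟨a.toNat, (ENat.natCast_toNat this).symm⟩
  obtain ⟨a, ha⟩ := fin _ _ _ hx
  obtain ⟨b, hb⟩ := fin _ _ _ hy
  obtain ⟨c, hc⟩ := fin _ _ _ hF
  rw [ha] at hx ⊢
  rw [hb] at hy ⊢
  rw [hc] at hF ⊢
  have hx' : a + (trdegNat q (f x) + resTrdegNat f x) = e := by exact_mod_cast hx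
  have hy' : b + trdegNat q (f x) = d := by exact_mod_cast hy
  have hF' : c + resTrdegNat f x = e - d := by exact_mod_cast hF
  have : a = b + c := by omega
  rw [this]
  rfl

end Main

end Groth.Agent.Lib.Helper22.Miracle
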