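import Mathlib

set_option autoImplicit false
set_option linter.style.haveILetI false
universe u

open Polynomial

namespace Groth.Agent.Lib.Helper22.ValInt

/-- valuative criterion for integrality of an element -/
theorem isIntegral_of_forall_valuationSubring {R₀ B : Type u} [CommRing R₀] [CommRing B]
    [Algebra R₀ B] (b : B)
    (H : ∀ (K : Type u) [Field K] (ψ : B →+* K) (V : ValuationSubring K),
        (∀ r : R₀, ψ (algebraMap R₀ B r) ∈ V) → ψ b ∈ V) : IsIntegral R₀ b := by
  classical
  -- the multiplicative set of values of monic polynomials at b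
  let M : Submonoid B :=
    { carrier := {x | ∃ P : R₀[X], P.Monic ∧ aeval b P = x}
      one_mem' := ⟨1, monic_one, by simp⟩
      mul_mem' := by
        rintro _ _ ⟨P, hP, rfl⟩ ⟨Q, hQ, rfl⟩
        exact ⟨P * Q, hP.mul hQ, by simp⟩ }
  by_cases h0 : (0 : B) ∈ M
  · obtain ⟨P, hP, hPb⟩ := h0
    exact ⟨P, hP, by simpa [aeval_def] using hPb⟩
  exfalso
  have hdisj : Disjoint ((⊥ : Ideal B) : Set B) (M : Set B) := by
    rw [Set.disjoint_left]
    intro x hx hxM
    have : x = 0 := hx
    exact h0 (this ▸ hxM)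
  obtain ⟨q, hq, -, hqM⟩ := Ideal.exists_le_prime_disjoint (⊥ : Ideal B) M hdisj
  let D := B ⧸ q
  let K := FractionRing D
  let ψ : B →+* K := (algebraMap D K).comp (Ideal.Quotient.mk q)
  have hψker : ∀ x : B, ψ x = 0 → x ∈ q := by
    intro x hx
    have h1 : (Ideal.Quotient.mk q x : D) = 0 :=
      (IsFractionRing.injective D K) (by simpa [ψ] using hx)
    exact Ideal.Quotient.eq_zero_iff_mem.mp h1
  letI : Algebra R₀ K := (ψ.comp (algebraMap R₀ B)).toAlgebra
  -- integral closure of R₀ in K as a subring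
  let IC : Subring K := (integralClosure R₀ K).toSubring
  have hnot : ψ b ∉ IC := by
    rintro ⟨P, hP, hPb⟩
    have h1 : ψ (aeval b P) = 0 := by
      rw [aeval_def, Polynomial.hom_eval₂]
      exact hPb
    exact Set.disjoint_left.mp hqM (hψker _ h1) ⟨P, hP, rfl⟩
  haveI : IsIntegrallyClosedIn IC K :=
    inferInstanceAs (IsIntegrallyClosedIn (integralClosure R₀ K).toSubring K)
  obtain ⟨V, hV, hbV⟩ := Subring.exists_le_valuationSubring_of_isIntegrallyClosedIn hnot
  refine hbV (H K ψ V fun r => hV ?_)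
  exact (integralClosure R₀ K).algebraMap_mem r

end Groth.Agent.Lib.Helper22.ValInt
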