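import Mathlib
import Groth.Agent.Lib.Helper22.ValInt

set_option autoImplicit false
set_option linter.style.haveILetI false
universe u

open AlgebraicGeometry CategoryTheory Limits Opposite

namespace Groth.Agent.Lib.Helper22.SteinInt

theorem appLE_top_top {A B : Scheme.{u}} (j : A ⟶ B) (h : (⊤ : A.Opens) ≤ j ⁻¹ᵁ ⊤) :
    j.appLE ⊤ ⊤ h = j.appTop :=
  Scheme.Hom.appLE_eq_app (f := j) (U := ⊤)

theorem fromSpec_appLE_top {X : Scheme.{u}} {W V : X.Opens} (hW : IsAffineOpen W) (e : W ≤ V)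
    (h : (⊤ : (Spec Γ(X, W)).Opens) ≤ hW.fromSpec ⁻¹ᵁ V) :
    hW.fromSpec.appLE V ⊤ h ≫ (Scheme.ΓSpecIso Γ(X, W)).hom = X.presheaf.map (homOfLE e).op := by
  rw [Scheme.Hom.appLE, hW.fromSpec_app_of_le V e]
  simp only [Category.assoc, ← Functor.map_comp]
  have : (homOfLE (le_top : hW.fromSpec ⁻¹ᵁ V ≤ ⊤)).op ≫ (homOfLE h).op = 𝟙 _ := rfl
  rw [this, CategoryTheory.Functor.map_id, Category.id_comp, Iso.inv_hom_id, Category.comp_id]

/-- For `g : R ⟶ R'` and `j : Spec R ⟶ X`, sections over `V ⊇ range`, the composite. -/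
theorem SpecMap_comp_appLE_top {X : Scheme.{u}} {R R' : CommRingCat.{u}} (g : R ⟶ R')
    (j : Spec R ⟶ X) (V : X.Opens) (h : (⊤ : (Spec R).Opens) ≤ j ⁻¹ᵁ V)
    (h' : (⊤ : (Spec R').Opens) ≤ (Spec.map g ≫ j) ⁻¹ᵁ V) :
    (Spec.map g ≫ j).appLE V ⊤ h' ≫ (Scheme.ΓSpecIso R').hom =
      j.appLE V ⊤ h ≫ (Scheme.ΓSpecIso R).hom ≫ g := by
  have h0 : (⊤ : (Spec R').Opens) ≤ Spec.map g ⁻¹ᵁ ⊤ := (Scheme.Hom.preimage_top (Spec.map g)).ge
  have := Scheme.Hom.appLE_comp_appLE (Spec.map g) j V ⊤ ⊤ h h0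
  rw [appLE_top_top] at this
  rw [← Scheme.ΓSpecIso_naturality, ← Category.assoc, this]

variable {X S : Scheme.{u}} (f : X ⟶ S)

/-- If `f` satisfies the existence part of the valuative criterion, then for affine opens
`W ⊆ f⁻¹U`, `U` affine, the restriction to `W` of any section over `f⁻¹U` is integral
over `Γ(S, U)`. -/
theorem isIntegral_res_of_existence (hf : ValuativeCriterion.Existence f)
    {U : S.Opens} (hU : IsAffineOpen U) {W : X.Opens} (hW : IsAffineOpen W) (e : W ≤ f ⁻¹ᵁ U)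
    (s : Γ(X, f ⁻¹ᵁ U)) :
    (f.appLE U W e).hom.IsIntegralElem (X.presheaf.map (homOfLE e).op s) := by
  letI := (f.appLE U W e).hom.toAlgebra
  change IsIntegral Γ(S, U) (X.presheaf.map (homOfLE e).op s)
  apply ValInt.isIntegral_of_forall_valuationSubring
  intro K _ ψ V hV
  let ρ : Γ(S, U) →+* V := (ψ.comp (f.appLE U W e).hom).codRestrict V.toSubring (fun r => hV r)
  let i₁ : Spec (.of K) ⟶ X := Spec.map (CommRingCat.ofHom ψ) ≫ hW.fromSpec
  let i₂ : Spec (.of V) ⟶ S := Spec.map (CommRingCat.ofHom ρ) ≫ hU.fromSpec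
  have hρ : CommRingCat.ofHom ρ ≫ CommRingCat.ofHom (algebraMap V K) =
      f.appLE U W e ≫ CommRingCat.ofHom ψ := by
    ext r
    rfl
  have hsq : CommSq i₁ (Spec.map (CommRingCat.ofHom (algebraMap V K))) f i₂ := ⟨by
    simp only [i₁, i₂, Category.assoc]
    rw [← IsAffineOpen.SpecMap_appLE_fromSpec f hU hW e, ← Spec.map_comp_assoc,
      ← Spec.map_comp_assoc, hρ]⟩
  let sq : ValuativeCommSq f := { R := V, K := K, i₁ := i₁, i₂ := i₂, commSq := hsq }
  obtain ⟨⟨l, hl1, hl2⟩⟩ := hf sq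
  change Spec.map (CommRingCat.ofHom (algebraMap V K)) ≫ l = i₁ at hl1
  change l ≫ f = i₂ at hl2
  have hle : (⊤ : (Spec (.of V)).Opens) ≤ l ⁻¹ᵁ (f ⁻¹ᵁ U) := by
    rw [← Scheme.Hom.comp_preimage, hl2, Scheme.Hom.comp_preimage, hU.fromSpec_preimage_self]
    exact le_rfl
  let β : Γ(X, f ⁻¹ᵁ U) ⟶ CommRingCat.of V :=
    l.appLE (f ⁻¹ᵁ U) ⊤ hle ≫ (Scheme.ΓSpecIso (.of V)).hom
  have hle2 : (⊤ : (Spec Γ(X, W)).Opens) ≤ hW.fromSpec ⁻¹ᵁ (f ⁻¹ᵁ U) := by
    intro x _
    exact e (hW.fromSpec_preimage_self ▸ (show x ∈ (⊤ : (Spec Γ(X, W)).Opens) from trivial) :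
      x ∈ hW.fromSpec ⁻¹ᵁ W)
  have hβ : β ≫ CommRingCat.ofHom (algebraMap V K) =
      X.presheaf.map (homOfLE e).op ≫ CommRingCat.ofHom ψ := by
    have hle3 : (⊤ : (Spec (.of K)).Opens) ≤
        (Spec.map (CommRingCat.ofHom (algebraMap V K)) ≫ l) ⁻¹ᵁ (f ⁻¹ᵁ U) := by
      intro x _
      exact hle (show (Spec.map (CommRingCat.ofHom (algebraMap V K))) x ∈ _ from trivial)
    have hle4 : (⊤ : (Spec (.of K)).Opens) ≤ i₁ ⁻¹ᵁ (f ⁻¹ᵁ U) := by
      rw [← hl1]; exact hle3
    have e1 := SpecMap_comp_appLE_top (CommRingCat.ofHom (algebraMap V K)) l (f ⁻¹ᵁ U) hle hle3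
    have e2 := SpecMap_comp_appLE_top (R := Γ(X, W)) (CommRingCat.ofHom ψ) hW.fromSpec
      (f ⁻¹ᵁ U) hle2 hle4
    rw [reassoc_of% (fromSpec_appLE_top hW e hle2)] at e2
    simp only [β, Category.assoc]
    rw [← e1, ← e2]
    congr 1
    simp only [hl1]
    rfl
  have h1 : ψ (X.presheaf.map (homOfLE e).op s) = algebraMap V K (β s) := by
    have := congr($hβ s)
    exact this.symm
  rw [h1]
  exact (β s).2

/-- Sections of a universally closed morphism over the preimage of an affine open are integral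
over the sections of the base. -/
theorem isIntegral_app_of_universallyClosed [UniversallyClosed f] {U : S.Opens}
    (hU : IsAffineOpen U) : (f.app U).hom.IsIntegral := by
  have hex : ValuativeCriterion.Existence f := by
    have h := ‹UniversallyClosed f›
    rw [UniversallyClosed.eq_valuativeCriterion] at h
    exact h.1
  have hc : IsCompact (f ⁻¹ᵁ U : Set X) :=
    quasiCompact_iff_forall_isAffineOpen.mp inferInstance U hU
  obtain ⟨t, ht, e⟩ := isCompact_iff_finite_and_eq_biUnion_affineOpens.mp hc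
  intro s
  have hle : ∀ W : t, (W.1 : X.Opens) ≤ f ⁻¹ᵁ U := by
    intro W
    rw [e]
    exact le_iSup₂ (f := fun (i : X.affineOpens) (_ : i ∈ t) => (i : X.Opens)) W.1 W.2
  have := fun W : t => isIntegral_res_of_existence f hex hU W.1.2 (hle W) s
  choose p hp1 hp2 using this
  have := ht.to_subtype
  cases nonempty_fintype t
  refine ⟨∏ W, p W, Polynomial.monic_prod_of_monic _ _ (fun W _ => hp1 W), ?_⟩
  apply TopCat.Sheaf.eq_of_locally_eq' X.sheaf (fun W : t => (W.1 : X.Opens)) _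
    (fun W => homOfLE (hle W))
  · rw [e]
    refine iSup₂_le fun i hi => ?_
    exact le_iSup (fun W : t => (W.1 : X.Opens)) ⟨i, hi⟩
  · intro W
    change X.presheaf.map _ _ = X.presheaf.map _ 0
    rw [map_zero]
    change (X.presheaf.map (homOfLE (hle W)).op).hom _ = 0
    rw [Polynomial.hom_eval₂]
    apply Polynomial.eval₂_eq_zero_of_dvd_of_eval₂_eq_zero _ _
      (Finset.dvd_prod_of_mem p (Finset.mem_univ W))
    exact hp2 W



theorem bijective_of_away_square {A A' B B' : Type*} [CommRing A] [CommRing A'] [CommRing B]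
    [CommRing B'] [Algebra A B] [Algebra A' B'] (a : A) [IsLocalization.Away a B] (e : A →+* A')
    (he : Function.Bijective e) [IsLocalization.Away (e a) B'] (ψ : B →+* B')
    (h : ψ.comp (algebraMap A B) = (algebraMap A' B').comp e) : Function.Bijective ψ := by
  let E := RingEquiv.ofBijective e he
  have H : (Submonoid.powers a).map E.toMonoidHom = Submonoid.powers (e a) := by
    rw [Submonoid.map_powers]; rfl
  have : ψ = (IsLocalization.ringEquivOfRingEquiv B B' E H : B →+* B') := by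
    apply IsLocalization.ringHom_ext (Submonoid.powers a)
    ext x
    rw [RingHom.comp_apply, RingHom.comp_apply]
    erw [IsLocalization.ringEquivOfRingEquiv_eq]
    exact congr($h x)
  rw [this]
  exact (IsLocalization.ringEquivOfRingEquiv B B' E H).bijective

theorem isIso_app_basicOpen {X X' : Scheme.{u}} (g : X ⟶ X') {V : X'.Opens} (hV : IsAffineOpen V)
    (hc : IsCompact (g ⁻¹ᵁ V : Set X)) (hqs : IsQuasiSeparated (g ⁻¹ᵁ V : Set X))
    [IsIso (g.app V)] (a : Γ(X', V)) : IsIso (g.app (X'.basicOpen a)) := by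
  have heq : g ⁻¹ᵁ X'.basicOpen a = X.basicOpen (g.app V a) := Scheme.preimage_basicOpen g a
  suffices IsIso (g.app (X'.basicOpen a) ≫ X.presheaf.map (eqToHom heq.symm).op) from
    IsIso.of_isIso_comp_right _ (X.presheaf.map (eqToHom heq.symm).op)
  rw [ConcreteCategory.isIso_iff_bijective]
  haveI := hV.isLocalization_basicOpen a
  haveI := isLocalization_basicOpen_of_qcqs hc hqs (g.app V a)
  refine bijective_of_away_square a (g.app V).hom
    ((ConcreteCategory.isIso_iff_bijective _).mp inferInstance)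
    (g.app (X'.basicOpen a) ≫ X.presheaf.map (eqToHom heq.symm).op).hom ?_
  rw [RingHom.algebraMap_toAlgebra, RingHom.algebraMap_toAlgebra, ← CommRingCat.hom_comp,
    ← CommRingCat.hom_comp]
  congr 1
  rw [g.naturality_assoc, ← Functor.map_comp]
  rfl



theorem isIso_app_of_basis {X X' : Scheme.{u}} (g : X ⟶ X') {ι : Type*} (B : ι → X'.Opens)
    (hB : TopologicalSpace.Opens.IsBasis (Set.range B)) (h : ∀ i, IsIso (g.app (B i)))
    (U : X'.Opens) : IsIso (g.app U) := by
  let F : TopCat.Sheaf CommRingCat X' := X'.sheaf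
  let G : TopCat.Sheaf CommRingCat X' := (TopCat.Sheaf.pushforward CommRingCat g.base).obj X.sheaf
  let φ : F ⟶ G := ⟨g.c⟩
  have : IsIso φ := TopCat.Sheaf.isIso_iff_isIso_basis (φ := φ) hB (fun i => h i)
  have h2 : IsIso φ.hom := (TopCat.Sheaf.forget CommRingCat X').map_isIso φ
  exact NatIso.isIso_app_of_isIso φ.hom (op U)


variable {X S : Scheme.{u}} (f : X ⟶ S)



theorem isIso_toNormalization_app_preimage [UniversallyClosed f] [QuasiSeparated f]
    (U : S.affineOpens) : IsIso (f.toNormalization.app (f.fromNormalization ⁻¹ᵁ U.1)) := by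
  letI := (f.app U.1).hom.toAlgebra
  have h := f.toNormalization_app_preimage U
  dsimp only at h
  rw [h]
  refine @IsIso.comp_isIso _ _ _ _ _ _ _ inferInstance
    (@IsIso.comp_isIso _ _ _ _ _ _ _ ?_ inferInstance)
  rw [ConcreteCategory.isIso_iff_bijective]
  refine ⟨Subtype.val_injective, fun s => ⟨⟨s, ?_⟩, rfl⟩⟩
  exact isIntegral_app_of_universallyClosed f U.2 s


theorem isIso_toNormalization_app [UniversallyClosed f] [QuasiSeparated f]
    (U : f.normalization.Opens) : IsIso (f.toNormalization.app U) := by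
  let B : (Σ (W : S.affineOpens), Γ(f.normalization, f.fromNormalization ⁻¹ᵁ W.1)) →
      f.normalization.Opens := fun i => f.normalization.basicOpen i.2
  apply isIso_app_of_basis f.toNormalization B
  · rw [TopologicalSpace.Opens.isBasis_iff_nbhd]
    intro V x hx
    obtain ⟨W, hW, hxW, -⟩ := exists_isAffineOpen_mem_and_subset (X := S)
      (x := f.fromNormalization x) (U := ⊤) trivial
    have hV' : IsAffineOpen (f.fromNormalization ⁻¹ᵁ W) := hW.preimage f.fromNormalization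
    obtain ⟨a, ha1, ha2⟩ := hV'.exists_basicOpen_le ⟨x, hx⟩ hxW
    exact ⟨_, ⟨⟨⟨W, hW⟩, a⟩, rfl⟩, ha2, ha1⟩
  · rintro ⟨W, a⟩
    have hV' : IsAffineOpen (f.fromNormalization ⁻¹ᵁ W.1) := W.2.preimage f.fromNormalization
    haveI := isIso_toNormalization_app_preimage f W
    exact isIso_app_basicOpen f.toNormalization hV'
      (quasiCompact_iff_forall_isAffineOpen.mp inferInstance _ hV')
      (Scheme.Hom.isQuasiSeparated_preimage (f := f.toNormalization) hV'.isQuasiSeparated) a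

end Groth.Agent.Lib.Helper22.SteinInt
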