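import Mathlib
import Groth.Prelude.Def_W4c6modpairsegaMP
import Groth.Agent.Lib.Helper82.BlowUpPullback
import Groth.Agent.Lib.Helper22.SteinInt

set_option autoImplicit false
set_option linter.style.haveILetI false
universe u

open AlgebraicGeometry CategoryTheory Limits Opposite
open Groth.Agent.Lib.Helper82

namespace Groth.Agent.Lib.Helper22.ModPairVal


/-- Lemma B: a valuation ring test for a nonzerodivisor `s` and a prime `𝔭`. -/
theorem exists_valuationSubring_test {A : Type u} [CommRing A] (𝔭 : Ideal A) [𝔭.IsPrime]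
    (s : A) (hs : s ∈ nonZeroDivisors A) :
    ∃ (K : Type u) (_ : Field K) (V : ValuationSubring K) (φ : A →+* V),
      φ s ≠ 0 ∧ ∀ a ∈ 𝔭, ¬ IsUnit (φ a) := by
  obtain ⟨𝔮, h𝔮, h𝔮𝔭⟩ := Ideal.exists_minimalPrimes_le (I := ⊥) (J := 𝔭) bot_le
  have : 𝔮.IsPrime := h𝔮.1.1
  have hs𝔮 : s ∉ 𝔮 := fun h =>
    Set.disjoint_left.mp (Ideal.disjoint_nonZeroDivisors_of_mem_minimalPrimes h𝔮) h hs
  let K := FractionRing (A ⧸ 𝔮)
  let ψ₀ : A →+* K := (algebraMap (A ⧸ 𝔮) K).comp (Ideal.Quotient.mk 𝔮)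
  have hψ₀ : ∀ a : A, ψ₀ a = 0 ↔ a ∈ 𝔮 := by
    intro a
    simp only [ψ₀, RingHom.comp_apply]
    rw [map_eq_zero_iff _ (IsFractionRing.injective (A ⧸ 𝔮) K), Ideal.Quotient.eq_zero_iff_mem]
  let L := Localization.AtPrime 𝔭
  have hunit : ∀ y : 𝔭.primeCompl, IsUnit (ψ₀ y) := by
    intro y
    rw [isUnit_iff_ne_zero, Ne, hψ₀]
    exact fun h => y.2 (h𝔮𝔭 h)
  let ψ : L →+* K := IsLocalization.lift (M := 𝔭.primeCompl) (g := ψ₀) hunit
  obtain ⟨V, hV, hloc⟩ := IsLocalRing.exists_factor_valuationRing ψ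
  let φ : A →+* V := (ψ.codRestrict V.toSubring hV).comp (algebraMap A L)
  refine ⟨K, inferInstance, V, φ, ?_, ?_⟩
  · intro h
    have h1 : ((φ s : V) : K) = ψ₀ s := by
      simp only [φ, RingHom.comp_apply]
      exact IsLocalization.lift_eq hunit s
    rw [h] at h1
    exact hs𝔮 ((hψ₀ s).mp h1.symm)
  · intro a ha hu
    have h1 : IsUnit (algebraMap A L a) := hloc.map_nonunit _ hu
    exact (IsLocalization.AtPrime.isUnit_to_map_iff L 𝔭 a).mp h1 ha

/-- Lemma C: the largest prime of a valuation ring not containing a nonzero element. -/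
theorem exists_prime_largest_notMem {V : Type u} [CommRing V] [IsDomain V] [ValuationRing V]
    (s : V) (hs : s ≠ 0) :
    ∃ P : Ideal V, P.IsPrime ∧ s ∉ P ∧ ∀ Q : Ideal V, Q.IsPrime → P < Q → s ∈ Q := by
  let P : Ideal V :=
    { carrier := {v | ∀ n : ℕ, ¬ v ∣ s ^ n}
      zero_mem' := fun n h => pow_ne_zero n hs (zero_dvd_iff.mp h)
      add_mem' := by
        intro v w hv hw n h
        rcases ValuationRing.dvd_total v w with hvw | hwv
        · exact hv n ((dvd_add (dvd_refl v) hvw).trans h)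
        · exact hw n ((dvd_add hwv (dvd_refl w)).trans h)
      smul_mem' := by
        intro r v hv n h
        exact hv n ((Dvd.intro_left r rfl).trans h) }
  have hmem : ∀ v, v ∈ P ↔ ∀ n : ℕ, ¬ v ∣ s ^ n := fun v => Iff.rfl
  refine ⟨P, ⟨?_, ?_⟩, ?_, ?_⟩
  · rw [Ne, Ideal.eq_top_iff_one, hmem]
    intro h
    exact h 0 (one_dvd _)
  · intro v w hvw
    by_contra hcon
    push Not at hcon
    obtain ⟨hv, hw⟩ := hcon
    rw [hmem] at hv hw
    push Not at hv hw
    obtain ⟨n, hn⟩ := hv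
    obtain ⟨m, hm⟩ := hw
    exact (hmem _).mp hvw (n + m) (by rw [pow_add]; exact mul_dvd_mul hn hm)
  · rw [hmem]
    intro h
    exact h 1 (by simp)
  · intro Q hQ hPQ
    obtain ⟨v, hvQ, hvP⟩ := Set.exists_of_ssubset hPQ
    have : ¬ ∀ n : ℕ, ¬ v ∣ s ^ n := fun h => hvP ((hmem v).mpr h)
    push Not at this
    obtain ⟨n, hn⟩ := this
    exact hQ.mem_of_pow_mem n (Q.mem_of_dvd hn hvQ)



variable {X : Scheme.{u}} {U : X.Opens} (hU : IsAffineOpen U) {R : Type u} [CommRing R]
  (φ : Γ(X, U) →+* R)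

/-- The test morphism `Spec R ⟶ X` attached to `φ : Γ(X, U) →+* R`. -/
noncomputable def testMor : Spec (.of R) ⟶ X := Spec.map (CommRingCat.ofHom φ) ≫ hU.fromSpec

theorem top_le : (⊤ : (Spec (.of R)).Opens) ≤ testMor hU φ ⁻¹ᵁ U := by
  intro x _
  have h2 : (Spec.map (CommRingCat.ofHom φ)) x ∈ hU.fromSpec ⁻¹ᵁ U := by
    rw [hU.fromSpec_preimage_self]; trivial
  exact h2

theorem appLE_testMor :
    (testMor hU φ).appLE U ⊤ (top_le hU φ) ≫ (Scheme.ΓSpecIso (.of R)).hom =
      CommRingCat.ofHom φ := by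
  have hle2 : (⊤ : (Spec Γ(X, U)).Opens) ≤ hU.fromSpec ⁻¹ᵁ U := by
    rw [hU.fromSpec_preimage_self]
  have e2 := SteinInt.SpecMap_comp_appLE_top (R := Γ(X, U)) (CommRingCat.ofHom φ) hU.fromSpec
    U hle2 (top_le hU φ)
  rw [reassoc_of% (SteinInt.fromSpec_appLE_top hU le_rfl hle2)] at e2
  have : X.presheaf.map (homOfLE (le_refl U)).op = 𝟙 _ := by
    rw [show (homOfLE (le_refl U)).op = 𝟙 (op U) from rfl, CategoryTheory.Functor.map_id]
  rw [this, Category.id_comp] at e2
  exact e2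

theorem ideal_comap_testMor (I : X.IdealSheafData) :
    ((I.comap (testMor hU φ)).ideal ⟨⊤, isAffineOpen_top _⟩).map
      (Scheme.ΓSpecIso (.of R)).hom.hom = (I.ideal ⟨U, hU⟩).map φ := by
  rw [ideal_comap_of_le (testMor hU φ) I ⊤ (isAffineOpen_top _) U hU (top_le hU φ), Ideal.map_map,
    ← CommRingCat.hom_comp, appLE_testMor]
  rfl

theorem map_eq_top_of_comap_eq_top (I : X.IdealSheafData) (h : I.comap (testMor hU φ) = ⊤) :
    (I.ideal ⟨U, hU⟩).map φ = ⊤ := by
  rw [← ideal_comap_testMor, h]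
  simp only [Scheme.IdealSheafData.ideal_top, Pi.top_apply]
  exact Ideal.map_top _

theorem map_eq_of_comap_eq (I J : X.IdealSheafData)
    (h : I.comap (testMor hU φ) = J.comap (testMor hU φ)) :
    (I.ideal ⟨U, hU⟩).map φ = (J.ideal ⟨U, hU⟩).map φ := by
  have h1 := ideal_comap_testMor hU φ I
  have h2 := ideal_comap_testMor hU φ J
  rw [← h1, ← h2, h]

theorem isEffCartierIdeal_comap_testMor [IsDomain R] (I : X.IdealSheafData) (f : Γ(X, U))
    (hIf : I.ideal ⟨U, hU⟩ = Ideal.span {f}) (hφf : φ f ≠ 0) :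
    BlowUp.IsEffCartierIdeal (I.comap (testMor hU φ)) := by
  intro y
  refine ⟨⟨⊤, isAffineOpen_top _⟩, trivial, ((testMor hU φ).appLE U ⊤ (top_le hU φ)).hom f, ?_, ?_⟩
  · have hg : (Scheme.ΓSpecIso (.of R)).hom.hom
        (((testMor hU φ).appLE U ⊤ (top_le hU φ)).hom f) = φ f := by
      have := congr($(appLE_testMor hU φ) f)
      exact this
    rw [mem_nonZeroDivisors_iff_right]
    intro c hc
    have h1 := congrArg (Scheme.ΓSpecIso (.of R)).hom.hom hc
    rw [map_mul, map_zero, hg] at h1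
    have h2 : (Scheme.ΓSpecIso (.of R)).hom.hom c = 0 := by
      rcases mul_eq_zero.mp h1 with h | h
      · exact h
      · exact absurd h hφf
    have hinj : Function.Injective (Scheme.ΓSpecIso (.of R)).hom.hom :=
      ((ConcreteCategory.isIso_iff_bijective (Scheme.ΓSpecIso (.of R)).hom).mp inferInstance).1
    exact hinj (by rw [h2, map_zero])
  · rw [ideal_comap_of_le (testMor hU φ) I ⊤ (isAffineOpen_top _) U hU (top_le hU φ), hIf,
      Ideal.map_span, Set.image_singleton]

theorem mem_interior_comap_testMor_iff (I : X.IdealSheafData) (y : Spec (.of R)) :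
    y ∈ (ModPair.interior (I.comap (testMor hU φ)) : Set (Spec (.of R))) ↔
      ¬ (I.ideal ⟨U, hU⟩).map φ ≤ y.asIdeal := by
  rw [← ideal_comap_testMor]
  change y ∉ (I.comap (testMor hU φ)).support ↔ _
  rw [Scheme.IdealSheafData.mem_support_iff_of_mem (U := ⟨⊤, isAffineOpen_top _⟩) trivial,
    Scheme.mem_zeroLocus_iff, not_iff_not, Ideal.map_le_iff_le_comap]
  constructor
  · intro h g hg
    have := h g hg
    rw [basicOpen_eq_of_affine'] at this
    by_contra hcon
    exact this hcon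
  · intro h g hg
    rw [basicOpen_eq_of_affine']
    intro hy
    exact hy (h hg)


theorem eq_top_of_forall_valuationRing {X : Scheme.{u}} (I : X.IdealSheafData)
    (hI : BlowUp.IsEffCartierIdeal I)
    (h : ∀ (R : Type u) [CommRing R] [IsDomain R] [ValuationRing R]
      (p : Spec (CommRingCat.of R) ⟶ X), BlowUp.IsEffCartierIdeal (I.comap p) → I.comap p = ⊤) :
    I = ⊤ := by
  rw [← Scheme.IdealSheafData.support_eq_bot_iff]
  by_contra hne
  obtain ⟨x, hx⟩ : ∃ x, x ∈ I.support := by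
    by_contra hcon
    push Not at hcon
    apply hne
    ext y
    simp only [TopologicalSpace.Closeds.coe_bot, Set.mem_empty_iff_false, iff_false]
    exact hcon y
  obtain ⟨N, hxN, -, f, hf, hIf⟩ := exists_affine_isPrincipalNZD_le I hI ⊤ x trivial
  have hf𝔭 : f ∈ (N.2.primeIdealOf ⟨x, hxN⟩).asIdeal := by
    by_contra hnot
    have h1 : N.2.primeIdealOf ⟨x, hxN⟩ ∈ N.2.fromSpec ⁻¹ᵁ X.basicOpen f := by
      rw [N.2.fromSpec_preimage_basicOpen]
      exact hnot
    have h2 : x ∈ X.basicOpen f := by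
      have h0 : N.2.fromSpec (N.2.primeIdealOf ⟨x, hxN⟩) = x := N.2.fromSpec_primeIdealOf ⟨x, hxN⟩
      rw [← h0]
      exact h1
    rw [Scheme.IdealSheafData.mem_support_iff_of_mem hxN, Scheme.mem_zeroLocus_iff] at hx
    exact hx f (by rw [SetLike.mem_coe, hIf]; exact Ideal.mem_span_singleton_self f) h2
  obtain ⟨K, _, V, φ, hφf, hφ𝔭⟩ :=
    exists_valuationSubring_test (N.2.primeIdealOf ⟨x, hxN⟩).asIdeal f hf
  have h1 := h V (testMor N.2 φ) (isEffCartierIdeal_comap_testMor N.2 φ I f hIf hφf)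
  have h2 := map_eq_top_of_comap_eq_top N.2 φ I h1
  rw [hIf, Ideal.map_span, Set.image_singleton, Ideal.span_singleton_eq_top] at h2
  exact hφ𝔭 f hf𝔭 h2

theorem eq_of_forall_valuationRing {X : Scheme.{u}} (I J : X.IdealSheafData)
    (hI : BlowUp.IsEffCartierIdeal I) (hJ : BlowUp.IsEffCartierIdeal J) (hJI : J ≤ I)
    (h : ∀ (R : Type u) [CommRing R] [IsDomain R] [ValuationRing R]
      (p : Spec (CommRingCat.of R) ⟶ X), BlowUp.IsEffCartierIdeal (I.comap p) →
        (∀ x : Spec (CommRingCat.of R),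
          x ∈ (ModPair.interior (I.comap p) : Set (Spec (CommRingCat.of R))) ↔ x.asIdeal = ⊥) →
        I.comap p = J.comap p) :
    I = J := by
  have key : ∀ x : X, ∃ N : X.affineOpens, x ∈ N.1 ∧ I.ideal N = J.ideal N := by
    intro x
    obtain ⟨N₁, hxN₁, -, hN₁⟩ := exists_affine_isPrincipalNZD_le I hI ⊤ x trivial
    obtain ⟨N, hxN, hNN₁, t, ht, hJt⟩ := exists_affine_isPrincipalNZD_le J hJ N₁.1 x hxN₁
    obtain ⟨s, hs, hIs⟩ := isPrincipalNZD_of_le I (W := N₁) (N := N) hNN₁ hN₁
    refine ⟨N, hxN, ?_⟩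
    have hts : t ∈ Ideal.span {s} := by
      rw [← hIs]
      exact hJI N (by rw [hJt]; exact Ideal.mem_span_singleton_self t)
    obtain ⟨a, ha⟩ := Ideal.mem_span_singleton'.mp hts
    have hau : IsUnit a := by
      by_contra hnu
      obtain ⟨𝔪, h𝔪, ha𝔪⟩ := exists_max_ideal_of_mem_nonunits hnu
      have : 𝔪.IsPrime := h𝔪.isPrime
      obtain ⟨K, _, V, φ, hφs, hφ𝔪⟩ := exists_valuationSubring_test 𝔪 s hs
      obtain ⟨P, hP, hsP, hPmax⟩ := exists_prime_largest_notMem (φ s) hφs
      let φ' : Γ(X, N.1) →+* (V ⧸ P) := (Ideal.Quotient.mk P).comp φ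
      haveI : IsDomain (V ⧸ P) := Ideal.Quotient.isDomain P
      haveI : ValuationRing (V ⧸ P) :=
        Function.Surjective.valuationRing (Ideal.Quotient.mk P) Ideal.Quotient.mk_surjective
      have hφ's : φ' s ≠ 0 := by
        simp only [φ', RingHom.comp_apply, Ne, Ideal.Quotient.eq_zero_iff_mem]
        exact hsP
      have hEC := isEffCartierIdeal_comap_testMor N.2 φ' I s hIs hφ's
      have hint : ∀ y : Spec (CommRingCat.of (V ⧸ P)),
          y ∈ (ModPair.interior (I.comap (testMor N.2 φ')) : Set (Spec (CommRingCat.of (V ⧸ P)))) ↔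
            y.asIdeal = ⊥ := by
        intro y
        rw [mem_interior_comap_testMor_iff, hIs, Ideal.map_span, Set.image_singleton,
          Ideal.span_singleton_le_iff_mem]
        constructor
        · intro hy
          by_contra hne
          have hle : P ≤ y.asIdeal.comap (Ideal.Quotient.mk P) := by
            intro v hv
            rw [Ideal.mem_comap, Ideal.Quotient.eq_zero_iff_mem.mpr hv]
            exact zero_mem _
          have hlt : P < y.asIdeal.comap (Ideal.Quotient.mk P) := by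
            refine lt_of_le_of_ne hle ?_
            intro heq
            apply hne
            rw [← Ideal.map_comap_of_surjective (Ideal.Quotient.mk P)
              Ideal.Quotient.mk_surjective y.asIdeal, ← heq, Ideal.map_quotient_self]
          exact hy (hPmax _ inferInstance hlt)
        · intro hy
          rw [hy]
          exact hφ's
      have h3 := h (V ⧸ P) (testMor N.2 φ') hEC hint
      have h4 := map_eq_of_comap_eq N.2 φ' I J h3
      rw [hIs, hJt, Ideal.map_span, Ideal.map_span, Set.image_singleton, Set.image_singleton] at h4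
      have h5 : φ' s ∈ Ideal.span {φ' t} := by
        rw [← h4]; exact Ideal.mem_span_singleton_self _
      obtain ⟨c, hc⟩ := Ideal.mem_span_singleton'.mp h5
      rw [← ha, map_mul, ← mul_assoc] at hc
      have h6 : c * φ' a = 1 := by
        have : (c * φ' a - 1) * φ' s = 0 := by rw [sub_mul, hc, one_mul, sub_self]
        rcases mul_eq_zero.mp this with h | h
        · exact sub_eq_zero.mp h
        · exact absurd h hφ's
      have h7 : IsUnit (φ' a) := .of_mul_eq_one_right _ h6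
      have hloc : IsLocalHom (Ideal.Quotient.mk P) :=
        IsLocalHom.of_surjective _ Ideal.Quotient.mk_surjective
      exact hφ𝔪 a ha𝔪 (hloc.map_nonunit _ h7)
    rw [hIs, hJt, ← ha]
    exact (Ideal.span_singleton_mul_left_unit hau s).symm
  choose N hxN hN using key
  refine Scheme.IdealSheafData.ext_of_iSup_eq_top N ?_ hN
  rw [eq_top_iff]
  intro x _
  exact TopologicalSpace.Opens.mem_iSup.mpr ⟨x, hxN x⟩

end Groth.Agent.Lib.Helper22.ModPairVal
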