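import Groth.Agent.Lib.Helper22.MultiSectionAlg
import Groth.Agent.Lib.Helper73.DimFormula.AffineSpaceQF
import Groth.Agent.Lib.Helper73.DimFormula.Chevalley
import Groth.Agent.Lib.Helper57.EtQF1

/-!
# Flat quasi-finite multisections of affine space through algebraic points (helper22)
-/
set_option autoImplicit false
open CategoryTheory AlgebraicGeometry TopologicalSpace Topology Limits
universe u

namespace Groth.Agent.Lib.Helper22.MultiSection

open Groth.Agent.Lib.Helper73

/-- ring-level: algebraicity data at a prime of a polynomial ring whose residual transcendence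
degree is zero -/
theorem exists_poly_of_trdeg_eq_zero (R : Type u) [CommRing R] (A : Type u) [CommRing A]
    [Algebra R A] (Q : Ideal A) [Q.IsPrime]
    (htr : Algebra.trdeg (R ⧸ Q.under R) (A ⧸ Q) = 0) (f : A) :
    ∃ c : Polynomial R, c.map (algebraMap R Q.ResidueField) ≠ 0 ∧
      Polynomial.aeval (algebraMap A Q.ResidueField f) c = 0 := by
  set p : Ideal R := Q.under R with hp
  haveI halg : Algebra.IsAlgebraic (R ⧸ p) (A ⧸ Q) := trdeg_eq_zero_iff.mp htr
  obtain ⟨cb, hcb0, hcb⟩ := halg.isAlgebraic (Ideal.Quotient.mk Q f)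
  obtain ⟨c, rfl⟩ := Polynomial.map_surjective (Ideal.Quotient.mk p)
    Ideal.Quotient.mk_surjective cb
  let ρ : (R ⧸ p) →+* Q.ResidueField :=
    (algebraMap (A ⧸ Q) Q.ResidueField).comp (algebraMap (R ⧸ p) (A ⧸ Q))
  have hρinj : Function.Injective ρ :=
    (Ideal.injective_algebraMap_quotient_residueField (I := Q)).comp
      (FaithfulSMul.algebraMap_injective (R ⧸ p) (A ⧸ Q))
  have hρ : ρ.comp (Ideal.Quotient.mk p) = algebraMap R Q.ResidueField := by
    ext r
    show algebraMap (A ⧸ Q) Q.ResidueField (algebraMap (R ⧸ p) (A ⧸ Q) (Ideal.Quotient.mk p r)) = _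
    rw [Ideal.Quotient.algebraMap_mk_of_liesOver, Ideal.algebraMap_quotient_residueField_mk,
      ← IsScalarTower.algebraMap_apply]
  refine ⟨c, ?_, ?_⟩
  · rw [← hρ, ← Polynomial.map_map]
    exact (Polynomial.map_ne_zero_iff hρinj).mpr hcb0
  · rw [Polynomial.aeval_def, ← hρ, ← Polynomial.eval₂_map,
      ← Ideal.algebraMap_quotient_residueField_mk]
    show Polynomial.eval₂ ((algebraMap (A ⧸ Q) Q.ResidueField).comp
      (algebraMap (R ⧸ p) (A ⧸ Q))) _ _ = 0
    rw [← Polynomial.hom_eval₂, ← Polynomial.aeval_def, hcb, map_zero]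

set_option backward.isDefEq.respectTransparency false in
/-- Through a point `y` of affine space over `S` whose residue field is algebraic over that of its
image in `S` passes a multisection `T ⟶ 𝔸ⁿ_S`, flat, locally of finite presentation and locally
quasi-finite over `S`, with trivial residue field extension at a point over `y`. -/
theorem exists_flat_multisection {S : Scheme.{u}} (n : ℕ)
    (y : ↥(𝔸(ULift.{u} (Fin n); S)))
    (hy : resTrdegNat (𝔸(ULift.{u} (Fin n); S) ↘ S) y = 0) :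
    ∃ (T : Scheme.{u}) (c : T ⟶ 𝔸(ULift.{u} (Fin n); S)) (t : T), c.base t = y ∧
      IsIso (c.residueFieldMap t) ∧ Flat (c ≫ (𝔸(ULift.{u} (Fin n); S) ↘ S)) ∧
      LocallyOfFinitePresentation (c ≫ (𝔸(ULift.{u} (Fin n); S) ↘ S)) ∧
      LocallyQuasiFinite (c ≫ (𝔸(ULift.{u} (Fin n); S) ↘ S)) := by
  set q : 𝔸(ULift.{u} (Fin n); S) ⟶ S := 𝔸(ULift.{u} (Fin n); S) ↘ S with hq
  obtain ⟨V, hV, hsV, -⟩ := exists_isAffineOpen_mem_and_subset (x := q.base y) (U := ⊤) trivial
  set j : Spec Γ(S, V) ⟶ S := hV.fromSpec with hj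
  set qP : 𝔸(ULift.{u} (Fin n); Spec Γ(S, V)) ⟶ Spec Γ(S, V) :=
    𝔸(ULift.{u} (Fin n); Spec Γ(S, V)) ↘ Spec Γ(S, V) with hqP
  set a : 𝔸(ULift.{u} (Fin n); Spec Γ(S, V)) ⟶ 𝔸(ULift.{u} (Fin n); S) :=
    AffineSpace.map (ULift.{u} (Fin n)) j with ha
  have hP : IsPullback a qP q j := AffineSpace.isPullback_map j
  haveI : IsOpenImmersion a :=
    MorphismProperty.of_isPullback (P := @IsOpenImmersion) hP.flip inferInstance
  set s₀ : ↥(Spec Γ(S, V)) := hV.primeIdealOf ⟨q.base y, hsV⟩ with hs₀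
  have hjs₀ : j.base s₀ = q.base y := hV.fromSpec_primeIdealOf ⟨q.base y, hsV⟩
  obtain ⟨y₀, hy₀a, hy₀q⟩ := Scheme.exists_preimage_of_isPullback hP y s₀ hjs₀.symm
  set e := AffineSpace.SpecIso (ULift.{u} (Fin n)) Γ(S, V) with he
  set 𝔮 := e.hom.base y₀ with h𝔮
  have hinv : e.inv.base 𝔮 = y₀ := by
    rw [h𝔮, ← Scheme.Hom.comp_apply, e.hom_inv_id]; rfl
  have hover := AffineSpace.SpecIso_inv_over (n := ULift.{u} (Fin n)) Γ(S, V)
  have h0 : resTrdegNat qP y₀ = 0 := by
    have h1 := resTrdegNat_comp a q y₀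
    have h2 := resTrdegNat_comp qP j y₀
    have h3 : resTrdegNat (a ≫ q) y₀ = resTrdegNat (qP ≫ j) y₀ := resTrdegNat_congr hP.w y₀
    rw [hy₀a, hy] at h1
    have h4 := resTrdegNat_eq_zero_of_locallyQuasiFinite a y₀
    omega
  -- ring level
  let R : Type u := Γ(S, V)
  let A : Type u := MvPolynomial (ULift.{u} (Fin n)) R
  have hlft : LocallyOfFiniteType (Spec.map (CommRingCat.ofHom (algebraMap R A))) :=
    (HasRingHomProperty.Spec_iff (P := @LocallyOfFiniteType)).mpr
      (RingHom.finiteType_algebraMap.mpr inferInstance)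
  have h𝔮0 : resTrdegNat (Spec.map (CommRingCat.ofHom (algebraMap R A))) 𝔮 = 0 := by
    have h1 := resTrdegNat_comp e.inv qP 𝔮
    rw [hinv, h0] at h1
    have h2 : resTrdegNat (e.inv ≫ qP) 𝔮 =
        resTrdegNat (Spec.map (CommRingCat.ofHom (algebraMap R A))) 𝔮 :=
      resTrdegNat_congr hover 𝔮
    have h4 := resTrdegNat_eq_zero_of_locallyQuasiFinite e.inv 𝔮
    omega
  let Q : Ideal A := (show PrimeSpectrum A from 𝔮).asIdeal
  haveI : Q.IsPrime := (show PrimeSpectrum A from 𝔮).isPrime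
  have htr : Algebra.trdeg (R ⧸ Q.under R) (A ⧸ Q) = 0 := by
    have h1 := resTrdeg_SpecMap (R := R) (R' := A) 𝔮 (Q.under R) Q rfl
    rw [resTrdeg_eq_resTrdegNat, h𝔮0] at h1
    rw [← h1]; simp
  let K : Type u := Q.ResidueField
  have hx : ∀ i : Fin n, ∃ c : Polynomial R, c.map (algebraMap R K) ≠ 0 ∧
      Polynomial.aeval (algebraMap A K (MvPolynomial.X (ULift.up i))) c = 0 := fun i =>
    exists_poly_of_trdeg_eq_zero R A Q htr _
  obtain ⟨B, _, _, r, φ, hflat, hfp, hqf, hφ⟩ :=
    Groth.Agent.Lib.Helper22.MultiSectionAlg.exists_flat_quasiFinite_through R K n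
      (fun i => algebraMap A K (MvPolynomial.X (ULift.up i))) hx
  let β : A →ₐ[R] B := MvPolynomial.aeval (fun i : ULift.{u} (Fin n) => r i.down)
  let ι : A →ₐ[R] K := IsScalarTower.toAlgHom R A K
  have hφβ : φ.comp β = ι := by
    refine MvPolynomial.algHom_ext fun i => ?_
    show φ (MvPolynomial.aeval (fun i : ULift.{u} (Fin n) => r i.down) (MvPolynomial.X i)) = _
    rw [MvPolynomial.aeval_X, hφ]
    rfl
  -- scheme level
  let G : Spec (CommRingCat.of B) ⟶ Spec (CommRingCat.of A) :=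
    Spec.map (CommRingCat.ofHom β.toRingHom)
  let F : Spec (CommRingCat.of K) ⟶ Spec (CommRingCat.of B) :=
    Spec.map (CommRingCat.ofHom φ.toRingHom)
  let c : Spec (CommRingCat.of B) ⟶ 𝔸(ULift.{u} (Fin n); S) := G ≫ e.inv ≫ a
  have hcq : c ≫ q = Spec.map (CommRingCat.ofHom (algebraMap R B)) ≫ j := by
    show (G ≫ e.inv ≫ a) ≫ q = _
    rw [Category.assoc, Category.assoc, hP.w, ← Category.assoc e.inv, hover, ← Category.assoc]
    congr 1
    show Spec.map _ ≫ Spec.map _ = _
    rw [← Spec.map_comp]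
    congr 1
    ext r'
    show β (MvPolynomial.C r') = algebraMap R B r'
    rw [← MvPolynomial.algebraMap_eq, AlgHom.commutes]
  have hflat' : Flat (Spec.map (CommRingCat.ofHom (algebraMap R B))) :=
    (HasRingHomProperty.Spec_iff (P := @Flat)).mpr (RingHom.flat_algebraMap_iff.mpr hflat)
  have hfp' : LocallyOfFinitePresentation (Spec.map (CommRingCat.ofHom (algebraMap R B))) :=
    (HasRingHomProperty.Spec_iff (P := @LocallyOfFinitePresentation)).mpr
      (RingHom.finitePresentation_algebraMap.mpr hfp)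
  have hqf' : LocallyQuasiFinite (Spec.map (CommRingCat.ofHom (algebraMap R B))) :=
    (HasRingHomProperty.Spec_iff (P := @LocallyQuasiFinite)).mpr
      (RingHom.quasiFinite_algebraMap.mpr hqf)
  set pt : ↥(Spec (CommRingCat.of K)) := (⟨⊥, Ideal.isPrime_bot⟩ : PrimeSpectrum K) with hpt
  have hFG : F ≫ G = Spec.map (CommRingCat.ofHom ι.toRingHom) := by
    show Spec.map _ ≫ Spec.map _ = _
    rw [← Spec.map_comp]
    congr 1
    show CommRingCat.ofHom ((φ.comp β).toRingHom) = _
    rw [hφβ]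
  have hGt : G.base (F.base pt) = 𝔮 := by
    rw [← Scheme.Hom.comp_apply, hFG]
    apply PrimeSpectrum.ext
    show Ideal.comap (algebraMap A K) ⊥ = Q
    rw [← RingHom.ker_eq_comap_bot]
    exact Ideal.ker_algebraMap_residueField _
  refine ⟨Spec (CommRingCat.of B), c, F.base pt, ?_, ?_, ?_, ?_, ?_⟩
  · show (G ≫ e.inv ≫ a).base (F.base pt) = y
    rw [Scheme.Hom.comp_apply, Scheme.Hom.comp_apply, hGt, hinv, hy₀a]
  · -- residue fields
    have hι : IsIso ((F ≫ G).residueFieldMap pt) := by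
      rw [hFG]
      exact Groth.Agent.Lib.Helper57.EtQF.isIso_residueFieldMap_SpecMap
        (CommRingCat.ofHom ι.toRingHom) pt
        (RingHom.SurjectiveOnStalks.residueFieldMap_bijective
          (Ideal.surjectiveOnStalks_residueField Q) _ _ rfl)
    rw [Scheme.residueFieldMap_comp] at hι
    have hFbij : Function.Bijective (F.residueFieldMap pt).hom := by
      refine ⟨RingHom.injective _, ?_⟩
      have h1 := ((ConcreteCategory.isIso_iff_bijective _).mp hι).2
      intro z
      obtain ⟨w, hw⟩ := h1 z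
      exact ⟨(G.residueFieldMap (F.base pt)).hom w, hw⟩
    haveI hFiso : IsIso (F.residueFieldMap pt) :=
      (ConcreteCategory.isIso_iff_bijective _).mpr hFbij
    haveI hGiso : IsIso (G.residueFieldMap (F.base pt)) :=
      IsIso.of_isIso_comp_right (G.residueFieldMap (F.base pt)) (F.residueFieldMap pt)
    show IsIso ((G ≫ e.inv ≫ a).residueFieldMap (F.base pt))
    rw [Scheme.residueFieldMap_comp]
    infer_instance
  · rw [hcq]; infer_instance
  · rw [hcq]; infer_instance
  · rw [hcq]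
    exact MorphismProperty.RespectsRight.postcomp (P := @LocallyQuasiFinite)
      (Q := @IsOpenImmersion) j inferInstance _ hqf'

end Groth.Agent.Lib.Helper22.MultiSection
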