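import Mathlib

/-!
# Finite flat algebras through prescribed algebraic points (helper22)
-/
set_option autoImplicit false
universe u

namespace Groth.Agent.Lib.Helper22.MultiSectionAlg

open Polynomial

/-- Iterated `AdjoinRoot` of monic polynomials: a finite free (hence flat), finitely presented
algebra with the universal property of a common root tuple. -/
theorem exists_adjoinRoots (R : Type u) [CommRing R] : ∀ (n : ℕ) (P : Fin n → R[X]),
    (∀ i, (P i).Monic) →
    ∃ (B : Type u) (_ : CommRing B) (_ : Algebra R B) (r : Fin n → B),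
      Module.Finite R B ∧ Module.Flat R B ∧ Algebra.FinitePresentation R B ∧
      ∀ (K : Type u) [CommRing K] [Algebra R K] (x : Fin n → K),
        (∀ i, aeval (x i) (P i) = 0) → ∃ φ : B →ₐ[R] K, ∀ i, φ (r i) = x i := by
  intro n
  induction n with
  | zero =>
    intro P _
    exact ⟨R, inferInstance, inferInstance, Fin.elim0, inferInstance, inferInstance,
      inferInstance, fun K _ _ x _ => ⟨Algebra.ofId R K, fun i => i.elim0⟩⟩
  | succ n ih =>
    intro P hP
    obtain ⟨B₀, _, _, r₀, hfin, hflat, hfp, huniv⟩ :=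
      ih (fun i => P i.castSucc) (fun i => hP _)
    set Q : B₀[X] := (P (Fin.last n)).map (algebraMap R B₀) with hQ
    have hQm : Q.Monic := (hP _).map _
    haveI : Module.Finite B₀ (AdjoinRoot Q) := hQm.finite_adjoinRoot
    haveI : Module.Free B₀ (AdjoinRoot Q) := hQm.free_adjoinRoot
    haveI : Algebra.FinitePresentation B₀ (AdjoinRoot Q) := by
      show Algebra.FinitePresentation B₀ (B₀[X] ⧸ Ideal.span {Q})
      exact Algebra.FinitePresentation.quotient ⟨{Q}, by simp⟩
    refine ⟨AdjoinRoot Q, inferInstance, inferInstance,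
      Fin.snoc (fun i => AdjoinRoot.of Q (r₀ i)) (AdjoinRoot.root Q), ?_, ?_, ?_, ?_⟩
    · exact Module.Finite.trans B₀ _
    · exact Module.Flat.trans R B₀ (AdjoinRoot Q)
    · exact Algebra.FinitePresentation.trans R B₀ (AdjoinRoot Q)
    · intro K _ _ x hx
      obtain ⟨φ₀, hφ₀⟩ := huniv K (fun i => x i.castSucc) (fun i => hx _)
      have h : Q.eval₂ (φ₀ : B₀ →+* K) (x (Fin.last n)) = 0 := by
        rw [hQ, Polynomial.eval₂_map]
        have : (φ₀ : B₀ →+* K).comp (algebraMap R B₀) = algebraMap R K := φ₀.comp_algebraMap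
        rw [this, ← Polynomial.aeval_def]
        exact hx _
      refine ⟨AdjoinRoot.liftAlgHom Q φ₀ (x (Fin.last n)) h, ?_⟩
      intro i
      refine Fin.lastCases ?_ (fun j => ?_) i
      · rw [Fin.snoc_last, AdjoinRoot.liftAlgHom_root]
      · rw [Fin.snoc_castSucc, AdjoinRoot.liftAlgHom_of]
        exact hφ₀ j

/-- A flat, finitely presented, quasi-finite algebra with a point through given algebraic
elements of a field. -/
theorem exists_flat_quasiFinite_through (R : Type u) [CommRing R] (K : Type u) [Field K]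
    [Algebra R K] (n : ℕ) (x : Fin n → K)
    (hx : ∀ i, ∃ c : R[X], c.map (algebraMap R K) ≠ 0 ∧ aeval (x i) c = 0) :
    ∃ (B : Type u) (_ : CommRing B) (_ : Algebra R B) (r : Fin n → B) (φ : B →ₐ[R] K),
      Module.Flat R B ∧ Algebra.FinitePresentation R B ∧ Algebra.QuasiFinite R B ∧
      ∀ i, φ (r i) = x i := by
  classical
  choose c hc0 hc using hx
  have h1 : ∀ i, ∃ c' : R[X], c'.map (algebraMap R K) = (c i).map (algebraMap R K) ∧
      c'.degree = ((c i).map (algebraMap R K)).degree := fun i =>
    Polynomial.exists_degree_eq_of_mem_lifts ((Polynomial.mem_lifts _).2 ⟨c i, rfl⟩)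
  choose c' hc'map hc'deg using h1
  set a : Fin n → R := fun i => (c' i).leadingCoeff with ha
  have hane : ∀ i, algebraMap R K (a i) ≠ 0 := by
    intro i
    have h2 : ((c' i).map (algebraMap R K)).degree = (c' i).degree := by
      rw [hc'map, hc'deg]
    have h3 : ((c' i).map (algebraMap R K)).natDegree = (c' i).natDegree :=
      Polynomial.natDegree_eq_of_degree_eq h2
    have h4 : ((c' i).map (algebraMap R K)).leadingCoeff ≠ 0 := by
      rw [Ne, Polynomial.leadingCoeff_eq_zero, hc'map]; exact hc0 i
    rw [Polynomial.leadingCoeff, h3, Polynomial.coeff_map] at h4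
    exact h4
  set g : R := ∏ i, a i with hg
  have hgne : algebraMap R K g ≠ 0 := by
    rw [hg, map_prod]; exact Finset.prod_ne_zero_iff.mpr fun i _ => hane i
  let R' := Localization.Away g
  letI : Algebra R' K := (IsLocalization.Away.lift g (hgne.isUnit)).toAlgebra
  haveI : IsScalarTower R R' K := IsScalarTower.of_algebraMap_eq fun r => by
    show _ = (IsLocalization.Away.lift g (hgne.isUnit)) (algebraMap R R' r)
    rw [IsLocalization.Away.lift_eq]
  haveI : Nontrivial R' := (algebraMap R' K).domain_nontrivial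
  have hunit : ∀ i, IsUnit (algebraMap R R' (a i)) := by
    intro i
    have hdvd : a i ∣ g := Finset.dvd_prod_of_mem a (Finset.mem_univ i)
    exact isUnit_of_dvd_unit ((algebraMap R R').map_dvd hdvd)
      (IsLocalization.Away.algebraMap_isUnit g)
  set P : Fin n → R'[X] := fun i =>
    C (↑(hunit i).unit⁻¹ : R') * (c' i).map (algebraMap R R') with hP
  have hlead : ∀ i, ((c' i).map (algebraMap R R')).leadingCoeff = algebraMap R R' (a i) :=
    fun i => Polynomial.leadingCoeff_map_of_leadingCoeff_ne_zero _ (hunit i).ne_zero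
  have hPm : ∀ i, (P i).Monic := by
    intro i
    refine Polynomial.monic_C_mul_of_mul_leadingCoeff_eq_one ?_
    rw [hlead]
    exact (hunit i).val_inv_mul
  have hPx : ∀ i, aeval (x i) (P i) = 0 := by
    intro i
    have h2 : aeval (x i) (c' i) = 0 := by
      rw [Polynomial.aeval_def, Polynomial.eval₂_eq_eval_map, hc'map,
        ← Polynomial.eval₂_eq_eval_map, ← Polynomial.aeval_def]
      exact hc i
    rw [hP]
    simp only [map_mul, Polynomial.aeval_C, Polynomial.aeval_map_algebraMap, h2, mul_zero]
  obtain ⟨B, _, _, r, hfin, hflat, hfp, huniv⟩ := exists_adjoinRoots R' n P hPm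
  obtain ⟨φ', hφ'⟩ := huniv K x hPx
  letI : Algebra R B := ((algebraMap R' B).comp (algebraMap R R')).toAlgebra
  haveI : IsScalarTower R R' B := IsScalarTower.of_algebraMap_eq fun _ => rfl
  haveI : Module.Flat R R' := IsLocalization.flat R' (Submonoid.powers g)
  refine ⟨B, inferInstance, inferInstance, r, φ'.restrictScalars R, ?_, ?_, ?_, hφ'⟩
  · exact Module.Flat.trans R R' B
  · exact Algebra.FinitePresentation.trans R R' B
  · exact Algebra.QuasiFinite.trans R R' B

end Groth.Agent.Lib.Helper22.MultiSectionAlg
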