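import Mathlib
import Groth.Prelude
import Groth.Agent.S15543
import Groth.Agent.S5325
import Groth.Agent.Lib.Helper36.ProConsScheme
import Groth.Agent.Lib.Helper78.NeutralCons
import Groth.Agent.Lib.Helper61.NeutRepISO
import Groth.Agent.Lib.Helper61.NeutRepK4
import Groth.Agent.Lib.Helper45.NeutRepK23
import Groth.Agent.Lib.Helper31.NeutRepK6

/-!
# SGA3 VI_B 3.10 (i) ⇒ (ii): a representable neutral-component functor is open and quasi-compact

helper22, for S5326.  Lemma K (`isOpen_of_represents`): if a monomorphism `i : Y ⟶ X` represents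
the functor of morphisms landing in an ind-constructible subset `E`, then `E` is open.  Proof:
for `x ∈ E` look at `Spec 𝒪_{X,x} ⟶ X`; if some generization is outside `E`, take a point `p₀`
outside the preimage of `E` which is maximal for specialization (helper45 K23), pass to the local
domain `A = 𝒪_{X,x}/p₀` (not a field); all non-generic points of `Spec A` map into `E`, so all
`Spec (A/(a))` factor through `i`; glue over the product ring (helper31 K6); `A` embeds in the
product (helper61 K4), so the generic point of `Spec A` is hit, contradiction.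
Pieces: helper61/helper40 (ISO, K4), helper45 (K23), helper31 (K6).
-/

set_option autoImplicit false
set_option linter.style.haveILetI false
universe u
open CategoryTheory CategoryTheory.Limits MonoidalCategory CartesianMonoidalCategory MonObj GrpObj AlgebraicGeometry
open Topology

namespace Groth.Agent.Lib.Helper22.NeutRep

open Groth.Agent.Lib.Helper61.NeutRepISO Groth.Agent.Lib.Helper61.NeutRepK4
  Groth.Agent.Lib.Helper45.NeutRepK23 Groth.Agent.Lib.Helper31.NeutRepK6

set_option backward.isDefEq.respectTransparency false in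
/-- Lemma K -/
theorem isOpen_of_represents {X Y : Scheme.{u}} (i : Y ⟶ X) [Mono i] (E : Set X)
    (hE : ProCons.IsIndConstructible E)
    (hrep : ∀ (T : Scheme.{u}) (g : T ⟶ X), (∃ z : T ⟶ Y, z ≫ i = g) ↔ Set.range g.base ⊆ E) :
    IsOpen E := by
  rw [← subset_interior_iff_isOpen]
  intro x hx
  rw [Groth.Agent.Lib.Helper36.scheme_mem_interior_iff_of_isIndConstructible X hE x]
  set R : CommRingCat.{u} := X.presheaf.stalk x with hR
  set φ : Spec R ⟶ X := X.fromSpecStalk x with hφ
  set E' : Set ↥(Spec R) := φ.base ⁻¹' E with hE'def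
  have hE' : ProCons.IsIndConstructible E' := Groth.Agent.S15543.result φ E hE
  suffices h : E' = Set.univ by
    intro x' hx'
    have h1 : x' ∈ Set.range φ.base := by
      rw [hφ, Scheme.range_fromSpecStalk]; exact hx'
    obtain ⟨p, rfl⟩ := h1
    have h2 : p ∈ E' := by rw [h]; trivial
    exact h2
  by_contra hne
  obtain ⟨p₀, hp₀E, hp₀max⟩ := exists_maximal_not_mem (Spec R) E' hE' hne
  -- the prime ideal of `p₀`
  let P₀ : PrimeSpectrum R := p₀
  set 𝔭 : Ideal R := P₀.asIdeal with h𝔭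
  haveI h𝔭p : 𝔭.IsPrime := P₀.isPrime
  -- the closed point lies in `E'`
  have hcl : (IsLocalRing.closedPoint R : PrimeSpectrum R) ∈ E' := by
    show φ.base (IsLocalRing.closedPoint R) ∈ E
    rw [hφ, Scheme.fromSpecStalk_closedPoint]
    exact hx
  have hne0 : 𝔭 ≠ IsLocalRing.maximalIdeal R := by
    intro h
    apply hp₀E
    have : P₀ = IsLocalRing.closedPoint R := PrimeSpectrum.ext h
    have h2 : p₀ = (IsLocalRing.closedPoint R : PrimeSpectrum R) := this
    rw [h2]
    exact hcl
  let A : Type u := R ⧸ 𝔭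
  haveI : Nontrivial A := Ideal.Quotient.nontrivial_iff.2 h𝔭p.ne_top
  haveI : IsLocalRing A :=
    IsLocalRing.of_surjective' (Ideal.Quotient.mk 𝔭) Ideal.Quotient.mk_surjective
  have hAf : ¬ IsField A := by
    intro hf
    have := Ideal.Quotient.maximal_of_isField 𝔭 hf
    exact hne0 (IsLocalRing.eq_maximalIdeal this)
  let q : Spec (CommRingCat.of A) ⟶ Spec R := Spec.map (CommRingCat.ofHom (Ideal.Quotient.mk 𝔭))
  let h : Spec (CommRingCat.of A) ⟶ X := q ≫ φ
  let J : Type u := {a : A // a ≠ 0 ∧ ¬ IsUnit a}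
  haveI : Nonempty J := by
    by_contra hJ
    rw [not_nonempty_iff] at hJ
    apply hAf
    refine ⟨exists_pair_ne A, mul_comm, fun {a} ha => ?_⟩
    by_contra hcon
    have hu : ¬ IsUnit a := fun hu => hcon (hu.exists_right_inv)
    exact hJ.false ⟨a, ha, hu⟩
  let I : J → Ideal A := fun a => Ideal.span {(a : A)}
  have hI : ∀ a, I a ≠ ⊤ := fun a => by
    intro h
    exact a.2.2 (Ideal.span_singleton_eq_top.1 h)
  -- points of `Spec A` other than the generic point land in `E`
  have hpt : ∀ r : PrimeSpectrum A, r.asIdeal ≠ ⊥ →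
      φ.base (q.base (r : ↥(Spec (CommRingCat.of A)))) ∈ E := by
    intro r hr
    set w : ↥(Spec R) := q.base (r : ↥(Spec (CommRingCat.of A))) with hw
    have hwI : (w : PrimeSpectrum R).asIdeal = Ideal.comap (Ideal.Quotient.mk 𝔭) r.asIdeal := rfl
    by_contra hcon
    have h1 : p₀ ⤳ w := by
      show (P₀ : PrimeSpectrum R) ⤳ (w : PrimeSpectrum R)
      rw [← PrimeSpectrum.le_iff_specializes]
      show 𝔭 ≤ (w : PrimeSpectrum R).asIdeal
      rw [hwI]
      intro t ht
      rw [Ideal.mem_comap, Ideal.Quotient.eq_zero_iff_mem.2 ht]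
      exact zero_mem _
    have h2 := hp₀max w h1 hcon
    apply hr
    have h3 : Ideal.comap (Ideal.Quotient.mk 𝔭) r.asIdeal = 𝔭 := by
      rw [← hwI, h2]
    have h4 := Ideal.map_comap_of_surjective (Ideal.Quotient.mk 𝔭) Ideal.Quotient.mk_surjective
      r.asIdeal
    rw [h3, Ideal.map_quotient_self] at h4
    exact h4.symm
  have hz : ∀ a, ∃ z : Spec (CommRingCat.of (A ⧸ I a)) ⟶ Y,
      z ≫ i = Spec.map (CommRingCat.ofHom (Ideal.Quotient.mk (I a))) ≫ h := by
    intro a
    rw [hrep]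
    rintro _ ⟨t, rfl⟩
    let r : PrimeSpectrum A := (Spec.map (CommRingCat.ofHom (Ideal.Quotient.mk (I a)))).base t
    have hrI : r.asIdeal = Ideal.comap (Ideal.Quotient.mk (I a)) (t : PrimeSpectrum _).asIdeal := rfl
    have har : (a : A) ∈ r.asIdeal := by
      rw [hrI, Ideal.mem_comap, Ideal.Quotient.eq_zero_iff_mem.2 (Ideal.mem_span_singleton_self _)]
      exact zero_mem _
    have hr : r.asIdeal ≠ ⊥ := by
      intro h0
      rw [h0, Ideal.mem_bot] at har
      exact a.2.1 har
    exact hpt r hr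
  obtain ⟨z, hzz⟩ := exists_lift_pi i A h I hI hz
  have hrange := (hrep _ _).1 ⟨z, hzz⟩
  have hinj := injective_pi_quotient A hAf
  obtain ⟨Q, hQ, hQc⟩ := Ideal.exists_comap_eq_of_mem_minimalPrimes_of_injective hinj ⊥ (by
    show (⊥ : Ideal A) ∈ (⊥ : Ideal A).minimalPrimes
    rw [Ideal.minimalPrimes_eq_subsingleton_self]
    rfl)
  apply hp₀E
  let Qp : ↥(Spec (CommRingCat.of (∀ a, A ⧸ I a))) := (⟨Q, hQ⟩ : PrimeSpectrum _)
  have h5 := hrange ⟨Qp, rfl⟩
  have h6 : (Spec.map (CommRingCat.ofHom (RingHom.pi (fun a => Ideal.Quotient.mk (I a)))) ≫ h).base Qp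
      = φ.base p₀ := by
    show φ.base (q.base ((Spec.map (CommRingCat.ofHom
      (RingHom.pi (fun a => Ideal.Quotient.mk (I a))))).base Qp)) = φ.base p₀
    congr 1
    apply PrimeSpectrum.ext
    show Ideal.comap (Ideal.Quotient.mk 𝔭) (Ideal.comap
      (RingHom.pi (fun a => Ideal.Quotient.mk (I a))) Q) = 𝔭
    rw [hQc, ← RingHom.ker_eq_comap_bot, Ideal.mk_ker]
  rw [h6] at h5
  exact h5


theorem isCompact_of_isConstructible {X : Type*} [TopologicalSpace X] [CompactSpace X] {s : Set X}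
    (hs : IsConstructible s) : IsCompact s := by
  induction s, hs using BooleanSubalgebra.closure_sdiff_sup_induction with
  | isSublattice => exact ⟨fun s hs t ht ↦ ⟨hs.1.union ht.1, hs.2.union ht.2⟩,
      fun s hs t ht ↦ ⟨hs.1.inter ht.1, hs.2.inter_isOpen ht.2 ht.1⟩⟩
  | bot_mem => exact ⟨isOpen_empty, .empty⟩
  | top_mem => exact ⟨isOpen_univ, .univ⟩
  | sdiff U hU V hV => exact hU.2.isCompact.diff hV.1
  | sup s _ t _ hs' ht' => exact hs'.union ht'

set_option backward.isDefEq.respectTransparency false in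
open Groth.Agent.Lib.Helper78.NeutralCons in
/-- [QC] -/
theorem quasiCompact_neutral {S : Scheme.{u}} (G : Over S) [GrpObj G]
    [LocallyOfFinitePresentation G.hom] (U0 : G.left.Opens)
    (hU0 : (U0 : Set G.left) = SGA3x.neutralSet G) : QuasiCompact (U0.ι ≫ G.hom) := by
  have hch : ∀ s : S, ∃ (V : S.Opens) (U : G.left.Opens), IsAffineOpen V ∧ IsAffineOpen U ∧ s ∈ V ∧
      U ≤ G.hom ⁻¹ᵁ V ∧ V ≤ unitSec G ⁻¹ᵁ U :=
    fun s => exists_affine_nbhd_section G.hom (unitSec G) (unitSec_hom G) s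
  choose V U hV hU hsV hUV hVU using hch
  rw [HasAffineProperty.iff_of_iSup_eq_top (P := @QuasiCompact)
    (Q := fun X _ _ _ ↦ CompactSpace X)
    (fun s : S => (⟨V s, hV s⟩ : S.affineOpens)) (by
      rw [eq_top_iff]
      rintro s -
      simp only [TopologicalSpace.Opens.mem_iSup]
      exact ⟨s, hsV s⟩)]
  intro s
  show CompactSpace ↥((U0.ι ≫ G.hom) ⁻¹ᵁ V s)
  refine isCompact_iff_compactSpace.mp ?_
  show IsCompact (((U0.ι ≫ G.hom) ⁻¹ᵁ V s : U0.toScheme.Opens) : Set ↥U0.toScheme)
  obtain ⟨P, hP, m, hm, T₂, hT₂, himg, -⟩ := exists_local_package G (V s) (U s) (hV s) (hU s)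
    (hUV s) (hVU s)
  have hc : IsCompact (m.base '' T₂) := (isCompact_of_isConstructible hT₂).image m.base.hom.2
  rw [U0.ι.isOpenEmbedding.isEmbedding.isCompact_iff]
  convert hc using 1
  rw [himg]
  ext x
  simp only [Set.mem_image, Set.mem_inter_iff, Set.mem_preimage]
  constructor
  · rintro ⟨u, hu, rfl⟩
    refine ⟨?_, hu⟩
    rw [← hU0]
    exact u.2
  · rintro ⟨hx1, hx2⟩
    rw [← hU0] at hx1
    exact ⟨⟨x, hx1⟩, hx2, rfl⟩


theorem main (S : Scheme.{u}) (G : Over S) [GrpObj G]
    [LocallyOfFinitePresentation G.hom] (G0 : Over S) (i : G0 ⟶ G) [Mono i]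
    (hrep : ∀ (T : Over S) (g : T ⟶ G), (∃ z : T ⟶ G0, z ≫ i = g) ↔ Set.range g.left.base ⊆ SGA3x.neutralSet G) :
    IsOpenImmersion i.left ∧ QuasiCompact G0.hom := by
  haveI : Mono i.left := inferInstance
  have hrep' : ∀ (T : Scheme.{u}) (g : T ⟶ G.left),
      (∃ z : T ⟶ G0.left, z ≫ i.left = g) ↔ Set.range g.base ⊆ SGA3x.neutralSet G := by
    intro T g
    have h1 := hrep (Over.mk (g ≫ G.hom)) (Over.homMk g rfl)
    constructor
    · rintro ⟨z, hz⟩
      refine h1.1 ⟨Over.homMk z ?_, ?_⟩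
      · show z ≫ G0.hom = g ≫ G.hom
        rw [← hz, Category.assoc, Over.w i]
      · ext
        exact hz
    · intro hr
      obtain ⟨z, hz⟩ := h1.2 hr
      exact ⟨z.left, congrArg CommaMorphism.left hz⟩
  have hEind := (Groth.Agent.S5325.result S G).1
  have hopen := isOpen_of_represents i.left _ hEind hrep'
  obtain ⟨hoi, hrange⟩ := isOpenImmersion_of_represents i.left _ hopen hrep'
  refine ⟨hoi, ?_⟩
  let U0 : G.left.Opens := ⟨SGA3x.neutralSet G, hopen⟩
  have hqc : QuasiCompact (U0.ι ≫ G.hom) := quasiCompact_neutral G U0 rfl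
  have hr2 : Set.range i.left.base = Set.range U0.ι.base := by
    rw [hrange, Scheme.Opens.range_ι]
    rfl
  let e : G0.left ≅ U0 := IsOpenImmersion.isoOfRangeEq i.left U0.ι hr2
  have he : G0.hom = e.hom ≫ (U0.ι ≫ G.hom) := by
    rw [← Category.assoc, IsOpenImmersion.isoOfRangeEq_hom_fac, Over.w i]
  rw [he]
  infer_instance


end Groth.Agent.Lib.Helper22.NeutRep
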