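import Mathlib
import Groth.Prelude

/-!
# Converse of S5326: an open subset is representable by the open subscheme (helper22)
-/

set_option autoImplicit false
set_option linter.style.haveILetI false
universe u
open CategoryTheory CategoryTheory.Limits AlgebraicGeometry

namespace Groth.Agent.Lib.Helper22.NeutRepConv

/-- plain-scheme form: morphisms landing in an open subset factor uniquely through the open
subscheme -/
theorem exists_lift_iff {X : Scheme.{u}} (U : X.Opens) {T : Scheme.{u}} (g : T ⟶ X) :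
    (∃ z : T ⟶ (U : Scheme.{u}), z ≫ U.ι = g) ↔ Set.range g.base ⊆ (U : Set X) := by
  constructor
  · rintro ⟨z, rfl⟩ _ ⟨t, rfl⟩
    exact (z.base t).2
  · intro h
    have h' : Set.range g.base ⊆ Set.range U.ι.base := by
      rw [Scheme.Opens.range_ι]; exact h
    exact ⟨IsOpenImmersion.lift U.ι g h', IsOpenImmersion.lift_fac _ _ _⟩

/-- `Over S` form, in the shape of the representability hypothesis of S5326 / S5400. -/
theorem exists_rep_of_isOpen {S : Scheme.{u}} (G : Over S) (E : Set G.left) (hE : IsOpen E) :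
    ∃ (G0 : Over S) (i0 : G0 ⟶ G), Mono i0 ∧ IsOpenImmersion i0.left ∧
      Set.range i0.left.base = E ∧
      ∀ (T : Over S) (g : T ⟶ G), (∃ z : T ⟶ G0, z ≫ i0 = g) ↔ Set.range g.left.base ⊆ E := by
  let U : G.left.Opens := ⟨E, hE⟩
  let i0 : Over.mk (U.ι ≫ G.hom) ⟶ G := Over.homMk U.ι rfl
  haveI : Mono i0.left := inferInstanceAs (Mono U.ι)
  refine ⟨Over.mk (U.ι ≫ G.hom), i0, (Over.forget S).mono_of_mono_map ‹Mono i0.left›,
    inferInstanceAs (IsOpenImmersion U.ι), ?_, ?_⟩
  · show Set.range U.ι.base = E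
    rw [Scheme.Opens.range_ι]; rfl
  · intro T g
    constructor
    · rintro ⟨z, rfl⟩ _ ⟨t, rfl⟩
      exact ((z.left).base t).2
    · intro h
      obtain ⟨z, hz⟩ := (exists_lift_iff U g.left).2 h
      refine ⟨Over.homMk z ?_, ?_⟩
      · show z ≫ U.ι ≫ G.hom = T.hom
        rw [← Category.assoc, hz, Over.w g]
      · ext
        exact hz

end Groth.Agent.Lib.Helper22.NeutRepConv
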