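import Mathlib
import Groth.Agent.Lib.Helper80.Node.Defs

set_option autoImplicit false
set_option linter.style.haveILetI false
universe u
open Groth.Agent.Lib.Helper80.Node

namespace Groth.Agent.Lib.Helper22.NodeET

open Polynomial in
/-- ET of helper80's S14386 marketplace: if `V[T] → B[1/w]`, `T ↦ f`, is étale then a power of `w`
pushes every differential of `B/V` into `B • df`. -/
theorem et {V B : Type u} [CommRing V] [CommRing B] [Algebra V B] [Algebra.FiniteType V B] (w f : B)
    (hf : ((algebraMap B (Localization.Away w)).comp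
      (Polynomial.aeval f : Polynomial V →ₐ[V] B).toRingHom).Etale) :
    ∃ m : ℕ, ∀ ω : Ω[B⁄V], ∃ c : B, w ^ m • ω = c • KaehlerDifferential.D V B f := by
  letI algT : Algebra V[X] B := (Polynomial.aeval f : V[X] →ₐ[V] B).toRingHom.toAlgebra
  haveI tow : IsScalarTower V V[X] B :=
    IsScalarTower.of_algebraMap_eq (fun v => ((Polynomial.aeval f).commutes v).symm)
  have halgX : algebraMap V[X] B X = f := by
    show (Polynomial.aeval f) X = f
    simp
  haveI : Algebra.FiniteType V[X] B := Algebra.FiniteType.of_restrictScalars_finiteType V V[X] B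
  have het : (algebraMap V[X] (Localization.Away w)).Etale := by
    rw [IsScalarTower.algebraMap_eq V[X] B (Localization.Away w)]
    exact hf
  haveI hEt : Algebra.Etale V[X] (Localization.Away w) := RingHom.etale_algebraMap.mp het
  have hsub : Subsingleton (Ω[Localization.Away w⁄V[X]]) := inferInstance
  have hloc := (IsLocalizedModule.subsingleton_iff (Submonoid.powers w)
    (KaehlerDifferential.map V[X] V[X] B (Localization.Away w))).mp hsub
  obtain ⟨m, hm⟩ : ∃ m : ℕ, ∀ ω : Ω[B⁄V[X]], w ^ m • ω = 0 := by
    obtain ⟨s, hs⟩ := (Module.Finite.fg_top : (⊤ : Submodule B (Ω[B⁄V[X]])).FG)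
    have hk : ∀ ω : Ω[B⁄V[X]], ∃ k : ℕ, w ^ k • ω = 0 := fun ω => by
      obtain ⟨r, ⟨k, rfl⟩, hr⟩ := hloc ω
      exact ⟨k, hr⟩
    choose k hk using hk
    refine ⟨s.sup k, fun ω => ?_⟩
    have hmem : ω ∈ Submodule.span B (s : Set (Ω[B⁄V[X]])) := by
      rw [hs]; exact Submodule.mem_top
    refine Submodule.span_induction
      (p := fun ω _ => w ^ (s.sup k) • ω = 0) ?_ ?_ ?_ ?_ hmem
    · intro x hx
      have hle : k x ≤ s.sup k := Finset.le_sup hx
      rw [← Nat.sub_add_cancel hle, pow_add, mul_smul, hk x, smul_zero]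
    · exact smul_zero _
    · intro x y _ _ hx hy
      rw [smul_add, hx, hy, add_zero]
    · intro r x _ hx
      rw [smul_comm, hx, smul_zero]
  -- the kernel of `Ω[B/V] → Ω[B/V[X]]` is `B • D f`
  have hker : LinearMap.ker (KaehlerDifferential.map V V[X] B B) ≤
      Submodule.span B {KaehlerDifferential.D V B f} := by
    have hmapN : ∀ s : Ω[V[X]⁄V], KaehlerDifferential.map V V V[X] B s ∈
        Submodule.span B {KaehlerDifferential.D V B f} := by
      intro s
      have hs : s = (KaehlerDifferential.polynomialEquiv V s) • KaehlerDifferential.D V V[X] X := by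
        rw [← KaehlerDifferential.polynomialEquiv_symm, LinearEquiv.symm_apply_apply]
      rw [hs, map_smul, KaehlerDifferential.map_D, halgX, ← algebraMap_smul B]
      exact Submodule.smul_mem _ _ (Submodule.mem_span_singleton_self _)
    rw [← KaehlerDifferential.range_mapBaseChange]
    rintro _ ⟨t, rfl⟩
    induction t using TensorProduct.induction_on with
    | zero => rw [map_zero]; exact zero_mem _
    | tmul r s =>
      rw [KaehlerDifferential.mapBaseChange_tmul]
      exact Submodule.smul_mem _ _ (hmapN s)
    | add a b ha hb => rw [map_add]; exact add_mem ha hb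
  refine ⟨m, fun ω => ?_⟩
  have h1 : w ^ m • ω ∈ LinearMap.ker (KaehlerDifferential.map V V[X] B B) := by
    rw [LinearMap.mem_ker, map_smul]
    exact hm _
  obtain ⟨c, hc⟩ := Submodule.mem_span_singleton.mp (hker h1)
  exact ⟨c, hc.symm⟩

end Groth.Agent.Lib.Helper22.NodeET
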