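import Groth.Agent.Lib.Helper87.OpenAtRing
import Groth.Agent.Lib.Helper87.FiniteOpenRing

/-!
# Going-down for quasi-finite morphisms to a normal affine scheme (helper22)
-/
set_option autoImplicit false
open CategoryTheory AlgebraicGeometry TopologicalSpace Topology Limits
universe u

namespace Groth.Agent.Lib.Helper22.NormalGoingDown

set_option backward.isDefEq.respectTransparency false in
/-- Let `A` be an integrally closed domain and `v : X ⟶ Spec A` locally of finite type and locally
quasi-finite. If `x` has a generization `z'` lying over the generic point of `Spec A`, then every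
generization of `v x` lifts to a generization of `x` (no Noetherian hypotheses). -/
theorem exists_generization_of_normal {X : Scheme.{u}} (A : Type u) [CommRing A] [IsDomain A]
    [IsIntegrallyClosed A] (v : X ⟶ Spec (CommRingCat.of A)) [LocallyOfFiniteType v]
    [LocallyQuasiFinite v] (x z' : X) (hz : z' ⤳ x) (hgen : (v.base z').asIdeal = ⊥)
    (t : ↥(Spec (CommRingCat.of A))) (ht : t ⤳ v.base x) :
    ∃ w : X, w ⤳ x ∧ v.base w = t := by
  obtain ⟨U, hU, hxU, -⟩ := exists_isAffineOpen_mem_and_subset (x := x) (U := ⊤) trivial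
  have hzU : z' ∈ U := hz.mem_open U.isOpen hxU
  let ψ : Spec Γ(X, U) ⟶ Spec (CommRingCat.of A) := hU.fromSpec ≫ v
  let ρ : CommRingCat.of A ⟶ Γ(X, U) := Spec.preimage ψ
  have hρ : Spec.map ρ = ψ := Spec.map_preimage ψ
  have hft : ρ.hom.FiniteType := by
    have : LocallyOfFiniteType (Spec.map ρ) := by rw [hρ]; infer_instance
    exact (HasRingHomProperty.Spec_iff (P := @LocallyOfFiniteType)).mp this
  have hqf : ρ.hom.QuasiFinite := by
    have : LocallyQuasiFinite (Spec.map ρ) := by rw [hρ]; infer_instance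
    exact (HasRingHomProperty.Spec_iff (P := @LocallyQuasiFinite)).mp this
  letI := ρ.hom.toAlgebra
  haveI : Algebra.FiniteType A Γ(X, U) := hft
  haveI : Algebra.QuasiFinite A Γ(X, U) := hqf
  set a : ↥(Spec Γ(X, U)) := hU.primeIdealOf ⟨x, hxU⟩ with ha
  set b : ↥(Spec Γ(X, U)) := hU.primeIdealOf ⟨z', hzU⟩ with hb
  have hax : hU.fromSpec.base a = x := hU.fromSpec_primeIdealOf ⟨x, hxU⟩
  have hbz : hU.fromSpec.base b = z' := hU.fromSpec_primeIdealOf ⟨z', hzU⟩
  have hba : b ⤳ a := by
    rw [← hU.fromSpec.isOpenEmbedding.isInducing.specializes_iff, hax, hbz]; exact hz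
  have hle : b.asIdeal ≤ a.asIdeal := (PrimeSpectrum.le_iff_specializes b a).2 hba
  -- the images in `Spec A`
  have hψa : (Spec.map ρ).base a = v.base x := by
    rw [hρ]; show (hU.fromSpec ≫ v).base a = _
    rw [Scheme.Hom.comp_apply, hax]
  have hψb : (Spec.map ρ).base b = v.base z' := by
    rw [hρ]; show (hU.fromSpec ≫ v).base b = _
    rw [Scheme.Hom.comp_apply, hbz]
  have hca : a.asIdeal.comap (algebraMap A Γ(X, U)) = (v.base x).asIdeal := by
    rw [← hψa]; rfl
  have hcb : b.asIdeal.comap (algebraMap A Γ(X, U)) = ⊥ := by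
    rw [← hgen, ← hψb]; rfl
  -- the quotient domain
  set 𝔮 : Ideal Γ(X, U) := b.asIdeal with h𝔮
  haveI : 𝔮.IsPrime := b.isPrime
  let B := Γ(X, U) ⧸ 𝔮
  have hsurj : Function.Surjective (Ideal.Quotient.mk 𝔮) := Ideal.Quotient.mk_surjective
  have hker : RingHom.ker (Ideal.Quotient.mk 𝔮) ≤ a.asIdeal := by
    rw [Ideal.mk_ker]; exact hle
  set nB : Ideal B := a.asIdeal.map (Ideal.Quotient.mk 𝔮) with hnB
  haveI : a.asIdeal.IsPrime := a.isPrime
  haveI : nB.IsPrime := Ideal.map_isPrime_of_surjective hsurj hker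
  have hnBc : nB.comap (Ideal.Quotient.mk 𝔮) = a.asIdeal := by
    rw [hnB, Ideal.comap_map_of_surjective' _ hsurj, sup_eq_left]
    exact hker
  have hcomp : ∀ I : Ideal B, I.comap (algebraMap A B) =
      (I.comap (Ideal.Quotient.mk 𝔮)).comap (algebraMap A Γ(X, U)) := by
    intro I
    rw [Ideal.comap_comap]
    rfl
  have hD : ∀ c ∈ minimalPrimes B, c.comap (algebraMap A B) ∈ minimalPrimes A := by
    intro c hc
    rw [IsDomain.minimalPrimes_eq_singleton_bot] at hc ⊢
    rw [Set.mem_singleton_iff] at hc ⊢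
    subst hc
    rw [hcomp, ← RingHom.ker_eq_comap_bot, Ideal.mk_ker, hcb]
  have hnBA : nB.comap (algebraMap A B) = (v.base x).asIdeal := by
    rw [hcomp, hnBc, hca]
  haveI : (v.base x).asIdeal.IsPrime := (v.base x).isPrime
  have hIC : IsIntegrallyClosed (Localization.AtPrime (v.base x).asIdeal) :=
    isIntegrallyClosed_of_isLocalization (Localization.AtPrime (v.base x).asIdeal)
      (v.base x).asIdeal.primeCompl (v.base x).asIdeal.primeCompl_le_nonZeroDivisors
  have hUni : CAlg2.IsUnibranch (Localization.AtPrime (v.base x).asIdeal) :=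
    (Groth.Agent.Lib.Helper87.FiniteOpenRing.isGeomUnibranch_of_isIntegrallyClosed _).1
  have hGL := Groth.Agent.Lib.Helper87.UnivOpen.genLift_of_isUnibranch' A B hD nB
    (v.base x).asIdeal hnBA hUni
  have htle : t.asIdeal ≤ nB.comap (algebraMap A B) := by
    rw [hnBA]; exact (PrimeSpectrum.le_iff_specializes t (v.base x)).2 ht
  obtain ⟨P, hP, hPle, hPc⟩ := hGL t.asIdeal t.isPrime htle
  haveI := hP
  let c : ↥(Spec Γ(X, U)) := ⟨P.comap (Ideal.Quotient.mk 𝔮), Ideal.comap_isPrime _ _⟩
  have hca' : c ⤳ a := by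
    refine (PrimeSpectrum.le_iff_specializes c a).1 ?_
    show P.comap (Ideal.Quotient.mk 𝔮) ≤ a.asIdeal
    rw [← hnBc]; exact Ideal.comap_mono hPle
  refine ⟨hU.fromSpec.base c, ?_, ?_⟩
  · rw [← hax]; exact hca'.map hU.fromSpec.continuous
  · have h1 : v.base (hU.fromSpec.base c) = (Spec.map ρ).base c := by
      rw [hρ]; show _ = (hU.fromSpec ≫ v).base c
      rw [Scheme.Hom.comp_apply]
    rw [h1]
    apply PrimeSpectrum.ext
    show (P.comap (Ideal.Quotient.mk 𝔮)).comap (algebraMap A Γ(X, U)) = t.asIdeal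
    rw [← hcomp, hPc]

end Groth.Agent.Lib.Helper22.NormalGoingDown
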