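import Mathlib
import Groth.Prelude.Def_PolLaw

set_option autoImplicit false
universe u
open scoped TensorProduct
open Polynomial

namespace Groth.Agent.Lib.Helper22.PolLawLib

variable {A : Type u} [CommRing A] {B : Type u} [CommRing B] [Algebra A B]

theorem mem_ker_of_ring (F : B →ₚₗ[A] A) (b : B)
    (h : ∀ (S : Type u) [CommRing S] [Algebra A S] (x w : S ⊗[A] B),
      F.toFun' S (x + w * (1 ⊗ₜ[A] b)) = F.toFun' S x) : b ∈ PolLaw.ker F := by
  intro S _ _ x w
  let _ : CommRing S := (algebraMap A S).commSemiringToCommRing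
  exact h S x w

theorem rTensor_eq_map {S S' : Type u} [CommSemiring S] [Algebra A S] [CommSemiring S']
    [Algebra A S'] (φ : S →ₐ[A] S') (x : S ⊗[A] B) :
    φ.toLinearMap.rTensor B x = Algebra.TensorProduct.map φ (AlgHom.id A B) x := by
  induction x using TensorProduct.induction_on with
  | zero => simp
  | tmul a b => rfl
  | add a b ha hb => simp [ha, hb]

theorem compat (F : B →ₚₗ[A] A) {S S' : Type u} [CommSemiring S] [Algebra A S]
    [CommSemiring S'] [Algebra A S'] (φ : S →ₐ[A] S') (x : S ⊗[A] B) :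
    F.toFun' S' (Algebra.TensorProduct.map φ (AlgHom.id A B) x) =
      φ.toLinearMap.rTensor A (F.toFun' S x) := by
  rw [← rTensor_eq_map]
  exact (PolynomialLaw.isCompat_apply' φ x).symm

theorem rid_rTensor {S S' : Type u} [CommSemiring S] [Algebra A S] [CommSemiring S']
    [Algebra A S'] (φ : S →ₐ[A] S') (z : S ⊗[A] A) :
    TensorProduct.rid A S' (φ.toLinearMap.rTensor A z) = φ (TensorProduct.rid A S z) := by
  induction z using TensorProduct.induction_on with
  | zero => simp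
  | tmul s a => simp
  | add a b ha hb => simp [ha, hb]

theorem comp_eq_zero_of_monic {S : Type u} [CommRing S] (p q : S[X]) (hq : q.Monic)
    (hq0 : q.natDegree ≠ 0) (h : p.comp q = 0) : p = 0 := by
  have := coeff_comp_degree_mul_degree (p := p) hq0
  rw [h, hq.leadingCoeff, one_pow, mul_one, coeff_zero] at this
  exact leadingCoeff_eq_zero.1 this.symm

theorem map_map {S S' S'' : Type u} [CommSemiring S] [Algebra A S] [CommSemiring S']
    [Algebra A S'] [CommSemiring S''] [Algebra A S''] (φ : S →ₐ[A] S') (φ' : S' →ₐ[A] S'')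
    (x : S ⊗[A] B) :
    Algebra.TensorProduct.map φ' (AlgHom.id A B) (Algebra.TensorProduct.map φ (AlgHom.id A B) x) =
      Algebra.TensorProduct.map (φ'.comp φ) (AlgHom.id A B) x := by
  induction x using TensorProduct.induction_on with
  | zero => simp
  | tmul a b => simp
  | add a b ha hb => simp [ha, hb]

theorem isolate (F : B →ₚₗ[A] A) {n : ℕ} (b : Fin n → B)
    (H : ∀ (R : Type u) [CommRing R] [Algebra A R] (ρ : R) (x w : R ⊗[A] B),
      F.toFun' R (x + w * ∑ k : Fin n, (ρ ^ (k : ℕ)) ⊗ₜ[A] b k) = F.toFun' R x)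
    (i₀ : Fin n) (S : Type u) [CommRing S] [Algebra A S] (x w : S ⊗[A] B) :
    F.toFun' S (x + w * (1 ⊗ₜ[A] b i₀)) = F.toFun' S x := by
  classical
  let ρ : Fin n → S[X] := fun j => (X : S[X]) ^ (j : ℕ)
  let V : Matrix (Fin n) (Fin n) S[X] := Matrix.vandermonde ρ
  let D : S[X] := V.det
  let μ : Fin n → S[X] := fun j => V.adjugate i₀ j
  have hμ : ∀ k : Fin n, ∑ j, μ j * ρ j ^ (k : ℕ) = if i₀ = k then D else 0 := by
    intro k
    have := congrFun (congrFun (Matrix.adjugate_mul V) i₀) k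
    simpa [Matrix.mul_apply, Matrix.smul_apply, Matrix.one_apply, V, Matrix.vandermonde_apply,
      μ, D] using this
  have Hsum : ∀ (s : Finset (Fin n)) (c : Fin n → S[X] ⊗[A] B) (x : S[X] ⊗[A] B),
      F.toFun' S[X] (x + ∑ j ∈ s, c j * ∑ k : Fin n, (ρ j ^ (k : ℕ)) ⊗ₜ[A] b k) =
        F.toFun' S[X] x := by
    intro s c
    induction s using Finset.induction_on with
    | empty => intro x; simp
    | insert a s ha ih =>
      intro x
      rw [Finset.sum_insert ha, add_comm (c a * _), ← add_assoc, H S[X] (ρ a), ih]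
  have hkey : ∑ j, ((μ j) ⊗ₜ[A] (1 : B)) * ∑ k : Fin n, (ρ j ^ (k : ℕ)) ⊗ₜ[A] b k =
      D ⊗ₜ[A] b i₀ := by
    simp_rw [Finset.mul_sum, Algebra.TensorProduct.tmul_mul_tmul, one_mul]
    rw [Finset.sum_comm]
    simp_rw [← TensorProduct.sum_tmul, hμ]
    rw [Finset.sum_eq_single i₀]
    · simp
    · intro k _ hk
      rw [if_neg (Ne.symm hk), TensorProduct.zero_tmul]
    · intro h
      exact absurd (Finset.mem_univ _) h
  have HD : ∀ x w : S[X] ⊗[A] B, F.toFun' S[X] (x + w * (D ⊗ₜ[A] b i₀)) = F.toFun' S[X] x := by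
    intro x w
    rw [← hkey, Finset.mul_sum]
    simp_rw [← mul_assoc]
    exact Hsum Finset.univ (fun j => w * (μ j ⊗ₜ 1)) x
  rcases subsingleton_or_nontrivial S with hS | hS
  · apply (TensorProduct.rid A S).injective
    exact Subsingleton.elim _ _
  let ι : S →ₐ[A] S[X] := IsScalarTower.toAlgHom A S S[X]
  let ev : S → (S[X] →ₐ[A] S) := fun c => (aeval c : S[X] →ₐ[S] S).restrictScalars A
  let ψ : S[X] →ₐ[A] S[X] := (aeval (X * D) : S[X] →ₐ[S] S[X]).restrictScalars A
  let J : S ⊗[A] B →ₐ[A] S[X] ⊗[A] B := Algebra.TensorProduct.map ι (AlgHom.id A B)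
  let y : S[X] ⊗[A] B := J x + (X ⊗ₜ 1) * J w * (1 ⊗ₜ b i₀)
  let P : S[X] ⊗[A] A := F.toFun' S[X] y
  let P' : S[X] := TensorProduct.rid A S[X] P
  have gen : ∀ (T : Type u) [CommRing T] [Algebra A T] (ψ' : S[X] →ₐ[A] T),
      Algebra.TensorProduct.map ψ' (AlgHom.id A B) y =
        Algebra.TensorProduct.map (ψ'.comp ι) (AlgHom.id A B) x +
          (ψ' X ⊗ₜ 1) * Algebra.TensorProduct.map (ψ'.comp ι) (AlgHom.id A B) w *
            (1 ⊗ₜ b i₀) := by
    intro T _ _ ψ'
    simp only [y, J, map_add, map_mul, Algebra.TensorProduct.map_tmul, map_one, AlgHom.id_apply,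
      map_map]
  have hev : ∀ c : S, (ev c).comp ι = AlgHom.id A S := by
    intro c
    ext s
    simp [ev, ι]
  have hψ : ψ.comp ι = ι := by
    ext s
    simp [ψ, ι]
  have h1 : ∀ c : S, F.toFun' S (x + (c ⊗ₜ 1) * w * (1 ⊗ₜ b i₀)) =
      (ev c).toLinearMap.rTensor A P := by
    intro c
    have := compat F (ev c) y
    have hc : ev c X = c := by simp [ev]
    rw [gen, hev, Algebra.TensorProduct.map_id, hc] at this
    exact this
  have h10 : F.toFun' S x = (ev 0).toLinearMap.rTensor A P := by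
    have := h1 0
    simpa only [TensorProduct.zero_tmul, zero_mul, add_zero] using this
  have h2 : ψ.toLinearMap.rTensor A P = ι.toLinearMap.rTensor A ((ev 0).toLinearMap.rTensor A P) := by
    have := compat F ψ y
    rw [gen, hψ] at this
    rw [← this, ← h10, ← compat F ι x]
    have e : (ψ X ⊗ₜ[A] (1 : B)) * (Algebra.TensorProduct.map ι (AlgHom.id A B)) w *
        (1 ⊗ₜ[A] b i₀) = ((Algebra.TensorProduct.map ι (AlgHom.id A B)) w * (X ⊗ₜ[A] (1 : B))) *
        (D ⊗ₜ[A] b i₀) := by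
      have : ψ X = X * D := by simp [ψ]
      rw [this, mul_comm (_ ⊗ₜ[A] (1 : B)), mul_assoc, mul_assoc,
        Algebra.TensorProduct.tmul_mul_tmul, Algebra.TensorProduct.tmul_mul_tmul]
      simp
    rw [e, HD]
  have h3 : P'.comp (X * D) = C (P'.eval 0) := by
    have := congrArg (TensorProduct.rid A S[X]) h2
    rw [rid_rTensor, rid_rTensor, rid_rTensor] at this
    exact this
  have hD : D.Monic := by
    show (Matrix.vandermonde ρ).det.Monic
    rw [Matrix.det_vandermonde]
    refine monic_prod_of_monic _ _ fun i _ => monic_prod_of_monic _ _ fun j hj => ?_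
    have hij : (i : ℕ) < j := Fin.lt_def.1 (Finset.mem_Ioi.1 hj)
    refine monic_X_pow_sub ?_
    exact lt_of_le_of_lt (degree_X_pow_le _) (by exact_mod_cast hij)
  have hXD : (X * D).Monic := monic_X.mul hD
  have hdeg : (X * D).natDegree ≠ 0 := by
    rw [Monic.natDegree_mul monic_X hD, natDegree_X]
    omega
  have h4 : P' - C (P'.eval 0) = 0 := by
    apply comp_eq_zero_of_monic _ _ hXD hdeg
    rw [sub_comp, C_comp, h3, sub_self]
  have h5 : P'.eval 1 = P'.eval 0 := by
    have := congrArg (eval 1) (sub_eq_zero.1 h4)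
    simpa using this
  apply (TensorProduct.rid A S).injective
  have h6 := h1 1
  rw [show ((1 : S) ⊗ₜ[A] (1 : B)) = 1 from rfl, one_mul] at h6
  rw [h6, h10, rid_rTensor, rid_rTensor]
  exact h5

theorem exists_repr (b' : A[X] ⊗[A] B) :
    ∃ (n : ℕ) (b : Fin n → B), b' = ∑ k : Fin n, ((X : A[X]) ^ (k : ℕ)) ⊗ₜ[A] b k := by
  suffices h : ∃ (b : ℕ → B) (n : ℕ), (∀ k, n ≤ k → b k = 0) ∧
      b' = ∑ k ∈ Finset.range n, ((X : A[X]) ^ k) ⊗ₜ[A] b k by
    obtain ⟨b, n, -, rfl⟩ := h
    exact ⟨n, fun k => b k, (Fin.sum_univ_eq_sum_range (fun k => ((X : A[X]) ^ k) ⊗ₜ[A] b k) n).symm⟩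
  induction b' using TensorProduct.induction_on with
  | zero => exact ⟨0, 0, fun _ _ => rfl, by simp⟩
  | tmul p c =>
    refine ⟨fun k => p.coeff k • c, p.natDegree + 1, fun k hk => ?_, ?_⟩
    · simp [coeff_eq_zero_of_natDegree_lt (Nat.lt_of_succ_le hk)]
    · conv_lhs => rw [p.as_sum_range_C_mul_X_pow]
      rw [TensorProduct.sum_tmul]
      refine Finset.sum_congr rfl fun k _ => ?_
      rw [← smul_eq_C_mul, TensorProduct.smul_tmul]
  | add y z hy hz =>
    obtain ⟨b₁, n₁, h₁, rfl⟩ := hy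
    obtain ⟨b₂, n₂, h₂, rfl⟩ := hz
    refine ⟨b₁ + b₂, max n₁ n₂, fun k hk => ?_, ?_⟩
    · simp [h₁ k (le_trans (le_max_left _ _) hk), h₂ k (le_trans (le_max_right _ _) hk)]
    · have e₁ : ∑ k ∈ Finset.range n₁, ((X : A[X]) ^ k) ⊗ₜ[A] b₁ k =
          ∑ k ∈ Finset.range (max n₁ n₂), ((X : A[X]) ^ k) ⊗ₜ[A] b₁ k := by
        refine Finset.sum_subset (Finset.range_mono (le_max_left _ _)) fun k _ hk => ?_
        rw [h₁ k (by simpa using hk), TensorProduct.tmul_zero]
      have e₂ : ∑ k ∈ Finset.range n₂, ((X : A[X]) ^ k) ⊗ₜ[A] b₂ k =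
          ∑ k ∈ Finset.range (max n₁ n₂), ((X : A[X]) ^ k) ⊗ₜ[A] b₂ k := by
        refine Finset.sum_subset (Finset.range_mono (le_max_right _ _)) fun k _ hk => ?_
        rw [h₂ k (by simpa using hk), TensorProduct.tmul_zero]
      rw [e₁, e₂, ← Finset.sum_add_distrib]
      simp [TensorProduct.tmul_add]

theorem map_ker_eq_kerBC_polynomial (F : B →ₚₗ[A] A) :
    (PolLaw.ker F).map (Algebra.TensorProduct.includeRight : B →ₐ[A] A[X] ⊗[A] B) =
      PolLaw.kerBC F A[X] := by
  apply le_antisymm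
  · rw [Ideal.map_le_iff_le_comap]
    intro b hb R _ _ _ _ x w
    have : Algebra.TensorProduct.map (IsScalarTower.toAlgHom A A[X] R) (AlgHom.id A B)
        ((Algebra.TensorProduct.includeRight : B →ₐ[A] A[X] ⊗[A] B) b) = 1 ⊗ₜ b := by simp
    rw [this]
    exact hb R x w
  · intro b' hb'
    obtain ⟨n, b, rfl⟩ := exists_repr b'
    have hk : ∀ k, b k ∈ PolLaw.ker F := by
      intro k
      apply mem_ker_of_ring
      intro S _ _ x w
      apply isolate F b ?_ k S x w
      intro R _ _ ρ x w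
      let _ : Algebra A[X] R := (Polynomial.aeval ρ : A[X] →ₐ[A] R).toRingHom.toAlgebra
      have : IsScalarTower A A[X] R :=
        IsScalarTower.of_algebraMap_eq (fun a => by simp [RingHom.algebraMap_toAlgebra])
      have := hb' R x w
      have e : Algebra.TensorProduct.map (IsScalarTower.toAlgHom A A[X] R) (AlgHom.id A B)
          (∑ k : Fin n, ((X : A[X]) ^ (k : ℕ)) ⊗ₜ[A] b k) =
          ∑ k : Fin n, (ρ ^ (k : ℕ)) ⊗ₜ[A] b k := by
        rw [map_sum]
        refine Finset.sum_congr rfl fun k _ => ?_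
        rw [Algebra.TensorProduct.map_tmul]
        simp [RingHom.algebraMap_toAlgebra]
      rw [e] at this
      exact this
    refine Ideal.sum_mem _ fun k _ => ?_
    have : ((X : A[X]) ^ (k : ℕ)) ⊗ₜ[A] b k = (((X : A[X]) ^ (k : ℕ)) ⊗ₜ 1) *
        (Algebra.TensorProduct.includeRight : B →ₐ[A] A[X] ⊗[A] B) (b k) := by simp
    rw [this]
    exact Ideal.mul_mem_left _ _ (Ideal.mem_map_of_mem _ (hk k))

end Groth.Agent.Lib.Helper22.PolLawLib
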