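import Mathlib
import Groth.Agent.Lib.Helper22.PolLaw

set_option autoImplicit false
universe u
open scoped TensorProduct
open Polynomial

namespace Groth.Agent.Lib.Helper22.PolLawLib

theorem exists_split (n : ℕ) : ∀ (A : Type u) [CommRing A] (g : A[X]), g.Monic → g.natDegree = n →
    ∃ (C' : Type u) (_ : CommRing C') (_ : Algebra A C') (π : C' →ₗ[A] A) (r : Fin n → C'),
      π 1 = 1 ∧ g.map (algebraMap A C') = ∏ j, (X - C (r j)) := by
  induction n with
  | zero =>
    intro A _ g hg hn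
    refine ⟨A, inferInstance, inferInstance, LinearMap.id, Fin.elim0, rfl, ?_⟩
    have : g = 1 := hg.natDegree_eq_zero.1 hn
    simp [this]
  | succ n ih =>
    intro A _ g hg hn
    have hA : Nontrivial A := by
      by_contra h
      rw [not_nontrivial_iff_subsingleton] at h
      have : g = 0 := Subsingleton.elim _ _
      rw [this] at hn
      simp at hn
    have hgu : ¬ IsUnit g := by
      intro h
      have := hg.eq_one_of_isUnit h
      rw [this] at hn
      simp at hn
    have hA₁ : Nontrivial (AdjoinRoot g) :=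
      Ideal.Quotient.nontrivial_iff.mpr (by simpa [Ideal.span_singleton_eq_top] using hgu)
    let r₀ : AdjoinRoot g := AdjoinRoot.root g
    have hroot : (g.map (algebraMap A (AdjoinRoot g))).IsRoot r₀ := by
      rw [IsRoot, eval_map]
      exact AdjoinRoot.eval₂_root g
    let g₁ := g.map (algebraMap A (AdjoinRoot g)) /ₘ (X - C r₀)
    have hg₁ : (X - C r₀) * g₁ = g.map (algebraMap A (AdjoinRoot g)) :=
      mul_divByMonic_eq_iff_isRoot.2 hroot
    have hm : g₁.Monic := Monic.of_mul_monic_left (monic_X_sub_C r₀) (hg₁ ▸ hg.map _)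
    have hd : g₁.natDegree = n := by
      have := congrArg natDegree hg₁
      rw [Monic.natDegree_mul (monic_X_sub_C r₀) hm, natDegree_X_sub_C, hg.natDegree_map, hn] at this
      omega
    obtain ⟨C', _, _, π', r, hπ', hr⟩ := ih (AdjoinRoot g) g₁ hm hd
    letI : Algebra A C' := ((algebraMap (AdjoinRoot g) C').comp (algebraMap A (AdjoinRoot g))).toAlgebra
    haveI : IsScalarTower A (AdjoinRoot g) C' := IsScalarTower.of_algebraMap_eq fun _ => rfl
    let π₁ : AdjoinRoot g →ₗ[A] A := (AdjoinRoot.powerBasis' hg).basis.coord ⟨0, by simp [hn]⟩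
    refine ⟨C', inferInstance, inferInstance, π₁ ∘ₗ (π'.restrictScalars A),
      Fin.cons (algebraMap (AdjoinRoot g) C' r₀) r, ?_, ?_⟩
    · have h0 : (0 : ℕ) < (AdjoinRoot.powerBasis' hg).dim := by simp [hn]
      have h1 : (1 : AdjoinRoot g) = (AdjoinRoot.powerBasis' hg).basis ⟨0, h0⟩ := by
        rw [PowerBasis.basis_eq_pow]
        simp
      show π₁ (π' 1) = 1
      rw [hπ', h1]
      show ((AdjoinRoot.powerBasis' hg).basis.coord ⟨0, h0⟩) _ = 1
      rw [Module.Basis.coord_apply, Module.Basis.repr_self, Finsupp.single_eq_same]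
    · rw [IsScalarTower.algebraMap_eq A (AdjoinRoot g) C', ← Polynomial.map_map, ← hg₁,
        Polynomial.map_mul, hr, Fin.prod_univ_succ]
      simp

variable {A : Type u} [CommRing A] {B : Type u} [CommRing B] [Algebra A B]

theorem vandermonde_step (F : B →ₚₗ[A] A) {n : ℕ} (b : Fin n → B) (R : Type u) [CommRing R]
    [Algebra A R] (ρ : Fin n → R)
    (H : ∀ (j : Fin n) (x w : R ⊗[A] B),
      F.toFun' R (x + w * ∑ k : Fin n, (ρ j ^ (k : ℕ)) ⊗ₜ[A] b k) = F.toFun' R x)
    (i₀ : Fin n) (x w : R ⊗[A] B) :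
    F.toFun' R (x + w * ((Matrix.vandermonde ρ).det ⊗ₜ[A] b i₀)) = F.toFun' R x := by
  classical
  let V : Matrix (Fin n) (Fin n) R := Matrix.vandermonde ρ
  let D : R := V.det
  let μ : Fin n → R := fun j => V.adjugate i₀ j
  have hμ : ∀ k : Fin n, ∑ j, μ j * ρ j ^ (k : ℕ) = if i₀ = k then D else 0 := by
    intro k
    have := congrFun (congrFun (Matrix.adjugate_mul V) i₀) k
    simpa [Matrix.mul_apply, Matrix.smul_apply, Matrix.one_apply, V, Matrix.vandermonde_apply,
      μ, D] using this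
  have Hsum : ∀ (s : Finset (Fin n)) (c : Fin n → R ⊗[A] B) (x : R ⊗[A] B),
      F.toFun' R (x + ∑ j ∈ s, c j * ∑ k : Fin n, (ρ j ^ (k : ℕ)) ⊗ₜ[A] b k) =
        F.toFun' R x := by
    intro s c
    induction s using Finset.induction_on with
    | empty => intro x; simp
    | insert a s ha ih =>
      intro x
      rw [Finset.sum_insert ha, add_comm (c a * _), ← add_assoc, H a, ih]
  have hkey : ∑ j, ((μ j) ⊗ₜ[A] (1 : B)) * ∑ k : Fin n, (ρ j ^ (k : ℕ)) ⊗ₜ[A] b k =
      D ⊗ₜ[A] b i₀ := by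
    simp_rw [Finset.mul_sum, Algebra.TensorProduct.tmul_mul_tmul, one_mul]
    rw [Finset.sum_comm]
    simp_rw [← TensorProduct.sum_tmul, hμ]
    rw [Finset.sum_eq_single i₀]
    · simp
    · intro k _ hk
      rw [if_neg (Ne.symm hk), TensorProduct.zero_tmul]
    · intro h
      exact absurd (Finset.mem_univ _) h
  show F.toFun' R (x + w * (D ⊗ₜ[A] b i₀)) = F.toFun' R x
  rw [← hkey, Finset.mul_sum]
  simp_rw [← mul_assoc]
  exact Hsum Finset.univ (fun j => w * (μ j ⊗ₜ 1)) x

theorem isUnit_sub_of_separable {C' : Type u} [CommRing C'] {n : ℕ} (r : Fin n → C')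
    (h : (∏ j, (X - C (r j))).Separable) {i j : Fin n} (hij : i ≠ j) : IsUnit (r i - r j) := by
  classical
  have e : ∏ k, (X - C (r k)) = ((X - C (r i)) * (X - C (r j))) *
      ∏ k ∈ (Finset.univ.erase i).erase j, (X - C (r k)) := by
    rw [mul_assoc, Finset.mul_prod_erase (Finset.univ.erase i) (fun k => X - C (r k))
      (by simp [hij.symm] : j ∈ Finset.univ.erase i),
      Finset.mul_prod_erase Finset.univ (fun k => X - C (r k)) (Finset.mem_univ i)]
  rw [e] at h
  obtain ⟨u, v, huv⟩ := h.of_mul_left.isCoprime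
  have := congrArg (eval (r i)) huv
  simp at this
  exact IsUnit.of_mul_eq_one _ (by rw [mul_comm]; exact this)

theorem exists_repr_of_span {A' : Type u} [CommRing A'] [Algebra A A'] {n : ℕ} (v : Fin n → A')
    (hv : ⊤ ≤ Submodule.span A (Set.range v)) (b' : A' ⊗[A] B) :
    ∃ b : Fin n → B, b' = ∑ k, v k ⊗ₜ[A] b k := by
  induction b' using TensorProduct.induction_on with
  | zero => exact ⟨0, by simp⟩
  | tmul a c =>
    obtain ⟨f, hf⟩ := (Submodule.mem_span_range_iff_exists_fun A).1 (hv (Submodule.mem_top : a ∈ ⊤))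
    refine ⟨fun k => f k • c, ?_⟩
    rw [← hf, TensorProduct.sum_tmul]
    refine Finset.sum_congr rfl fun k _ => ?_
    rw [TensorProduct.smul_tmul]
  | add y z hy hz =>
    obtain ⟨b₁, rfl⟩ := hy
    obtain ⟨b₂, rfl⟩ := hz
    exact ⟨b₁ + b₂, by simp [TensorProduct.tmul_add, Finset.sum_add_distrib]⟩

theorem map_ker_le_kerBC (F : B →ₚₗ[A] A) (A' : Type u) [CommRing A'] [Algebra A A'] :
    (PolLaw.ker F).map (Algebra.TensorProduct.includeRight : B →ₐ[A] A' ⊗[A] B) ≤
      PolLaw.kerBC F A' := by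
  rw [Ideal.map_le_iff_le_comap]
  intro b hb R _ _ _ _ x w
  have : Algebra.TensorProduct.map (IsScalarTower.toAlgHom A A' R) (AlgHom.id A B)
      ((Algebra.TensorProduct.includeRight : B →ₐ[A] A' ⊗[A] B) b) = 1 ⊗ₜ b := by simp
  rw [this]
  exact hb R x w

theorem map_ker_eq_kerBC_adjoinRoot (F : B →ₚₗ[A] A) (g : A[X]) (hg : g.Monic)
    (hsep : g.Separable) :
    (PolLaw.ker F).map (Algebra.TensorProduct.includeRight : B →ₐ[A] AdjoinRoot g ⊗[A] B) =
      PolLaw.kerBC F (AdjoinRoot g) := by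
  classical
  apply le_antisymm (map_ker_le_kerBC F _)
  intro b' hb'
  have hspan : ⊤ ≤ Submodule.span A
      (Set.range fun k : Fin g.natDegree => (AdjoinRoot.root g) ^ (k : ℕ)) := by
    have := (AdjoinRoot.powerBasis' hg).basis.span_eq
    rw [PowerBasis.coe_basis] at this
    exact this.ge
  obtain ⟨b, rfl⟩ := exists_repr_of_span _ hspan b'
  obtain ⟨C', _, _, π, r, hπ, hr⟩ := exists_split g.natDegree A g hg rfl
  have hunit : ∀ i j, i ≠ j → IsUnit (r i - r j) := fun i j hij =>
    isUnit_sub_of_separable r (hr ▸ hsep.map) hij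
  have hroot : ∀ j, g.eval₂ (algebraMap A C') (r j) = 0 := by
    intro j
    rw [← eval_map, hr, eval_prod]
    exact Finset.prod_eq_zero (Finset.mem_univ j) (by simp)
  have hk : ∀ k, b k ∈ PolLaw.ker F := by
    intro k
    apply mem_ker_of_ring
    intro S _ _ x w
    let ι : S →ₐ[A] S ⊗[A] C' := Algebra.TensorProduct.includeLeft
    have hι : Function.Injective ι := by
      have h : ∀ s, TensorProduct.rid A S (π.lTensor S (ι s)) = s := by
        intro s
        simp [ι, hπ]
      exact Function.LeftInverse.injective (g := fun z => TensorProduct.rid A S (π.lTensor S z)) h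
    let ρ : Fin g.natDegree → S ⊗[A] C' := fun j => 1 ⊗ₜ r j
    have HR : ∀ (j : Fin g.natDegree) (x w : (S ⊗[A] C') ⊗[A] B),
        F.toFun' (S ⊗[A] C') (x + w * ∑ k : Fin g.natDegree, (ρ j ^ (k : ℕ)) ⊗ₜ[A] b k) =
          F.toFun' (S ⊗[A] C') x := by
      intro j x w
      have hρ : g.eval₂ (algebraMap A (S ⊗[A] C')) (ρ j) = 0 := by
        have : g.eval₂ (algebraMap A (S ⊗[A] C')) (ρ j) =
            (Algebra.TensorProduct.includeRight : C' →ₐ[A] S ⊗[A] C')
              (g.eval₂ (algebraMap A C') (r j)) := by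
          rw [← aeval_def, ← aeval_def]
          exact aeval_algHom_apply
            (Algebra.TensorProduct.includeRight : C' →ₐ[A] S ⊗[A] C') (r j) g
        rw [this, hroot, map_zero]
      let _ : Algebra (AdjoinRoot g) (S ⊗[A] C') :=
        (AdjoinRoot.lift (algebraMap A (S ⊗[A] C')) (ρ j) hρ).toAlgebra
      have : IsScalarTower A (AdjoinRoot g) (S ⊗[A] C') :=
        IsScalarTower.of_algebraMap_eq (fun a => by simp [RingHom.algebraMap_toAlgebra])
      have h1 := hb' (S ⊗[A] C') x w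
      have e : Algebra.TensorProduct.map (IsScalarTower.toAlgHom A (AdjoinRoot g) (S ⊗[A] C'))
          (AlgHom.id A B) (∑ k : Fin g.natDegree, ((AdjoinRoot.root g) ^ (k : ℕ)) ⊗ₜ[A] b k) =
          ∑ k : Fin g.natDegree, (ρ j ^ (k : ℕ)) ⊗ₜ[A] b k := by
        rw [map_sum]
        refine Finset.sum_congr rfl fun k _ => ?_
        rw [Algebra.TensorProduct.map_tmul]
        simp [RingHom.algebraMap_toAlgebra]
      rw [e] at h1
      exact h1
    have HD := vandermonde_step F b (S ⊗[A] C') ρ HR k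
    have hDu : IsUnit (Matrix.vandermonde ρ).det := by
      rw [Matrix.det_vandermonde]
      rw [IsUnit.prod_univ_iff]
      intro i
      rw [IsUnit.prod_iff]
      intro j hj
      have hij : j ≠ i := (Finset.mem_Ioi.1 hj).ne'
      have : ρ j - ρ i = (Algebra.TensorProduct.includeRight : C' →ₐ[A] S ⊗[A] C')
          (r j - r i) := by simp [ρ, TensorProduct.tmul_sub]
      rw [this]
      exact (hunit j i hij).map _
    obtain ⟨Dinv, hDinv⟩ := hDu.exists_right_inv
    have H1 : ∀ x w : (S ⊗[A] C') ⊗[A] B,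
        F.toFun' (S ⊗[A] C') (x + w * (1 ⊗ₜ b k)) = F.toFun' (S ⊗[A] C') x := by
      intro x w
      have := HD x (w * (Dinv ⊗ₜ 1))
      rwa [mul_assoc, Algebra.TensorProduct.tmul_mul_tmul, one_mul, mul_comm Dinv, hDinv] at this
    apply (TensorProduct.rid A S).injective
    apply hι
    rw [← rid_rTensor ι, ← rid_rTensor ι, ← compat, ← compat]
    congr 1
    rw [map_add, map_mul, Algebra.TensorProduct.map_tmul, map_one, AlgHom.id_apply]
    exact H1 _ _
  refine Ideal.sum_mem _ fun k _ => ?_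
  have : ((AdjoinRoot.root g) ^ (k : ℕ)) ⊗ₜ[A] b k = (((AdjoinRoot.root g) ^ (k : ℕ)) ⊗ₜ 1) *
      (Algebra.TensorProduct.includeRight : B →ₐ[A] AdjoinRoot g ⊗[A] B) (b k) := by simp
  rw [this]
  exact Ideal.mul_mem_left _ _ (Ideal.mem_map_of_mem _ (hk k))

end Groth.Agent.Lib.Helper22.PolLawLib
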