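import Mathlib
import Groth.Agent.Lib.Helper22.PolLawEtale

set_option autoImplicit false
universe u
open scoped TensorProduct
open Polynomial

namespace Groth.Agent.Lib.Helper22.PolLawLib

variable {A : Type u} [CommRing A] {B : Type u} [CommRing B] [Algebra A B]

/-- the polynomial `c ↦ F_S(x + c z)` -/
noncomputable def polyOf (F : B →ₚₗ[A] A) (S : Type u) [CommRing S] [Algebra A S]
    (x z : S ⊗[A] B) : S[X] :=
  TensorProduct.rid A S[X] (F.toFun' S[X]
    (Algebra.TensorProduct.map (IsScalarTower.toAlgHom A S S[X]) (AlgHom.id A B) x +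
      (X ⊗ₜ 1) * Algebra.TensorProduct.map (IsScalarTower.toAlgHom A S S[X]) (AlgHom.id A B) z))

theorem eval_polyOf (F : B →ₚₗ[A] A) (S : Type u) [CommRing S] [Algebra A S]
    (x z : S ⊗[A] B) (c : S) :
    (polyOf F S x z).eval c = TensorProduct.rid A S (F.toFun' S (x + (c ⊗ₜ 1) * z)) := by
  let ι : S →ₐ[A] S[X] := IsScalarTower.toAlgHom A S S[X]
  let ev : S[X] →ₐ[A] S := (aeval c : S[X] →ₐ[S] S).restrictScalars A
  have hev : ev.comp ι = AlgHom.id A S := by
    ext s
    simp [ev, ι]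
  have h := compat F ev (Algebra.TensorProduct.map ι (AlgHom.id A B) x +
      (X ⊗ₜ 1) * Algebra.TensorProduct.map ι (AlgHom.id A B) z)
  rw [map_add, map_mul, map_map, map_map, hev, Algebra.TensorProduct.map_id,
    Algebra.TensorProduct.map_tmul, map_one] at h
  have hc : ev X = c := by simp [ev]
  rw [hc] at h
  simp only [AlgHom.coe_id, id_eq] at h
  rw [h, rid_rTensor]
  rfl

/-- naturality of `polyOf` -/
theorem map_polyOf (F : B →ₚₗ[A] A) {S S' : Type u} [CommRing S] [Algebra A S] [CommRing S']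
    [Algebra A S'] (φ : S →ₐ[A] S') (x z : S ⊗[A] B) :
    (polyOf F S x z).map φ.toRingHom =
      polyOf F S' (Algebra.TensorProduct.map φ (AlgHom.id A B) x)
        (Algebra.TensorProduct.map φ (AlgHom.id A B) z) := by
  let Φ : S[X] →ₐ[A] S'[X] := Polynomial.mapAlgHom φ
  have hΦ : Φ.comp (IsScalarTower.toAlgHom A S S[X]) =
      (IsScalarTower.toAlgHom A S' S'[X]).comp φ := by
    ext s
    simp [Φ]
  have h := compat F Φ (Algebra.TensorProduct.map (IsScalarTower.toAlgHom A S S[X])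
    (AlgHom.id A B) x + (X ⊗ₜ 1) * Algebra.TensorProduct.map (IsScalarTower.toAlgHom A S S[X])
    (AlgHom.id A B) z)
  rw [map_add, map_mul, map_map, map_map, hΦ, ← map_map, ← map_map,
    Algebra.TensorProduct.map_tmul, map_one] at h
  have hX : Φ X = X := by simp [Φ]
  rw [hX] at h
  unfold polyOf
  rw [h, rid_rTensor]
  rfl

theorem exists_repr_of_span_right {S : Type u} [CommRing S] [Algebra A S] {n : ℕ} (e : Fin n → B)
    (he : ⊤ ≤ Submodule.span A (Set.range e)) (x : S ⊗[A] B) :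
    ∃ s : Fin n → S, x = ∑ k, s k ⊗ₜ[A] e k := by
  induction x using TensorProduct.induction_on with
  | zero => exact ⟨0, by simp⟩
  | tmul a c =>
    obtain ⟨f, hf⟩ := (Submodule.mem_span_range_iff_exists_fun A).1 (he (Submodule.mem_top : c ∈ ⊤))
    refine ⟨fun k => f k • a, ?_⟩
    rw [← hf, TensorProduct.tmul_sum]
    refine Finset.sum_congr rfl fun k _ => ?_
    rw [TensorProduct.smul_tmul]
  | add y z hy hz =>
    obtain ⟨b₁, rfl⟩ := hy
    obtain ⟨b₂, rfl⟩ := hz
    exact ⟨b₁ + b₂, by simp [TensorProduct.add_tmul, Finset.sum_add_distrib]⟩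

/-- universal pair of elements of `B` (finite, generated by `e`) -/
noncomputable def univX {n : ℕ} (e : Fin n → B) : MvPolynomial (Fin n ⊕ Fin n) A ⊗[A] B :=
  ∑ k, (MvPolynomial.X (Sum.inl k)) ⊗ₜ[A] e k

noncomputable def univW {n : ℕ} (e : Fin n → B) : MvPolynomial (Fin n ⊕ Fin n) A ⊗[A] B :=
  ∑ k, (MvPolynomial.X (Sum.inr k)) ⊗ₜ[A] e k

theorem exists_specialize {n : ℕ} (e : Fin n → B) (he : ⊤ ≤ Submodule.span A (Set.range e))
    (S : Type u) [CommRing S] [Algebra A S] (x w : S ⊗[A] B) :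
    ∃ φ : MvPolynomial (Fin n ⊕ Fin n) A →ₐ[A] S,
      Algebra.TensorProduct.map φ (AlgHom.id A B) (univX e) = x ∧
      Algebra.TensorProduct.map φ (AlgHom.id A B) (univW e) = w := by
  obtain ⟨s, rfl⟩ := exists_repr_of_span_right e he x
  obtain ⟨t, rfl⟩ := exists_repr_of_span_right e he w
  refine ⟨MvPolynomial.aeval (Sum.elim s t), ?_, ?_⟩
  · simp [univX]
  · simp [univW]

theorem mem_ker_of_univ (F : B →ₚₗ[A] A) {n : ℕ} (e : Fin n → B)
    (he : ⊤ ≤ Submodule.span A (Set.range e)) (c : B)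
    (h : F.toFun' (MvPolynomial (Fin n ⊕ Fin n) A) (univX e + univW e * (1 ⊗ₜ c)) =
      F.toFun' (MvPolynomial (Fin n ⊕ Fin n) A) (univX e)) : c ∈ PolLaw.ker F := by
  apply mem_ker_of_ring
  intro S _ _ x w
  obtain ⟨φ, rfl, rfl⟩ := exists_specialize e he S x w
  have h1 := compat F φ (univX e + univW e * (1 ⊗ₜ c))
  rw [map_add, map_mul, Algebra.TensorProduct.map_tmul, map_one, AlgHom.id_apply] at h1
  rw [h1, h, ← compat]

theorem exists_smul_mem_ker_of_isLocalization (F : B →ₚₗ[A] A) [Module.Finite A B]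
    (M : Submonoid A) (A' : Type u) [CommRing A'] [Algebra A A'] [IsLocalization M A'] (b : B)
    (hb : (1 : A') ⊗ₜ[A] b ∈ PolLaw.kerBC F A') : ∃ m ∈ M, m • b ∈ PolLaw.ker F := by
  obtain ⟨n, e, he⟩ := Module.Finite.exists_fin (R := A) (M := B)
  let T := MvPolynomial (Fin n ⊕ Fin n) A
  let Q : T[X] := polyOf F T (univX e) (univW e * (1 ⊗ₜ b))
  let q₀ : T := TensorProduct.rid A T (F.toFun' T (univX e))
  have hQ0 : Q.eval 0 = q₀ := by
    rw [eval_polyOf]
    simp [q₀]
  let ι : T →ₐ[A] T[X] := IsScalarTower.toAlgHom A T T[X]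
  let κ : T[X] →ₐ[A] A' ⊗[A] T[X] := Algebra.TensorProduct.includeRight
  have hκ : κ Q = κ (C q₀) := by
    have h1 := hb (A' ⊗[A] T[X])
      (Algebra.TensorProduct.map κ (AlgHom.id A B) (Algebra.TensorProduct.map ι (AlgHom.id A B) (univX e)))
      (Algebra.TensorProduct.map κ (AlgHom.id A B)
        ((X ⊗ₜ 1) * Algebra.TensorProduct.map ι (AlgHom.id A B) (univW e)))
    rw [Algebra.TensorProduct.map_tmul, map_one, AlgHom.id_apply] at h1
    have h2 : Algebra.TensorProduct.map κ (AlgHom.id A B)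
        (Algebra.TensorProduct.map ι (AlgHom.id A B) (univX e) +
          (X ⊗ₜ 1) * Algebra.TensorProduct.map ι (AlgHom.id A B) (univW e * (1 ⊗ₜ b))) =
        Algebra.TensorProduct.map κ (AlgHom.id A B)
          (Algebra.TensorProduct.map ι (AlgHom.id A B) (univX e)) +
        Algebra.TensorProduct.map κ (AlgHom.id A B)
          ((X ⊗ₜ 1) * Algebra.TensorProduct.map ι (AlgHom.id A B) (univW e)) * (1 ⊗ₜ b) := by
      simp only [map_add, map_mul, Algebra.TensorProduct.map_tmul, map_one, AlgHom.id_apply,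
        mul_assoc]
    show κ (TensorProduct.rid A T[X] _) = _
    rw [← rid_rTensor (S := T[X]) (S' := A' ⊗[A] T[X]) κ,
      ← compat (S := T[X]) (S' := A' ⊗[A] T[X]) F κ, h2, h1,
      compat (S := T[X]) (S' := A' ⊗[A] T[X]) F κ, compat F ι,
      rid_rTensor (S := T[X]) (S' := A' ⊗[A] T[X]) κ, rid_rTensor ι]
    rfl
  have hκ' : TensorProduct.mk A A' T[X] 1 Q = TensorProduct.mk A A' T[X] 1 (C q₀) := hκ
  obtain ⟨m, hm⟩ := IsLocalizedModule.exists_of_eq (S := M) hκ'
  refine ⟨m, m.2, ?_⟩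
  have h0 : (Q - C q₀).coeff 0 = 0 := by
    rw [coeff_zero_eq_eval_zero, eval_sub, hQ0, eval_C, sub_self]
  obtain ⟨Qh, hQh⟩ := X_dvd_iff.2 h0
  have hmQ : (m : A) • Qh = 0 := by
    have : X * ((m : A) • Qh) = 0 := by
      rw [mul_smul_comm, ← hQh, smul_sub]
      exact sub_eq_zero.2 hm
    exact isRegular_X.left (by simpa using this)
  have hev : Q.eval (algebraMap A T m) = q₀ := by
    have h1 : (Q - C q₀).eval (algebraMap A T m) = 0 := by
      rw [hQh, eval_mul, eval_X]
      have := congrArg (eval (algebraMap A T (m : A))) hmQ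
      rw [eval_smul, eval_zero, Algebra.smul_def] at this
      exact this
    rw [eval_sub, eval_C, sub_eq_zero] at h1
    exact h1
  apply mem_ker_of_univ F e he.ge
  apply (TensorProduct.rid A T).injective
  show _ = q₀
  rw [← hev, eval_polyOf]
  congr 2
  rw [← mul_assoc, mul_comm _ (univW e), mul_assoc, Algebra.TensorProduct.tmul_mul_tmul, one_mul,
    mul_one, Algebra.algebraMap_eq_smul_one, TensorProduct.smul_tmul]

theorem map_ker_eq_kerBC_of_isLocalization (F : B →ₚₗ[A] A) [Module.Finite A B]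
    (M : Submonoid A) (A' : Type u) [CommRing A'] [Algebra A A'] [IsLocalization M A'] :
    (PolLaw.ker F).map (Algebra.TensorProduct.includeRight : B →ₐ[A] A' ⊗[A] B) =
      PolLaw.kerBC F A' := by
  apply le_antisymm (map_ker_le_kerBC F _)
  intro b' hb'
  obtain ⟨⟨b, m'⟩, h⟩ := IsLocalizedModule.surj M (TensorProduct.mk A A' B 1) b'
  have h1 : (algebraMap A A' m' ⊗ₜ[A] (1 : B)) * b' = 1 ⊗ₜ b := by
    have : (m' : A) • b' = (algebraMap A A' m' ⊗ₜ[A] (1 : B)) * b' := by
      rw [Algebra.smul_def, Algebra.TensorProduct.algebraMap_apply]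
    rw [← this]
    exact h
  have h2 : (1 : A') ⊗ₜ[A] b ∈ PolLaw.kerBC F A' := h1 ▸ Ideal.mul_mem_left _ _ hb'
  obtain ⟨m, hmM, hmb⟩ := exists_smul_mem_ker_of_isLocalization F M A' b h2
  let v : A' := IsLocalization.mk' A' 1 (m' * ⟨m, hmM⟩)
  have hv : v * (algebraMap A A' m * algebraMap A A' m') = 1 := by
    have := IsLocalization.mk'_spec A' (1 : A) (m' * ⟨m, hmM⟩)
    simp only [Submonoid.coe_mul, map_mul, map_one] at this
    rw [mul_comm (algebraMap A A' m)]
    exact this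
  have h3 : b' = (v ⊗ₜ[A] (1 : B)) *
      (Algebra.TensorProduct.includeRight : B →ₐ[A] A' ⊗[A] B) (m • b) := by
    have h4 : (Algebra.TensorProduct.includeRight : B →ₐ[A] A' ⊗[A] B) (m • b) =
        (algebraMap A A' m ⊗ₜ[A] (1 : B)) * ((algebraMap A A' m' ⊗ₜ[A] (1 : B)) * b') := by
      rw [h1, Algebra.TensorProduct.tmul_mul_tmul, mul_one, one_mul,
        Algebra.algebraMap_eq_smul_one, TensorProduct.smul_tmul]
      rfl
    rw [h4, ← mul_assoc, ← mul_assoc, Algebra.TensorProduct.tmul_mul_tmul,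
      Algebra.TensorProduct.tmul_mul_tmul, mul_assoc v, hv, mul_one, mul_one,
      ← Algebra.TensorProduct.one_def, one_mul]
  rw [h3]
  exact Ideal.mul_mem_left _ _ (Ideal.mem_map_of_mem _ hmb)

end Groth.Agent.Lib.Helper22.PolLawLib
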