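import Mathlib
import Groth.Agent.Lib.Helper22.PolLawFinite

set_option autoImplicit false
universe u
open scoped TensorProduct
open Polynomial

namespace Groth.Agent.Lib.Helper22.PolLawLib

variable {A : Type u} [CommRing A] {B : Type u} [CommRing B] [Algebra A B]

/-- the differential of `F` at `x` in the direction `z` -/
noncomputable def dF (F : B →ₚₗ[A] A) (S : Type u) [CommRing S] [Algebra A S]
    (x z : S ⊗[A] B) : S := (polyOf F S x z).coeff 1

theorem dF_map (F : B →ₚₗ[A] A) {S S' : Type u} [CommRing S] [Algebra A S] [CommRing S']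
    [Algebra A S'] (φ : S →ₐ[A] S') (x z : S ⊗[A] B) :
    dF F S' (Algebra.TensorProduct.map φ (AlgHom.id A B) x)
      (Algebra.TensorProduct.map φ (AlgHom.id A B) z) = φ (dF F S x z) := by
  unfold dF
  rw [← map_polyOf, coeff_map]
  rfl

theorem polyOf_def (F : B →ₚₗ[A] A) (S : Type u) [CommRing S] [Algebra A S]
    (x z : S ⊗[A] B) : polyOf F S x z = TensorProduct.rid A S[X] (F.toFun' S[X]
    (Algebra.TensorProduct.map (IsScalarTower.toAlgHom A S S[X]) (AlgHom.id A B) x +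
      (X ⊗ₜ 1) * Algebra.TensorProduct.map (IsScalarTower.toAlgHom A S S[X]) (AlgHom.id A B) z)) :=
  rfl

theorem dF_smul (F : B →ₚₗ[A] A) (S : Type u) [CommRing S] [Algebra A S]
    (x z : S ⊗[A] B) (s : S) : dF F S x ((s ⊗ₜ 1) * z) = s * dF F S x z := by
  let ι : S →ₐ[A] S[X] := IsScalarTower.toAlgHom A S S[X]
  let σ : S[X] →ₐ[A] S[X] := (aeval (C s * X) : S[X] →ₐ[S] S[X]).restrictScalars A
  have hσ : σ.comp ι = ι := by
    ext t
    simp [σ, ι]
  have h := compat F σ (Algebra.TensorProduct.map ι (AlgHom.id A B) x +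
      (X ⊗ₜ 1) * Algebra.TensorProduct.map ι (AlgHom.id A B) z)
  rw [map_add, map_mul, map_map, map_map, hσ, Algebra.TensorProduct.map_tmul, map_one] at h
  have hX : σ X = C s * X := by simp [σ]
  have e : (σ X ⊗ₜ[A] (1 : B)) * Algebra.TensorProduct.map ι (AlgHom.id A B) z =
      (X ⊗ₜ 1) * Algebra.TensorProduct.map ι (AlgHom.id A B) ((s ⊗ₜ 1) * z) := by
    rw [hX, map_mul, Algebra.TensorProduct.map_tmul, map_one, ← mul_assoc,
      Algebra.TensorProduct.tmul_mul_tmul, mul_one, mul_comm X]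
    rfl
  rw [e] at h
  have h2 : polyOf F S x ((s ⊗ₜ 1) * z) = (polyOf F S x z).comp (C s * X) := by
    rw [polyOf_def, h, rid_rTensor]
    rfl
  unfold dF
  rw [h2, comp_C_mul_X_coeff, pow_one, mul_comm]

theorem coeff_one_eval_X {S : Type u} [CommRing S] (G : S[X][X]) :
    (G.eval X).coeff 1 = (G.coeff 0).coeff 1 + (G.coeff 1).coeff 0 := by
  have e1 : G = divX G * X + C (G.coeff 0) := (divX_mul_X_add G).symm
  have e2 : divX G = divX (divX G) * X + C ((divX G).coeff 0) := (divX_mul_X_add _).symm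
  have e3 : (divX G).coeff 0 = G.coeff 1 := by rw [coeff_divX]
  conv_lhs => rw [e1, e2]
  simp only [eval_add, eval_mul, eval_X, eval_C, coeff_add, coeff_mul_X, mul_coeff_zero,
    coeff_X_zero, mul_zero, zero_add, e3]
  rw [add_comm]

theorem dF_add (F : B →ₚₗ[A] A) (S : Type u) [CommRing S] [Algebra A S]
    (x z₁ z₂ : S ⊗[A] B) : dF F S x (z₁ + z₂) = dF F S x z₁ + dF F S x z₂ := by
  let ι : S →ₐ[A] S[X] := IsScalarTower.toAlgHom A S S[X]
  let ev0 : S[X] →ₐ[A] S := (aeval (0 : S) : S[X] →ₐ[S] S).restrictScalars A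
  have hev : ev0.comp ι = AlgHom.id A S := by
    ext t
    simp [ev0, ι]
  let G : S[X][X] := polyOf F S[X] (Algebra.TensorProduct.map ι (AlgHom.id A B) x +
    (X ⊗ₜ 1) * Algebra.TensorProduct.map ι (AlgHom.id A B) z₁)
    (Algebra.TensorProduct.map ι (AlgHom.id A B) z₂)
  have h1 : G.eval 0 = polyOf F S x z₁ := by
    rw [eval_polyOf, polyOf_def, TensorProduct.zero_tmul, zero_mul, add_zero]
  have h2 : G.eval X = polyOf F S x (z₁ + z₂) := by
    rw [eval_polyOf, polyOf_def, map_add, mul_add, add_assoc]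
  have h3 : G.map ev0.toRingHom = polyOf F S x z₂ := by
    rw [map_polyOf, map_add, map_mul, map_map, map_map, hev, Algebra.TensorProduct.map_id,
      Algebra.TensorProduct.map_tmul]
    have : ev0 X = 0 := by simp [ev0]
    rw [this, TensorProduct.zero_tmul, zero_mul, add_zero, map_map, hev,
      Algebra.TensorProduct.map_id]
    rfl
  unfold dF
  rw [← h2, coeff_one_eval_X, ← h1, ← h3, coeff_map, ← coeff_zero_eq_eval_zero]
  congr 1
  show _ = (aeval (0 : S)) (G.coeff 1)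
  rw [coe_aeval_eq_eval, ← coeff_zero_eq_eval_zero]

theorem dF_zero (F : B →ₚₗ[A] A) (S : Type u) [CommRing S] [Algebra A S]
    (x : S ⊗[A] B) : dF F S x 0 = 0 := by
  have := dF_add F S x 0 0
  rw [add_zero] at this
  exact left_eq_add.1 this

theorem derivative_polyOf (F : B →ₚₗ[A] A) (S : Type u) [CommRing S] [Algebra A S]
    (x z : S ⊗[A] B) :
    (polyOf F S x z).derivative =
      dF F S[X] (Algebra.TensorProduct.map (IsScalarTower.toAlgHom A S S[X]) (AlgHom.id A B) x +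
        (X ⊗ₜ 1) * Algebra.TensorProduct.map (IsScalarTower.toAlgHom A S S[X]) (AlgHom.id A B) z)
        (Algebra.TensorProduct.map (IsScalarTower.toAlgHom A S S[X]) (AlgHom.id A B) z) := by
  let ι : S →ₐ[A] S[X] := IsScalarTower.toAlgHom A S S[X]
  let ι₂ : S[X] →ₐ[A] S[X][X] := IsScalarTower.toAlgHom A S[X] S[X][X]
  let τ : S[X] →ₐ[A] S[X][X] := (aeval (X + C X) : S[X] →ₐ[S] S[X][X]).restrictScalars A
  have hτ : τ.comp ι = ι₂.comp ι := by
    ext t
    simp [τ, ι, ι₂]
  have h := compat F τ (Algebra.TensorProduct.map ι (AlgHom.id A B) x +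
      (X ⊗ₜ 1) * Algebra.TensorProduct.map ι (AlgHom.id A B) z)
  rw [map_add, map_mul, map_map, map_map, hτ, Algebra.TensorProduct.map_tmul, map_one] at h
  have hX : τ X = X + C X := by simp [τ]
  have h2 : polyOf F S[X] (Algebra.TensorProduct.map ι (AlgHom.id A B) x +
      (X ⊗ₜ 1) * Algebra.TensorProduct.map ι (AlgHom.id A B) z)
      (Algebra.TensorProduct.map ι (AlgHom.id A B) z) = τ (polyOf F S x z) := by
    have hι₂ : ι₂ X = C X := by simp [ι₂]
    rw [polyOf_def, polyOf_def, ← rid_rTensor, ← h, hX]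
    congr 2
    rw [map_add, map_mul, map_map, map_map, Algebra.TensorProduct.map_tmul, map_one,
      TensorProduct.add_tmul]
    show _ + (ι₂ X ⊗ₜ[A] (1 : B)) * _ + _ = _
    rw [hι₂]
    ring
  have h3 : τ (polyOf F S x z) = taylor X ((polyOf F S x z).map C) := by
    show aeval (X + C X) (polyOf F S x z) = _
    rw [taylor_apply, comp, eval₂_map, aeval_def]
    rfl
  unfold dF
  rw [h2, h3, taylor_coeff_one, derivative_map, eval_map, eval₂_C_X]

/-- the linear map `b ↦ dF_x (w b)` -/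
noncomputable def lamG (F : B →ₚₗ[A] A) (T : Type u) [CommRing T] [Algebra A T]
    (x w : T ⊗[A] B) : B →ₗ[A] T where
  toFun b := dF F T x (w * (1 ⊗ₜ b))
  map_add' b₁ b₂ := by
    rw [TensorProduct.tmul_add, mul_add, dF_add]
  map_smul' a b := by
    have : w * ((1 : T) ⊗ₜ[A] (a • b)) =
        ((algebraMap A T a) ⊗ₜ 1) * (w * (1 ⊗ₜ b)) := by
      rw [mul_left_comm, Algebra.TensorProduct.tmul_mul_tmul, mul_one, one_mul,
        Algebra.algebraMap_eq_smul_one, TensorProduct.smul_tmul]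
    rw [this, dF_smul, RingHom.id_apply, Algebra.smul_def]

theorem lamG_apply (F : B →ₚₗ[A] A) (T : Type u) [CommRing T] [Algebra A T]
    (x w : T ⊗[A] B) (b : B) : lamG F T x w b = dF F T x (w * (1 ⊗ₜ b)) := rfl

theorem mem_ker_of_lam_eq_zero [Algebra ℚ A] (F : B →ₚₗ[A] A) {n : ℕ} (e : Fin n → B)
    (he : ⊤ ≤ Submodule.span A (Set.range e)) (b : B)
    (hb : lamG F (MvPolynomial (Fin n ⊕ Fin n) A) (univX e) (univW e) b = 0) :
    b ∈ PolLaw.ker F := by
  let T := MvPolynomial (Fin n ⊕ Fin n) A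
  have : IsAddTorsionFree T := .of_module_rat T
  let Q : T[X] := polyOf F T (univX e) (univW e * (1 ⊗ₜ b))
  have hder : Q.derivative = 0 := by
    rw [derivative_polyOf]
    obtain ⟨φ, h1, h2⟩ := exists_specialize e he T[X]
      (Algebra.TensorProduct.map (IsScalarTower.toAlgHom A T T[X]) (AlgHom.id A B) (univX e) +
        (X ⊗ₜ 1) * Algebra.TensorProduct.map (IsScalarTower.toAlgHom A T T[X]) (AlgHom.id A B)
          (univW e * (1 ⊗ₜ b)))
      (Algebra.TensorProduct.map (IsScalarTower.toAlgHom A T T[X]) (AlgHom.id A B) (univW e))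
    have h3 : Algebra.TensorProduct.map (IsScalarTower.toAlgHom A T T[X]) (AlgHom.id A B)
        (univW e * (1 ⊗ₜ b)) =
        Algebra.TensorProduct.map φ (AlgHom.id A B) (univW e * (1 ⊗ₜ b)) := by
      rw [map_mul, map_mul, h2, Algebra.TensorProduct.map_tmul, Algebra.TensorProduct.map_tmul,
        map_one, map_one]
    rw [← h1]
    conv_lhs => rw [h3]
    rw [dF_map, ← lamG_apply, hb, map_zero]
  have hQ : Q = C (Q.coeff 0) := eq_C_of_derivative_eq_zero hder
  have h01 : Q.eval 1 = Q.eval 0 := by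
    rw [hQ, eval_C, eval_C]
  apply mem_ker_of_univ F e he
  apply (TensorProduct.rid A T).injective
  have e1 := eval_polyOf F T (univX e) (univW e * (1 ⊗ₜ b)) 1
  have e0 := eval_polyOf F T (univX e) (univW e * (1 ⊗ₜ b)) 0
  rw [show ((1 : T) ⊗ₜ[A] (1 : B)) = 1 from rfl, one_mul] at e1
  rw [TensorProduct.zero_tmul, zero_mul, add_zero] at e0
  rw [← e1, ← e0]
  exact h01

theorem lamG_lTensor_eq_zero (F : B →ₚₗ[A] A) (T : Type u) [CommRing T] [Algebra A T]
    (x w : T ⊗[A] B) (A' : Type u)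
    [CommRing A'] [Algebra A A'] (b' : A' ⊗[A] B) (hb' : b' ∈ PolLaw.kerBC F A') :
    (lamG F T x w).lTensor A' b' = 0 := by
  let κ : T →ₐ[A] A' ⊗[A] T := Algebra.TensorProduct.includeRight
  let xR : (A' ⊗[A] T) ⊗[A] B := Algebra.TensorProduct.map κ (AlgHom.id A B) x
  let wR : (A' ⊗[A] T) ⊗[A] B := Algebra.TensorProduct.map κ (AlgHom.id A B) w
  let θ : A' ⊗[A] B →ₐ[A] (A' ⊗[A] T) ⊗[A] B :=
    Algebra.TensorProduct.map (IsScalarTower.toAlgHom A A' (A' ⊗[A] T)) (AlgHom.id A B)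
  have hA : ∀ y : A' ⊗[A] B, dF F (A' ⊗[A] T) xR (wR * θ y) = (lamG F T x w).lTensor A' y := by
    intro y
    induction y using TensorProduct.induction_on with
    | zero => rw [map_zero, mul_zero, dF_zero, map_zero]
    | tmul a' b =>
      have h1 : wR * θ (a' ⊗ₜ b) = ((a' ⊗ₜ[A] (1 : T)) ⊗ₜ[A] (1 : B)) * (wR * (1 ⊗ₜ b)) := by
        have : θ (a' ⊗ₜ b) = ((a' ⊗ₜ[A] (1 : T)) ⊗ₜ[A] (1 : B)) * (1 ⊗ₜ b) := by
          simp only [θ, Algebra.TensorProduct.map_tmul, AlgHom.id_apply,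
            Algebra.TensorProduct.tmul_mul_tmul, mul_one, one_mul]
          rfl
        rw [this, mul_left_comm]
      have h2 : wR * (1 ⊗ₜ b) =
          Algebra.TensorProduct.map κ (AlgHom.id A B) (w * (1 ⊗ₜ b)) := by
        simp [wR]
      rw [h1, dF_smul, h2, dF_map, ← lamG_apply]
      simp [κ]
    | add y₁ y₂ h₁ h₂ => rw [map_add, mul_add, dF_add, h₁, h₂, map_add]
  have hB : dF F (A' ⊗[A] T) xR (wR * θ b') = 0 := by
    let ιR : (A' ⊗[A] T) →ₐ[A] (A' ⊗[A] T)[X] := IsScalarTower.toAlgHom A (A' ⊗[A] T) (A' ⊗[A] T)[X]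
    have hθ : Algebra.TensorProduct.map ιR (AlgHom.id A B) (θ b') =
        Algebra.TensorProduct.map (IsScalarTower.toAlgHom A A' (A' ⊗[A] T)[X]) (AlgHom.id A B) b' := by
      rw [map_map]
      rfl
    have h1 := hb' (A' ⊗[A] T)[X] (Algebra.TensorProduct.map ιR (AlgHom.id A B) xR)
      ((X ⊗ₜ 1) * Algebra.TensorProduct.map ιR (AlgHom.id A B) wR)
    unfold dF
    rw [polyOf_def, map_mul, hθ, ← mul_assoc, h1, compat, rid_rTensor]
    show (C _ : (A' ⊗[A] T)[X]).coeff 1 = 0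
    simp
  rw [← hA, hB]

theorem map_ker_eq_kerBC_of_flat [Algebra ℚ A] (F : B →ₚₗ[A] A) [Module.Finite A B]
    (A' : Type u) [CommRing A'] [Algebra A A'] [Module.Flat A A'] :
    (PolLaw.ker F).map (Algebra.TensorProduct.includeRight : B →ₐ[A] A' ⊗[A] B) =
      PolLaw.kerBC F A' := by
  apply le_antisymm (map_ker_le_kerBC F _)
  intro b' hb'
  obtain ⟨n, e, he⟩ := Module.Finite.exists_fin (R := A) (M := B)
  have h0 : (lamG F (MvPolynomial (Fin n ⊕ Fin n) A) (univX e) (univW e)).lTensor A' b' = 0 :=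
    lamG_lTensor_eq_zero F _ _ _ A' b' hb'
  have hex : Function.Exact
      (LinearMap.ker (lamG F (MvPolynomial (Fin n ⊕ Fin n) A) (univX e) (univW e))).subtype
      (lamG F (MvPolynomial (Fin n ⊕ Fin n) A) (univX e) (univW e)) :=
    LinearMap.exact_subtype_ker_map _
  have hex' := Module.Flat.lTensor_exact A' hex
  have hall : ∀ y : A' ⊗[A] (LinearMap.ker (lamG F (MvPolynomial (Fin n ⊕ Fin n) A) (univX e)
      (univW e))), (LinearMap.ker (lamG F (MvPolynomial (Fin n ⊕ Fin n) A) (univX e)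
      (univW e))).subtype.lTensor A' y ∈
      (PolLaw.ker F).map (Algebra.TensorProduct.includeRight : B →ₐ[A] A' ⊗[A] B) := by
    intro y
    induction y using TensorProduct.induction_on with
    | zero => simp
    | tmul a' k =>
      have hk : (k : B) ∈ PolLaw.ker F := mem_ker_of_lam_eq_zero F e he.ge _ k.2
      have : (LinearMap.ker (lamG F (MvPolynomial (Fin n ⊕ Fin n) A) (univX e)
          (univW e))).subtype.lTensor A' (a' ⊗ₜ k) = (a' ⊗ₜ[A] (1 : B)) *
          (Algebra.TensorProduct.includeRight : B →ₐ[A] A' ⊗[A] B) (k : B) := by simp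
      rw [this]
      exact Ideal.mul_mem_left _ _ (Ideal.mem_map_of_mem _ hk)
    | add y₁ y₂ h₁ h₂ =>
      rw [map_add]
      exact Ideal.add_mem _ h₁ h₂
  obtain ⟨y, rfl⟩ := (hex' b').1 h0
  exact hall y

end Groth.Agent.Lib.Helper22.PolLawLib
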