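import Groth.Agent.Lib.Helper22.UnivOpenDim
import Groth.Agent.Lib.Helper22.SmoothDim
import Groth.Agent.Lib.Helper22.NormalGoingDown
import Groth.Agent.Lib.Helper87.SmoothNormal

/-!
# Quasi-finite morphisms to affine space: the valuative key step (helper22, EGA IV 14.5.9)
-/
set_option autoImplicit false
open CategoryTheory AlgebraicGeometry TopologicalSpace Topology Limits
universe u

namespace Groth.Agent.Lib.Helper22.QFAffineOpen

open Groth.Agent.Lib.Helper73 Groth.Agent.Lib.Helper22.ImgDim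
  Groth.Agent.Lib.Helper22.UnivOpenDim Groth.Agent.Lib.Helper22.FlatDimDense

/-- the polynomial ring over a valuation ring is integrally closed -/
theorem isIntegrallyClosed_mvPolynomial_ulift (R : Type u) [CommRing R] [IsDomain R]
    [IsIntegrallyClosed R] (n : ℕ) :
    IsIntegrallyClosed (MvPolynomial (ULift.{u} (Fin n)) R) := by
  haveI := Groth.Agent.Lib.Helper87.SmoothNormal.isIntegrallyClosed_mvPolynomial R n
  exact IsIntegrallyClosed.of_equiv
    (MvPolynomial.renameEquiv R (Equiv.ulift.{u} (α := Fin n))).symm.toRingEquiv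

set_option backward.isDefEq.respectTransparency false in
/-- points of affine space over a domain whose residual transcendence degree is at least `n` and
which lie over the generic point are generic -/
theorem asIdeal_eq_bot_of_le_resTrdegNat (R : Type u) [CommRing R] [IsDomain R] (n : ℕ)
    (p' : ↥(𝔸(ULift.{u} (Fin n); Spec (CommRingCat.of R))))
    (hp' : (𝔸(ULift.{u} (Fin n); Spec (CommRingCat.of R)) ↘ Spec (CommRingCat.of R)).base p' =
      (⟨⊥, Ideal.isPrime_bot⟩ : PrimeSpectrum R))
    (hn : n ≤ resTrdegNat (𝔸(ULift.{u} (Fin n); Spec (CommRingCat.of R)) ↘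
      Spec (CommRingCat.of R)) p') :
    ((AffineSpace.SpecIso (ULift.{u} (Fin n)) (CommRingCat.of R)).hom.base p').asIdeal = ⊥ := by
  set qh : 𝔸(ULift.{u} (Fin n); Spec (CommRingCat.of R)) ⟶ Spec (CommRingCat.of R) :=
    𝔸(ULift.{u} (Fin n); Spec (CommRingCat.of R)) ↘ Spec (CommRingCat.of R) with hqh
  set e := AffineSpace.SpecIso (ULift.{u} (Fin n)) (CommRingCat.of R) with he
  set gp : ↥(Spec (CommRingCat.of (MvPolynomial (ULift.{u} (Fin n)) R))) :=
    (⟨⊥, Ideal.isPrime_bot⟩ : PrimeSpectrum (MvPolynomial (ULift.{u} (Fin n)) R)) with hgp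
  set ξ : ↥(𝔸(ULift.{u} (Fin n); Spec (CommRingCat.of R))) := e.inv.base gp with hξ
  have hinv : e.inv.base (e.hom.base p') = p' := by
    rw [← Scheme.Hom.comp_apply, e.hom_inv_id]; rfl
  have h1 : ξ ⤳ p' := by
    have : gp ⤳ e.hom.base p' := (PrimeSpectrum.le_iff_specializes gp _).1 bot_le
    have := this.map e.inv.continuous
    rwa [hinv] at this
  have h2 : qh.base ξ = qh.base p' := by
    have h3 : qh.base ξ ⤳ qh.base p' := h1.map qh.continuous
    rw [hp'] at h3 ⊢
    have h4 := (PrimeSpectrum.le_iff_specializes _ _).2 h3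
    apply PrimeSpectrum.ext
    exact le_bot_iff.mp h4
  have h5 : ξ = p' := by
    by_contra hne
    have h6 := resTrdegNat_lt_of_specializes_fiber qh p' ξ h1 h2 hne
    have h7 := resTrdegNat_le_fibreDimAt qh ξ
    rw [Groth.Agent.Lib.Helper22.SmoothDim.fibreDimAt_affineSpace] at h7
    have h8 : Nat.card (ULift.{u} (Fin n)) = n := by simp
    rw [h8] at h7
    have h9 : resTrdegNat qh ξ ≤ n := by exact_mod_cast h7
    omega
  rw [← h5, hξ, ← Scheme.Hom.comp_apply, e.inv_hom_id]
  rfl

set_option backward.isDefEq.respectTransparency false in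
/-- The valuative key step of EGA IV 14.5.9 (no Noetherian hypotheses). -/
theorem exists_generization_pullback {X S : Scheme.{u}} (f : X ⟶ S)
    [LocallyOfFinitePresentation f] (n : ℕ)
    (u : X ⟶ 𝔸(ULift.{u} (Fin n); S)) [LocallyQuasiFinite u]
    (hu : u ≫ (𝔸(ULift.{u} (Fin n); S) ↘ S) = f)
    (x z : X) (hzx : z ⤳ x) (hfz : f.base z = f.base x)
    (hzmax : ∀ t : X, t ⤳ z → f.base t = f.base z → t = z)
    (hn : n ≤ resTrdegNat f z)
    (hopen : EGA43.IsUnivOpenAt f z)
    (R : Type u) [CommRing R] [IsDomain R] [ValuationRing R]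
    (ψ : Spec (CommRingCat.of R) ⟶ 𝔸(ULift.{u} (Fin n); S)) (x₁ : ↥(pullback u ψ))
    (h1 : (pullback.fst u ψ).base x₁ = x)
    (h2 : (pullback.snd u ψ).base x₁ = IsLocalRing.closedPoint R) :
    ∃ x₂ : ↥(pullback u ψ), x₂ ⤳ x₁ ∧
      (pullback.snd u ψ).base x₂ = (⟨⊥, Ideal.isPrime_bot⟩ : PrimeSpectrum R) := by
  set q : 𝔸(ULift.{u} (Fin n); S) ⟶ S := 𝔸(ULift.{u} (Fin n); S) ↘ S with hq
  haveI : LocallyOfFiniteType (u ≫ q) := by rw [hu]; infer_instance
  haveI : LocallyOfFiniteType u := locallyOfFiniteType_of_comp u q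
  set h : Spec (CommRingCat.of R) ⟶ S := ψ ≫ q with hh
  set qh : 𝔸(ULift.{u} (Fin n); Spec (CommRingCat.of R)) ⟶ Spec (CommRingCat.of R) :=
    𝔸(ULift.{u} (Fin n); Spec (CommRingCat.of R)) ↘ Spec (CommRingCat.of R) with hqh
  set a : 𝔸(ULift.{u} (Fin n); Spec (CommRingCat.of R)) ⟶ 𝔸(ULift.{u} (Fin n); S) :=
    AffineSpace.map (ULift.{u} (Fin n)) h with ha
  have hP : IsPullback a qh q h := AffineSpace.isPullback_map h
  let σ : Spec (CommRingCat.of R) ⟶ 𝔸(ULift.{u} (Fin n); Spec (CommRingCat.of R)) :=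
    hP.lift ψ (𝟙 _) (by rw [Category.id_comp])
  have hσa : σ ≫ a = ψ := hP.lift_fst _ _ _
  have hσq : σ ≫ qh = 𝟙 _ := hP.lift_snd _ _ _
  set p := pullback.fst f h with hp
  set fh := pullback.snd f h with hfh
  have hX : IsPullback p fh f h := IsPullback.of_hasPullback f h
  haveI : LocallyOfFiniteType fh := MorphismProperty.of_isPullback hX inferInstance
  let uh : pullback f h ⟶ 𝔸(ULift.{u} (Fin n); Spec (CommRingCat.of R)) :=
    hP.lift (p ≫ u) fh (by rw [Category.assoc, hu]; exact pullback.condition)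
  have huha : uh ≫ a = p ≫ u := hP.lift_fst _ _ _
  have huhq : uh ≫ qh = fh := hP.lift_snd _ _ _
  have hU : IsPullback p uh u a := by
    refine IsPullback.of_bot ?_ huha.symm hP
    rw [huhq, hu]; exact hX
  haveI : LocallyQuasiFinite uh :=
    MorphismProperty.of_isPullback (P := @LocallyQuasiFinite) hU inferInstance
  haveI : LocallyOfFiniteType uh :=
    MorphismProperty.of_isPullback (P := @LocallyOfFiniteType) hU inferInstance
  set fst₁ := pullback.fst u ψ with hfst₁
  set snd₁ := pullback.snd u ψ with hsnd₁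
  have hV : IsPullback fst₁ snd₁ u ψ := IsPullback.of_hasPullback u ψ
  let i : pullback u ψ ⟶ pullback f h :=
    hX.lift fst₁ snd₁ (by rw [← hu, ← Category.assoc, hV.w, Category.assoc])
  have hi1 : i ≫ p = fst₁ := hX.lift_fst _ _ _
  have hi2 : i ≫ fh = snd₁ := hX.lift_snd _ _ _
  have hiu : i ≫ uh = snd₁ ≫ σ := by
    apply hP.hom_ext
    · rw [Category.assoc, huha, ← Category.assoc, hi1, Category.assoc, hσa]; exact hV.w
    · rw [Category.assoc, huhq, hi2, Category.assoc, hσq, Category.comp_id]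
  have hI : IsPullback i snd₁ uh σ := by
    refine IsPullback.of_right ?_ hiu hU
    rw [hi1, hσa]; exact hV
  haveI : IsClosedImmersion (σ ≫ qh) := by rw [hσq]; infer_instance
  haveI : IsClosedImmersion σ := IsClosedImmersion.of_comp σ qh
  haveI : IsClosedImmersion i :=
    MorphismProperty.of_isPullback (P := @IsClosedImmersion) hI.flip inferInstance
  -- points
  set m : ↥(Spec (CommRingCat.of R)) := IsLocalRing.closedPoint R with hm
  set η : ↥(Spec (CommRingCat.of R)) := (⟨⊥, Ideal.isPrime_bot⟩ : PrimeSpectrum R) with hη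
  have hηm : η ⤳ m := (PrimeSpectrum.le_iff_specializes η m).1 bot_le
  set xh := i.base x₁ with hxh
  have hpxh : p.base xh = x := by rw [hxh, ← Scheme.Hom.comp_apply, hi1, h1]
  have hfxh : fh.base xh = m := by rw [hxh, ← Scheme.Hom.comp_apply, hi2, h2]
  have hcomm : ∀ t, f.base (p.base t) = h.base (fh.base t) := fun t => by
    have := congr(($hX.w) t)
    simpa only [Scheme.Hom.comp_apply] using this
  have hhm : h.base m = f.base z := by rw [hfz, ← hpxh, hcomm, hfxh]
  -- lift `z` to a generization of `xh` in the closed fibre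
  have hcl : p.base xh ∈ closure (({z} : Set X) ∩ f.base ⁻¹' {h.base m}) := by
    have : ({z} : Set X) ∩ f.base ⁻¹' {h.base m} = {z} := by
      rw [Set.inter_eq_left, Set.singleton_subset_iff]; exact hhm.symm
    rw [this, hpxh]; exact specializes_iff_mem_closure.mp hzx
  have hxcl := mem_closure_fibre_of_isPullback f h p fh hX m {z} xh hfxh hcl
  obtain ⟨z₀, hz₀cl, hz₀p, hz₀x⟩ := exists_specializes_of_mem_closure_fibre' p z
    (p.base ⁻¹' {z} ∩ fh.base ⁻¹' {m}) Set.inter_subset_left xh hxcl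
  have hz₀m : fh.base z₀ = m := by
    have hc : IsClosed (fh.base ⁻¹' {m}) :=
      (IsLocalRing.isClosed_singleton_closedPoint R).preimage fh.continuous
    exact closure_minimal Set.inter_subset_right hc hz₀cl
  have hN : FlatMor.fibreDimAt fh z₀ = ((resTrdegNat f z : ℕ) : WithBot ℕ∞) := by
    rw [fibreDimAt_eq_of_isPullback f h p fh hX z₀, hz₀p]
    exact Groth.Agent.Lib.Helper22.GenericFibreDim.fibreDimAt_eq_resTrdegNat_of_maximal f z hzmax
  obtain ⟨zh, hzh1, hzh2, hzh3, -⟩ := exists_maximal_generization fh z₀ _ hN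
  have hzhm : fh.base zh = m := hzh2.trans hz₀m
  have hpzh : p.base zh = z := by
    apply hzmax
    · rw [← hz₀p]; exact hzh1.map p.continuous
    · rw [hcomm, hzhm, hhm]
  -- generize using universal openness at `z`
  have hop : EGA43.IsOpenAt fh.base zh := hopen _ h zh hpzh
  obtain ⟨z', hz'1, hz'2⟩ :=
    (Groth.Agent.S3404.result fh zh).1 hop η (by rw [hzhm]; exact hηm)
  have h5 := Groth.Agent.Lib.Helper22.ValTrdeg.resTrdegNat_le_of_specializes fh hz'1
  have h6 : n ≤ resTrdegNat fh z' := by omega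
  have h7 : resTrdegNat fh z' = resTrdegNat qh (uh.base z') + resTrdegNat uh z' := by
    have := resTrdegNat_comp uh qh z'
    simp only [huhq] at this
    exact this
  have h8 : resTrdegNat uh z' = 0 := by
    have hq1 := (quasiFiniteAt_iff_fibreDimAt_le_zero uh z').1 (uh.quasiFiniteAt z')
    have hq2 := resTrdegNat_le_fibreDimAt uh z'
    have := hq2.trans hq1
    exact Nat.le_zero.mp (by exact_mod_cast this)
  have hqhz' : qh.base (uh.base z') = η := by
    rw [← Scheme.Hom.comp_apply, huhq, hz'2]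
  have h9 : n ≤ resTrdegNat qh (uh.base z') := by omega
  have hgen := asIdeal_eq_bot_of_le_resTrdegNat R n (uh.base z') hqhz' h9
  -- going down over the normal scheme `𝔸ⁿ_R`
  set e := AffineSpace.SpecIso (ULift.{u} (Fin n)) (CommRingCat.of R) with he
  haveI := isIntegrallyClosed_mvPolynomial_ulift R n
  set v := uh ≫ e.hom with hv
  haveI : LocallyOfFiniteType v := inferInstance
  haveI : LocallyQuasiFinite v := inferInstance
  have hz'x : z' ⤳ xh := (hz'1.trans hzh1).trans hz₀x
  have huxh : uh.base xh = σ.base m := by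
    rw [hxh, ← Scheme.Hom.comp_apply, hiu, Scheme.Hom.comp_apply, h2]
  have ht : e.hom.base (σ.base η) ⤳ v.base xh := by
    rw [hv, Scheme.Hom.comp_apply, huxh]
    exact (hηm.map σ.continuous).map e.hom.continuous
  obtain ⟨w, hw1, hw2⟩ := Groth.Agent.Lib.Helper22.NormalGoingDown.exists_generization_of_normal
    (MvPolynomial (ULift.{u} (Fin n)) R) v xh z' hz'x hgen _ ht
  have hinv : ∀ t, e.inv.base (e.hom.base t) = t := fun t => by
    rw [← Scheme.Hom.comp_apply, e.hom_inv_id]; rfl
  have hw3 : uh.base w = σ.base η := by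
    rw [← hinv (uh.base w), ← hinv (σ.base η)]
    congr 1
  obtain ⟨x₂, hx₂1, hx₂2⟩ := Scheme.exists_preimage_of_isPullback hI w η hw3
  refine ⟨x₂, ?_, hx₂2⟩
  rw [← i.isClosedEmbedding.isInducing.specializes_iff, hx₂1]
  exact hw1

end Groth.Agent.Lib.Helper22.QFAffineOpen
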