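import Groth.Agent.Lib.Helper57.EtQF1
import Groth.Agent.Lib.Helper57.EtQF2
import Groth.Agent.Lib.Helper22.SmoothDim
import Groth.Agent.Lib.Helper73.DimFormula.Chevalley

/-!
# Finite quasi-sections of a morphism quasi-finite and universally open at a point (helper22)
-/
set_option autoImplicit false
open CategoryTheory AlgebraicGeometry TopologicalSpace Topology Limits
universe u

namespace Groth.Agent.Lib.Helper22.QuasiSection

open Groth.Agent.Lib.Helper73

set_option backward.isDefEq.respectTransparency false in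
/-- a point of an étale morphism is isolated in its fibre -/
theorem exists_open_inter_fibre_eq_singleton {U S : Scheme.{u}} (g' : U ⟶ S) [Etale g'] (u' : U) :
    ∃ W : Set U, IsOpen W ∧ u' ∈ W ∧ ∀ u'' ∈ W, g'.base u'' = g'.base u' → u'' = u' := by
  have h1 : FlatMor.fibreDimAt g' u' = ((0 : ℕ) : WithBot ℕ∞) :=
    Groth.Agent.Lib.Helper22.SmoothDim.fibreDimAt_eq_of_smoothOfRelativeDimension 0 g' u'
  have h2 : g'.QuasiFiniteAt u' :=
    (quasiFiniteAt_iff_fibreDimAt_le_zero g' u').2 (by rw [h1]; exact le_rfl)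
  have h3 : IsOpen ({g'.asFiber u'} : Set (g'.fiber (g'.base u'))) :=
    Scheme.Hom.quasiFiniteAt_iff_isOpen_singleton_asFiber.mp h2
  obtain ⟨W, hW, hWeq⟩ := (g'.fiberι (g'.base u')).isEmbedding.isInducing.isOpen_iff.mp h3
  refine ⟨W, hW, ?_, ?_⟩
  · have : g'.asFiber u' ∈ (g'.fiberι (g'.base u')).base ⁻¹' W := by rw [hWeq]; rfl
    rw [Set.mem_preimage, g'.fiberι_asFiber u'] at this
    exact this
  · intro u'' hu''W hu''
    have hr : u'' ∈ Set.range (g'.fiberι (g'.base u')).base := by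
      rw [Scheme.Hom.range_fiberι]; exact hu''
    obtain ⟨b, rfl⟩ := hr
    have hb : b ∈ (g'.fiberι (g'.base u')).base ⁻¹' W := hu''W
    rw [hWeq, Set.mem_singleton_iff] at hb
    rw [hb, g'.fiberι_asFiber u']

set_option backward.isDefEq.respectTransparency false in
/-- A morphism locally of finite presentation which is quasi-finite and universally open at a
point `x₁` admits, étale locally on the base, a finite surjective quasi-section through `x₁`. -/
theorem exists_quasiSection_of_quasiFiniteAt {X₁ S : Scheme.{u}} (g : X₁ ⟶ S)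
    [LocallyOfFinitePresentation g] (x₁ : X₁) (hqf : g.QuasiFiniteAt x₁)
    (hopen : EGA43.IsUnivOpenAt g x₁) :
    ∃ (S' S'' : Scheme.{u}) (_ : IsAffine S') (w : S' ⟶ S) (π : S'' ⟶ S') (h₁ : S'' ⟶ X₁),
      Etale w ∧ IsFinite π ∧ Surjective π ∧ LocallyOfFinitePresentation π ∧ h₁ ≫ g = π ≫ w ∧
      ∃ s'' : S'', (π ≫ w).base ⁻¹' {g.base x₁} = {s''} ∧ h₁.base s'' = x₁ ∧
        IsIso (h₁.residueFieldMap s'') := by
  obtain ⟨U, g', u', hét, hu', hiso, V, v, hfin, hvV, hfst, hsnd, huniq⟩ :=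
    Groth.Agent.Lib.Helper57.EtQF.exists_etale_nbhd_split' g x₁ hqf
  set fst := pullback.fst g g' with hfstdef
  set snd := pullback.snd g g' with hsnddef
  -- openness at `v`
  have hop : EGA43.IsOpenAt snd.base v := hopen U g' v hfst
  have hVn : (V : Set ↥(pullback g g')) ∈ nhds v := V.isOpen.mem_nhds hvV
  have himg : snd.base '' (V : Set ↥(pullback g g')) ∈ nhds u' := by
    have := hop _ hVn
    rwa [hsnd] at this
  obtain ⟨W₀, hW₀sub, hW₀, hu'W₀⟩ := mem_nhds_iff.mp himg
  obtain ⟨W₁, hW₁, hu'W₁, hW₁uniq⟩ := exists_open_inter_fibre_eq_singleton g' u'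
  obtain ⟨S'₀, hS'₀, hu'S'₀, hS'₀le⟩ := exists_isAffineOpen_mem_and_subset (x := u')
    (U := ⟨W₀ ∩ W₁, hW₀.inter hW₁⟩) ⟨hu'W₀, hu'W₁⟩
  have hS'₀W₀ : ∀ b ∈ S'₀, b ∈ W₀ := fun b hb => (hS'₀le hb).1
  have hS'₀W₁ : ∀ b ∈ S'₀, b ∈ W₁ := fun b hb => (hS'₀le hb).2
  set k : (V : Scheme.{u}) ⟶ U := V.ι ≫ snd with hk
  haveI : IsFinite k := hfin
  haveI : LocallyOfFinitePresentation k := by rw [hk]; infer_instance
  set π := pullback.snd k S'₀.ι with hπ
  set pr := pullback.fst k S'₀.ι with hpr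
  have hcond : pr ≫ k = π ≫ S'₀.ι := pullback.condition
  let h₁ : pullback k S'₀.ι ⟶ X₁ := pr ≫ V.ι ≫ fst
  have hcomm : ∀ b, S'₀.ι.base (π.base b) = snd.base (V.ι.base (pr.base b)) := by
    intro b
    have := congr(($hcond) b)
    simp only [Scheme.Hom.comp_apply, hk] at this
    exact this.symm
  -- the marked point
  obtain ⟨s'', hs''1, hs''2⟩ := Scheme.Pullback.exists_preimage_pullback (f := k) (g := S'₀.ι)
    (⟨v, hvV⟩ : ↥V) (⟨u', hu'S'₀⟩ : ↥S'₀) (by
      show (V.ι ≫ snd).base ⟨v, hvV⟩ = u'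
      rw [Scheme.Hom.comp_apply]; exact hsnd)
  have hVιs'' : V.ι.base (pr.base s'') = v := by rw [hs''1]; rfl
  refine ⟨(S'₀ : Scheme.{u}), pullback k S'₀.ι, hS'₀, S'₀.ι ≫ g', π, h₁, inferInstance,
    inferInstance, ?_, inferInstance, ?_, s'', ?_, ?_, ?_⟩
  · -- surjectivity
    refine ⟨fun b => ?_⟩
    obtain ⟨v', hv'V, hv'⟩ := hW₀sub (hS'₀W₀ b.1 b.2)
    obtain ⟨c, -, hc2⟩ := Scheme.Pullback.exists_preimage_pullback (f := k) (g := S'₀.ι)
      (⟨v', hv'V⟩ : ↥V) b (by
        show (V.ι ≫ snd).base ⟨v', hv'V⟩ = S'₀.ι.base b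
        rw [Scheme.Hom.comp_apply]; exact hv')
    exact ⟨c, hc2⟩
  · -- commutativity
    show (pr ≫ V.ι ≫ fst) ≫ g = π ≫ S'₀.ι ≫ g'
    rw [Category.assoc, Category.assoc, pullback.condition, ← Category.assoc V.ι,
      ← Category.assoc pr, ← Category.assoc π, ← hcond]
  · -- uniqueness of the point over `g x₁`
    ext b
    simp only [Set.mem_preimage, Set.mem_singleton_iff]
    constructor
    · intro hb
      have hb' : g'.base (S'₀.ι.base (π.base b)) = g.base x₁ := by
        simpa only [Scheme.Hom.comp_apply] using hb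
      have h2 : S'₀.ι.base (π.base b) = u' :=
        hW₁uniq _ (hS'₀W₁ _ (π.base b).2) (hb'.trans hu'.symm)
      have h3 : V.ι.base (pr.base b) = v :=
        huniq _ (pr.base b).2 ((hcomm b).symm.trans h2)
      apply pr.isOpenEmbedding.injective
      apply V.ι.isOpenEmbedding.injective
      rw [h3, hVιs'']
    · rintro rfl
      show (π ≫ S'₀.ι ≫ g').base b = g.base x₁
      rw [Scheme.Hom.comp_apply, Scheme.Hom.comp_apply, hs''2]
      exact hu'
  · show (pr ≫ V.ι ≫ fst).base s'' = x₁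
    rw [Scheme.Hom.comp_apply, Scheme.Hom.comp_apply, hVιs'', hfst]
  · -- residue fields
    have key : ∀ pt : ↥(pullback g g'), pt = v → IsIso (fst.residueFieldMap pt) := by
      rintro pt rfl
      haveI : IsIso (g'.residueFieldMap (snd.base pt)) := by rw [hsnd]; exact hiso
      refine (ConcreteCategory.isIso_iff_bijective _).mpr ⟨RingHom.injective _, ?_⟩
      exact Groth.Agent.Lib.Helper57.EtQF.residueFieldMap_fst_surjective pt
    haveI := key _ hVιs''
    show IsIso ((pr ≫ V.ι ≫ fst).residueFieldMap s'')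
    rw [Scheme.residueFieldMap_comp, Scheme.residueFieldMap_comp]
    infer_instance

end Groth.Agent.Lib.Helper22.QuasiSection
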