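import Groth.Agent.Lib.Helper22.QFAffineOpen
import Groth.Agent.Lib.Helper22.UnivOpenVal
import Groth.Agent.Lib.Helper22.MultiSection
import Groth.Agent.Lib.Helper22.QuasiSection
import Groth.Agent.Lib.Helper93.Birat
import Groth.Agent.Lib.Helper87.UnivOpenAtChart
import Groth.Agent.Lib.Helper80.UnivOpenAt
import Groth.Agent.S4925

/-!
# Quasi-sections through a point of a fibre (helper22, EGA IV 14.5.9-14.5.10)
-/
set_option autoImplicit false
open CategoryTheory AlgebraicGeometry TopologicalSpace Topology Limits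
universe u

namespace Groth.Agent.Lib.Helper22.QuasiSection2

open Groth.Agent.Lib.Helper73

/-- EGA IV 14.5.9 in pointwise form: a locally quasi-finite `S`-morphism to `𝔸ⁿ_S` is universally
open at `x` as soon as `f` is universally open at a maximal point `z` of the fibre specializing to
`x` with residual transcendence degree at least `n`. -/
theorem isUnivOpenAt_of_quasiFinite {X S : Scheme.{u}} (f : X ⟶ S)
    [LocallyOfFinitePresentation f] (n : ℕ)
    (u : X ⟶ 𝔸(ULift.{u} (Fin n); S)) [LocallyQuasiFinite u]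
    (hu : u ≫ (𝔸(ULift.{u} (Fin n); S) ↘ S) = f)
    (x z : X) (hzx : z ⤳ x) (hfz : f.base z = f.base x)
    (hzmax : ∀ t : X, t ⤳ z → f.base t = f.base z → t = z)
    (hn : n ≤ resTrdegNat f z) (hopen : EGA43.IsUnivOpenAt f z) : EGA43.IsUnivOpenAt u x := by
  have : LocallyOfFinitePresentation (u ≫ (𝔸(ULift.{u} (Fin n); S) ↘ S)) := by
    rw [hu]; infer_instance
  have : LocallyOfFinitePresentation u :=
    Groth.Agent.Lib.Helper93.Birat.locallyOfFinitePresentation_of_comp u
      (𝔸(ULift.{u} (Fin n); S) ↘ S)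
  refine Groth.Agent.Lib.Helper22.UnivOpenVal.isUnivOpenAt_of_valuative u x ?_
  intro R _ _ _ ψ x₁ h1 h2
  exact Groth.Agent.Lib.Helper22.QFAffineOpen.exists_generization_pullback f n u hu x z hzx hfz
    hzmax hn hopen R ψ x₁ h1 h2

set_option backward.isDefEq.respectTransparency false in
/-- EGA IV 14.5.10 (quasi-sections), pointwise hypotheses. -/
theorem exists_quasiSection {X S : Scheme.{u}} (f : X ⟶ S) [LocallyOfFinitePresentation f]
    (x z : X) (hzx : z ⤳ x) (hfz : f.base z = f.base x)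
    (hzmax : ∀ t : X, t ⤳ z → f.base t = f.base z → t = z)
    (hopen : EGA43.IsUnivOpenAt f z) (hx0 : resTrdegNat f x = 0)
    (hdim : FlatMor.fibreDimAt f x ≤ ((resTrdegNat f z : ℕ) : WithBot ℕ∞)) :
    ∃ (S' S'' : Scheme.{u}) (_ : IsAffine S') (w : S' ⟶ S) (π : S'' ⟶ S') (h : S'' ⟶ X),
      Etale w ∧ IsFinite π ∧ Surjective π ∧ LocallyOfFinitePresentation π ∧ h ≫ f = π ≫ w ∧
      ∃ s'' : S'', (π ≫ w).base ⁻¹' {f.base x} = {s''} ∧ h.base s'' = x ∧
        IsIso (h.residueFieldMap s'') := by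
  set n := resTrdegNat f z with hn
  obtain ⟨U, u, hxU, -, hu, hulqf⟩ :=
    exists_locallyQuasiFinite_toAffineSpace f x n hdim ⊤ trivial
  haveI := hulqf
  set q : 𝔸(ULift.{u} (Fin n); S) ⟶ S := 𝔸(ULift.{u} (Fin n); S) ↘ S with hq
  set fU : (U : Scheme.{u}) ⟶ S := U.ι ≫ f with hfU
  have hzU : z ∈ U := hzx.mem_open U.isOpen hxU
  let xU : ↥(U : Scheme.{u}) := ⟨x, hxU⟩
  let zU : ↥(U : Scheme.{u}) := ⟨z, hzU⟩
  have hιx : U.ι.base xU = x := rfl
  have hιz : U.ι.base zU = z := rfl
  have hzxU : zU ⤳ xU := by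
    rw [← U.ι.isOpenEmbedding.isInducing.specializes_iff, hιx, hιz]; exact hzx
  have hfzU : fU.base zU = fU.base xU := by
    rw [hfU, Scheme.Hom.comp_apply, Scheme.Hom.comp_apply, hιx, hιz]; exact hfz
  have hzmaxU : ∀ t : ↥(U : Scheme.{u}), t ⤳ zU → fU.base t = fU.base zU → t = zU := by
    intro t ht hft
    apply U.ι.isOpenEmbedding.injective
    rw [hιz]
    apply hzmax
    · rw [← hιz]; exact ht.map U.ι.continuous
    · rw [hfU, Scheme.Hom.comp_apply, Scheme.Hom.comp_apply, hιz] at hft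
      exact hft
  have hresU : ∀ t : ↥(U : Scheme.{u}), resTrdegNat fU t = resTrdegNat f (U.ι.base t) := by
    intro t
    have h1 := resTrdegNat_comp U.ι f t
    have h2 := resTrdegNat_eq_zero_of_locallyQuasiFinite U.ι t
    rw [hfU]; omega
  have hnU : n ≤ resTrdegNat fU zU := by rw [hresU, hιz]
  have hopenU : EGA43.IsUnivOpenAt fU zU :=
    Groth.Agent.S4925.result U.ι f zU
      (Groth.Agent.Lib.Helper87.UnivOpenAtChart.isUnivOpenAt_of_universallyOpen U.ι zU) hopen
  have hL1 : EGA43.IsUnivOpenAt u xU :=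
    isUnivOpenAt_of_quasiFinite fU n u hu xU zU hzxU hfzU hzmaxU hnU hopenU
  -- the image point
  haveI : LocallyOfFiniteType (u ≫ q) := by rw [hu]; infer_instance
  haveI : LocallyOfFiniteType u := locallyOfFiniteType_of_comp u q
  haveI : LocallyOfFinitePresentation (u ≫ q) := by rw [hu]; infer_instance
  haveI : LocallyOfFinitePresentation u :=
    Groth.Agent.Lib.Helper93.Birat.locallyOfFinitePresentation_of_comp u q
  set y := u.base xU with hy
  have hy0 : resTrdegNat q y = 0 := by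
    have h1 := resTrdegNat_comp u q xU
    have h2 : resTrdegNat (u ≫ q) xU = resTrdegNat fU xU := resTrdegNat_congr hu xU
    have h3 := hresU xU
    rw [hιx, hx0] at h3
    rw [hy]
    omega
  obtain ⟨T, c, t, hct, hciso, hflat, hfp, hqf⟩ :=
    Groth.Agent.Lib.Helper22.MultiSection.exists_flat_multisection n y hy0
  set τ : T ⟶ S := c ≫ q with hτ
  set fst₁ := pullback.fst u c with hfst₁
  set snd₁ := pullback.snd u c with hsnd₁
  obtain ⟨x₁, hx₁1, hx₁2⟩ := Scheme.Pullback.exists_preimage_pullback (f := u) (g := c) xU t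
    hct.symm
  set g : pullback u c ⟶ S := snd₁ ≫ τ with hg
  haveI : LocallyOfFinitePresentation g := by rw [hg]; infer_instance
  haveI : LocallyQuasiFinite g := by rw [hg]; infer_instance
  have hqfat : g.QuasiFiniteAt x₁ := g.quasiFiniteAt x₁
  have hopeng : EGA43.IsUnivOpenAt g x₁ := by
    refine Groth.Agent.S4925.result snd₁ τ x₁ ?_ ?_
    · exact Groth.Agent.Lib.Helper80.UnivOpenAt.isUnivOpenAt_of_isPullback hL1
        (IsPullback.of_hasPullback u c) x₁ hx₁1
    · exact Groth.Agent.Lib.Helper87.UnivOpenAtChart.isUnivOpenAt_of_universallyOpen τ _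
  obtain ⟨S', S'', hS', w, π, h₁, hw, hπf, hπs, hπp, hcomm, s'', hs''1, hs''2, hs''3⟩ :=
    Groth.Agent.Lib.Helper22.QuasiSection.exists_quasiSection_of_quasiFiniteAt g x₁ hqfat hopeng
  have hgx₁ : g.base x₁ = f.base x := by
    rw [hg, hτ, Scheme.Hom.comp_apply, Scheme.Hom.comp_apply, hx₁2, hct, hy,
      ← Scheme.Hom.comp_apply, hu, hfU, Scheme.Hom.comp_apply, hιx]
  refine ⟨S', S'', hS', w, π, h₁ ≫ fst₁ ≫ U.ι, hw, hπf, hπs, hπp, ?_, s'', ?_, ?_, ?_⟩
  · rw [← hcomm, hg, hτ, Category.assoc, Category.assoc]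
    congr 1
    rw [← Category.assoc snd₁, ← pullback.condition, Category.assoc, hu, hfU]
  · rw [← hgx₁]; exact hs''1
  · rw [Scheme.Hom.comp_apply, Scheme.Hom.comp_apply, hs''2, hx₁1]
    rfl
  · have key : ∀ pt : ↥(pullback u c), pt = x₁ → IsIso (fst₁.residueFieldMap pt) := by
      rintro pt rfl
      haveI : IsIso (c.residueFieldMap (snd₁.base pt)) := by rw [hx₁2]; exact hciso
      refine (ConcreteCategory.isIso_iff_bijective _).mpr ⟨RingHom.injective _, ?_⟩
      exact Groth.Agent.Lib.Helper57.EtQF.residueFieldMap_fst_surjective pt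
    haveI := key _ hs''2
    rw [Scheme.residueFieldMap_comp, Scheme.residueFieldMap_comp]
    infer_instance

end Groth.Agent.Lib.Helper22.QuasiSection2
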