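import Groth.Agent.Lib.Helper73.DimFormula.CycDim
import Groth.Agent.Lib.Helper73.DimFormula.GenericFibre
import Groth.Agent.Lib.Helper73.DimFormula.FiberCut
import Groth.Agent.Lib.Helper73.DimFormula.DimFibLoci

/-!
# Regular immersions of codimension `c` cut dimension by at most `c` (helper22)

* `mem_range_of_ker_le`, `not_mem_basicOpen_of_mem_ker`: the image of an immersion which is a closed
  immersion over an affine open `U` is the zero locus of the kernel of `Γ(X,U) → Γ(W, ι⁻¹U)`.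
* `trdegNat_le_add_of_maximal`: Krull's height theorem in a chart: a maximal point `ξ` of
  `closure {ζ} ∩ π⁻¹(ι W)` satisfies `δ ζ ≤ δ ξ + c`.
* `meets_properly_iff`: (a) all components of `P ∩ π⁻¹(ι W)` have dim `n - c` iff (b)
  `dim π⁻¹(ι W) + c ≤ n`.
-/

set_option autoImplicit false
set_option linter.style.haveILetI false
open CategoryTheory AlgebraicGeometry TopologicalSpace Topology Limits
universe u

namespace Groth.Agent.Lib.Helper22.RegImmDim

open Groth.Agent.Lib.Helper73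


section Top

variable {T : Type*} [TopologicalSpace T] [QuasiSober T]

theorem quasiSober_inter (O Z : Set T) (hO : IsOpen O) (hZ : IsClosed Z) :
    QuasiSober ↥(O ∩ Z) := by
  haveI : QuasiSober ↥O := hO.isOpenEmbedding_subtypeVal.quasiSober
  have hemb : IsClosedEmbedding (fun t : ↥(O ∩ Z) => (⟨t.1, t.2.1⟩ : ↥O)) := by
    refine ⟨⟨⟨?_⟩, ?_⟩, ?_⟩
    · rw [instTopologicalSpaceSubtype, instTopologicalSpaceSubtype, induced_compose]
      rfl
    · intro a b hab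
      exact Subtype.ext (congrArg (fun t : ↥O => t.1) hab)
    · have : Set.range (fun t : ↥(O ∩ Z) => (⟨t.1, t.2.1⟩ : ↥O)) = Subtype.val ⁻¹' Z := by
        ext t
        constructor
        · rintro ⟨s, rfl⟩; exact s.2.2
        · intro ht; exact ⟨⟨t.1, t.2, ht⟩, rfl⟩
      rw [this]
      exact hZ.preimage continuous_subtype_val
  exact hemb.quasiSober

variable {δ : T → ℕ} (h : IsDimFun δ)
include h

theorem exists_maximal_dim_eq_of_mem_irreducibleComponents (S O Z : Set T) (hO : IsOpen O)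
    (hZ : IsClosed Z) (hS : S = O ∩ Z) (Q : Set ↥S) (hQ : Q ∈ irreducibleComponents ↥S) :
    ∃ ξ ∈ S, (∀ t ∈ S, t ⤳ ξ → t = ξ) ∧ topologicalKrullDim ↥Q = ((δ ξ : ℕ∞) : WithBot ℕ∞) := by
  subst hS
  have hδS := h.restrict hO hZ
  haveI : T0Space ↥(O ∩ Z) := hδS.t0Space
  haveI : QuasiSober ↥(O ∩ Z) := quasiSober_inter O Z hO hZ
  obtain ⟨ξ, hξQ, hξmax⟩ := exists_maximal_of_mem_irreducibleComponents Q hQ
  refine ⟨ξ.1, ξ.2, ?_, ?_⟩
  · intro t ht htξ
    have := hξmax ⟨t, ht⟩ (IsInducing.subtypeVal.specializes_iff.mp htξ)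
    exact congrArg Subtype.val this
  · rw [← hξQ]
    exact hδS.topologicalKrullDim_closure_singleton ξ

theorem exists_irreducibleComponent_dim_eq_of_maximal (S O Z : Set T) (hO : IsOpen O)
    (hZ : IsClosed Z) (hS : S = O ∩ Z) (ξ : T) (hξ : ξ ∈ S) (hmax : ∀ t ∈ S, t ⤳ ξ → t = ξ) :
    ∃ Q ∈ irreducibleComponents ↥S, topologicalKrullDim ↥Q = ((δ ξ : ℕ∞) : WithBot ℕ∞) := by
  subst hS
  have hδS := h.restrict hO hZ
  haveI : T0Space ↥(O ∩ Z) := hδS.t0Space
  haveI : QuasiSober ↥(O ∩ Z) := quasiSober_inter O Z hO hZ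
  refine ⟨closure {(⟨ξ, hξ⟩ : ↥(O ∩ Z))},
    closure_singleton_mem_irreducibleComponents_of_maximal _ ?_,
    hδS.topologicalKrullDim_closure_singleton ⟨ξ, hξ⟩⟩
  intro t ht
  exact Subtype.ext (hmax t.1 t.2 (ht.map continuous_subtype_val))

theorem exists_maximal_specializes_of_mem (S O Z : Set T) (hO : IsOpen O)
    (hZ : IsClosed Z) (hS : S = O ∩ Z) (t : T) (ht : t ∈ S) :
    ∃ ξ ∈ S, ξ ⤳ t ∧ ∀ t' ∈ S, t' ⤳ ξ → t' = ξ := by
  subst hS
  have hδS := h.restrict hO hZ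
  haveI : T0Space ↥(O ∩ Z) := hδS.t0Space
  haveI : QuasiSober ↥(O ∩ Z) := quasiSober_inter O Z hO hZ
  obtain ⟨ξ, hξt, hξmax⟩ := exists_maximal_specializes (⟨t, ht⟩ : ↥(O ∩ Z))
  refine ⟨ξ.1, ξ.2, hξt.map continuous_subtype_val, ?_⟩
  intro t' ht' ht'ξ
  have := hξmax ⟨t', ht'⟩ (IsInducing.subtypeVal.specializes_iff.mp ht'ξ)
  exact congrArg Subtype.val this

end Top

/-- Sections in the kernel vanish on the image. -/
theorem not_mem_basicOpen_of_mem_ker {W X : Scheme.{u}} (ι : W ⟶ X) (U : X.Opens)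
    (r : Γ(X, U)) (hr : r ∈ RingHom.ker (ι.app U).hom) (z : W) :
    ι z ∉ X.basicOpen r := by
  intro h
  have h1 : z ∈ ι ⁻¹ᵁ X.basicOpen r := h
  rw [Scheme.preimage_basicOpen] at h1
  rw [RingHom.mem_ker] at hr
  rw [hr, Scheme.basicOpen_zero] at h1
  exact h1

theorem surjective_app_of_eq {W X : Scheme.{u}} (ι : W ⟶ X) (U₁ U₂ : X.Opens) (h : U₁ = U₂)
    (hs : Function.Surjective (ι.app U₁).hom) : Function.Surjective (ι.app U₂).hom := by
  subst h; exact hs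

set_option backward.isDefEq.respectTransparency false in
/-- If `ι` restricts to a closed immersion over the affine open `U`, then `Γ(X, U) → Γ(W, ι⁻¹U)`
is surjective and `ι⁻¹ U` is affine. -/
theorem surjective_app_of_isClosedImmersion {W X : Scheme.{u}} (ι : W ⟶ X) (U : X.Opens)
    (hU : IsAffineOpen U) [IsClosedImmersion (ι ∣_ U)] :
    IsAffineOpen (ι ⁻¹ᵁ U) ∧ Function.Surjective (ι.app U).hom := by
  haveI : IsAffine U := hU
  have hA : IsAffine (ι ⁻¹ᵁ U) := isAffine_of_isAffineHom (ι ∣_ U)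
  refine ⟨hA, ?_⟩
  have h1 : Function.Surjective ((ι ∣_ U).app ⊤).hom :=
    (ι ∣_ U).app_surjective ⊤ (isAffineOpen_top _)
  rw [morphismRestrict_app] at h1
  have h2 : Function.Surjective (ι.app (U.ι ''ᵁ ⊤)).hom := by
    rw [CommRingCat.hom_comp] at h1
    intro y
    obtain ⟨x, hx⟩ := h1 ((W.presheaf.map (eqToHom
      (image_morphismRestrict_preimage ι U ⊤)).op).hom y)
    refine ⟨x, ?_⟩
    have hinj := (ConcreteCategory.bijective_of_isIso
      (W.presheaf.map (eqToHom (image_morphismRestrict_preimage ι U ⊤)).op)).1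
    exact hinj hx
  exact surjective_app_of_eq ι _ _ (by simp) h2


set_option backward.isDefEq.respectTransparency false in
/-- Points of `U` where the kernel vanishes are in the image. -/
theorem mem_range_of_ker_le {W X : Scheme.{u}} (ι : W ⟶ X) (U : X.Opens)
    (hU : IsAffineOpen U) [IsClosedImmersion (ι ∣_ U)] (x : X) (hx : x ∈ U)
    (h : RingHom.ker (ι.app U).hom ≤ (hU.primeIdealOf ⟨x, hx⟩).asIdeal) :
    x ∈ Set.range ι := by
  obtain ⟨hU', hsurj⟩ := surjective_app_of_isClosedImmersion ι U hU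
  have hrange := _root_.range_comap_of_surjective _ (ι.app U).hom hsurj
  have hmem : hU.primeIdealOf ⟨x, hx⟩ ∈ Set.range (PrimeSpectrum.comap (ι.app U).hom) := by
    rw [hrange]
    exact h
  obtain ⟨𝔮, h𝔮⟩ := hmem
  refine ⟨hU'.fromSpec 𝔮, ?_⟩
  have h1 := IsAffineOpen.SpecMap_appLE_fromSpec ι hU hU' le_rfl
  rw [← Scheme.Hom.app_eq_appLE] at h1
  have h2 : ι (hU'.fromSpec 𝔮) = hU.fromSpec (Spec.map (ι.app U) 𝔮) := by
    rw [← Scheme.Hom.comp_apply, ← h1, Scheme.Hom.comp_apply]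
  rw [h2]
  have h3 : Spec.map (ι.app U) 𝔮 = hU.primeIdealOf ⟨x, hx⟩ := h𝔮
  rw [h3, hU.fromSpec_primeIdealOf ⟨x, hx⟩]


/-- vanishing criterion in a chart. -/
theorem appLE_mem_primeIdealOf_iff {C X : Scheme.{u}} (π : C ⟶ X) (U : X.Opens)
    (hU : IsAffineOpen U) (V : C.Opens) (hV : IsAffineOpen V) (hVU : V ≤ π ⁻¹ᵁ U)
    (r : Γ(X, U)) (x : C) (hx : x ∈ V) :
    (π.appLE U V hVU).hom r ∈ (hV.primeIdealOf ⟨x, hx⟩).asIdeal ↔
      r ∈ (hU.primeIdealOf ⟨π x, hVU hx⟩).asIdeal := by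
  have h1 := mem_basicOpen_iff_not_mem_primeIdealOf hV ((π.appLE U V hVU).hom r) x hx
  have h2 := mem_basicOpen_iff_not_mem_primeIdealOf hU r (π x) (hVU hx)
  have h3 : x ∈ C.basicOpen ((π.appLE U V hVU).hom r) ↔ π x ∈ X.basicOpen r := by
    have := Scheme.basicOpen_appLE π V U hVU r
    constructor
    · intro h
      have h' : x ∈ V ⊓ π ⁻¹ᵁ X.basicOpen r := by rw [← this]; exact h
      exact h'.2
    · intro h
      have h' : x ∈ V ⊓ π ⁻¹ᵁ X.basicOpen r := ⟨hx, h⟩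
      rw [← this] at h'
      exact h'
  rw [← not_iff_not, ← h1, ← h2, h3]

theorem cycIsDimFun_of_isDimFun {C : Scheme.{u}} (δ : C → ℕ) (h : IsDimFun δ) :
    Cyc.IsDimFun C (fun x => (δ x : ℤ)) := by
  intro x y hxy hne
  refine ⟨?_, fun himm => ?_⟩
  · have := h.lt_of_specializes hxy hne
    change (δ y : ℤ) < (δ x : ℤ)
    exact_mod_cast this
  · have := h.eq_add_one_of_immediate hxy hne himm
    change (δ x : ℤ) = (δ y : ℤ) + 1
    exact_mod_cast this

set_option backward.isDefEq.respectTransparency false in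
/-- Krull bound. -/
theorem trdegNat_le_add_of_maximal {k : Type u} [Field k] {C X W : Scheme.{u}}
    (p : C ⟶ Spec (CommRingCat.of k)) [LocallyOfFiniteType p]
    (π : C ⟶ X) (ι : W ⟶ X) (U : X.Opens) (hU : IsAffineOpen U) [IsClosedImmersion (ι ∣_ U)]
    (rs : List Γ(X, U)) (hker : RingHom.ker (ι.app U).hom = Ideal.ofList rs)
    (ζ ξ : C) (hζξ : ζ ⤳ ξ) (hξU : π ξ ∈ U) (hξ : π ξ ∈ Set.range ι)
    (hmax : ∀ x' : C, ζ ⤳ x' → x' ⤳ ξ → π x' ∈ Set.range ι → x' = ξ) :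
    trdegNat p ζ ≤ trdegNat p ξ + rs.length := by
  have hLN : IsLocallyNoetherian C := LocallyOfFiniteType.isLocallyNoetherian p
  obtain ⟨V, hV, hξV, hVU⟩ :=
    exists_isAffineOpen_mem_and_subset (X := C) (x := ξ) (U := π ⁻¹ᵁ U) hξU
  have hζV : ζ ∈ V := hζξ.mem_open V.isOpen hξV
  have hN : IsNoetherianRing Γ(C, V) := IsLocallyNoetherian.component_noetherian ⟨V, hV⟩
  have hle := primeIdealOf_le_of_specializes hV ζ ξ hζV hξV hζξ
  have hcodim := codim_eq_height_chart hV ζ ξ hζV hξV hζξ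
  have hcodim2 := codim_eq_of_cycIsDimFun _ (cycIsDimFun_of_isDimFun _ (isDimFun_trdegNat p)) ζ ξ hζξ
  set 𝔭 : PrimeSpectrum Γ(C, V) := hV.primeIdealOf ⟨ζ, hζV⟩ with h𝔭
  set 𝔮 : PrimeSpectrum Γ(C, V) := hV.primeIdealOf ⟨ξ, hξV⟩ with h𝔮
  have hdom : IsDomain (Γ(C, V) ⧸ 𝔭.asIdeal) := Ideal.Quotient.isDomain 𝔭.asIdeal
  have hmksurj : Function.Surjective (Ideal.Quotient.mk 𝔭.asIdeal) := Ideal.Quotient.mk_surjective
  classical
  let s : Finset (Γ(C, V) ⧸ 𝔭.asIdeal) :=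
    (rs.map (fun r => Ideal.Quotient.mk 𝔭.asIdeal ((π.appLE U V hVU).hom r))).toFinset
  have hs : s.card ≤ rs.length := (List.toFinset_card_le _).trans (by simp)
  have hq' : (𝔮.asIdeal.map (Ideal.Quotient.mk 𝔭.asIdeal)).IsPrime :=
    Ideal.isPrime_map_quotientMk_of_isPrime hle
  have hcomapmap : (𝔮.asIdeal.map (Ideal.Quotient.mk 𝔭.asIdeal)).comap
      (Ideal.Quotient.mk 𝔭.asIdeal) = 𝔮.asIdeal := by
    rw [Ideal.comap_map_of_surjective _ hmksurj, ← RingHom.ker_eq_comap_bot, Ideal.mk_ker]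
    exact sup_eq_left.mpr hle
  -- vanishing at ξ
  obtain ⟨z, hz⟩ := hξ
  have hvanξ : ∀ r ∈ rs, (π.appLE U V hVU).hom r ∈ 𝔮.asIdeal := by
    intro r hr
    rw [h𝔮, appLE_mem_primeIdealOf_iff π U hU V hV hVU r ξ hξV]
    have hrk : r ∈ RingHom.ker (ι.app U).hom := by
      rw [hker]; exact Ideal.subset_span hr
    have := not_mem_basicOpen_of_mem_ker ι U r hrk z
    rw [hz] at this
    by_contra hcon
    exact this ((mem_basicOpen_iff_not_mem_primeIdealOf hU r (π ξ) hξU).mpr hcon)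
  have hmin : 𝔮.asIdeal.map (Ideal.Quotient.mk 𝔭.asIdeal) ∈
      (Ideal.span (s : Set (Γ(C, V) ⧸ 𝔭.asIdeal))).minimalPrimes := by
    refine ⟨⟨hq', ?_⟩, ?_⟩
    · rw [Ideal.span_le]
      intro b hb
      simp only [s, List.coe_toFinset, List.mem_map, Set.mem_ofPred_eq] at hb
      obtain ⟨r, hr, rfl⟩ := hb
      exact Ideal.mem_map_of_mem _ (hvanξ r hr)
    · rintro 𝔯' ⟨h𝔯'prime, h𝔯's⟩ h𝔯'le
      -- the prime of A
      let 𝔯 : PrimeSpectrum Γ(C, V) := ⟨𝔯'.comap (Ideal.Quotient.mk 𝔭.asIdeal), inferInstance⟩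
      have h𝔭𝔯 : 𝔭 ≤ 𝔯 := by
        intro a ha
        change Ideal.Quotient.mk 𝔭.asIdeal a ∈ 𝔯'
        rw [Ideal.Quotient.eq_zero_iff_mem.mpr ha]
        exact 𝔯'.zero_mem
      have h𝔯𝔮 : 𝔯 ≤ 𝔮 := by
        change 𝔯'.comap _ ≤ 𝔮.asIdeal
        rw [← hcomapmap]
        exact Ideal.comap_mono h𝔯'le
      let x' : C := hV.fromSpec 𝔯
      have hx'V : x' ∈ V := by
        have : x' ∈ Set.range hV.fromSpec := ⟨𝔯, rfl⟩
        rw [hV.range_fromSpec] at this
        exact this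
      have hx'𝔯 : hV.primeIdealOf ⟨x', hx'V⟩ = 𝔯 := by
        apply hV.fromSpec.isOpenEmbedding.injective
        rw [hV.fromSpec_primeIdealOf ⟨x', hx'V⟩]
      have h1 : ζ ⤳ x' := specializes_of_primeIdealOf_le hV ζ x' hζV hx'V (by rw [hx'𝔯]; exact h𝔭𝔯)
      have h2 : x' ⤳ ξ := specializes_of_primeIdealOf_le hV x' ξ hx'V hξV (by rw [hx'𝔯]; exact h𝔯𝔮)
      have h3 : π x' ∈ Set.range ι := by
        refine mem_range_of_ker_le ι U hU (π x') (hVU hx'V) ?_
        rw [hker, Ideal.span_le]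
        intro r hr
        have hr' : r ∈ rs := hr
        change r ∈ (hU.primeIdealOf ⟨π x', hVU hx'V⟩).asIdeal
        rw [← appLE_mem_primeIdealOf_iff π U hU V hV hVU r x' hx'V, hx'𝔯]
        change Ideal.Quotient.mk 𝔭.asIdeal ((π.appLE U V hVU).hom r) ∈ 𝔯'
        apply h𝔯's
        apply Ideal.subset_span
        simp only [s, List.coe_toFinset, List.mem_map, Set.mem_ofPred_eq]
        exact ⟨r, hr', rfl⟩
      have h4 : x' = ξ := hmax x' h1 h2 h3
      have h5 : 𝔯 = 𝔮 := by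
        rw [← hx'𝔯, h𝔮]
        congr 1
        exact Subtype.ext h4
      have h6 : 𝔯'.comap (Ideal.Quotient.mk 𝔭.asIdeal) = 𝔮.asIdeal := congrArg PrimeSpectrum.asIdeal h5
      rw [← h6, Ideal.map_comap_of_surjective _ hmksurj]
  have hht := Ideal.height_le_card_of_mem_minimalPrimes_span_finset hmin
  rw [hcodim2] at hcodim
  have h7 : (((trdegNat p ζ : ℤ) - (trdegNat p ξ : ℤ)).toNat : ℕ∞) ≤ rs.length := by
    have h8 : ((((trdegNat p ζ : ℤ) - (trdegNat p ξ : ℤ)).toNat : ℕ∞) : WithBot ℕ∞) =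
        (((𝔮.asIdeal.map (Ideal.Quotient.mk 𝔭.asIdeal)).height : ℕ∞) : WithBot ℕ∞) := hcodim
    rw [WithBot.coe_eq_coe] at h8
    rw [h8]
    exact hht.trans (by exact_mod_cast hs)
  have h9 : ((trdegNat p ζ : ℤ) - (trdegNat p ξ : ℤ)).toNat ≤ rs.length := by exact_mod_cast h7
  omega


section Main

variable {k : Type u} [Field k] {C X W : Scheme.{u}} (q : X ⟶ Spec (CommRingCat.of k))
  (π : C ⟶ X) (ι : W ⟶ X) [LocallyOfFiniteType q] [LocallyOfFiniteType π]

include q in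
theorem meets_properly_iff [IsImmersion ι] (n c : ℕ)
    (hloc : ∀ z : W, ∃ U : X.affineOpens, ι z ∈ U.1 ∧ IsClosedImmersion (ι ∣_ U.1) ∧
      ∃ rs : List Γ(X, U.1), rs.length = c ∧ RingHom.ker (ι.app U.1).hom = Ideal.ofList rs)
    (hC : ∀ P ∈ irreducibleComponents (C : Type u), topologicalKrullDim P = n) :
    (∀ P ∈ irreducibleComponents (C : Type u),
      ∀ Q ∈ irreducibleComponents (P ∩ π ⁻¹' Set.range ι : Set C),
        topologicalKrullDim Q + (c : WithBot ℕ∞) = n) ↔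
      topologicalKrullDim (π ⁻¹' Set.range ι : Set C) + (c : WithBot ℕ∞) ≤ n := by
  haveI : LocallyOfFiniteType (π ≫ q) := inferInstance
  have hδ := isDimFun_trdegNat (π ≫ q)
  haveI : T0Space C := hδ.t0Space
  -- the preimage is locally closed
  obtain ⟨O, Z, hO, hZ, hT⟩ : IsLocallyClosed (π ⁻¹' Set.range ι : Set C) :=
    ι.isLocallyClosed_range.preimage π.continuous
  have hdimT := hδ.topologicalKrullDim_inter_eq_iSup hO hZ
  rw [← hT] at hdimT
  have hPT : ∀ P : Set C, P ∩ π ⁻¹' Set.range ι = O ∩ (P ∩ Z) := by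
    intro P
    rw [hT]
    ext t
    simp only [Set.mem_inter_iff]
    tauto
  -- generic points of components
  have hgen : ∀ P ∈ irreducibleComponents (C : Type u), ∃ ζ : C, closure {ζ} = P ∧
      trdegNat (π ≫ q) ζ = n := by
    intro P hP
    obtain ⟨ζ, hζP, -⟩ := exists_maximal_of_mem_irreducibleComponents P hP
    refine ⟨ζ, hζP, ?_⟩
    have h1 := hδ.topologicalKrullDim_closure_singleton ζ
    rw [hζP, hC P hP] at h1
    exact_mod_cast h1.symm
  -- Krull bound at maximal points of P ∩ T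
  have hkrull : ∀ P ∈ irreducibleComponents (C : Type u), ∀ ξ ∈ P ∩ π ⁻¹' Set.range ι,
      (∀ t ∈ P ∩ π ⁻¹' Set.range ι, t ⤳ ξ → t = ξ) → n ≤ trdegNat (π ≫ q) ξ + c := by
    intro P hP ξ hξ hξmax
    obtain ⟨ζ, hζP, hζn⟩ := hgen P hP
    have hζξ : ζ ⤳ ξ := by rw [specializes_iff_mem_closure, hζP]; exact hξ.1
    obtain ⟨z, hz⟩ := hξ.2
    obtain ⟨U, hzU, hcl, rs, hrs, hker⟩ := hloc z
    haveI := hcl
    have hξU : π ξ ∈ U.1 := by rw [← hz]; exact hzU
    have := trdegNat_le_add_of_maximal (π ≫ q) π ι U.1 U.2 rs hker ζ ξ hζξ hξU hξ.2 ?_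
    · rw [hζn, hrs] at this; exact this
    · intro x' h1 h2 h3
      refine hξmax x' ⟨?_, h3⟩ h2
      rw [← hζP]
      exact specializes_iff_mem_closure.mp h1
  constructor
  · intro ha
    rw [hdimT]
    apply iSup_add_le_withBot
    rintro ⟨t, ht⟩
    have htc : t ∈ ⋃₀ irreducibleComponents (C : Type u) := by
      rw [sUnion_irreducibleComponents]; trivial
    obtain ⟨P, hP, htP⟩ := htc
    have hPc := isClosed_of_mem_irreducibleComponents P hP
    obtain ⟨ξ, hξS, hξt, hξmax⟩ := exists_maximal_specializes_of_mem hδ _ O (P ∩ Z) hO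
      (hPc.inter hZ) (hPT P) t ⟨htP, ht⟩
    obtain ⟨Q, hQ, hQdim⟩ := exists_irreducibleComponent_dim_eq_of_maximal hδ _ O (P ∩ Z) hO
      (hPc.inter hZ) (hPT P) ξ hξS hξmax
    have h1 := ha P hP Q hQ
    rw [hQdim] at h1
    have h2 : trdegNat (π ≫ q) ξ + c = n := by exact_mod_cast h1
    have h3 := hδ.le_of_specializes hξt
    exact_mod_cast (by omega : trdegNat (π ≫ q) t + c ≤ n)
  · intro hb P hP Q hQ
    have hPc := isClosed_of_mem_irreducibleComponents P hP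
    obtain ⟨ξ, hξS, hξmax, hQdim⟩ := exists_maximal_dim_eq_of_mem_irreducibleComponents hδ _ O
      (P ∩ Z) hO (hPc.inter hZ) (hPT P) Q hQ
    rw [hQdim]
    have h1 := hkrull P hP ξ hξS hξmax
    have h2 : ((trdegNat (π ≫ q) ξ : ℕ∞) : WithBot ℕ∞) + (c : WithBot ℕ∞) ≤ n := by
      refine le_trans ?_ hb
      rw [hdimT]
      gcongr
      exact le_iSup (fun t : ↥(π ⁻¹' Set.range ι : Set C) =>
        ((trdegNat (π ≫ q) t.1 : ℕ∞) : WithBot ℕ∞)) ⟨ξ, hξS.2⟩
    have h3 : trdegNat (π ≫ q) ξ + c ≤ n := by exact_mod_cast h2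
    exact_mod_cast (by omega : trdegNat (π ≫ q) ξ + c = n)

end Main

end Groth.Agent.Lib.Helper22.RegImmDim
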