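import Groth.Agent.Lib.Helper22.RegImmDim
import Groth.Agent.Lib.Helper73.DimFormula.GenericLocus
import Groth.Agent.Lib.Helper73.DimFormula.Hypersurface

/-!
# Components of the preimage of a subvariety under a regular immersion (helper22)

* `le_dim_irreducibleComponent_pullback`: `d ≤ dim T + c` (S6473).
-/

set_option autoImplicit false
set_option linter.style.haveILetI false
open CategoryTheory AlgebraicGeometry TopologicalSpace Topology Limits
universe u

namespace Groth.Agent.Lib.Helper22.RegImmDim

open Groth.Agent.Lib.Helper73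

/-- Components of the preimage of an integral closed subscheme `Z` of dimension `d` under an
immersion locally cut out by `c` equations have dimension at least `d - c`. -/
theorem le_dim_irreducibleComponent_pullback {K : Type u} [Field K] {X Y Z : Scheme.{u}}
    (gY : Y ⟶ Spec (CommRingCat.of K)) [LocallyOfFiniteType gY] (f : X ⟶ Y) [IsImmersion f]
    (c : ℕ)
    (hloc : ∀ z : X, ∃ U : Y.affineOpens, f z ∈ U.1 ∧ IsClosedImmersion (f ∣_ U.1) ∧
      ∃ rs : List Γ(Y, U.1), rs.length = c ∧ RingHom.ker (f.app U.1).hom = Ideal.ofList rs)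
    (ι : Z ⟶ Y) [IsClosedImmersion ι] [IsIntegral Z] (d : ℕ) (hd : topologicalKrullDim Z = d)
    (T : Set ↥(pullback f ι)) (hT : T ∈ irreducibleComponents ↥(pullback f ι)) :
    ((d : ℕ) : WithBot ℕ∞) ≤ topologicalKrullDim ↥T + c := by
  haveI : LocallyOfFiniteType (ι ≫ gY) := inferInstance
  haveI : LocallyOfFiniteType (pullback.snd f ι ≫ ι ≫ gY) := inferInstance
  have hδP := isDimFun_trdegNat (pullback.snd f ι ≫ ι ≫ gY)
  haveI : T0Space ↥(pullback f ι) := inferInstance
  obtain ⟨t, htT, htmax⟩ := exists_maximal_of_mem_irreducibleComponents T hT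
  have hdimT : topologicalKrullDim ↥T =
      ((trdegNat (pullback.snd f ι ≫ ι ≫ gY) t : ℕ∞) : WithBot ℕ∞) := by
    rw [← htT]; exact hδP.topologicalKrullDim_closure_singleton t
  have hδt : trdegNat (pullback.snd f ι ≫ ι ≫ gY) t = trdegNat (ι ≫ gY) (pullback.snd f ι t) := by
    rw [trdegNat_eq_resTrdegNat, trdegNat_eq_resTrdegNat, resTrdegNat_comp_of_isPreimmersion]
  have hdZ : trdegNat (ι ≫ gY) (genericPoint Z) = d := by
    have := topologicalKrullDim_eq_trdegNat_genericPoint (ι ≫ gY)
    rw [hd] at this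
    exact_mod_cast this.symm
  have hcond : ι (pullback.snd f ι t) = f (pullback.fst f ι t) := by
    rw [← Scheme.Hom.comp_apply, ← Scheme.Hom.comp_apply, pullback.condition]
  obtain ⟨U, hzU, hcl, rs, hrs, hker⟩ := hloc (pullback.fst f ι t)
  haveI := hcl
  have key := trdegNat_le_add_of_maximal (ι ≫ gY) ι f U.1 U.2 rs hker (genericPoint Z)
    (pullback.snd f ι t) (genericPoint_specializes _) (by rw [hcond]; exact hzU)
    (by rw [hcond]; exact ⟨_, rfl⟩) ?_
  · rw [hdZ, hrs, ← hδt] at key
    rw [hdimT]
    exact_mod_cast key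
  · intro x' _ h2 h3
    have hx' : x' ∈ Set.range (pullback.snd f ι) := by
      rw [Scheme.Pullback.range_snd]; exact h3
    obtain ⟨t', rfl⟩ := hx'
    have h4 : t' ⤳ t := (pullback.snd f ι).isEmbedding.isInducing.specializes_iff.mp h2
    rw [htmax t' h4]

end Groth.Agent.Lib.Helper22.RegImmDim
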