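import Groth.Agent.Lib.Helper22.RelCartierRing
import Groth.Agent.Lib.Helper82.BlowUpMul

universe u

open CategoryTheory AlgebraicGeometry CategoryTheory.Limits TopologicalSpace

namespace Groth.Agent.Lib.Helper22.RelCartier

open Scheme

variable {X S : Scheme.{u}} (f : X ⟶ S) (𝓘 : X.IdealSheafData)

theorem flatSrc : RingHom.StableUnderCompositionWithLocalizationAwaySource RingHom.Flat :=
  (RingHom.Flat.stableUnderComposition.stableUnderCompositionWithLocalizationAway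
    RingHom.Flat.holdsForLocalizationAway).1

theorem isAffineOpen_preimage_subschemeι (U : X.affineOpens) :
    IsAffineOpen (𝓘.subschemeι ⁻¹ᵁ U.1) := U.2.preimage 𝓘.subschemeι

theorem appLE_subscheme (U : X.affineOpens) (V : S.Opens) (e : U.1 ≤ f ⁻¹ᵁ V)
    (e' : 𝓘.subschemeι ⁻¹ᵁ U.1 ≤ (𝓘.subschemeι ≫ f) ⁻¹ᵁ V) :
    (𝓘.subschemeι ≫ f).appLE V (𝓘.subschemeι ⁻¹ᵁ U.1) e' =
      f.appLE V U.1 e ≫ CommRingCat.ofHom (Ideal.Quotient.mk (𝓘.ideal U)) ≫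
        (𝓘.subschemeObjIso U).inv := by
  rw [← 𝓘.subschemeι_app U, Scheme.Hom.app_eq_appLE, Scheme.Hom.appLE_comp_appLE]

theorem flat_appLE_subscheme_iff (U : X.affineOpens) (V : S.Opens) (e : U.1 ≤ f ⁻¹ᵁ V)
    (e' : 𝓘.subschemeι ⁻¹ᵁ U.1 ≤ (𝓘.subschemeι ≫ f) ⁻¹ᵁ V) :
    ((𝓘.subschemeι ≫ f).appLE V (𝓘.subschemeι ⁻¹ᵁ U.1) e').hom.Flat ↔
      ((Ideal.Quotient.mk (𝓘.ideal U)).comp (f.appLE V U.1 e).hom).Flat := by
  rw [appLE_subscheme f 𝓘 U V e e', ← Category.assoc, CommRingCat.hom_comp,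
    RingHom.Flat.respectsIso.cancel_right_isIso]
  rfl

/-- **B1**: if `D → S` is flat then on every chart `A → B/𝓘(U)` is flat. -/
theorem flat_quotient_of_flat [Flat (𝓘.subschemeι ≫ f)] (U : X.affineOpens) (V : S.Opens)
    (hV : IsAffineOpen V) (e : U.1 ≤ f ⁻¹ᵁ V) :
    ((Ideal.Quotient.mk (𝓘.ideal U)).comp (f.appLE V U.1 e).hom).Flat := by
  have e' : 𝓘.subschemeι ⁻¹ᵁ U.1 ≤ (𝓘.subschemeι ≫ f) ⁻¹ᵁ V := fun d hd => e hd
  rw [← flat_appLE_subscheme_iff f 𝓘 U V e e']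
  exact Flat.flat_appLE _ hV (isAffineOpen_preimage_subschemeι 𝓘 U) e'

/-- **B2**: flatness of `D → S` can be checked on charts around the points of the support. -/
theorem flat_of_flat_quotient
    (h : ∀ x ∈ 𝓘.support, ∃ (U : X.affineOpens) (V : S.affineOpens) (_ : x ∈ U.1)
      (e : U.1 ≤ f ⁻¹ᵁ V.1), ((Ideal.Quotient.mk (𝓘.ideal U)).comp (f.appLE V.1 U.1 e).hom).Flat) :
    Flat (𝓘.subschemeι ≫ f) := by
  rw [HasRingHomProperty.iff_exists_appLE (P := @Flat) flatSrc]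
  intro d
  have hd : 𝓘.subschemeι d ∈ 𝓘.support := by
    have := 𝓘.range_subschemeι
    rw [← SetLike.mem_coe, ← this]
    exact ⟨d, rfl⟩
  obtain ⟨U, V, hx, e, hfl⟩ := h (𝓘.subschemeι d) hd
  refine ⟨V, ⟨𝓘.subschemeι ⁻¹ᵁ U.1, isAffineOpen_preimage_subschemeι 𝓘 U⟩, hx,
    fun d hd => e hd, ?_⟩
  exact (flat_appLE_subscheme_iff f 𝓘 U V.1 e _).mpr hfl

theorem flat_appLE_of_stalkMap {U : X.Opens} (hU : IsAffineOpen U) {V : S.Opens}
    (hV : IsAffineOpen V) (e : U ≤ f ⁻¹ᵁ V) (h : ∀ x ∈ U, (f.stalkMap x).hom.Flat) :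
    (f.appLE V U e).hom.Flat := by
  have : IsAffine U := hU
  have : IsAffine V := hV
  have h1 : Flat (f.resLE V U e) := Flat.of_stalkMap _ (fun x =>
    (RingHom.Flat.respectsIso.arrow_mk_iso_iff (Scheme.Hom.resLEStalkMap f e x)).mpr (h x.1 x.2))
  have h2 := (HasRingHomProperty.iff_of_isAffine (P := @Flat)).mp h1
  exact (RingHom.Flat.respectsIso.arrow_mk_iso_iff (arrowResLEAppIso f V U e)).mp h2

theorem flat_stalkMap_of_appLE {U : X.Opens} (hU : IsAffineOpen U) {V : S.Opens}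
    (hV : IsAffineOpen V) (e : U ≤ f ⁻¹ᵁ V) (h : (f.appLE V U e).hom.Flat) (x : X) (hx : x ∈ U) :
    (f.stalkMap x).hom.Flat := by
  have : IsAffine U := hU
  have : IsAffine V := hV
  have h2 := (RingHom.Flat.respectsIso.arrow_mk_iso_iff (arrowResLEAppIso f V U e)).mpr h
  have h1 : Flat (f.resLE V U e) := (HasRingHomProperty.iff_of_isAffine (P := @Flat)).mpr h2
  exact (RingHom.Flat.respectsIso.arrow_mk_iso_iff
    (Scheme.Hom.resLEStalkMap f e ⟨x, hx⟩)).mp (Flat.stalkMap _ _)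

open Groth.Agent.Lib.Helper82 in
/-- **L1**: charts adapted to an effective Cartier ideal and a morphism. -/
theorem exists_chart (h𝓘 : BlowUp.IsEffCartierIdeal 𝓘) (x : X) :
    ∃ (U : X.affineOpens) (V : S.affineOpens) (_ : x ∈ U.1) (e : U.1 ≤ f ⁻¹ᵁ V.1)
      (t : Γ(X, U.1)), t ∈ nonZeroDivisors Γ(X, U.1) ∧ 𝓘.ideal U = Ideal.span {t} := by
  obtain ⟨V, hV, hxV, -⟩ := exists_isAffineOpen_mem_and_subset (U := ⊤) (x := f x) (by simp)
  obtain ⟨N, hxN, hNV, t, ht, hI⟩ := exists_affine_isPrincipalNZD_le 𝓘 h𝓘 (f ⁻¹ᵁ V) x hxV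
  exact ⟨N, ⟨V, hV⟩, hxN, hNV, t, ht, hI⟩

theorem notMem_support_of_mem_basicOpen {U : X.affineOpens} {t : Γ(X, U.1)}
    (hI : 𝓘.ideal U = Ideal.span {t}) {y : X} (hy : y ∈ X.basicOpen t) : y ∉ 𝓘.support := by
  have hyU : y ∈ U.1 := X.basicOpen_le t hy
  rw [IdealSheafData.mem_support_iff_of_mem hyU, Scheme.mem_zeroLocus_iff]
  intro h
  exact h t (by rw [SetLike.mem_coe, hI]; exact Ideal.mem_span_singleton_self t) hy

/-- S8849. -/
theorem flat_of_relEffCartier_of_flat_off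
    (hD : BlowUp.IsEffCartierIdeal 𝓘 ∧ Flat (𝓘.subschemeι ≫ f))
    (hflat : ∀ x : X, x ∉ 𝓘.support → (f.stalkMap x).hom.Flat) : Flat f := by
  obtain ⟨hC, hF⟩ := hD
  rw [HasRingHomProperty.iff_exists_appLE (P := @Flat) flatSrc]
  intro x
  obtain ⟨U, V, hxU, e, t, ht, hI⟩ := exists_chart f 𝓘 hC x
  refine ⟨V, U, hxU, e, ?_⟩
  have h1 := flat_quotient_of_flat f 𝓘 U V.1 V.2 e
  rw [hI] at h1
  have h2 : (f.appLE V.1 (X.basicOpen t) ((X.basicOpen_le t).trans e)).hom.Flat :=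
    flat_appLE_of_stalkMap f (U.2.basicOpen t) V.2 _
      (fun y hy => hflat y (notMem_support_of_mem_basicOpen 𝓘 hI hy))
  have := U.2.isLocalization_basicOpen t
  refine ringHom_flat_of_away_of_quotient (B' := Γ(X, X.basicOpen t)) _ t ht h1 ?_
  rw [← f.appLE_map e (homOfLE (X.basicOpen_le t)).op] at h2
  exact h2

/-- S1702. -/
theorem relEffCartier_mul (𝓘₁ 𝓘₂ : X.IdealSheafData)
    (h₁ : BlowUp.IsEffCartierIdeal 𝓘₁ ∧ Flat (𝓘₁.subschemeι ≫ f))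
    (h₂ : BlowUp.IsEffCartierIdeal 𝓘₂ ∧ Flat (𝓘₂.subschemeι ≫ f)) :
    BlowUp.IsEffCartierIdeal (𝓘₁ * 𝓘₂) ∧ Flat ((𝓘₁ * 𝓘₂).subschemeι ≫ f) := by
  refine ⟨Groth.Agent.Lib.Helper82.isEffCartierIdeal_mul _ _ h₁.1 h₂.1, ?_⟩
  have := h₁.2
  have := h₂.2
  apply flat_of_flat_quotient
  intro x _
  obtain ⟨U, V, hxU, e, t, ht, hI⟩ := exists_chart f 𝓘₁ h₁.1 x
  refine ⟨U, V, hxU, e, ?_⟩
  have q1 := flat_quotient_of_flat f 𝓘₁ U V.1 V.2 e
  rw [hI] at q1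
  have q2 := flat_quotient_of_flat f 𝓘₂ U V.1 V.2 e
  exact ringHom_flat_quotient_mul _ t (𝓘₂.ideal U) ((𝓘₁ * 𝓘₂).ideal U)
    (by rw [IdealSheafData.ideal_mul, Pi.mul_apply, hI]) ht q1 q2

/-- S1710. -/
theorem relEffCartier_difference (𝓘₁ 𝓘₂ : X.IdealSheafData)
    (h₁ : BlowUp.IsEffCartierIdeal 𝓘₁ ∧ Flat (𝓘₁.subschemeι ≫ f))
    (h₂ : BlowUp.IsEffCartierIdeal 𝓘₂ ∧ Flat (𝓘₂.subschemeι ≫ f))
    (hsum : 𝓘₁ * 𝓘 = 𝓘₂) : Flat (𝓘.subschemeι ≫ f) := by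
  have := h₁.2
  have := h₂.2
  apply flat_of_flat_quotient
  intro x _
  obtain ⟨U, V, hxU, e, t, ht, hI⟩ := exists_chart f 𝓘₁ h₁.1 x
  refine ⟨U, V, hxU, e, ?_⟩
  have q1 := flat_quotient_of_flat f 𝓘₁ U V.1 V.2 e
  rw [hI] at q1
  have q2 := flat_quotient_of_flat f 𝓘₂ U V.1 V.2 e
  exact ringHom_flat_quotient_of_mul _ t (𝓘.ideal U) (𝓘₂.ideal U)
    (by rw [← hsum, IdealSheafData.ideal_mul, Pi.mul_apply, hI]) ht q1 q2

theorem mem_support_subschemeι (d : 𝓘.subscheme) : 𝓘.subschemeι d ∈ 𝓘.support := by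
  have := 𝓘.range_subschemeι
  rw [← SetLike.mem_coe, ← this]
  exact ⟨d, rfl⟩

/-- S1701 (at a point `x` of the support). -/
theorem stalkMap_flat_of_relEffCartier_aux
    (hD : BlowUp.IsEffCartierIdeal 𝓘 ∧ Flat (𝓘.subschemeι ≫ f)) (x : X) (hx : x ∈ 𝓘.support)
    [IsNoetherianRing (X.presheaf.stalk x)] : (f.stalkMap x).hom.Flat := by
  obtain ⟨hC, hF⟩ := hD
  obtain ⟨U, V, hxU, e, t, ht, hI⟩ := exists_chart f 𝓘 hC x
  have h1 := flat_quotient_of_flat f 𝓘 U V.1 V.2 e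
  rw [hI] at h1
  have hxt : x ∉ X.basicOpen t := fun h => notMem_support_of_mem_basicOpen 𝓘 hI h hx
  letI := X.presheaf.algebra_section_stalk ⟨x, hxU⟩
  letI := S.presheaf.algebra_section_stalk ⟨f x, e hxU⟩
  haveI := U.2.isLocalization_stalk ⟨x, hxU⟩
  haveI := V.2.isLocalization_stalk ⟨f x, e hxU⟩
  have hj : algebraMap Γ(X, U.1) (X.presheaf.stalk x) t ∈
      Ideal.jacobson (⊥ : Ideal (X.presheaf.stalk x)) := by
    rw [IsLocalRing.jacobson_eq_maximalIdeal ⊥ bot_ne_top, IsLocalRing.mem_maximalIdeal,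
      mem_nonunits_iff]
    exact fun hu => hxt ((X.mem_basicOpen t x hxU).mpr hu)
  have h2 := ringHom_flat_localization_of_quotient (B' := X.presheaf.stalk x)
    (f.appLE V.1 U.1 e).hom (U.2.primeIdealOf ⟨x, hxU⟩).asIdeal.primeCompl t ht hj h1
  refine ringHom_flat_of_comp_localization (A := Γ(S, V.1))
    (V.2.primeIdealOf ⟨f x, e hxU⟩).asIdeal.primeCompl _ ?_
  convert h2 using 1
  simp only [RingHom.algebraMap_toAlgebra]
  rw [← CommRingCat.hom_comp, ← CommRingCat.hom_comp]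
  congr 1
  rw [Scheme.Hom.germ_stalkMap, Scheme.Hom.appLE, Category.assoc, X.presheaf.germ_res]

open Groth.Agent.Lib.Helper82 in
/-- S1662. -/
theorem effCartier_baseChange {X S S' : Scheme.{u}} (f : X ⟶ S) (D : X.IdealSheafData)
    (hD : BlowUp.IsEffCartierIdeal D) [Flat (D.subschemeι ≫ f)] (g : S' ⟶ S) :
    BlowUp.IsEffCartierIdeal (D.comap (pullback.fst f g)) := by
  intro x'
  obtain ⟨U, V, hxU, e, t, ht, hI⟩ := exists_chart f D hD (pullback.fst f g x')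
  have hq : pullback.snd f g x' ∈ g ⁻¹ᵁ V.1 := by
    change g (pullback.snd f g x') ∈ V.1
    rw [← Scheme.Hom.comp_apply, ← pullback.condition, Scheme.Hom.comp_apply]
    exact e hxU
  obtain ⟨V', hV', hxV', hV'V⟩ := exists_isAffineOpen_mem_and_subset (U := g ⁻¹ᵁ V.1) hq
  replace hV'V : V' ≤ g ⁻¹ᵁ V.1 := hV'V
  have H : IsPullback (pullback.fst f g) (pullback.snd f g) f g := IsPullback.of_hasPullback f g
  have hpush := (isIso_pushoutSection_iff H hV'V e rfl).mp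
    (isIso_pushoutSection_of_isAffineOpen H hV'V e rfl V.2 hV' U.2)
  have hW : IsAffineOpen (pullback.fst f g ⁻¹ᵁ U.1 ⊓ pullback.snd f g ⁻¹ᵁ V') := by
    have : IsAffine V.1 := V.2
    have : IsAffine V' := hV'
    have : IsAffine U.1 := U.2
    exact .of_isIso (Scheme.Hom.isPullback_resLE H hV'V e rfl).isoPullback.hom
  have h1 := flat_quotient_of_flat f D U V.1 V.2 e
  rw [hI] at h1
  refine ⟨⟨_, hW⟩, ⟨hxU, hxV'⟩, (pullback.fst f g).appLE U.1 _ inf_le_left t,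
    mem_nonZeroDivisors_of_isPushout hpush t ht h1, ?_⟩
  rw [ideal_comap_of_le (pullback.fst f g) D _ hW U.1 U.2 inf_le_left]
  change Ideal.map _ (D.ideal U) = _
  rw [hI, Ideal.map_span, Set.image_singleton]

end Groth.Agent.Lib.Helper22.RelCartier
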