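import Mathlib
import Groth.Agent.Lib.Helper73.DimFormula.AffineSpaceQF
import Groth.Agent.Lib.Helper22.AbSchIsogeny
import Groth.Agent.Lib.Helper22.FibreEquidim

set_option autoImplicit false
universe u

open CategoryTheory CategoryTheory.Limits AlgebraicGeometry

namespace Groth.Agent.Lib.Helper22.RelNoether

open Groth.Agent.Lib.Helper73

section Dim

variable {k : Type u} [Field k]

/-- A finite morphism over a field onto an irreducible scheme of no larger dimension is
surjective. -/
theorem surjective_of_isFinite_of_dim_le {A B : Scheme.{u}} (p : A ⟶ Spec (.of k))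
    (q : B ⟶ Spec (.of k)) [LocallyOfFiniteType p] [LocallyOfFiniteType q] [IrreducibleSpace B]
    (f : A ⟶ B) (hf : f ≫ q = p) [IsFinite f]
    (hdim : topologicalKrullDim B ≤ topologicalKrullDim A) : Function.Surjective f.base := by
  subst hf
  have key : ∀ x : A, trdegNat (f ≫ q) x = trdegNat q (f x) := by
    intro x
    rw [trdegNat_eq_resTrdegNat, trdegNat_eq_resTrdegNat, resTrdegNat_comp]
    have h0 : resTrdegNat f x = 0 := by
      have := Groth.Agent.Lib.Helper22.FibreEquidim.resTrdeg_eq_zero_of_isIntegralHom f x
      rw [resTrdeg_eq_resTrdegNat] at this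
      exact_mod_cast this
    omega
  set d := trdegNat q (genericPoint B) with hd
  have hB : topologicalKrullDim B = ((d : ℕ∞) : WithBot ℕ∞) := by
    rw [topologicalKrullDim_eq_iSup_trdegNat q]
    apply le_antisymm
    · refine iSup_le fun x => ?_
      have := (isDimFun_trdegNat q).le_of_specializes (genericPoint_specializes x)
      exact_mod_cast this
    · exact le_iSup (fun x : B => ((trdegNat q x : ℕ∞) : WithBot ℕ∞)) (genericPoint B)
  -- the generic point is in the image
  have hgen : genericPoint B ∈ Set.range f := by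
    by_contra hne
    have hlt : ∀ x : A, trdegNat (f ≫ q) x < d := by
      intro x
      rw [key]
      exact (isDimFun_trdegNat q).lt_of_specializes (genericPoint_specializes (f x))
        (fun h => hne ⟨x, h.symm⟩)
    have hA : topologicalKrullDim A < ((d : ℕ∞) : WithBot ℕ∞) := by
      rw [topologicalKrullDim_eq_iSup_trdegNat (f ≫ q)]
      rcases Nat.eq_zero_or_pos d with h0 | hpos
      · have : IsEmpty A := ⟨fun x => by have := hlt x; omega⟩
        rw [iSup_of_empty, h0]
        exact WithBot.bot_lt_coe _
      · refine lt_of_le_of_lt (iSup_le fun x => ?_) (b := (((d - 1 : ℕ) : ℕ∞) : WithBot ℕ∞)) ?_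
        · have := hlt x
          have h' : trdegNat (f ≫ q) x ≤ d - 1 := by omega
          exact_mod_cast h'
        · have : d - 1 < d := by omega
          exact_mod_cast this
    rw [hB] at hdim
    exact absurd hdim (not_le.mpr hA)
  intro y
  have hcl : IsClosed (Set.range f) := f.isClosedMap.isClosed_range
  have : y ∈ closure ({genericPoint B} : Set B) := by
    rw [(genericPoint_spec B).def]; trivial
  exact hcl.closure_subset_iff.mpr (by rintro _ rfl; exact hgen) this

end Dim

section Main

set_option backward.isDefEq.respectTransparency false in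
theorem surjective_and_lqf {X Y : Scheme.{u}}
    (f : X ⟶ Y) [LocallyOfFiniteType f] (y : Y) (e : ℕ)
    (he : topologicalKrullDim ↥(f.fiber y) = e) (g : X ⟶ 𝔸(ULift.{u} (Fin e); Y))
    (hg : g ≫ (𝔸(ULift.{u} (Fin e); Y) ↘ Y) = f)
    (hfin : IsFinite (pullback.snd g ((𝔸(ULift.{u} (Fin e); Y) ↘ Y).fiberι y))) :
    Function.Surjective (pullback.snd g ((𝔸(ULift.{u} (Fin e); Y) ↘ Y).fiberι y)).base ∧
      ∃ U : X.Opens, f.base ⁻¹' {y} ⊆ (U : Set X) ∧ LocallyQuasiFinite (U.ι ≫ g) := by
  set π := (𝔸(ULift.{u} (Fin e); Y) ↘ Y) with hπ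
  set ι := π.fiberι y with hι
  let φ := Y.fromSpecResidueField y
  have hlftg : LocallyOfFiniteType g := by
    have : LocallyOfFiniteType (g ≫ π) := by rw [hg]; infer_instance
    exact locallyOfFiniteType_of_comp g π
  -- the two squares
  have sq1 : IsPullback (pullback.fst g ι) (pullback.snd g ι) g ι := IsPullback.of_hasPullback g ι
  have sq2 : IsPullback ι (pullback.snd π φ) π φ := IsPullback.of_hasPullback π φ
  have sq := sq1.paste_vert sq2
  rw [hg] at sq
  constructor
  · -- surjectivity
    let q : π.fiber y ⟶ Spec (.of (Y.residueField y)) := pullback.snd π φ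
    let p' : pullback g ι ⟶ Spec (.of (Y.residueField y)) := pullback.snd g ι ≫ pullback.snd π φ
    haveI : LocallyOfFiniteType q := by dsimp [q]; infer_instance
    haveI : LocallyOfFiniteType p' := MorphismProperty.of_isPullback sq ‹_›
    haveI : IrreducibleSpace ↥(π.fiber y) := inferInstance
    have hdimP : topologicalKrullDim ↥(pullback g ι) = e := by
      rw [← he]
      exact IsHomeomorph.topologicalKrullDim_eq _
        (Scheme.homeoOfIso sq.isoPullback).isHomeomorph
    have hdimF : topologicalKrullDim ↥(π.fiber y) = e := by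
      rw [topologicalKrullDim_affineSpace_fiber, natCard_ulift_fin]
      rfl
    exact surjective_of_isFinite_of_dim_le (k := Y.residueField y) p' q (pullback.snd g ι) rfl
      (by rw [hdimP, hdimF])
  · refine ⟨g.quasiFiniteLocus, ?_, inferInstance⟩
    intro x hx
    rw [SetLike.mem_coe, Scheme.Hom.mem_quasiFiniteLocus, quasiFiniteAt_iff_fibreDimAt_le_zero]
    -- lift `x` to the pullback
    have hgx : g x ∈ Set.range ι := by
      rw [hι, π.range_fiberι]
      change π (g x) = y
      rw [← Scheme.Hom.comp_apply, hg]
      exact hx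
    obtain ⟨w, hw⟩ := hgx
    obtain ⟨x', hx'1, hx'2⟩ := Scheme.Pullback.exists_preimage_pullback (f := g) (g := ι) x w hw.symm
    have h1 := fibreDimAt_eq_of_isPullback g ι (pullback.fst g ι) (pullback.snd g ι) sq1 x'
    rw [hx'1] at h1
    rw [← h1]
    haveI := hfin
    exact (quasiFiniteAt_iff_fibreDimAt_le_zero (pullback.snd g ι) x').mp
      ((pullback.snd g ι).quasiFiniteAt x')

end Main

end Groth.Agent.Lib.Helper22.RelNoether
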