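import Mathlib
import Groth.Agent.Lib.Helper22.RelNoether

set_option autoImplicit false
universe u

open CategoryTheory CategoryTheory.Limits AlgebraicGeometry

namespace Groth.Agent.Lib.Helper22.RelNoether2

section Eval

variable {Y : Scheme.{u}} (y : Y)

/-- Evaluation at `y` on global sections, through `Spec κ(y) ⟶ Y`. -/
noncomputable def ev : Γ(Y, ⊤) →+* Y.residueField y :=
  (Scheme.ΓSpecIso (Y.residueField y)).hom.hom.comp (Y.fromSpecResidueField y).appTop.hom

theorem ev_eq (a : Γ(Y, ⊤)) :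
    ev y a = (Y.residue y).hom ((Y.presheaf.germ ⊤ y trivial).hom a) := by
  have h : (Y.fromSpecResidueField y).appTop ≫ (Scheme.ΓSpecIso (Y.residueField y)).hom =
      Y.presheaf.germ ⊤ y trivial ≫ Y.residue y := by
    rw [Scheme.fromSpecResidueField, Scheme.Hom.comp_appTop, Category.assoc,
      Scheme.ΓSpecIso_naturality, ← Category.assoc]
    congr 1
    rw [Scheme.fromSpecStalk_appTop]
    simp
  exact congrArg (fun φ => φ.hom a) h

theorem exists_fraction [IsAffine Y] (k : Y.residueField y) :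
    ∃ a₁ a₂ : Γ(Y, ⊤), ev y a₂ ≠ 0 ∧ k * ev y a₂ = ev y a₁ := by
  obtain ⟨z, rfl⟩ := Y.residue_surjective y k
  let _ := Y.presheaf.algebra_section_stalk (U := ⊤) ⟨y, trivial⟩
  have hloc := (isAffineOpen_top Y).isLocalization_stalk ⟨y, trivial⟩
  obtain ⟨⟨a, m⟩, hm⟩ := IsLocalization.surj
    ((isAffineOpen_top Y).primeIdealOf ⟨y, trivial⟩).asIdeal.primeCompl z
  refine ⟨a, m.1, ?_, ?_⟩
  · rw [ev_eq]
    have hu : IsUnit (algebraMap Γ(Y, ⊤) (Y.presheaf.stalk y) m.1) :=
      IsLocalization.map_units (Y.presheaf.stalk y) m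
    have : IsUnit ((Y.residue y).hom (algebraMap Γ(Y, ⊤) (Y.presheaf.stalk y) m.1)) :=
      hu.map _
    exact this.ne_zero
  · rw [ev_eq, ev_eq]
    have := congrArg (Y.residue y).hom hm
    rw [map_mul] at this
    exact this

end Eval

section Fibre

variable {X Y : Scheme.{u}} (f : X ⟶ Y) (y : Y)

/-- The `κ(y)`-algebra structure map of the global sections of the fibre. -/
noncomputable def rho : Y.residueField y →+* Γ(f.fiber y, ⊤) :=
  (f.fiberToSpecResidueField y).appTop.hom.comp (Scheme.ΓSpecIso (Y.residueField y)).inv.hom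

theorem fiber_compat (a : Γ(Y, ⊤)) :
    (f.fiberι y).appTop.hom (f.appTop.hom a) = rho f y (ev y a) := by
  have h : f.fiberι y ≫ f = f.fiberToSpecResidueField y ≫ Y.fromSpecResidueField y :=
    pullback.condition
  have h2 := congrArg (fun φ => φ.appTop.hom a) h
  simp only [Scheme.Hom.comp_appTop, CommRingCat.hom_comp, RingHom.coe_comp,
    Function.comp_apply] at h2
  rw [h2]
  unfold rho ev
  simp

variable [IsAffine X] [IsAffine Y]

theorem exists_smul_eq (c : Γ(f.fiber y, ⊤)) :
    ∃ (b : Γ(X, ⊤)) (a : Γ(Y, ⊤)), ev y a ≠ 0 ∧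
      (f.fiberι y).appTop.hom b = rho f y (ev y a) * c := by
  have hpb : IsPullback (f.fiberι y) (f.fiberToSpecResidueField y) f
      (Y.fromSpecResidueField y) := IsPullback.of_hasPullback f (Y.fromSpecResidueField y)
  haveI : IsAffine (f.fiber y) := .of_isPullback hpb
  have H := isPushout_appTop_of_isPullback hpb
  have hcl := CommRingCat.closure_range_union_range_eq_top_of_isPushout H
  have hc : c ∈ Subring.closure (Set.range ⇑(f.fiberι y).appTop.hom ∪
      Set.range ⇑(f.fiberToSpecResidueField y).appTop.hom) := by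
    rw [hcl]; trivial
  induction hc using Subring.closure_induction with
  | mem c hc =>
    rcases hc with ⟨b, rfl⟩ | ⟨t, rfl⟩
    · refine ⟨b, 1, by rw [map_one]; exact one_ne_zero, ?_⟩
      rw [map_one, map_one, one_mul]
    · obtain ⟨a₁, a₂, h0, hk⟩ := exists_fraction y ((Scheme.ΓSpecIso (Y.residueField y)).hom.hom t)
      refine ⟨f.appTop.hom a₁, a₂, h0, ?_⟩
      rw [fiber_compat, ← hk, map_mul, mul_comm]
      congr 1
      unfold rho
      simp
  | zero => exact ⟨0, 1, by rw [map_one]; exact one_ne_zero, by simp⟩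
  | one => exact ⟨1, 1, by rw [map_one]; exact one_ne_zero, by simp⟩
  | add c c' _ _ h1 h2 =>
    obtain ⟨b, a, ha, hb⟩ := h1
    obtain ⟨b', a', ha', hb'⟩ := h2
    refine ⟨f.appTop.hom a' * b + f.appTop.hom a * b', a * a', ?_, ?_⟩
    · rw [map_mul]; exact mul_ne_zero ha ha'
    · rw [map_add, map_mul, map_mul, fiber_compat, fiber_compat, hb, hb', map_mul, map_mul]
      ring
  | neg c _ h1 =>
    obtain ⟨b, a, ha, hb⟩ := h1
    exact ⟨-b, a, ha, by rw [map_neg, hb]; ring⟩
  | mul c c' _ _ h1 h2 =>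
    obtain ⟨b, a, ha, hb⟩ := h1
    obtain ⟨b', a', ha', hb'⟩ := h2
    refine ⟨b * b', a * a', ?_, ?_⟩
    · rw [map_mul]; exact mul_ne_zero ha ha'
    · rw [map_mul, hb, hb', map_mul, map_mul]
      ring

end Fibre

section Main

open Groth.Agent.Lib.Helper73

variable {X Y : Scheme.{u}} [IsAffine X] [IsAffine Y] (f : X ⟶ Y) [LocallyOfFiniteType f] (y : Y)

set_option backward.isDefEq.respectTransparency false in
theorem exists_hom_isFinite (hy : y ∈ Set.range f.base) (e : ℕ)
    (he : topologicalKrullDim ↥(f.fiber y) = e) :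
    ∃ g : X ⟶ 𝔸(ULift.{u} (Fin e); Y), g ≫ (𝔸(ULift.{u} (Fin e); Y) ↘ Y) = f ∧
      IsFinite (pullback.snd g ((𝔸(ULift.{u} (Fin e); Y) ↘ Y).fiberι y)) := by
  set φ := Y.fromSpecResidueField y with hφ
  have hpb : IsPullback (f.fiberι y) (f.fiberToSpecResidueField y) f φ :=
    IsPullback.of_hasPullback f φ
  haveI : IsAffine (f.fiber y) := .of_isPullback hpb
  -- algebra structure
  letI : Algebra (Y.residueField y) Γ(f.fiber y, ⊤) := (rho f y).toAlgebra
  have hft : Algebra.FiniteType (Y.residueField y) Γ(f.fiber y, ⊤) := by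
    have h1 : (f.fiberToSpecResidueField y).appTop.hom.FiniteType :=
      (HasRingHomProperty.iff_of_isAffine (P := @LocallyOfFiniteType)).mp inferInstance
    have h2 : (rho f y).FiniteType :=
      h1.comp (RingHom.FiniteType.of_surjective _
        (ConcreteCategory.bijective_of_isIso (Scheme.ΓSpecIso (Y.residueField y)).inv).2)
    exact h2
  haveI : Nontrivial Γ(f.fiber y, ⊤) := by
    obtain ⟨x, hx⟩ := hy
    haveI : Nonempty ↥(f.fiber y) := ⟨(f.fiberHomeo y).symm ⟨x, hx⟩⟩
    have hne : Nonempty ↥(⊤ : (f.fiber y).Opens) := ⟨⟨Classical.arbitrary _, trivial⟩⟩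
    exact @Scheme.component_nontrivial (f.fiber y) ⊤ hne
  have hdimC : ringKrullDim Γ(f.fiber y, ⊤) = e := by
    rw [← he, IsHomeomorph.topologicalKrullDim_eq _
      (Scheme.homeoOfIso (f.fiber y).isoSpec).isHomeomorph]
    exact (PrimeSpectrum.topologicalKrullDim_eq_ringKrullDim _).symm
  obtain ⟨s, g₀, hinj, hfin⟩ := exists_finite_inj_algHom_of_fg (Y.residueField y) Γ(f.fiber y, ⊤)
  have hs : s = e := by
    have := ringKrullDim_eq_of_finite_injective g₀ hinj hfin
    rw [hdimC] at this
    exact_mod_cast this.symm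
  subst hs
  -- choose the coordinates
  choose b a ha hb using fun i : Fin s => exists_smul_eq f y (g₀ (MvPolynomial.X i))
  let v : ULift.{u} (Fin s) → Γ(X, ⊤) := fun i => b i.down
  let g := AffineSpace.homOfVector f v
  have hg : g ≫ (𝔸(ULift.{u} (Fin s); Y) ↘ Y) = f := AffineSpace.homOfVector_over f v
  refine ⟨g, hg, ?_⟩
  set π := (𝔸(ULift.{u} (Fin s); Y) ↘ Y) with hπ
  set ι := π.fiberι y with hι
  set q := π.fiberToSpecResidueField y with hq
  have sq1 : IsPullback (pullback.fst g ι) (pullback.snd g ι) g ι := IsPullback.of_hasPullback g ι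
  have sq2 : IsPullback ι q π φ := IsPullback.of_hasPullback π φ
  have sq := sq1.paste_vert sq2
  rw [hg] at sq
  haveI : IsAffine (π.fiber y) := .of_isPullback sq2
  haveI : IsAffine (pullback g ι) := inferInstance
  have hlftg : LocallyOfFiniteType g := by
    have : LocallyOfFiniteType (g ≫ π) := by rw [hg]; infer_instance
    exact locallyOfFiniteType_of_comp g π
  -- the comparison with the fibre
  let α : pullback g ι ≅ f.fiber y := sq.isoIsPullback _ _ hpb
  have hα1 : α.hom ≫ f.fiberι y = pullback.fst g ι := sq.isoIsPullback_hom_fst _ _ hpb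
  have hα2 : α.hom ≫ f.fiberToSpecResidueField y = pullback.snd g ι ≫ q :=
    sq.isoIsPullback_hom_snd _ _ hpb
  rw [HasAffineProperty.iff_of_isAffine (P := @IsFinite)]
  refine ⟨inferInstance, ?_⟩
  refine RingHom.IsIntegral.to_finite ?_
    ((HasRingHomProperty.iff_of_isAffine (P := @LocallyOfFiniteType)).mp inferInstance)
  set snd' := (pullback.snd g ι).appTop.hom with hsnd'
  set αr := α.hom.appTop.hom with hαr
  let q' : Y.residueField y →+* Γ(π.fiber y, ⊤) :=
    q.appTop.hom.comp (Scheme.ΓSpecIso (Y.residueField y)).inv.hom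
  have hkey1 : ∀ k, snd' (q' k) = αr (rho f y k) := by
    intro k
    have := congrArg (fun ψ => ψ.appTop.hom ((Scheme.ΓSpecIso (Y.residueField y)).inv.hom k)) hα2
    simp only [Scheme.Hom.comp_appTop, CommRingCat.hom_comp, RingHom.coe_comp,
      Function.comp_apply] at this
    exact this.symm
  have hkey2 : ∀ i : Fin s, snd' (ι.appTop.hom (AffineSpace.coord Y (ULift.up i))) =
      αr ((f.fiberι y).appTop.hom (b i)) := by
    intro i
    have h1 := congrArg (fun ψ => ψ.appTop.hom (AffineSpace.coord Y (ULift.up i))) sq1.w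
    have h2 := congrArg (fun ψ => ψ.appTop.hom (b i)) hα1
    simp only [Scheme.Hom.comp_appTop, CommRingCat.hom_comp, RingHom.coe_comp,
      Function.comp_apply] at h1 h2
    rw [← h1, h2]
    congr 1
    exact AffineSpace.homOfVector_appTop_coord f v (ULift.up i)
  let θ : MvPolynomial (Fin s) (Y.residueField y) →+* Γ(π.fiber y, ⊤) :=
    MvPolynomial.eval₂Hom q'
      (fun i => q' ((ev y (a i))⁻¹) * ι.appTop.hom (AffineSpace.coord Y (ULift.up i)))
  have hθ : snd'.comp θ = αr.comp g₀.toRingHom := by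
    apply MvPolynomial.ringHom_ext
    · intro k
      simp only [θ, RingHom.coe_comp, Function.comp_apply, MvPolynomial.coe_eval₂Hom,
        MvPolynomial.eval₂_C]
      rw [hkey1]
      congr 1
      exact (g₀.commutes k).symm
    · intro i
      simp only [θ, RingHom.coe_comp, Function.comp_apply, MvPolynomial.coe_eval₂Hom,
        MvPolynomial.eval₂_X]
      rw [map_mul, hkey1, hkey2, hb i, ← map_mul αr, ← mul_assoc, ← map_mul (rho f y),
        inv_mul_cancel₀ (ha i), map_one, one_mul]
      rfl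
  have Hgen := CommRingCat.closure_range_union_range_eq_top_of_isPushout
    (isPushout_appTop_of_isPullback sq)
  intro z
  have hz : z ∈ Subring.closure (Set.range ⇑(pullback.fst g ι).appTop.hom ∪
      Set.range ⇑(pullback.snd g ι ≫ q).appTop.hom) := by
    rw [Hgen]; trivial
  induction hz using Subring.closure_induction with
  | mem z hz =>
    rcases hz with ⟨b₀, rfl⟩ | ⟨t, rfl⟩
    · have h2 := congrArg (fun ψ => ψ.appTop.hom b₀) hα1
      simp only [Scheme.Hom.comp_appTop, CommRingCat.hom_comp, RingHom.coe_comp,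
        Function.comp_apply] at h2
      rw [← h2]
      obtain ⟨p, hp, hp0⟩ := hfin.to_isIntegral ((f.fiberι y).appTop.hom b₀)
      refine ⟨p.map θ, hp.map θ, ?_⟩
      rw [Polynomial.eval₂_map, hθ, ← Polynomial.hom_eval₂, hp0, map_zero]
    · rw [Scheme.Hom.comp_appTop]
      exact RingHom.isIntegralElem_map _
  | zero => exact RingHom.isIntegralElem_zero _
  | one => exact RingHom.isIntegralElem_one _
  | add _ _ _ _ h1 h2 => exact RingHom.IsIntegralElem.add _ h1 h2
  | neg _ _ h1 => exact RingHom.IsIntegralElem.neg _ h1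
  | mul _ _ _ _ h1 h2 => exact RingHom.IsIntegralElem.mul _ h1 h2

end Main

end Groth.Agent.Lib.Helper22.RelNoether2
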