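import Mathlib

/-!
# Rigidity lemma over a field (helper22)

* `rigidity_algClosed`: over an algebraically closed field `K`, for `X` proper integral, `Y` locally
  of finite type with `X ⊗ Y` integral, `Z` separated: a morphism `f : X ⊗ Y ⟶ Z` which contracts
  `X × {y₀}` to a point factors through the second projection.
* `rigidity`: the same over any field for `X` proper geometrically integral, `Y` locally of finite
  type and geometrically integral, with rational points `x₀`, `y₀`.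
-/

set_option linter.style.haveILetI false

open CategoryTheory Limits AlgebraicGeometry MonoidalCategory CartesianMonoidalCategory MonObj

namespace Groth.Agent.Lib.Helper22.Rigidity

universe u

section AlgClosed

variable {K : Type u} [Field K] [IsAlgClosed K]

/-- Over an algebraically closed field, the structure map on global sections of an integral
universally closed scheme is bijective. -/
lemma appTop_bijective {X : Scheme.{u}} (p : X ⟶ Spec (.of K)) [IsIntegral X]
    [UniversallyClosed p] : Function.Bijective p.appTop.hom := by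
  let F := (Scheme.ΓSpecIso (.of K)).inv ≫ p.appTop
  have hF : F.hom.IsIntegral := by
    apply RingHom.isIntegral_respectsIso.2
      (e := (Scheme.ΓSpecIso _).symm.commRingCatIsoToRingEquiv)
    exact isIntegral_appTop_of_universallyClosed p
  letI := (isField_of_universallyClosed K p).toField
  have hb : Function.Bijective F.hom := IsAlgClosed.ringHom_bijective_of_isIntegral F.hom hF
  have : p.appTop = (Scheme.ΓSpecIso (.of K)).hom ≫ F := by simp [F]
  rw [this]
  exact hb.comp (ConcreteCategory.bijective_of_isIso (Scheme.ΓSpecIso (.of K)).hom)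

/-- All rational points of an integral universally closed scheme over an algebraically closed
field have the same image under any morphism to an affine scheme. -/
lemma comp_eq_of_isAffine {X U : Scheme.{u}} (p : X ⟶ Spec (.of K)) [IsIntegral X]
    [UniversallyClosed p] [IsAffine U] (g : X ⟶ U) (x x' : Spec (.of K) ⟶ X)
    (hx : x ≫ p = 𝟙 _) (hx' : x' ≫ p = 𝟙 _) : x ≫ g = x' ≫ g := by
  have hiso : IsIso p.appTop := by
    rw [ConcreteCategory.isIso_iff_bijective]
    exact appTop_bijective p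
  apply ext_of_isAffine
  rw [Scheme.Hom.comp_appTop, Scheme.Hom.comp_appTop]
  congr 1
  rw [← cancel_epi p.appTop, ← Scheme.Hom.comp_appTop, ← Scheme.Hom.comp_appTop, hx, hx']

/-- Two morphisms over an algebraically closed field from a reduced l.f.t. scheme to a separated
scheme agree as soon as they agree on the rational points of a dense locally closed subset. -/
lemma ext_of_point_eq {X Y : Scheme.{u}} (p : X ⟶ Spec (.of K)) [LocallyOfFiniteType p]
    [IsReduced X] (i : Y ⟶ Spec (.of K)) [IsSeparated i] (f g : X ⟶ Y)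
    (hf : f ≫ i = p) (hg : g ≫ i = p)
    (S : Set X) (hS : IsLocallyClosed S) (hS' : Dense S)
    (H : ∀ c : Spec (.of K) ⟶ X, c ≫ p = 𝟙 _ → Set.range c ⊆ S →
      c ≫ f = c ≫ g) : f = g := by
  have : JacobsonSpace ↥X := LocallyOfFiniteType.jacobsonSpace p
  refine ext_of_fromSpecResidueField_eq f g i (S ∩ closedPoints X) ?_ ?_ (hf.trans hg.symm)
  · rwa [dense_iff_closure_eq, JacobsonSpace.closure_inter_closedPoints_eq_closure hS,
      ← dense_iff_closure_eq]
  · intro x ⟨hxS, hx'⟩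
    have hx : IsClosed {x} := hx'
    rw [← cancel_epi (Spec.map (residueFieldIsoBase p x hx).hom)]
    simpa [pointOfClosedPoint] using
      H (pointOfClosedPoint p x hx) (pointOfClosedPoint_comp p x hx)
        (by rintro _ ⟨a, rfl⟩; rw [pointOfClosedPoint_apply]; exact hxS)

set_option backward.isDefEq.respectTransparency false in
/-- Rigidity lemma over an algebraically closed field. -/
theorem rigidity_algClosed (X Y Z : Over (Spec (.of K))) [IsProper X.hom] [IsIntegral X.left]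
    [LocallyOfFiniteType Y.hom] [IsIntegral (X ⊗ Y).left] [IsSeparated Z.hom]
    (f : X ⊗ Y ⟶ Z) (x₀ : 𝟙_ _ ⟶ X) (y₀ : 𝟙_ _ ⟶ Y) (z₀ : 𝟙_ _ ⟶ Z)
    (h : lift (𝟙 X) (toUnit X ≫ y₀) ≫ f = toUnit X ≫ z₀) :
    f = snd X Y ≫ lift (toUnit Y ≫ x₀) (𝟙 Y) ≫ f := by
  let S := Spec (.of K)
  let pt : S := IsLocalRing.closedPoint K
  obtain ⟨U₀, hU₀, hzU⟩ : ∃ U₀ : Z.left.Opens, IsAffineOpen U₀ ∧ z₀.left pt ∈ U₀ := by
    obtain ⟨_, ⟨U₀, hU₀, rfl⟩, hzU, -⟩ := Z.left.isBasis_affineOpens.exists_subset_of_mem_open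
      (Set.mem_univ (z₀.left pt)) isOpen_univ
    exact ⟨U₀, hU₀, hzU⟩
  have : IsProper (snd X Y).left := by dsimp; infer_instance
  have : LocallyOfFiniteType (X ⊗ Y).hom := by dsimp; infer_instance
  let C : Set (X ⊗ Y).left := f.left ⁻¹' (U₀ : Set Z.left)ᶜ
  have hC : IsClosed C := (U₀.isOpen.isClosed_compl).preimage f.left.continuous
  let T := (snd X Y).left '' C
  have hT : IsClosed T := (snd X Y).left.isClosedMap _ hC
  let Y' : Y.left.Opens := ⟨Tᶜ, hT.isOpen_compl⟩
  -- points over `Y'` map into `U₀`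
  have hW : ∀ q : (X ⊗ Y).left, (snd X Y).left q ∈ Y' → f.left q ∈ U₀ := by
    intro q hq
    by_contra hq'
    exact hq ⟨q, hq', rfl⟩
  have hy₀ : y₀.left pt ∈ Y' := by
    rintro ⟨q, hqC, hq⟩
    have hq' : q ∈ Set.range (X ◁ y₀).left := by
      rw [Over.whiskerLeft_left]
      have := Scheme.Pullback.range_map X.hom (𝟙_ (Over (Spec (.of K)))).hom X.hom Y.hom
        (𝟙 X.left) y₀.left
        (𝟙 _) (by simp) (by rw [Over.w y₀, Category.comp_id])
      have hmem : q ∈ ⇑(pullback.fst X.hom Y.hom) ⁻¹' Set.range ⇑(𝟙 X.left) ∩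
          ⇑(pullback.snd X.hom Y.hom) ⁻¹' Set.range ⇑(Over.Hom.left y₀) :=
        ⟨⟨_, rfl⟩, ⟨pt, hq.symm⟩⟩
      rw [← this] at hmem
      exact hmem
    obtain ⟨q', rfl⟩ := hq'
    apply hqC
    have e : (X ◁ y₀) ≫ f = (ρ_ X).hom ≫ toUnit X ≫ z₀ := by
      rw [← h, ← Category.assoc]
      congr 1
      ext1
      · simp [rightUnitor_hom]
      · simp only [Category.assoc, whiskerLeft_snd, lift_snd]
        rw [← Category.assoc]
        congr 1
        exact toUnit_unique _ _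
    change ((X ◁ y₀).left ≫ f.left) q' ∈ U₀
    rw [← Over.comp_left, e, ← Category.assoc, Over.comp_left, Scheme.Hom.comp_apply]
    rwa [Subsingleton.elim (α := S) (((ρ_ X).hom ≫ toUnit X).left q') pt]
  let W' : (X ⊗ Y).left.Opens := (snd X Y).left ⁻¹ᵁ Y'
  have hW'ne : (W' : Set (X ⊗ Y).left).Nonempty := by
    refine ⟨(lift x₀ y₀).left pt, ?_⟩
    change ((lift x₀ y₀).left ≫ (snd X Y).left) pt ∈ Y'
    rw [← Over.comp_left, lift_snd]
    exact hy₀
  have hW'dense : Dense (W' : Set (X ⊗ Y).left) := W'.isOpen.dense hW'ne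
  ext1
  refine ext_of_point_eq (X ⊗ Y).hom Z.hom _ _ (Over.w f) (Over.w _) W' W'.isOpen.isLocallyClosed
    hW'dense ?_
  intro c hc hcW
  let c' : 𝟙_ (Over S) ⟶ X ⊗ Y := Over.homMk c hc
  let x : 𝟙_ (Over S) ⟶ X := c' ≫ fst X Y
  let y : 𝟙_ (Over S) ⟶ Y := c' ≫ snd X Y
  let j : X ⟶ X ⊗ Y := lift (𝟙 X) (toUnit X ≫ y)
  have hc' : c' = x ≫ j := by
    ext1 <;> simp [x, y, j]
  have hx₀j : x₀ ≫ j = y ≫ lift (toUnit Y ≫ x₀) (𝟙 Y) := by ext1 <;> simp [j]
  have hrange : Set.range (j ≫ f).left ⊆ Set.range U₀.ι := by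
    rintro _ ⟨a, rfl⟩
    rw [Scheme.Opens.range_ι]
    apply hW
    change (j.left ≫ (snd X Y).left) a ∈ Y'
    rw [← Over.comp_left, lift_snd]
    exact hcW ⟨X.hom a, rfl⟩
  haveI : IsAffine (U₀ : Scheme) := hU₀
  let g := IsOpenImmersion.lift U₀.ι (j ≫ f).left hrange
  have hg : g ≫ U₀.ι = (j ≫ f).left := IsOpenImmersion.lift_fac _ _ _
  have key := comp_eq_of_isAffine X.hom g x.left x₀.left (Over.w x) (Over.w x₀)
  calc c ≫ f.left = (c' ≫ f).left := rfl
    _ = (x ≫ j ≫ f).left := by rw [hc', Category.assoc]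
    _ = x.left ≫ g ≫ U₀.ι := by rw [hg]; rfl
    _ = x₀.left ≫ g ≫ U₀.ι := by rw [reassoc_of% key]
    _ = (x₀ ≫ j ≫ f).left := by rw [hg]; rfl
    _ = (y ≫ lift (toUnit Y ≫ x₀) (𝟙 Y) ≫ f).left := by
      rw [← Category.assoc, hx₀j, Category.assoc]
    _ = c ≫ (snd X Y ≫ lift (toUnit Y ≫ x₀) (𝟙 Y) ≫ f).left := rfl

end AlgClosed

section General

variable {K : Type u} [Field K]

set_option backward.isDefEq.respectTransparency false in
/-- **Rigidity lemma** over a field: if `X` is proper and geometrically integral, `Y` is locally of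
finite type and geometrically integral, `Z` is separated and `f : X × Y ⟶ Z` contracts `X × {y₀}`
to a (rational) point, then `f` factors through the second projection. -/
theorem rigidity (X Y Z : Over (Spec (.of K))) [IsProper X.hom] [GeometricallyIntegral X.hom]
    [LocallyOfFiniteType Y.hom] [GeometricallyIntegral Y.hom] [IsSeparated Z.hom]
    (f : X ⊗ Y ⟶ Z) (x₀ : 𝟙_ _ ⟶ X) (y₀ : 𝟙_ _ ⟶ Y) (z₀ : 𝟙_ _ ⟶ Z)
    (h : lift (𝟙 X) (toUnit X ≫ y₀) ≫ f = toUnit X ≫ z₀) :
    f = snd X Y ≫ lift (toUnit Y ≫ x₀) (𝟙 Y) ≫ f := by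
  let φ := Spec.map (CommRingCat.ofHom <| algebraMap K (AlgebraicClosure K))
  let F := Over.pullback φ
  let X' := F.obj X
  let Y' := F.obj Y
  let Z' := F.obj Z
  have : IsProper X'.hom := by dsimp [X', F]; infer_instance
  have : GeometricallyIntegral X'.hom := by dsimp [X', F]; infer_instance
  have : LocallyOfFiniteType Y'.hom := by dsimp [Y', F]; infer_instance
  have : IsSeparated Z'.hom := by dsimp [Z', F]; infer_instance
  have : IsIntegral X'.left := by dsimp [X', F]; infer_instance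
  have : IsIntegral Y'.left := by dsimp [Y', F]; infer_instance
  have : IsLocallyNoetherian Y'.left := LocallyOfFiniteType.isLocallyNoetherian Y'.hom
  have : IsIntegral (X' ⊗ Y').left := by dsimp; infer_instance
  let f' : X' ⊗ Y' ⟶ Z' := Functor.LaxMonoidal.μ F X Y ≫ F.map f
  let x₀' : 𝟙_ _ ⟶ X' := Functor.LaxMonoidal.ε F ≫ F.map x₀
  let y₀' : 𝟙_ _ ⟶ Y' := Functor.LaxMonoidal.ε F ≫ F.map y₀
  let z₀' : 𝟙_ _ ⟶ Z' := Functor.LaxMonoidal.ε F ≫ F.map z₀
  have h' : lift (𝟙 X') (toUnit X' ≫ y₀') ≫ f' = toUnit X' ≫ z₀' := by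
    dsimp only [f', y₀', z₀', X']
    rw [Functor.Monoidal.toUnit_ε_assoc, Functor.Monoidal.toUnit_ε_assoc,
      ← F.map_comp (toUnit X) z₀, ← h, F.map_comp, ← Functor.Monoidal.lift_μ_assoc, F.map_id,
      F.map_comp]
  have key := rigidity_algClosed X' Y' Z' f' x₀' y₀' z₀' h'
  apply F.map_injective
  rw [← cancel_epi (Functor.LaxMonoidal.μ F X Y)]
  refine key.trans ?_
  dsimp only [f', x₀', X', Y']
  rw [Functor.Monoidal.toUnit_ε_assoc, ← F.map_comp, F.map_comp (snd X Y), F.map_comp _ f,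
    ← Functor.Monoidal.μ_snd_assoc, ← Functor.Monoidal.lift_μ_assoc, F.map_id]

/-- A morphism from a product `V × W` (with `V` proper) into a separated group scheme which sends
the base point to the unit is the product of its restrictions to the two axes. -/
theorem mul_decomp (V W A : Over (Spec (.of K))) [IsProper V.hom] [GeometricallyIntegral V.hom]
    [LocallyOfFiniteType W.hom] [GeometricallyIntegral W.hom] [GrpObj A] [IsSeparated A.hom]
    (v₀ : 𝟙_ _ ⟶ V) (w₀ : 𝟙_ _ ⟶ W) (h : V ⊗ W ⟶ A) (h0 : lift v₀ w₀ ≫ h = η[A]) :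
    h = (fst V W ≫ lift (𝟙 V) (toUnit V ≫ w₀) ≫ h) *
      (snd V W ≫ lift (toUnit W ≫ v₀) (𝟙 W) ≫ h) := by
  set j : V ⟶ V ⊗ W := lift (𝟙 V) (toUnit V ≫ w₀) with hj
  set σ : W ⟶ V ⊗ W := lift (toUnit W ≫ v₀) (𝟙 W) with hσ
  have hvj : v₀ ≫ j = lift v₀ w₀ := by ext1 <;> simp [j]
  have hwσ : w₀ ≫ σ = lift v₀ w₀ := by ext1 <;> simp [σ]
  let F : V ⊗ W ⟶ A := (fst V W ≫ j ≫ h)⁻¹ * h * (snd V W ≫ σ ≫ h)⁻¹
  have hjF : j ≫ F = toUnit V ≫ η[A] := by
    have e1 : j ≫ fst V W = 𝟙 V := by simp [j]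
    have e2 : j ≫ snd V W ≫ σ ≫ h = 1 := by
      rw [← Category.assoc, show j ≫ snd V W = toUnit V ≫ w₀ by simp [j], Category.assoc,
        reassoc_of% hwσ, h0, ← Hom.one_def]
    simp only [F, comp_mul, GrpObj.comp_inv, reassoc_of% e1, e2]
    simp [Hom.one_def]
  have hσF : σ ≫ F = 1 := by
    have e1 : σ ≫ snd V W = 𝟙 W := by simp [σ]
    have e2 : σ ≫ fst V W ≫ j ≫ h = 1 := by
      rw [← Category.assoc, show σ ≫ fst V W = toUnit W ≫ v₀ by simp [σ], Category.assoc,
        reassoc_of% hvj, h0, ← Hom.one_def]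
    simp only [F, comp_mul, GrpObj.comp_inv, reassoc_of% e1, e2]
    simp
  have hF : F = 1 := by
    rw [rigidity V W A F v₀ w₀ η[A] hjF, ← hσ, hσF, comp_one]
  have : (fst V W ≫ j ≫ h)⁻¹ * h * (snd V W ≫ σ ≫ h)⁻¹ = 1 := hF
  rw [mul_inv_eq_one, inv_mul_eq_iff_eq_mul] at this
  exact this

/-- Morphisms of pointed schemes from a proper geometrically integral group `A` and a geometrically
integral l.f.t. group `B` into a separated group `C` have commuting images. -/
theorem commute_of_rigidity (A B C : Over (Spec (.of K))) [GrpObj A] [GrpObj B] [GrpObj C]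
    [IsProper A.hom] [GeometricallyIntegral A.hom] [LocallyOfFiniteType B.hom]
    [GeometricallyIntegral B.hom] [IsSeparated C.hom] (h₁ : A ⟶ C) (h₂ : B ⟶ C)
    (e₁ : η[A] ≫ h₁ = η[C]) (e₂ : η[B] ≫ h₂ = η[C]) {T : Over (Spec (.of K))}
    (a : T ⟶ A) (b : T ⟶ B) : Commute (a ≫ h₁) (b ≫ h₂) := by
  set p : A ⊗ B ⟶ C := fst A B ≫ h₁ with hp
  set q : A ⊗ B ⟶ C := snd A B ≫ h₂ with hq
  let κ : A ⊗ B ⟶ C := p * q * p⁻¹ * q⁻¹
  set j : A ⟶ A ⊗ B := lift (𝟙 A) (toUnit A ≫ η[B]) with hj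
  set σ : B ⟶ A ⊗ B := lift (toUnit B ≫ η[A]) (𝟙 B) with hσ
  have hjp : j ≫ p = h₁ := by simp [j, p]
  have hjq : j ≫ q = 1 := by
    rw [hj, hq, lift_snd_assoc, Category.assoc, e₂, ← Hom.one_def]
  have hσp : σ ≫ p = 1 := by
    rw [hσ, hp, lift_fst_assoc, Category.assoc, e₁, ← Hom.one_def]
  have hσq : σ ≫ q = h₂ := by simp [σ, q]
  have hjκ : j ≫ κ = toUnit A ≫ η[C] := by
    rw [← Hom.one_def]
    simp only [κ, comp_mul, GrpObj.comp_inv, hjp, hjq]
    simp
  have hσκ : σ ≫ κ = 1 := by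
    simp only [κ, comp_mul, GrpObj.comp_inv, hσp, hσq]
    simp
  have hκ : κ = 1 := by
    rw [rigidity A B C κ η[A] η[B] η[C] hjκ, ← hσ, hσκ, comp_one]
  have := congr(lift a b ≫ $hκ)
  simp only [κ, comp_mul, GrpObj.comp_inv, comp_one, p, q, lift_fst_assoc, lift_snd_assoc] at this
  rw [← commutatorElement_eq_one_iff_commute, commutatorElement_def]
  exact this

end General

end Groth.Agent.Lib.Helper22.Rigidity
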