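import Groth.Agent.Lib.Helper22.Rigidity

/-!
# Rigidity lemma for reduced connected proper schemes (helper22)

Generalises `Rigidity.rigidity` from geometrically integral to geometrically reduced and
geometrically connected proper first factor.
-/

set_option linter.style.haveILetI false

open CategoryTheory Limits AlgebraicGeometry MonoidalCategory CartesianMonoidalCategory MonObj

namespace Groth.Agent.Lib.Helper22.Rigidity

universe u

/-- In a reduced ring with only trivial idempotents which is an algebra over a field, an element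
killed by a split polynomial is a scalar. -/
lemma mem_range_algebraMap_of_prod_eq_zero {K R : Type*} [Field K] [CommRing R] [Algebra K R]
    [IsReduced R] (hid : ∀ e : R, IsIdempotentElem e → e = 0 ∨ e = 1) (r : R) (s : Multiset K)
    (hs : (s.map fun l => r - algebraMap K R l).prod = 0) : r ∈ Set.range (algebraMap K R) := by
  induction s using Multiset.induction_on with
  | empty =>
    simp only [Multiset.map_zero, Multiset.prod_zero] at hs
    have : Subsingleton R := subsingleton_of_zero_eq_one hs.symm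
    exact ⟨0, Subsingleton.elim _ _⟩
  | cons l s ih =>
    rw [Multiset.map_cons, Multiset.prod_cons] at hs
    by_cases hl : l ∈ s
    · -- `b = a * b'`
      obtain ⟨s', rfl⟩ := Multiset.exists_cons_of_mem hl
      apply ih
      rw [Multiset.map_cons, Multiset.prod_cons] at hs ⊢
      have : ((r - algebraMap K R l) *
          (s'.map fun l => r - algebraMap K R l).prod) ^ 2 = 0 := by
        rw [pow_two]
        linear_combination (s'.map fun l => r - algebraMap K R l).prod * hs
      exact IsReduced.eq_zero _ ⟨2, this⟩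
    · -- coprimality
      obtain ⟨a, ha⟩ : ∃ a, a = r - algebraMap K R l := ⟨_, rfl⟩
      obtain ⟨b, hb⟩ : ∃ b, b = (s.map fun l => r - algebraMap K R l).prod := ⟨_, rfl⟩
      rw [← ha, ← hb] at hs
      rw [← hb] at ih
      let q : Polynomial K := (s.map fun m => Polynomial.X - Polynomial.C m).prod
      have hq : Polynomial.aeval r q = b := by
        simp only [q, map_multiset_prod, Multiset.map_map, Function.comp_def, map_sub,
          Polynomial.aeval_X, Polynomial.aeval_C, hb]
      have hql : ¬ (Polynomial.X - Polynomial.C l) ∣ q := by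
        rw [Polynomial.dvd_iff_isRoot, Polynomial.IsRoot.def, Polynomial.eval_multiset_prod]
        simp only [Multiset.map_map, Function.comp_def, Polynomial.eval_sub, Polynomial.eval_X,
          Polynomial.eval_C]
        rw [Multiset.prod_eq_zero_iff]
        simp only [Multiset.mem_map, not_exists, not_and]
        intro m hm h0
        rw [sub_eq_zero] at h0
        exact hl (h0 ▸ hm)
      have hcop : IsCoprime (Polynomial.X - Polynomial.C l) q :=
        ((Polynomial.irreducible_X_sub_C l).coprime_iff_not_dvd).mpr hql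
      obtain ⟨u, v, huv⟩ := hcop
      have h1 : Polynomial.aeval r u * a + Polynomial.aeval r v * b = 1 := by
        have := congrArg (Polynomial.aeval r) huv
        simpa [hq, ha] using this
      obtain ⟨e, he⟩ : ∃ e, e = Polynomial.aeval r v * b := ⟨_, rfl⟩
      rw [← he] at h1
      have hide : IsIdempotentElem e := by
        change e * e = e
        have : e * (1 - e) = 0 := by
          rw [← h1, he]
          linear_combination (Polynomial.aeval r v) * (Polynomial.aeval r u) * hs
        linear_combination -this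
      rcases hid e hide with h0 | h1'
      · -- `a` is a unit, so `b = 0`
        apply ih
        have hu : Polynomial.aeval r u * a = 1 := by rw [h0, add_zero] at h1; exact h1
        calc b = (Polynomial.aeval r u * a) * b := by rw [hu, _root_.one_mul]
          _ = Polynomial.aeval r u * (a * b) := by ring
          _ = 0 := by rw [hs, mul_zero]
      · refine ⟨l, ?_⟩
        have : a = 0 := by
          calc a = a * e := by rw [h1', _root_.mul_one]
            _ = Polynomial.aeval r v * (a * b) := by rw [he]; ring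
            _ = 0 := by rw [hs, mul_zero]
        rw [ha, sub_eq_zero] at this
        exact this.symm

/-- Idempotent global functions on a connected reduced scheme are trivial. -/
lemma eq_zero_or_one_of_isIdempotentElem {X : Scheme.{u}} [ConnectedSpace X] [IsReduced X]
    (e : Γ(X, ⊤)) (he : IsIdempotentElem e) : e = 0 ∨ e = 1 := by
  have hinf : X.basicOpen e ⊓ X.basicOpen (1 - e) = ⊥ := by
    rw [← Scheme.basicOpen_mul, mul_sub, _root_.mul_one, he.eq, sub_self, Scheme.basicOpen_zero]
  have hsup : ∀ x : X, x ∈ X.basicOpen e ∨ x ∈ X.basicOpen (1 - e) := by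
    intro x
    have h1 : X.presheaf.germ ⊤ x trivial e + X.presheaf.germ ⊤ x trivial (1 - e) = 1 := by
      rw [← map_add, add_sub_cancel, map_one]
    rcases IsLocalRing.isUnit_or_isUnit_of_add_one h1 with h | h
    · exact Or.inl ((X.mem_basicOpen_top _ _).mpr h)
    · exact Or.inr ((X.mem_basicOpen_top _ _).mpr h)
  have hpre := (isPreconnected_univ (α := X))
  by_cases h0 : (X.basicOpen e : Set X) = ∅
  · left
    rw [← basicOpen_eq_bot_iff]
    exact TopologicalSpace.Opens.ext h0
  · right
    have h0' : (Set.univ ∩ (X.basicOpen e : Set X)).Nonempty := by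
      rw [Set.univ_inter]; exact Set.nonempty_iff_ne_empty.mpr h0
    by_contra h1
    have h1' : (Set.univ ∩ (X.basicOpen (1 - e) : Set X)).Nonempty := by
      rw [Set.univ_inter, Set.nonempty_iff_ne_empty]
      intro h
      apply h1
      have := (basicOpen_eq_bot_iff (1 - e)).mp (TopologicalSpace.Opens.ext h)
      exact (sub_eq_zero.mp this).symm
    obtain ⟨x, -, hx⟩ := hpre _ _ (X.basicOpen e).isOpen (X.basicOpen (1 - e)).isOpen
      (fun x _ => hsup x) h0' h1'
    have : x ∈ X.basicOpen e ⊓ X.basicOpen (1 - e) := hx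
    rw [hinf] at this
    exact this

variable {K : Type u} [Field K] [IsAlgClosed K]

/-- Over an algebraically closed field, the structure map on global sections of a reduced
connected universally closed scheme is bijective. -/
lemma appTop_bijective' {X : Scheme.{u}} (p : X ⟶ Spec (.of K)) [IsReduced X] [ConnectedSpace X]
    [UniversallyClosed p] : Function.Bijective p.appTop.hom := by
  let F := (Scheme.ΓSpecIso (.of K)).inv ≫ p.appTop
  have hF : F.hom.IsIntegral := by
    apply RingHom.isIntegral_respectsIso.2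
      (e := (Scheme.ΓSpecIso _).symm.commRingCatIsoToRingEquiv)
    exact isIntegral_appTop_of_universallyClosed p
  haveI : Nonempty (⊤ : X.Opens) := ⟨⟨Nonempty.some inferInstance, trivial⟩⟩
  have : Nontrivial Γ(X, ⊤) := inferInstance
  have hb : Function.Bijective F.hom := by
    refine ⟨F.hom.injective, fun r => ?_⟩
    algebraize [F.hom]
    have hr : IsIntegral K r := hF r
    obtain ⟨P, hP, hPr⟩ := hr
    have hsplit := IsAlgClosed.splits P
    have hP' : P = (P.roots.map fun a => Polynomial.X - Polynomial.C a).prod :=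
      (Polynomial.Splits.eq_prod_roots_of_monic hsplit hP)
    have : (P.roots.map fun l => r - algebraMap K Γ(X, ⊤) l).prod = 0 := by
      have h2 : Polynomial.aeval r P = 0 := hPr
      rw [hP'] at h2
      simpa only [map_multiset_prod, Multiset.map_map, Function.comp_def, map_sub,
        Polynomial.aeval_X, Polynomial.aeval_C] using h2
    exact mem_range_algebraMap_of_prod_eq_zero eq_zero_or_one_of_isIdempotentElem r _ this
  have : p.appTop = (Scheme.ΓSpecIso (.of K)).hom ≫ F := by simp [F]
  rw [this]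
  exact hb.comp (ConcreteCategory.bijective_of_isIso (Scheme.ΓSpecIso (.of K)).hom)


/-- All rational points of a reduced connected universally closed scheme over an algebraically
closed field have the same image under any morphism to an affine scheme. -/
lemma comp_eq_of_isAffine' {X U : Scheme.{u}} (p : X ⟶ Spec (.of K)) [IsReduced X]
    [ConnectedSpace X] [UniversallyClosed p] [IsAffine U] (g : X ⟶ U)
    (x x' : Spec (.of K) ⟶ X) (hx : x ≫ p = 𝟙 _) (hx' : x' ≫ p = 𝟙 _) : x ≫ g = x' ≫ g := by
  have hiso : IsIso p.appTop := by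
    rw [ConcreteCategory.isIso_iff_bijective]
    exact appTop_bijective' p
  apply ext_of_isAffine
  rw [Scheme.Hom.comp_appTop, Scheme.Hom.comp_appTop]
  congr 1
  rw [← cancel_epi p.appTop, ← Scheme.Hom.comp_appTop, ← Scheme.Hom.comp_appTop, hx, hx']

set_option backward.isDefEq.respectTransparency false in
/-- Rigidity lemma over an algebraically closed field, reduced connected version. -/
theorem rigidity_algClosed' (X Y Z : Over (Spec (.of K))) [IsProper X.hom] [IsReduced X.left]
    [ConnectedSpace X.left] [LocallyOfFiniteType Y.hom] [IrreducibleSpace Y.left]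
    [IsReduced (X ⊗ Y).left] [IsSeparated Z.hom]
    (f : X ⊗ Y ⟶ Z) (x₀ : 𝟙_ _ ⟶ X) (y₀ : 𝟙_ _ ⟶ Y) (z₀ : 𝟙_ _ ⟶ Z)
    (h : lift (𝟙 X) (toUnit X ≫ y₀) ≫ f = toUnit X ≫ z₀) :
    f = snd X Y ≫ lift (toUnit Y ≫ x₀) (𝟙 Y) ≫ f := by
  let S := Spec (.of K)
  let pt : S := IsLocalRing.closedPoint K
  obtain ⟨U₀, hU₀, hzU⟩ : ∃ U₀ : Z.left.Opens, IsAffineOpen U₀ ∧ z₀.left pt ∈ U₀ := by
    obtain ⟨_, ⟨U₀, hU₀, rfl⟩, hzU, -⟩ := Z.left.isBasis_affineOpens.exists_subset_of_mem_open
      (Set.mem_univ (z₀.left pt)) isOpen_univ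
    exact ⟨U₀, hU₀, hzU⟩
  have : IsProper (snd X Y).left := by dsimp; infer_instance
  have : UniversallyOpen (snd X Y).left := by dsimp; infer_instance
  have : LocallyOfFiniteType (X ⊗ Y).hom := by dsimp; infer_instance
  let C : Set (X ⊗ Y).left := f.left ⁻¹' (U₀ : Set Z.left)ᶜ
  have hC : IsClosed C := (U₀.isOpen.isClosed_compl).preimage f.left.continuous
  let T := (snd X Y).left '' C
  have hT : IsClosed T := (snd X Y).left.isClosedMap _ hC
  let Y' : Y.left.Opens := ⟨Tᶜ, hT.isOpen_compl⟩
  -- points over `Y'` map into `U₀`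
  have hW : ∀ q : (X ⊗ Y).left, (snd X Y).left q ∈ Y' → f.left q ∈ U₀ := by
    intro q hq
    by_contra hq'
    exact hq ⟨q, hq', rfl⟩
  have hy₀ : y₀.left pt ∈ Y' := by
    rintro ⟨q, hqC, hq⟩
    have hq' : q ∈ Set.range (X ◁ y₀).left := by
      rw [Over.whiskerLeft_left]
      have := Scheme.Pullback.range_map X.hom (𝟙_ (Over (Spec (.of K)))).hom X.hom Y.hom
        (𝟙 X.left) y₀.left
        (𝟙 _) (by simp) (by rw [Over.w y₀, Category.comp_id])
      have hmem : q ∈ ⇑(pullback.fst X.hom Y.hom) ⁻¹' Set.range ⇑(𝟙 X.left) ∩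
          ⇑(pullback.snd X.hom Y.hom) ⁻¹' Set.range ⇑(Over.Hom.left y₀) :=
        ⟨⟨_, rfl⟩, ⟨pt, hq.symm⟩⟩
      rw [← this] at hmem
      exact hmem
    obtain ⟨q', rfl⟩ := hq'
    apply hqC
    have e : (X ◁ y₀) ≫ f = (ρ_ X).hom ≫ toUnit X ≫ z₀ := by
      rw [← h, ← Category.assoc]
      congr 1
      ext1
      · simp [rightUnitor_hom]
      · simp only [Category.assoc, whiskerLeft_snd, lift_snd]
        rw [← Category.assoc]
        congr 1
        exact toUnit_unique _ _
    change ((X ◁ y₀).left ≫ f.left) q' ∈ U₀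
    rw [← Over.comp_left, e, ← Category.assoc, Over.comp_left, Scheme.Hom.comp_apply]
    rwa [Subsingleton.elim (α := S) (((ρ_ X).hom ≫ toUnit X).left q') pt]
  let W' : (X ⊗ Y).left.Opens := (snd X Y).left ⁻¹ᵁ Y'
  have hW'dense : Dense (W' : Set (X ⊗ Y).left) := by
    rw [dense_iff_inter_open]
    intro O hO hOne
    have h1 : IsOpen ((snd X Y).left '' O) := (snd X Y).left.isOpenMap _ hO
    have h2 : ((snd X Y).left '' O).Nonempty := hOne.image _
    obtain ⟨_, ⟨q, hqO, rfl⟩, hqY⟩ :=
      nonempty_preirreducible_inter h1 Y'.isOpen h2 ⟨_, hy₀⟩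
    exact ⟨q, hqO, hqY⟩
  ext1
  refine ext_of_point_eq (X ⊗ Y).hom Z.hom _ _ (Over.w f) (Over.w _) W' W'.isOpen.isLocallyClosed
    hW'dense ?_
  intro c hc hcW
  let c' : 𝟙_ (Over S) ⟶ X ⊗ Y := Over.homMk c hc
  let x : 𝟙_ (Over S) ⟶ X := c' ≫ fst X Y
  let y : 𝟙_ (Over S) ⟶ Y := c' ≫ snd X Y
  let j : X ⟶ X ⊗ Y := lift (𝟙 X) (toUnit X ≫ y)
  have hc' : c' = x ≫ j := by
    ext1 <;> simp [x, y, j]
  have hx₀j : x₀ ≫ j = y ≫ lift (toUnit Y ≫ x₀) (𝟙 Y) := by ext1 <;> simp [j]
  have hrange : Set.range (j ≫ f).left ⊆ Set.range U₀.ι := by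
    rintro _ ⟨a, rfl⟩
    rw [Scheme.Opens.range_ι]
    apply hW
    change (j.left ≫ (snd X Y).left) a ∈ Y'
    rw [← Over.comp_left, lift_snd]
    exact hcW ⟨X.hom a, rfl⟩
  haveI : IsAffine (U₀ : Scheme) := hU₀
  let g := IsOpenImmersion.lift U₀.ι (j ≫ f).left hrange
  have hg : g ≫ U₀.ι = (j ≫ f).left := IsOpenImmersion.lift_fac _ _ _
  have key := comp_eq_of_isAffine' X.hom g x.left x₀.left (Over.w x) (Over.w x₀)
  calc c ≫ f.left = (c' ≫ f).left := rfl
    _ = (x ≫ j ≫ f).left := by rw [hc', Category.assoc]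
    _ = x.left ≫ g ≫ U₀.ι := by rw [hg]; rfl
    _ = x₀.left ≫ g ≫ U₀.ι := by rw [reassoc_of% key]
    _ = (x₀ ≫ j ≫ f).left := by rw [hg]; rfl
    _ = (y ≫ lift (toUnit Y ≫ x₀) (𝟙 Y) ≫ f).left := by
      rw [← Category.assoc, hx₀j, Category.assoc]
    _ = c ≫ (snd X Y ≫ lift (toUnit Y ≫ x₀) (𝟙 Y) ≫ f).left := rfl

omit [IsAlgClosed K] in
set_option backward.isDefEq.respectTransparency false in
/-- **Rigidity lemma** over a field, for a proper geometrically reduced and geometrically
connected first factor. -/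
theorem rigidity' (X Y Z : Over (Spec (.of K))) [IsProper X.hom] [GeometricallyReduced X.hom]
    [GeometricallyConnected X.hom]
    [LocallyOfFiniteType Y.hom] [GeometricallyIntegral Y.hom] [IsSeparated Z.hom]
    (f : X ⊗ Y ⟶ Z) (x₀ : 𝟙_ _ ⟶ X) (y₀ : 𝟙_ _ ⟶ Y) (z₀ : 𝟙_ _ ⟶ Z)
    (h : lift (𝟙 X) (toUnit X ≫ y₀) ≫ f = toUnit X ≫ z₀) :
    f = snd X Y ≫ lift (toUnit Y ≫ x₀) (𝟙 Y) ≫ f := by
  let φ := Spec.map (CommRingCat.ofHom <| algebraMap K (AlgebraicClosure K))
  let F := Over.pullback φ
  let X' := F.obj X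
  let Y' := F.obj Y
  let Z' := F.obj Z
  have : IsProper X'.hom := by dsimp [X', F]; infer_instance
  have : GeometricallyReduced X'.hom := by dsimp [X', F]; infer_instance
  have : LocallyOfFiniteType Y'.hom := by dsimp [Y', F]; infer_instance
  have : IsSeparated Z'.hom := by dsimp [Z', F]; infer_instance
  have : IsReduced X'.left := by dsimp [X', F]; infer_instance
  have : ConnectedSpace X'.left := by dsimp [X', F]; infer_instance
  have : IsIntegral Y'.left := by dsimp [Y', F]; infer_instance
  have : IsLocallyNoetherian Y'.left := LocallyOfFiniteType.isLocallyNoetherian Y'.hom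
  have : IsReduced (X' ⊗ Y').left := by dsimp; infer_instance
  let f' : X' ⊗ Y' ⟶ Z' := Functor.LaxMonoidal.μ F X Y ≫ F.map f
  let x₀' : 𝟙_ _ ⟶ X' := Functor.LaxMonoidal.ε F ≫ F.map x₀
  let y₀' : 𝟙_ _ ⟶ Y' := Functor.LaxMonoidal.ε F ≫ F.map y₀
  let z₀' : 𝟙_ _ ⟶ Z' := Functor.LaxMonoidal.ε F ≫ F.map z₀
  have h' : lift (𝟙 X') (toUnit X' ≫ y₀') ≫ f' = toUnit X' ≫ z₀' := by
    dsimp only [f', y₀', z₀', X']
    rw [Functor.Monoidal.toUnit_ε_assoc, Functor.Monoidal.toUnit_ε_assoc,
      ← F.map_comp (toUnit X) z₀, ← h, F.map_comp, ← Functor.Monoidal.lift_μ_assoc, F.map_id,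
      F.map_comp]
  have key := rigidity_algClosed' X' Y' Z' f' x₀' y₀' z₀' h'
  apply F.map_injective
  rw [← cancel_epi (Functor.LaxMonoidal.μ F X Y)]
  refine key.trans ?_
  dsimp only [f', x₀', X', Y']
  rw [Functor.Monoidal.toUnit_ε_assoc, ← F.map_comp, F.map_comp (snd X Y), F.map_comp _ f,
    ← Functor.Monoidal.μ_snd_assoc, ← Functor.Monoidal.lift_μ_assoc, F.map_id]

end Groth.Agent.Lib.Helper22.Rigidity
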