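import Groth.Agent.Lib.Helper22.ImgDim
import Groth.Agent.Lib.Helper22.FlatDimDense
import Groth.Agent.Lib.Helper22.GenericFibreDim
import Groth.Agent.Lib.Helper73.DimFormula.LocDimFiber
import Groth.Agent.Lib.Helper73.DimFormula.GenericFibre
import Groth.Agent.Lib.Helper73.DimFormula.EquidimAt
import Groth.Agent.Lib.Helper73.DimFormula.Chevalley

/-!
# Universal openness at a point and dimensions of nearby fibres (helper22, EGA IV 14.3.13)

No Noetherian hypotheses.
* `dim_fibre_inter_eq_iSup`, `le_dim_inter_fibre`: dimension of locally closed subsets of a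
  set-theoretic fibre via residual transcendence degrees.
* `le_dim_inter_fibre_of_isUnivOpenAt`, `fibreDimAt_le_dim_inter_fibre_of_isUnivOpenAt`: a) ⇒ b').
* `exists_specializes_of_mem_closure_fibre'`: closure of a subset of a fibre (any base).
* `localDim_interFiber_eq'`, `localDim_interFiber_of_maximal`: local dimension of `K ∩ f⁻¹(y)`
  without Noetherian hypotheses on `X`.
* `isClosed_le_fibreDimAt`: Chevalley, closed form.
* `exists_component_of_dim_bound`: b') ⇒ b).
-/
set_option autoImplicit false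
set_option linter.style.haveILetI false
open CategoryTheory AlgebraicGeometry TopologicalSpace Topology Limits
universe u

namespace Groth.Agent.Lib.Helper22.UnivOpenDim

open Groth.Agent.Lib.Helper73 Groth.Agent.Lib.Helper72.FibDim Groth.Agent.Lib.Helper22.ImgDim

/-- The dimension of a locally closed subset of a set-theoretic fibre as a supremum of residual
transcendence degrees. -/
theorem dim_fibre_inter_eq_iSup {X S : Scheme.{u}} (f : X ⟶ S) [LocallyOfFiniteType f]
    (t : S) (U C : Set X) (hU : IsOpen U) (hC : IsClosed C) :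
    topologicalKrullDim ↥(f.base ⁻¹' {t} ∩ (U ∩ C)) =
      ⨆ z : ↥((Subtype.val : ↥(f.base ⁻¹' {t}) → X) ⁻¹' U ∩
          (Subtype.val : ↥(f.base ⁻¹' {t}) → X) ⁻¹' C),
        ((resTrdegNat f z.1.1 : ℕ∞) : WithBot ℕ∞) := by
  haveI := quasiSober_fibre f t
  have hδ := isDimFun_fibre f t
  have hW : IsOpen ((Subtype.val : ↥(f.base ⁻¹' {t}) → X) ⁻¹' U) :=
    hU.preimage continuous_subtype_val
  have hZ : IsClosed ((Subtype.val : ↥(f.base ⁻¹' {t}) → X) ⁻¹' C) :=
    hC.preimage continuous_subtype_val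
  have h1 := hδ.topologicalKrullDim_inter_eq_iSup hW hZ
  have h2 := Groth.Agent.Lib.Helper22.SecComp.dim_image_eq
    (Subtype.val : ↥(f.base ⁻¹' {t}) → X) IsEmbedding.subtypeVal
    ((Subtype.val : ↥(f.base ⁻¹' {t}) → X) ⁻¹' U ∩
      (Subtype.val : ↥(f.base ⁻¹' {t}) → X) ⁻¹' C)
  rw [← Set.preimage_inter, Subtype.image_preimage_coe] at h2
  rw [h2, ← h1, Set.preimage_inter]

/-- A point of `U ∩ f⁻¹(t)` (`U` open) bounds the dimension from below. -/
theorem le_dim_inter_fibre {X S : Scheme.{u}} (f : X ⟶ S) [LocallyOfFiniteType f]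
    (t : S) (U : Set X) (hU : IsOpen U) (z : X) (hzU : z ∈ U) (hzt : f.base z = t) :
    ((resTrdegNat f z : ℕ) : WithBot ℕ∞) ≤ topologicalKrullDim ↥(U ∩ f.base ⁻¹' {t}) := by
  have h := dim_fibre_inter_eq_iSup f t U Set.univ hU isClosed_univ
  rw [Set.inter_univ, Set.inter_comm] at h
  rw [h]
  exact le_iSup (fun z : ↥((Subtype.val : ↥(f.base ⁻¹' {t}) → X) ⁻¹' U ∩
      (Subtype.val : ↥(f.base ⁻¹' {t}) → X) ⁻¹' Set.univ) =>
        ((resTrdegNat f z.1.1 : ℕ∞) : WithBot ℕ∞)) ⟨⟨z, hzt⟩, hzU, trivial⟩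

set_option backward.isDefEq.respectTransparency false in
/-- EGA IV 14.3.13 a) ⇒ b'): universal openness at `x` bounds below the dimension of nearby
fibres of generizations. -/
theorem le_dim_inter_fibre_of_isUnivOpenAt {X Y : Scheme.{u}} (f : X ⟶ Y)
    [LocallyOfFiniteType f] (x : X) (hopen : EGA43.IsUnivOpenAt f x) (U : X.Opens) (hxU : x ∈ U)
    (y' : Y) (hy' : y' ⤳ f.base x) :
    ((resTrdegNat f x : ℕ) : WithBot ℕ∞) ≤
      topologicalKrullDim ↥((U : Set X) ∩ f.base ⁻¹' {y'}) := by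
  obtain ⟨R, _, _, _, φ, hφc, hφg⟩ :=
    Groth.Agent.Lib.Helper12.exists_valuationRing_of_specializes hy'
  subst hφg
  set p := pullback.fst f φ with hp
  set q := pullback.snd f φ with hq
  have hsq : IsPullback p q f φ := IsPullback.of_hasPullback f φ
  haveI : LocallyOfFiniteType q := MorphismProperty.of_isPullback hsq inferInstance
  set m : ↥(Spec (CommRingCat.of R)) := IsLocalRing.closedPoint R with hm
  set η : ↥(Spec (CommRingCat.of R)) := (⟨⊥, Ideal.isPrime_bot⟩ : PrimeSpectrum R) with hη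
  have hηm : η ⤳ m := (PrimeSpectrum.le_iff_specializes η m).1 bot_le
  obtain ⟨xR, hxRp, hxRq, hxRt⟩ := exists_lift_resTrdegNat_eq f φ x m hφc.symm
  have hop : EGA43.IsOpenAt q.base xR := hopen _ φ xR hxRp
  obtain ⟨x'R, hsp, hq'⟩ := (Groth.Agent.S3404.result q xR).1 hop η (by rw [hxRq]; exact hηm)
  have h7 := Groth.Agent.Lib.Helper22.ValTrdeg.resTrdegNat_le_of_specializes q hsp
  have h8 := resTrdegNat_le_of_isPullback f φ p q hsq x'R
  have hfp : ∀ t, f.base (p.base t) = φ.base (q.base t) := by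
    intro t
    have := congrArg (fun ψ => ψ.base t) hsq.w
    simpa only [Scheme.Hom.comp_base, TopCat.hom_comp, ContinuousMap.comp_apply] using this
  have hU : p.base x'R ∈ (U : Set X) := by
    have h1 : p.base x'R ⤳ x := by
      rw [← hxRp]; exact hsp.map p.continuous
    exact h1.mem_open U.isOpen hxU
  have hF : f.base (p.base x'R) = φ.base η := by rw [hfp, hq']
  have h9 := le_dim_inter_fibre f (φ.base η) (U : Set X) U.isOpen _ hU hF
  refine le_trans ?_ h9
  have : resTrdegNat f x ≤ resTrdegNat f (p.base x'R) := by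
    rw [← hxRt]; exact h7.trans h8
  exact_mod_cast this

set_option backward.isDefEq.respectTransparency false in
/-- Closure of a subset of a fibre, general base: every point of the closure is a specialization
of a point of the closure lying in the fibre. -/
theorem exists_specializes_of_mem_closure_fibre' {X Y : Scheme.{u}} (q : X ⟶ Y) (η : Y)
    (E : Set X) (hE : E ⊆ q.base ⁻¹' {η}) (x : X) (hx : x ∈ closure E) :
    ∃ x' : X, x' ∈ closure E ∧ q.base x' = η ∧ x' ⤳ x := by
  have hηx : η ⤳ q.base x := by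
    have h1 : q.base x ∈ closure (q.base '' E) :=
      image_closure_subset_closure_image q.continuous ⟨x, hx, rfl⟩
    have h2 : q.base '' E ⊆ {η} := by
      rintro _ ⟨e, he, rfl⟩; exact hE he
    exact specializes_iff_mem_closure.mpr (closure_mono h2 h1)
  obtain ⟨V, hV, hxV, -⟩ :=
    exists_isAffineOpen_mem_and_subset (X := Y) (x := q.base x) (U := ⊤) trivial
  have hηV : η ∈ V := hηx.mem_open V.isOpen hxV
  set W := q ⁻¹ᵁ V with hW
  set qV := q ∣_ V with hqV
  let ηV : ↥(V : Scheme.{u}) := ⟨η, hηV⟩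
  let xV : ↥(W : Scheme.{u}) := ⟨x, hxV⟩
  haveI : IsAffine (V : Scheme.{u}) := hV
  have hEV : W.ι.base ⁻¹' E ⊆ qV.base ⁻¹' {ηV} := by
    intro t ht
    have h1 : q.base (W.ι.base t) = η := hE ht
    apply Subtype.ext
    rw [morphismRestrict_base_coe]
    exact h1
  have hxcl : xV ∈ closure (W.ι.base ⁻¹' E) := by
    rw [← W.ι.isOpenEmbedding.isOpenMap.preimage_closure_eq_closure_preimage W.ι.continuous]
    exact hx
  obtain ⟨x'V, h1, h2, h3⟩ := exists_specializes_of_mem_closure_fibre qV ηV _ hEV xV hxcl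
  refine ⟨W.ι.base x'V, ?_, ?_, ?_⟩
  · rw [← W.ι.isOpenEmbedding.isOpenMap.preimage_closure_eq_closure_preimage W.ι.continuous] at h1
    exact h1
  · have := congrArg Subtype.val h2
    rw [morphismRestrict_base_coe] at this
    exact this
  · exact h3.map W.ι.continuous

/-- The local dimension of `K ∩ f⁻¹(y)` (`K` closed) at a point, without Noetherian hypotheses on
`X`. -/
theorem localDim_interFiber_eq' {X Y : Scheme.{u}} (f : X ⟶ Y) [LocallyOfFiniteType f]
    (K : Set X) (hK : IsClosed K) (y : Y) (x : ↥(K ∩ f.base ⁻¹' {y})) :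
    FlatMor.localDim ↥(K ∩ f.base ⁻¹' {y}) x =
      ((@Order.coheight _ (specializationPreorder _) x + (resTrdegNat f x.1 : ℕ∞) : ℕ∞) :
        WithBot ℕ∞) := by
  have hQS := quasiSober_interFiber f K y hK
  have hδ := isDimFun_resTrdegNat_interFiber f K y hK
  haveI : IsLocallyNoetherian (f.fiber y) :=
    LocallyOfFiniteType.isLocallyNoetherian (f.fiberToSpecResidueField y)
  set ψ := interFiberMap f K y with hψ
  have hψe := isClosedEmbedding_interFiberMap f K y hK
  obtain ⟨V, hV, hxV, -⟩ :=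
    exists_isAffineOpen_mem_and_subset (X := f.fiber y) (x := ψ x) (U := ⊤) trivial
  have : IsNoetherianRing Γ(f.fiber y, V) := IsLocallyNoetherian.component_noetherian ⟨V, hV⟩
  have h1 : NoetherianSpace ↥(Set.range hV.fromSpec) :=
    NoetherianSpace.range (α := ↥(Spec Γ(f.fiber y, V))) hV.fromSpec hV.fromSpec.continuous
  rw [hV.range_fromSpec] at h1
  let U' : Set ↥(K ∩ f.base ⁻¹' {y}) := ψ ⁻¹' (V : Set (f.fiber y))
  have hU' : IsOpen U' := V.isOpen.preimage hψe.continuous
  have hN : NoetherianSpace ↥U' := by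
    let j : ↥U' → ↥(V : Set (f.fiber y)) := fun t => ⟨ψ t.1, t.2⟩
    have hj : IsInducing j := by
      have : IsInducing (Subtype.val ∘ j) := by
        have : (Subtype.val ∘ j) = (ψ ∘ Subtype.val) := rfl
        rw [this]
        exact hψe.isInducing.comp IsInducing.subtypeVal
      exact IsInducing.of_comp (by
        refine Continuous.subtype_mk ?_ _
        exact hψe.continuous.comp continuous_subtype_val) continuous_subtype_val this
    exact hj.noetherianSpace
  obtain ⟨W, hW, hxW, hLN⟩ := exists_open_forall_exists_generic_of_nhd x U' hU' hxV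
  exact hδ.iInf_topologicalKrullDim_eq x W hW hxW hLN

/-- At a point of `K ∩ f⁻¹(y)` which is maximal in the fibre, the local dimension is the
residual transcendence degree. -/
theorem localDim_interFiber_of_maximal {X Y : Scheme.{u}} (f : X ⟶ Y) [LocallyOfFiniteType f]
    (K : Set X) (hK : IsClosed K) (y : Y) (x : ↥(K ∩ f.base ⁻¹' {y}))
    (hmax : ∀ t : X, t ⤳ x.1 → f.base t = y → t = x.1) :
    FlatMor.localDim ↥(K ∩ f.base ⁻¹' {y}) x = ((resTrdegNat f x.1 : ℕ) : WithBot ℕ∞) := by
  rw [localDim_interFiber_eq' f K hK y x]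
  have h0 : @Order.coheight _ (specializationPreorder _) x = 0 := by
    letI := specializationPreorder ↥(K ∩ f.base ⁻¹' {y})
    rw [Order.coheight_eq_zero]
    intro b hb
    have h1 : b ⤳ x := hb
    have h2 : b.1 = x.1 := hmax b.1 (h1.map continuous_subtype_val) b.2.2
    have h3 : b = x := Subtype.ext h2
    rw [h3]
  rw [h0, zero_add]
  rfl

/-- A natural number below a supremum of natural numbers (in `WithBot ℕ∞`) is below one of
them. -/
theorem exists_le_of_le_iSup {ι : Sort*} (a : ι → ℕ) (n : ℕ)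
    (h : ((n : ℕ) : WithBot ℕ∞) ≤ ⨆ i, ((a i : ℕ∞) : WithBot ℕ∞)) : ∃ i, n ≤ a i := by
  by_contra hcon
  push Not at hcon
  rcases isEmpty_or_nonempty ι with hι | hι
  · rw [iSup_of_empty] at h
    exact absurd h (by simp)
  · obtain ⟨i₀⟩ := hι
    have hn : 1 ≤ n := by have := hcon i₀; omega
    have h1 : (⨆ i, ((a i : ℕ∞) : WithBot ℕ∞)) ≤ (((n - 1 : ℕ) : ℕ∞) : WithBot ℕ∞) := by
      refine iSup_le fun i => ?_
      have := hcon i
      have h2 : a i ≤ n - 1 := by omega
      exact WithBot.coe_le_coe.mpr (by exact_mod_cast h2)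
    have h3 := h.trans h1
    have h4 : n ≤ n - 1 := by exact_mod_cast h3
    omega

/-- The locus where the local fibre dimension is at least `n` is closed (Chevalley). -/
theorem isClosed_le_fibreDimAt {X Y : Scheme.{u}} (f : X ⟶ Y) [LocallyOfFiniteType f] (n : ℕ) :
    IsClosed {x' : X | ((n : ℕ) : WithBot ℕ∞) ≤ FlatMor.fibreDimAt f x'} := by
  rcases Nat.eq_zero_or_pos n with h0 | hpos
  · subst h0
    have : {x' : X | ((0 : ℕ) : WithBot ℕ∞) ≤ FlatMor.fibreDimAt f x'} = Set.univ := by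
      ext x'
      simp only [Set.mem_ofPred_eq, Set.mem_univ, iff_true]
      obtain ⟨d, hd⟩ := exists_fibreDimAt_eq_natCast f x'
      rw [hd]
      exact_mod_cast Nat.zero_le d
    rw [this]
    exact isClosed_univ
  · rw [← isOpen_compl_iff]
    have : {x' : X | ((n : ℕ) : WithBot ℕ∞) ≤ FlatMor.fibreDimAt f x'}ᶜ =
        {x' : X | FlatMor.fibreDimAt f x' ≤ ((n - 1 : ℕ) : WithBot ℕ∞)} := by
      ext x'
      simp only [Set.mem_compl_iff, Set.mem_ofPred_eq]
      obtain ⟨d, hd⟩ := exists_fibreDimAt_eq_natCast f x'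
      rw [hd]
      constructor
      · intro h
        have h1 : ¬ n ≤ d := fun h2 => h (by exact_mod_cast h2)
        have h2 : d ≤ n - 1 := by omega
        exact_mod_cast h2
      · intro h h'
        have h1 : d ≤ n - 1 := by exact_mod_cast h
        have h2 : n ≤ d := by exact_mod_cast h'
        omega
    rw [this]
    exact isOpen_fibreDimAt_le (n - 1) X Y f

set_option backward.isDefEq.respectTransparency false in
/-- EGA IV 14.3.13 b') ⇒ b). -/
theorem exists_component_of_dim_bound {X Y : Scheme.{u}} (f : X ⟶ Y) [LocallyOfFiniteType f]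
    (x : X) (hmax : ∀ x' : X, f.base x' = f.base x → x ∈ closure {x'} → x' = x)
    (hb' : ∀ U : X.Opens, x ∈ U → ∀ y' : Y, y' ⤳ f.base x →
        FlatMor.fibreDimAt f x ≤ topologicalKrullDim ↥((U : Set X) ∩ f.base ⁻¹' {y'}))
    (Y₀ : Set Y) (hY₀ : Y₀ ∈ irreducibleComponents (Y : Type u)) (hxY₀ : f.base x ∈ Y₀) :
    ∃ Z ∈ irreducibleComponents (X : Type u), ∃ hx : x ∈ Z, closure (f.base '' Z) = Y₀ ∧
      ∀ η : Y, closure ({η} : Set Y) = Y₀ →
        FlatMor.fibreDimAt f x =
            FlatMor.localDim ↥(Z ∩ f.base ⁻¹' {f.base x}) ⟨x, ⟨hx, rfl⟩⟩ ∧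
          FlatMor.localDim ↥(Z ∩ f.base ⁻¹' {f.base x}) ⟨x, ⟨hx, rfl⟩⟩ =
            topologicalKrullDim ↥(Z ∩ f.base ⁻¹' {η}) := by
  have hmax' : ∀ t : X, t ⤳ x → f.base t = f.base x → t = x := fun t ht hft =>
    hmax t hft (specializes_iff_mem_closure.mp ht)
  set n := resTrdegNat f x with hn'
  have hn : FlatMor.fibreDimAt f x = ((n : ℕ) : WithBot ℕ∞) :=
    Groth.Agent.Lib.Helper22.GenericFibreDim.fibreDimAt_eq_resTrdegNat_of_maximal f x hmax'
  -- the generic point of `Y₀`
  obtain ⟨η₀, hη₀⟩ := QuasiSober.sober hY₀.1 (isClosed_of_mem_irreducibleComponents Y₀ hY₀)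
  have hη₀cl : closure ({η₀} : Set Y) = Y₀ := hη₀.def
  have hη₀x : η₀ ⤳ f.base x := specializes_iff_mem_closure.mpr (hη₀cl ▸ hxY₀)
  -- the closed locus `D`
  set D : Set X := {x' : X | ((n : ℕ) : WithBot ℕ∞) ≤ FlatMor.fibreDimAt f x'} with hD
  have hDc : IsClosed D := isClosed_le_fibreDimAt f n
  set E : Set X := D ∩ f.base ⁻¹' {η₀} with hE
  have hxcl : x ∈ closure E := by
    rw [mem_closure_iff]
    intro U hU hxU
    have h1 := hb' ⟨U, hU⟩ hxU η₀ hη₀x
    rw [hn] at h1
    have h2 := dim_fibre_inter_eq_iSup f η₀ U Set.univ hU isClosed_univ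
    rw [Set.inter_univ, Set.inter_comm] at h2
    change ((n : ℕ) : WithBot ℕ∞) ≤ topologicalKrullDim ↥(U ∩ f.base ⁻¹' {η₀}) at h1
    rw [h2] at h1
    obtain ⟨z, hz⟩ := exists_le_of_le_iSup _ n h1
    refine ⟨z.1.1, z.2.1, ?_, z.1.2⟩
    change ((n : ℕ) : WithBot ℕ∞) ≤ FlatMor.fibreDimAt f z.1.1
    refine le_trans ?_ (resTrdegNat_le_fibreDimAt f z.1.1)
    exact_mod_cast hz
  obtain ⟨ω, hωcl, hωη, hωx⟩ :=
    exists_specializes_of_mem_closure_fibre' f η₀ E Set.inter_subset_right x hxcl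
  have hωD : ω ∈ D := closure_minimal Set.inter_subset_left hDc hωcl
  obtain ⟨k, hk⟩ := exists_fibreDimAt_eq_natCast f ω
  have hnk : n ≤ k := by
    have : ((n : ℕ) : WithBot ℕ∞) ≤ FlatMor.fibreDimAt f ω := hωD
    rw [hk] at this
    exact_mod_cast this
  obtain ⟨ω', h1, h2, h3, hω'max⟩ :=
    Groth.Agent.Lib.Helper22.FlatDimDense.exists_maximal_generization f ω k hk
  have hω'x : ω' ⤳ x := h1.trans hωx
  have hfω' : f.base ω' = η₀ := h2.trans hωη
  -- `e = n`
  have hle : resTrdegNat f ω' ≤ n := by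
    have hopen := isOpen_fibreDimAt_le n X Y f
    have hmem : ω' ∈ {x' : X | FlatMor.fibreDimAt f x' ≤ ((n : ℕ) : WithBot ℕ∞)} :=
      hω'x.mem_open hopen hn.le
    have h4 := (resTrdegNat_le_fibreDimAt f ω').trans hmem
    exact_mod_cast h4
  have he : resTrdegNat f ω' = n := le_antisymm hle (h3 ▸ hnk)
  -- `ω'` is a maximal point of `X`
  have hmaxY : ∀ s : Y, s ⤳ η₀ → s = η₀ := by
    intro s hs
    have h4 : Y₀ ⊆ closure ({s} : Set Y) := by
      rw [← hη₀cl]
      exact closure_minimal (Set.singleton_subset_iff.mpr (specializes_iff_mem_closure.mp hs))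
        isClosed_closure
    have h5 : closure ({s} : Set Y) ⊆ Y₀ := hY₀.2 isIrreducible_singleton.closure h4
    have h6 : η₀ ⤳ s := by
      rw [specializes_iff_mem_closure, hη₀cl]
      exact h5 (subset_closure rfl)
    exact (hs.antisymm h6).eq
  have hmaxX : ∀ t : X, t ⤳ ω' → t = ω' := by
    intro t ht
    have h4 : f.base t = η₀ := hmaxY _ (hfω' ▸ ht.map f.continuous)
    exact hω'max t ht (h4.trans hfω'.symm)
  refine ⟨closure {ω'}, closure_singleton_mem_irreducibleComponents_of_maximal ω' hmaxX,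
    specializes_iff_mem_closure.mp hω'x, ?_, ?_⟩
  · apply subset_antisymm
    · rw [← hη₀cl, ← hfω']
      refine closure_minimal ?_ isClosed_closure
      have := image_closure_subset_closure_image (s := {ω'}) f.continuous
      rwa [Set.image_singleton] at this
    · rw [← hη₀cl]
      exact closure_mono (Set.singleton_subset_iff.mpr ⟨ω', subset_closure rfl, hfω'⟩)
  · intro η hη
    have hηeq : η = η₀ := by
      have h4 : IsGenericPoint η Y₀ := hη
      exact (h4.eq hη₀)
    subst hηeq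
    have hL := localDim_interFiber_of_maximal f (closure {ω'}) isClosed_closure (f.base x)
      ⟨x, ⟨specializes_iff_mem_closure.mp hω'x, rfl⟩⟩ hmax'
    refine ⟨by rw [hn, hL], ?_⟩
    rw [hL]
    have h5 := dim_fibre_inter_eq_iSup f η Set.univ (closure {ω'}) isOpen_univ isClosed_closure
    rw [Set.univ_inter, Set.inter_comm] at h5
    rw [h5]
    apply le_antisymm
    · refine le_iSup_of_le ⟨⟨ω', hfω'⟩, trivial, subset_closure rfl⟩ ?_
      rw [he]
      rfl
    · refine iSup_le fun z => ?_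
      have h6 : ω' ⤳ z.1.1 := specializes_iff_mem_closure.mpr z.2.2
      have h7 := resTrdegNat_le_of_specializes_fiber f z.1.1 ω' h6 (hfω'.trans z.1.2.symm)
      rw [he] at h7
      exact_mod_cast h7

/-- EGA IV 14.3.13 a) ⇒ b') at a maximal point of the fibre. -/
theorem fibreDimAt_le_dim_inter_fibre_of_isUnivOpenAt {X Y : Scheme.{u}} (f : X ⟶ Y)
    [LocallyOfFiniteType f] (x : X)
    (hmax : ∀ x' : X, f.base x' = f.base x → x ∈ closure {x'} → x' = x)
    (hopen : EGA43.IsUnivOpenAt f x) (U : X.Opens) (hxU : x ∈ U)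
    (y' : Y) (hy' : y' ⤳ f.base x) :
    FlatMor.fibreDimAt f x ≤ topologicalKrullDim ↥((U : Set X) ∩ f.base ⁻¹' {y'}) := by
  have hmax' : ∀ t : X, t ⤳ x → f.base t = f.base x → t = x := fun t ht hft =>
    hmax t hft (specializes_iff_mem_closure.mp ht)
  rw [Groth.Agent.Lib.Helper22.GenericFibreDim.fibreDimAt_eq_resTrdegNat_of_maximal f x hmax']
  exact le_dim_inter_fibre_of_isUnivOpenAt f x hopen U hxU y' hy'

end Groth.Agent.Lib.Helper22.UnivOpenDim
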