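import Groth.Agent.Lib.Helper22.SectionComp4
import Groth.Agent.Lib.Helper22.UnivOpenDim
import Groth.Agent.Lib.Helper22.StalkPrime
import Groth.Agent.Lib.Helper22.FibreRed
import Groth.Agent.Lib.Helper80.UnivOpenAt
import Groth.Agent.Lib.Helper50.DvrSpec
import Groth.Agent.Lib.Helper51.NoethOpen
import Groth.Agent.Lib.Helper51.IrrComp

/-!
# Local constancy of the dimension of the section component (helper22, EGA IV 15.6.6/15.6.7)
-/

set_option autoImplicit false
set_option linter.style.haveILetI false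
open CategoryTheory AlgebraicGeometry TopologicalSpace Topology Limits
universe u

namespace Groth.Agent.Lib.Helper22.SecCompDimConst

open Groth.Agent.Lib.Helper73 Groth.Agent.Lib.Helper19 Groth.Agent.Lib.Helper22.SecComp
open Groth.Agent.Lib.Helper67.FiberStalk Groth.Agent.Lib.Helper22

/-- (D) the fibre dimension at the section is the dimension of the (irreducible) section
component. -/
theorem fibreDimAt_section_eq {X Y : Scheme.{u}} (f : X ⟶ Y) [LocallyOfFiniteType f] (g : Y ⟶ X)
    (hg : g ≫ f = 𝟙 Y) (y : Y)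
    (hirr : IsIrreducible (connectedComponentIn (f.base ⁻¹' {y}) (g.base y))) :
    FlatMor.fibreDimAt f (g.base y) =
      topologicalKrullDim ↥(connectedComponentIn (f.base ⁻¹' {y}) (g.base y)) := by
  obtain ⟨ξ, hξy, hξC, hsp, hgen, hdim⟩ := exists_generic_sectionComponent f g hg y hirr
  have hgy : f.base (g.base y) = y := apply_section f g hg y
  rw [hdim]
  apply le_antisymm
  · have hfd : FlatMor.fibreDimAt f (g.base y) ≤ ((resTrdegNat f ξ : ℕ) : WithBot ℕ∞) := by
      refine fibreDimAt_le_of_forall_generization f (g.base y) _ fun η hη hfη => ?_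
      have hηy : f.base η = y := hfη.trans hgy
      have hηC := hgen η hηy (g.base y) (mem_sectionComponent f g hg y) hη
      have h1 := hsp η hηC
      by_cases hne : ξ = η
      · rw [hne]
      · exact (resTrdegNat_lt_of_specializes_fiber f η ξ h1 (hξy.trans hηy.symm) hne).le
    exact_mod_cast hfd
  · have h1 := resTrdegNat_le_fibreDimAt_of_specializes f (g.base y) ξ
      (hsp _ (mem_sectionComponent f g hg y)) (hξy.trans hgy.symm)
    exact_mod_cast h1

set_option backward.isDefEq.respectTransparency false in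
/-- (K)(α): over a DVR through `y' ⤳ y₀`. -/
theorem dim_le_of_dvr {X Y : Scheme.{u}} (f : X ⟶ Y) [LocallyOfFiniteType f] (g : Y ⟶ X)
    (hg : g ≫ f = 𝟙 Y)
    (hgi : ∀ (y : Y) (K : Type u) [Field K]
      [Algebra (IsLocalRing.ResidueField (Y.presheaf.stalk y)) K],
      IsIrreducible ((FBase.bcπ (f.fiberToSpecResidueField y) K ≫ f.fiberι y).base ⁻¹'
        (connectedComponentIn (f.base ⁻¹' {y}) (g.base y))))
    {A : Type u} [CommRing A] [IsDomain A] [IsDiscreteValuationRing A]
    (h : Spec (CommRingCat.of A) ⟶ Y) (y₀ y' : Y)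
    (hcl : h.base (IsLocalRing.closedPoint A) = y₀)
    (hgen : h.base (⟨⊥, Ideal.isPrime_bot⟩ : PrimeSpectrum A) = y')
    (hopen : ∀ ξ ∈ connectedComponentIn (f.base ⁻¹' {y₀}) (g.base y₀),
      connectedComponentIn (f.base ⁻¹' {y₀}) (g.base y₀) ⊆ closure {ξ} → EGA43.IsUnivOpenAt f ξ)
    (hα : FBase.IsGeomReducedAt (f.fiberToSpecResidueField (f.base (g.base y₀)))
      (f.asFiber (g.base y₀))) :
    topologicalKrullDim ↥(connectedComponentIn (f.base ⁻¹' {y₀}) (g.base y₀)) ≤
      topologicalKrullDim ↥(connectedComponentIn (f.base ⁻¹' {y'}) (g.base y')) := by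
  subst hcl hgen
  have hirrX : ∀ y, IsIrreducible (connectedComponentIn (f.base ⁻¹' {y}) (g.base y)) := fun y =>
    isIrreducible_of_geom f y _ (connectedComponentIn_subset _ _) (hgi y _)
  set fst := pullback.fst f h with hfst
  set snd := pullback.snd f h with hsnd
  have hsq : IsPullback fst snd f h := IsPullback.of_hasPullback f h
  let s' : Spec (CommRingCat.of A) ⟶ pullback f h := pullback.lift (h ≫ g) (𝟙 _) (by simp [hg])
  have hs' : s' ≫ snd = 𝟙 _ := pullback.lift_snd _ _ _
  have hs'g : s' ≫ fst = h ≫ g := pullback.lift_fst _ _ _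
  set s₀ : ↥(Spec (CommRingCat.of A)) := IsLocalRing.closedPoint A with hs₀
  set gp : ↥(Spec (CommRingCat.of A)) := ⟨⊥, Ideal.isPrime_bot⟩ with hgp
  have hgpall : ∀ z : ↥(Spec (CommRingCat.of A)), gp ⤳ z := fun z =>
    (PrimeSpectrum.le_iff_specializes gp z).1 bot_le
  have hgps : gp ⤳ s₀ := hgpall s₀
  have hne : gp ≠ s₀ := by
    intro e
    have := congrArg PrimeSpectrum.asIdeal e
    exact IsDiscreteValuationRing.not_a_field A this.symm
  -- irreducibility of the two section components of the pullback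
  have hirr0 : IsIrreducible (connectedComponentIn (snd.base ⁻¹' {s₀}) (s'.base s₀)) :=
    isIrreducible_sectionComponent_of_isPullback f g hg snd fst h hsq s' hs' hs'g s₀
      (fun K _ _ => hgi (h.base s₀) K)
  have hirr1 : IsIrreducible (connectedComponentIn (snd.base ⁻¹' {gp}) (s'.base gp)) :=
    isIrreducible_sectionComponent_of_isPullback f g hg snd fst h hsq s' hs' hs'g gp
      (fun K _ _ => hgi (h.base gp) K)
  have hfst0 : fst.base (s'.base s₀) = g.base (h.base s₀) := congrArg (fun φ => φ.base s₀) hs'g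
  have hfst1 : fst.base (s'.base gp) = g.base (h.base gp) := congrArg (fun φ => φ.base gp) hs'g
  have hD0 : topologicalKrullDim ↥(connectedComponentIn (snd.base ⁻¹' {s₀}) (s'.base s₀)) =
      topologicalKrullDim ↥(connectedComponentIn (f.base ⁻¹' {h.base s₀}) (g.base (h.base s₀))) := by
    rw [← fibreDimAt_section_eq snd s' hs' s₀ hirr0,
      ← fibreDimAt_section_eq f g hg (h.base s₀) (hirrX _),
      fibreDimAt_eq_of_isPullback f h fst snd hsq (s'.base s₀), hfst0]
  have hD1 : topologicalKrullDim ↥(connectedComponentIn (snd.base ⁻¹' {gp}) (s'.base gp)) =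
      topologicalKrullDim ↥(connectedComponentIn (f.base ⁻¹' {h.base gp}) (g.base (h.base gp))) := by
    rw [← fibreDimAt_section_eq snd s' hs' gp hirr1,
      ← fibreDimAt_section_eq f g hg (h.base gp) (hirrX _),
      fibreDimAt_eq_of_isPullback f h fst snd hsq (s'.base gp), hfst1]
  rw [← hD0, ← hD1]
  -- generic points
  obtain ⟨τ, hτs, hτC, hτsp, hτgen, hτdim⟩ := exists_generic_sectionComponent snd s' hs' s₀ hirr0
  obtain ⟨ξ, hξy, hξC, hξsp, hξgen, hξdim⟩ :=
    exists_generic_sectionComponent f g hg (h.base s₀) (hirrX _)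
  obtain ⟨σ, hσs, hσC, hσsp, hσgen, hσdim⟩ := exists_generic_sectionComponent snd s' hs' gp hirr1
  have hmemX : ∀ p : ↥(pullback f h), snd.base p = s₀ →
      (p ∈ connectedComponentIn (snd.base ⁻¹' {s₀}) (s'.base s₀) ↔
        fst.base p ∈ connectedComponentIn (f.base ⁻¹' {h.base s₀}) (g.base (h.base s₀))) := by
    intro p hp
    have h1 := mem_connectedComponentIn_fibre_baseChange f g hg snd fst h hsq s' hs' hs'g p
    have h2 : f.base (fst.base p) = h.base s₀ := by
      have := congrArg (fun φ => φ.base p) hsq.w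
      simp only [Scheme.Hom.comp_base, TopCat.hom_comp, ContinuousMap.comp_apply] at this
      rw [this, hp]
    rw [hp] at h1
    rw [h2] at h1
    exact h1
  have hτξ : fst.base τ = ξ := by
    have h3 : fst.base τ ∈ connectedComponentIn (f.base ⁻¹' {h.base s₀}) (g.base (h.base s₀)) :=
      (hmemX τ hτs).1 hτC
    have h3y : f.base (fst.base τ) = h.base s₀ :=
      connectedComponentIn_subset (f.base ⁻¹' {h.base s₀}) (g.base (h.base s₀)) h3
    by_contra hne'
    have h1 := resTrdegNat_lt_of_specializes_fiber f (fst.base τ) ξ (hξsp _ h3)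
      (hξy.trans h3y.symm) (Ne.symm hne')
    have h2 := resTrdegNat_le_of_isPullback f h fst snd hsq τ
    have h4 : resTrdegNat snd τ = resTrdegNat f ξ := by
      rw [hτdim, hξdim] at hD0
      exact_mod_cast hD0
    omega
  have hopenτ : EGA43.IsUnivOpenAt snd τ := by
    refine Groth.Agent.Lib.Helper80.UnivOpenAt.isUnivOpenAt_of_isPullback (hopen ξ hξC ?_) hsq τ hτξ
    intro x hx
    exact specializes_iff_mem_closure.mp (hξsp x hx)
  have hmaxτ : ∀ x' : ↥(pullback f h), snd.base x' = snd.base τ → τ ∈ closure {x'} → x' = τ := by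
    intro x' hx' hcl
    have h1 : x' ⤳ τ := specializes_iff_mem_closure.mpr hcl
    have h2 : x' ∈ connectedComponentIn (snd.base ⁻¹' {s₀}) (s'.base s₀) :=
      hτgen x' (hx'.trans hτs) τ hτC h1
    exact (h1.antisymm (hτsp x' h2)).eq
  have hb' : ∀ U : (pullback f h).Opens, τ ∈ U → ∀ z : ↥(Spec (CommRingCat.of A)),
      z ⤳ snd.base τ →
      FlatMor.fibreDimAt snd τ ≤ topologicalKrullDim ↥((U : Set ↥(pullback f h)) ∩ snd.base ⁻¹' {z}) :=
    fun U hU z hz =>
      UnivOpenDim.fibreDimAt_le_dim_inter_fibre_of_isUnivOpenAt snd τ hmaxτ hopenτ U hU z hz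
  have hgpcl : closure ({gp} : Set ↥(Spec (CommRingCat.of A))) = Set.univ :=
    Set.eq_univ_of_forall fun z => specializes_iff_mem_closure.mp (hgpall z)
  have huniv : (Set.univ : Set ↥(Spec (CommRingCat.of A))) ∈
      irreducibleComponents ↥(Spec (CommRingCat.of A)) := by
    have hirru : IsIrreducible (Set.univ : Set ↥(Spec (CommRingCat.of A))) :=
      hgpcl ▸ isIrreducible_singleton.closure
    exact ⟨hirru, fun t _ _ => Set.subset_univ t⟩
  obtain ⟨Z, hZ, hτZ, hZdom, hZdim⟩ :=
    UnivOpenDim.exists_component_of_dim_bound snd τ hmaxτ hb' Set.univ huniv (Set.mem_univ _)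
  obtain ⟨hd1, hd2⟩ := hZdim gp hgpcl
  have hZcl : IsClosed Z := isClosed_of_mem_irreducibleComponents Z hZ
  obtain ⟨ζ, hζ⟩ := QuasiSober.sober hZ.1 hZcl
  have hζcl : closure ({ζ} : Set ↥(pullback f h)) = Z := hζ.def
  have hζτ : ζ ⤳ τ := specializes_iff_mem_closure.mpr (hζcl ▸ hτZ)
  have hζgp : snd.base ζ = gp := by
    have h1 : gp ∈ closure {snd.base ζ} := by
      have : closure (snd.base '' Z) ⊆ closure {snd.base ζ} := by
        rw [← hζcl]
        apply closure_minimal _ isClosed_closure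
        calc snd.base '' closure {ζ} ⊆ closure (snd.base '' {ζ}) :=
              image_closure_subset_closure_image snd.continuous
          _ = closure {snd.base ζ} := by rw [Set.image_singleton]
      exact this (hZdom ▸ Set.mem_univ gp)
    have h2 : snd.base ζ ⤳ gp := specializes_iff_mem_closure.mpr h1
    exact (h2.antisymm (hgpall _)).eq
  -- the key specialization
  have hsnd0 : snd.base (s'.base s₀) = s₀ := apply_section snd s' hs' s₀
  haveI : IsLocallyNoetherian (Spec (CommRingCat.of A)) := inferInstance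
  haveI : IsLocallyNoetherian (pullback f h) := LocallyOfFiniteType.isLocallyNoetherian snd
  haveI : IsNoetherianRing ((pullback f h).presheaf.stalk (s'.base s₀)) := inferInstance
  obtain ⟨t, ht⟩ := StalkPrime.exists_fibIdeal_eq_span snd (s'.base s₀) hsnd0
  have hredst : _root_.IsReduced ((snd.fiber (snd.base (s'.base s₀))).presheaf.stalk
      (snd.asFiber (s'.base s₀))) :=
    FibreRed.isReduced_stalk_fiber_of_isPullback f h fst snd hsq (s'.base s₀)
      (f.base (g.base (h.base s₀))) (by rw [hsnd0, apply_section f g hg])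
      (f.asFiber (g.base (h.base s₀))) (by rw [hfst0]; exact f.fiberι_asFiber _) hα
  have hrad := FibreRed.isRadical_fibIdeal_of_isReduced snd (s'.base s₀) hredst
  have hζs : ζ ⤳ s'.base gp :=
    StalkPrime.specializes_of_reduced_fibre snd (s'.base s₀) t ht hrad τ
      (hτsp _ (mem_sectionComponent snd s' hs' s₀)) (hτs.trans hsnd0.symm)
      (fun w hw hsw => hτsp w (mem_connectedComponentIn_of_specializes (F := snd.base ⁻¹' {s₀})
        (s'.base s₀) w (s'.base s₀) (hsw.trans hsnd0) (mem_sectionComponent snd s' hs' s₀) hw))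
      ζ hζτ (by rw [hζgp, hsnd0]; exact hne) (s'.base gp) (hgps.map s'.continuous)
  have hsnd1 : snd.base (s'.base gp) = gp := apply_section snd s' hs' gp
  have hζC : ζ ∈ connectedComponentIn (snd.base ⁻¹' {gp}) (s'.base gp) :=
    mem_connectedComponentIn_of_specializes (F := snd.base ⁻¹' {gp}) (s'.base gp) ζ (s'.base gp)
      hζgp (mem_sectionComponent snd s' hs' gp) hζs
  have hσζ : σ ⤳ ζ := hσsp ζ hζC
  have h5 : resTrdegNat snd ζ ≤ resTrdegNat snd σ :=
    resTrdegNat_le_of_specializes_fiber snd ζ σ hσζ (hσs.trans hζgp.symm)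
  have h6 : topologicalKrullDim ↥(Z ∩ snd.base ⁻¹' {gp}) ≤
      ((resTrdegNat snd ζ : ℕ∞) : WithBot ℕ∞) := by
    have h := UnivOpenDim.dim_fibre_inter_eq_iSup snd gp Set.univ Z isOpen_univ hZcl
    rw [Set.univ_inter, Set.inter_comm] at h
    rw [h]
    refine iSup_le fun z => ?_
    have hz : ζ ⤳ z.1.1 := specializes_iff_mem_closure.mpr (hζcl ▸ z.2.2)
    have h7 := resTrdegNat_le_of_specializes_fiber snd z.1.1 ζ hz (hζgp.trans z.1.2.symm)
    exact_mod_cast h7
  have hmax' : ∀ t : ↥(pullback f h), t ⤳ τ → snd.base t = snd.base τ → t = τ := fun t ht hft =>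
    hmaxτ t hft (specializes_iff_mem_closure.mp ht)
  have h8 : FlatMor.fibreDimAt snd τ = ((resTrdegNat snd τ : ℕ) : WithBot ℕ∞) :=
    GenericFibreDim.fibreDimAt_eq_resTrdegNat_of_maximal snd τ hmax'
  rw [hτdim, hσdim]
  have h9 : ((resTrdegNat snd τ : ℕ) : WithBot ℕ∞) ≤ ((resTrdegNat snd ζ : ℕ∞) : WithBot ℕ∞) := by
    rw [← h8, hd1, hd2]
    exact h6
  have h10 : resTrdegNat snd τ ≤ resTrdegNat snd ζ := by exact_mod_cast h9
  exact_mod_cast h10.trans h5

/-- A DVR through a proper specialization, with its generic point. -/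
theorem exists_dvr {Y : Scheme.{u}} [IsLocallyNoetherian Y] (y₀ y' : Y) (hsp : y' ⤳ y₀)
    (hne : y₀ ≠ y') :
    ∃ (A : Type u) (_ : CommRing A) (_ : IsDomain A) (_ : IsDiscreteValuationRing A)
      (h : Spec (CommRingCat.of A) ⟶ Y), h.base (IsLocalRing.closedPoint A) = y₀ ∧
        h.base (⟨⊥, Ideal.isPrime_bot⟩ : PrimeSpectrum A) = y' := by
  obtain ⟨A, h, hA, hcl, hgen⟩ :=
    Groth.Agent.Lib.Helper50.exists_dvr_through_specialization (𝟙 Y) y' y₀ hsp hne
  let pt : ↥(Spec (Y.residueField y')) :=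
    (show PrimeSpectrum (Y.residueField y') from IsLocalRing.closedPoint _)
  refine ⟨A, inferInstance, inferInstance, hA, h, hcl, ?_⟩
  have hη : (Spec.map (CommRingCat.ofHom A.subtype)).base pt =
      (⟨⊥, Ideal.isPrime_bot⟩ : PrimeSpectrum A) := by
    apply PrimeSpectrum.ext
    show Ideal.comap A.subtype (show PrimeSpectrum (Y.residueField y') from pt).asIdeal = ⊥
    rw [Ideal.eq_bot_of_prime (show PrimeSpectrum (Y.residueField y') from pt).asIdeal]
    ext r
    rw [Ideal.mem_bot, Ideal.mem_comap, Ideal.mem_bot]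
    constructor
    · intro hr
      exact Subtype.ext hr
    · rintro rfl
      exact map_zero _
  rw [← hη, ← Scheme.Hom.comp_apply, hgen, Category.comp_id]
  exact Scheme.fromSpecResidueField_apply y' _

/-- the dimension of the section component can only go up under specialization. -/
theorem dim_sectionComponent_le_of_specializes {X Y : Scheme.{u}} (f : X ⟶ Y)
    [LocallyOfFiniteType f] (g : Y ⟶ X) (hg : g ≫ f = 𝟙 Y)
    (hirrX : ∀ y : Y, IsIrreducible (connectedComponentIn (f.base ⁻¹' {y}) (g.base y)))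
    (y' z : Y) (h : y' ⤳ z) :
    topologicalKrullDim ↥(connectedComponentIn (f.base ⁻¹' {y'}) (g.base y')) ≤
      topologicalKrullDim ↥(connectedComponentIn (f.base ⁻¹' {z}) (g.base z)) := by
  have husc := upperSemicontinuous_dim_sectionComponent f g hg hirrX
  obtain ⟨ξ, -, -, -, -, hdim⟩ := exists_generic_sectionComponent f g hg z (hirrX z)
  obtain ⟨ξ', -, -, -, -, hdim'⟩ := exists_generic_sectionComponent f g hg y' (hirrX y')
  have hc : topologicalKrullDim ↥(connectedComponentIn (f.base ⁻¹' {z}) (g.base z)) <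
      ((resTrdegNat f ξ + 1 : ℕ) : WithBot ℕ∞) := by
    rw [hdim]; exact_mod_cast Nat.lt_succ_self _
  have h1 : topologicalKrullDim ↥(connectedComponentIn (f.base ⁻¹' {y'}) (g.base y')) <
      ((resTrdegNat f ξ + 1 : ℕ) : WithBot ℕ∞) := ((husc z _ hc).filter_mono h).self_of_nhds
  rw [hdim'] at h1
  rw [hdim, hdim']
  have h2 : resTrdegNat f ξ' < resTrdegNat f ξ + 1 := by exact_mod_cast h1
  exact_mod_cast Nat.lt_succ_iff.mp h2

/-- (K): the dimension of the section component at a maximal generization of `y₀`. -/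
theorem dim_le_of_maximal {X Y : Scheme.{u}} [IsLocallyNoetherian Y] (f : X ⟶ Y)
    [LocallyOfFiniteType f] (g : Y ⟶ X) (hg : g ≫ f = 𝟙 Y)
    (hgi : ∀ (y : Y) (K : Type u) [Field K]
      [Algebra (IsLocalRing.ResidueField (Y.presheaf.stalk y)) K],
      IsIrreducible ((FBase.bcπ (f.fiberToSpecResidueField y) K ≫ f.fiberι y).base ⁻¹'
        (connectedComponentIn (f.base ⁻¹' {y}) (g.base y))))
    (y₀ : Y)
    (hopen : ∀ ξ ∈ connectedComponentIn (f.base ⁻¹' {y₀}) (g.base y₀),
      connectedComponentIn (f.base ⁻¹' {y₀}) (g.base y₀) ⊆ closure {ξ} → EGA43.IsUnivOpenAt f ξ)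
    (hαβ : FBase.IsGeomReducedAt (f.fiberToSpecResidueField (f.base (g.base y₀)))
        (f.asFiber (g.base y₀)) ∨
      (∀ y' : Y, y₀ ∈ closure {y'} → closure {y'} ∈ irreducibleComponents (Y : Type u) →
        topologicalKrullDim ↥(f.fiber y') =
          topologicalKrullDim ↥(connectedComponentIn (f.base ⁻¹' {y'}) (g.base y'))))
    (y' : Y) (hy' : y' ⤳ y₀) (hmax : closure {y'} ∈ irreducibleComponents (Y : Type u)) :
    topologicalKrullDim ↥(connectedComponentIn (f.base ⁻¹' {y₀}) (g.base y₀)) ≤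
      topologicalKrullDim ↥(connectedComponentIn (f.base ⁻¹' {y'}) (g.base y')) := by
  have hirrX : ∀ y, IsIrreducible (connectedComponentIn (f.base ⁻¹' {y}) (g.base y)) := fun y =>
    isIrreducible_of_geom f y _ (connectedComponentIn_subset _ _) (hgi y _)
  rcases hαβ with hα | hβ
  · by_cases e : y₀ = y'
    · subst e; exact le_rfl
    · obtain ⟨A, _, _, _, h, hcl, hgen⟩ := exists_dvr y₀ y' hy' e
      exact dim_le_of_dvr f g hg hgi h y₀ y' hcl hgen hopen hα
  · obtain ⟨ξ, hξy, hξC, hξsp, hξgen, hξdim⟩ :=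
      exists_generic_sectionComponent f g hg y₀ (hirrX y₀)
    have hmaxξ : ∀ x' : X, f.base x' = f.base ξ → ξ ∈ closure {x'} → x' = ξ := by
      intro x' hx' hcl
      have h1 : x' ⤳ ξ := specializes_iff_mem_closure.mpr hcl
      have h2 : x' ∈ connectedComponentIn (f.base ⁻¹' {y₀}) (g.base y₀) :=
        hξgen x' (hx'.trans hξy) ξ hξC h1
      exact (h1.antisymm (hξsp x' h2)).eq
    have hopenξ := hopen ξ hξC (fun x hx => specializes_iff_mem_closure.mp (hξsp x hx))
    have h1 := UnivOpenDim.fibreDimAt_le_dim_inter_fibre_of_isUnivOpenAt f ξ hmaxξ hopenξ ⊤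
      trivial y' (hξy ▸ hy')
    have hmax' : ∀ t : X, t ⤳ ξ → f.base t = f.base ξ → t = ξ := fun t ht hft =>
      hmaxξ t hft (specializes_iff_mem_closure.mp ht)
    have h2 : FlatMor.fibreDimAt f ξ = ((resTrdegNat f ξ : ℕ) : WithBot ℕ∞) :=
      GenericFibreDim.fibreDimAt_eq_resTrdegNat_of_maximal f ξ hmax'
    have h3 : topologicalKrullDim ↥(((⊤ : X.Opens) : Set X) ∩ f.base ⁻¹' {y'}) =
        topologicalKrullDim ↥(f.fiber y') := by
      rw [TopologicalSpace.Opens.coe_top, Set.univ_inter]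
      exact (IsHomeomorph.topologicalKrullDim_eq _ (f.fiberHomeo y').isHomeomorph).symm
    rw [hξdim, ← hβ y' (specializes_iff_mem_closure.mp hy') hmax, ← h3]
    rw [h2] at h1
    exact_mod_cast h1

/-- EGA IV 15.6.7 (locally Noetherian form). -/
theorem dim_sectionComponent_const {X Y : Scheme.{u}} [IsLocallyNoetherian Y] (f : X ⟶ Y)
    [LocallyOfFiniteType f] (g : Y ⟶ X) (hg : g ≫ f = 𝟙 Y)
    (hgi : ∀ (y : Y) (K : Type u) [Field K]
      [Algebra (IsLocalRing.ResidueField (Y.presheaf.stalk y)) K],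
      IsIrreducible ((FBase.bcπ (f.fiberToSpecResidueField y) K ≫ f.fiberι y).base ⁻¹'
        (connectedComponentIn (f.base ⁻¹' {y}) (g.base y))))
    (y₀ : Y)
    (hopen : ∀ ξ ∈ connectedComponentIn (f.base ⁻¹' {y₀}) (g.base y₀),
      connectedComponentIn (f.base ⁻¹' {y₀}) (g.base y₀) ⊆ closure {ξ} → EGA43.IsUnivOpenAt f ξ)
    (hαβ : FBase.IsGeomReducedAt (f.fiberToSpecResidueField (f.base (g.base y₀)))
        (f.asFiber (g.base y₀)) ∨
      (∀ y' : Y, y₀ ∈ closure {y'} → closure {y'} ∈ irreducibleComponents (Y : Type u) →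
        topologicalKrullDim ↥(f.fiber y') =
          topologicalKrullDim ↥(connectedComponentIn (f.base ⁻¹' {y'}) (g.base y')))) :
    ∃ V ∈ nhds y₀, ∀ z ∈ V,
      topologicalKrullDim ↥(connectedComponentIn (f.base ⁻¹' {z}) (g.base z)) =
        topologicalKrullDim ↥(connectedComponentIn (f.base ⁻¹' {y₀}) (g.base y₀)) := by
  have hirrX : ∀ y, IsIrreducible (connectedComponentIn (f.base ⁻¹' {y}) (g.base y)) := fun y =>
    isIrreducible_of_geom f y _ (connectedComponentIn_subset _ _) (hgi y _)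
  have husc := upperSemicontinuous_dim_sectionComponent f g hg hirrX
  obtain ⟨V₂, hy₀V₂, hV₂⟩ := Groth.Agent.Lib.Helper51.exists_open_forall_maximal_specializes y₀
  obtain ⟨ξ, -, -, -, -, hdim⟩ := exists_generic_sectionComponent f g hg y₀ (hirrX y₀)
  have hc : topologicalKrullDim ↥(connectedComponentIn (f.base ⁻¹' {y₀}) (g.base y₀)) <
      ((resTrdegNat f ξ + 1 : ℕ) : WithBot ℕ∞) := by
    rw [hdim]; exact_mod_cast Nat.lt_succ_self _
  have hV₁ := husc y₀ _ hc
  refine ⟨_, Filter.inter_mem hV₁ (V₂.isOpen.mem_nhds hy₀V₂), ?_⟩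
  rintro z ⟨hz1, hz2⟩
  apply le_antisymm
  · obtain ⟨ξz, -, -, -, -, hdimz⟩ := exists_generic_sectionComponent f g hg z (hirrX z)
    have h1 : topologicalKrullDim ↥(connectedComponentIn (f.base ⁻¹' {z}) (g.base z)) <
      ((resTrdegNat f ξ + 1 : ℕ) : WithBot ℕ∞) := hz1
    rw [hdimz] at h1
    rw [hdim, hdimz]
    have h2 : resTrdegNat f ξz < resTrdegNat f ξ + 1 := by exact_mod_cast h1
    exact_mod_cast Nat.lt_succ_iff.mp h2
  · obtain ⟨y', hy'z, hmax⟩ :=
      Groth.Agent.Lib.Helper51.exists_specializes_closure_mem_irreducibleComponents z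
    have hy'y₀ : y' ⤳ y₀ := hV₂ z hz2 y' hmax hy'z
    exact (dim_le_of_maximal f g hg hgi y₀ hopen hαβ y' hy'y₀ hmax).trans
      (dim_sectionComponent_le_of_specializes f g hg hirrX y' z hy'z)

end Groth.Agent.Lib.Helper22.SecCompDimConst
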