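import Groth.Agent.Lib.Helper22.SecCompDimConst

/-!
# EGA IV 15.6.8 (helper22): `dim X⁰_y` locally constant iff `f` universally open on `X⁰`
-/

set_option autoImplicit false
set_option linter.style.haveILetI false
open CategoryTheory AlgebraicGeometry TopologicalSpace Topology Limits
universe u

namespace Groth.Agent.Lib.Helper22.SecCompDimConstIff

open Groth.Agent.Lib.Helper73 Groth.Agent.Lib.Helper19 Groth.Agent.Lib.Helper22.SecComp
open Groth.Agent.Lib.Helper22 Groth.Agent.Lib.Helper22.SecCompDimConst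

set_option backward.isDefEq.respectTransparency false in
theorem core {X Y : Scheme.{u}}
    [IsLocallyNoetherian Y] (f : X ⟶ Y) [LocallyOfFiniteType f] (g : Y ⟶ X) (hg : g ≫ f = 𝟙 Y)
    (hint : ∀ y : Y, (∀ (K : Type u) [Field K] [Algebra (IsLocalRing.ResidueField (Y.presheaf.stalk y)) K],
        IsIrreducible ((FBase.bcπ (f.fiberToSpecResidueField y) K ≫ f.fiberι y).base ⁻¹' connectedComponentIn (f.base ⁻¹' {y}) (g.base y)) ∧
        ∀ x' : ↥(FBase.bc (f.fiberToSpecResidueField y) K),
          (FBase.bcπ (f.fiberToSpecResidueField y) K ≫ f.fiberι y).base x' ∈ connectedComponentIn (f.base ⁻¹' {y}) (g.base y) →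
          _root_.IsReduced ((FBase.bc (f.fiberToSpecResidueField y) K).presheaf.stalk x')))
    (h3420 : ∀ y : Y, (∀ x ∈ connectedComponentIn (f.base ⁻¹' {y}) (g.base y), EGA43.IsUnivOpenAt f x ∧
        FBase.IsGeomReducedAt (f.fiberToSpecResidueField (f.base x)) (f.asFiber x)) →
      connectedComponentIn (f.base ⁻¹' {y}) (g.base y) ⊆ interior (MoreMor.sectionComponents f g)) :
    (IsLocallyConstant (fun y : Y => topologicalKrullDim ↥(connectedComponentIn (f.base ⁻¹' {y}) (g.base y))) ↔ ∀ x ∈ MoreMor.sectionComponents f g, EGA43.IsUnivOpenAt f x) ∧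
      (IsLocallyConstant (fun y : Y => topologicalKrullDim ↥(connectedComponentIn (f.base ⁻¹' {y}) (g.base y))) → IsOpen (MoreMor.sectionComponents f g)) := by
  have hgi : ∀ (y : Y) (K : Type u) [Field K]
      [Algebra (IsLocalRing.ResidueField (Y.presheaf.stalk y)) K],
      IsIrreducible ((FBase.bcπ (f.fiberToSpecResidueField y) K ≫ f.fiberι y).base ⁻¹'
        (connectedComponentIn (f.base ⁻¹' {y}) (g.base y))) := fun y K _ _ => (hint y K).1
  have hgr : ∀ x ∈ MoreMor.sectionComponents f g,
      FBase.IsGeomReducedAt (f.fiberToSpecResidueField (f.base x)) (f.asFiber x) := by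
    intro x hx K _ _ x' hx'
    refine (hint (f.base x) K).2 x' ?_
    have : (FBase.bcπ (f.fiberToSpecResidueField (f.base x)) K ≫ f.fiberι (f.base x)).base x' = x := by
      rw [Scheme.Hom.comp_apply, hx']
      exact f.fiberι_asFiber x
    rw [this]; exact hx
  have hconst_iff : IsLocallyConstant (fun y : Y => topologicalKrullDim ↥(connectedComponentIn (f.base ⁻¹' {y}) (g.base y))) ↔
      ∀ y : Y, ∃ V ∈ nhds y, ∀ z ∈ V,
        topologicalKrullDim ↥(connectedComponentIn (f.base ⁻¹' {z}) (g.base z)) =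
          topologicalKrullDim ↥(connectedComponentIn (f.base ⁻¹' {y}) (g.base y)) := by
    rw [IsLocallyConstant.iff_eventually_eq]
    exact forall_congr' fun y => Filter.eventually_iff_exists_mem
  have h1 : IsLocallyConstant (fun y : Y => topologicalKrullDim ↥(connectedComponentIn (f.base ⁻¹' {y}) (g.base y))) →
      ∀ x ∈ MoreMor.sectionComponents f g, EGA43.IsUnivOpenAt f x := by
    intro hd x hx
    exact isUnivOpenAt_of_const_dim f g hg hgi (f.base x) (hconst_iff.1 hd (f.base x)) x hx
  have h2 : (∀ x ∈ MoreMor.sectionComponents f g, EGA43.IsUnivOpenAt f x) →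
      IsLocallyConstant (fun y : Y => topologicalKrullDim ↥(connectedComponentIn (f.base ⁻¹' {y}) (g.base y))) := by
    intro hu
    rw [hconst_iff]
    intro y₀
    refine dim_sectionComponent_const f g hg hgi y₀ ?_ (Or.inl ?_)
    · intro ξ hξ _
      apply hu
      have hξy : f.base ξ = y₀ := connectedComponentIn_subset (f.base ⁻¹' {y₀}) (g.base y₀) hξ
      show ξ ∈ connectedComponentIn (f.base ⁻¹' {f.base ξ}) (g.base (f.base ξ))
      rw [hξy]; exact hξ
    · apply hgr
      show g.base y₀ ∈ connectedComponentIn (f.base ⁻¹' {f.base (g.base y₀)})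
        (g.base (f.base (g.base y₀)))
      rw [apply_section f g hg y₀]; exact mem_sectionComponent f g hg y₀
  refine ⟨⟨h1, h2⟩, ?_⟩
  intro hd
  have hu := h1 hd
  rw [← subset_interior_iff_isOpen]
  intro x hx
  refine h3420 (f.base x) ?_ hx
  intro x₁ hx₁
  have hx₁y : f.base x₁ = f.base x :=
    connectedComponentIn_subset (f.base ⁻¹' {f.base x}) (g.base (f.base x)) hx₁
  have hx₁S : x₁ ∈ MoreMor.sectionComponents f g := by
    show x₁ ∈ connectedComponentIn (f.base ⁻¹' {f.base x₁}) (g.base (f.base x₁))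
    rw [hx₁y]; exact hx₁
  exact ⟨hu x₁ hx₁S, hgr x₁ hx₁S⟩

end Groth.Agent.Lib.Helper22.SecCompDimConstIff
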