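import Groth.Agent.Lib.Helper22.SectionComp

/-!
# Section components of fibres, II (EGA IV 15.6.6-type statement S4952) (helper22)

* `mem_connectedComponentIn_of_specializes`, `le_dim_connectedComponentIn`,
  `exists_generic_of_maximal_irreducible`, `sectionComponent_generization` (S4952).
-/

set_option autoImplicit false
set_option linter.style.haveILetI false
open CategoryTheory AlgebraicGeometry TopologicalSpace Topology Limits
universe u

namespace Groth.Agent.Lib.Helper22.SecComp

open Groth.Agent.Lib.Helper73 Groth.Agent.Lib.Helper72.FibDim Groth.Agent.Lib.Helper72.FibDimIrr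

section Top

variable {T : Type*} [TopologicalSpace T] (F : Set T)

/-- Connected components of a subspace are stable under generization within the subspace. -/
theorem mem_connectedComponentIn_of_specializes (x₀ : T) (t x : T) (ht : t ∈ F)
    (hx : x ∈ connectedComponentIn F x₀) (htx : t ⤳ x) : t ∈ connectedComponentIn F x₀ := by
  have hx₀ : x₀ ∈ F := by
    by_contra h
    rw [connectedComponentIn_eq_empty h] at hx
    exact hx
  rw [connectedComponentIn_eq_image hx₀] at hx ⊢
  obtain ⟨k, hk, rfl⟩ := hx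
  refine ⟨⟨t, ht⟩, ?_, rfl⟩
  have h1 : (⟨t, ht⟩ : ↥F) ⤳ k := IsInducing.subtypeVal.specializes_iff.mp htx
  have h2 : IsPreconnected (closure ({(⟨t, ht⟩ : ↥F)} : Set ↥F)) :=
    isIrreducible_singleton.closure.isConnected.isPreconnected
  have h3 := h2.subset_connectedComponent (specializes_iff_mem_closure.mp h1)
  rw [← connectedComponent_eq hk] at h3
  exact h3 (subset_closure rfl)

variable [QuasiSober ↥F] {δ : ↥F → ℕ} (hδ : IsDimFun δ)

include hδ in
/-- The dimension function is bounded by the dimension of the connected component. -/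
theorem le_dim_connectedComponentIn (x₀ : T) (t : T) (ht : t ∈ F)
    (htC : t ∈ connectedComponentIn F x₀) :
    ((δ ⟨t, ht⟩ : ℕ∞) : WithBot ℕ∞) ≤ topologicalKrullDim ↥(connectedComponentIn F x₀) := by
  have hx₀ : x₀ ∈ F := by
    by_contra h
    rw [connectedComponentIn_eq_empty h] at htC
    exact htC
  have hC := connectedComponentIn_eq_image hx₀
  have htK : (⟨t, ht⟩ : ↥F) ∈ connectedComponent (⟨x₀, hx₀⟩ : ↥F) := by
    rw [hC] at htC
    obtain ⟨k, hk, hkt⟩ := htC
    have : k = ⟨t, ht⟩ := Subtype.ext hkt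
    rwa [← this]
  rw [hC, dim_image_eq _ IsEmbedding.subtypeVal,
    hδ.topologicalKrullDim_closed_eq_iSup isClosed_connectedComponent]
  exact le_iSup (fun s : ↥(connectedComponent (⟨x₀, hx₀⟩ : ↥F)) => ((δ s.1 : ℕ∞) : WithBot ℕ∞))
    ⟨⟨t, ht⟩, htK⟩

include hδ in
/-- A maximal irreducible subset of the subspace has a generic point computing its dimension. -/
theorem exists_generic_of_maximal_irreducible (Z : Set T) (hZF : Z ⊆ F) (hZi : IsIrreducible Z)
    (hZmax : ∀ Z' : Set T, IsIrreducible Z' → Z' ⊆ F → Z ⊆ Z' → Z' = Z) :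
    ∃ (ω : T) (hω : ω ∈ F), ω ∈ Z ∧ (∀ z ∈ Z, ω ⤳ z) ∧
      topologicalKrullDim ↥Z = ((δ ⟨ω, hω⟩ : ℕ∞) : WithBot ℕ∞) := by
  set Z₀ : Set ↥F := (Subtype.val : ↥F → T) ⁻¹' Z with hZ₀
  have hZimg : (Subtype.val : ↥F → T) '' Z₀ = Z := by
    rw [hZ₀, Subtype.image_preimage_coe, Set.inter_eq_right.mpr hZF]
  have hZ₀i : IsIrreducible Z₀ := by
    obtain ⟨z, hz⟩ := hZi.1
    exact ⟨⟨⟨z, hZF hz⟩, hz⟩,
      Groth.Agent.Lib.Helper84.isPreirreducible_preimage_val F Z hZi.2 hZF⟩
  have hZ₀c : IsClosed Z₀ := by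
    rw [← closure_subset_iff_isClosed]
    have h1 : IsIrreducible ((Subtype.val : ↥F → T) '' closure Z₀) :=
      hZ₀i.closure.image _ continuous_subtype_val.continuousOn
    have h2 := hZmax _ h1 (by rintro _ ⟨k, -, rfl⟩; exact k.2)
      (by rw [← hZimg]; exact Set.image_mono subset_closure)
    intro k hk
    have : k.1 ∈ Z := by rw [← h2]; exact ⟨k, hk, rfl⟩
    exact this
  obtain ⟨ω', hω'⟩ := QuasiSober.sober hZ₀i hZ₀c
  have hω'Z : closure {ω'} = Z₀ := hω'.def
  refine ⟨ω'.1, ω'.2, ?_, ?_, ?_⟩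
  · have : ω' ∈ Z₀ := by rw [← hω'Z]; exact subset_closure rfl
    exact this
  · intro z hz
    have : (⟨z, hZF hz⟩ : ↥F) ∈ closure {ω'} := by rw [hω'Z]; exact hz
    exact (specializes_iff_mem_closure.mpr this : ω' ⤳ ⟨z, hZF hz⟩).map continuous_subtype_val
  · rw [← hZimg, dim_image_eq _ IsEmbedding.subtypeVal, ← hω'Z]
    exact hδ.topologicalKrullDim_closure_singleton ω'

end Top

section Scheme

variable {X Y : Scheme.{u}} (f : X ⟶ Y) [LocallyOfFiniteType f] (g : Y ⟶ X)

theorem sectionComponent_generization (hg : g ≫ f = 𝟙 Y) (y y' : Y) (hy : y' ⤳ y)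
    (hZ : ∃ Z : Set X, Z ⊆ f.base ⁻¹' {y'} ∧ IsIrreducible Z ∧
      (∀ Z' : Set X, IsIrreducible Z' → Z' ⊆ f.base ⁻¹' {y'} → Z ⊆ Z' → Z' = Z) ∧ g.base y' ∈ Z ∧
      topologicalKrullDim ↥Z =
        topologicalKrullDim ↥(connectedComponentIn (f.base ⁻¹' {y'}) (g.base y'))) :
    topologicalKrullDim ↥(connectedComponentIn (f.base ⁻¹' {y'}) (g.base y')) ≤
        topologicalKrullDim ↥(connectedComponentIn (f.base ⁻¹' {y}) (g.base y)) ∧
      (IsIrreducible (connectedComponentIn (f.base ⁻¹' {y}) (g.base y)) →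
        topologicalKrullDim ↥(connectedComponentIn (f.base ⁻¹' {y}) (g.base y)) =
          topologicalKrullDim ↥(connectedComponentIn (f.base ⁻¹' {y'}) (g.base y')) →
        connectedComponentIn (f.base ⁻¹' {y}) (g.base y) ⊆
          closure (connectedComponentIn (f.base ⁻¹' {y'}) (g.base y'))) := by
  obtain ⟨Z, hZF, hZi, hZmax, hgZ, hZdim⟩ := hZ
  haveI := quasiSober_fibre f y'
  haveI := quasiSober_fibre f y
  obtain ⟨ω, hωF, hωZ, hωsp, hωdim⟩ := exists_generic_of_maximal_irreducible (f.base ⁻¹' {y'})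
    (isDimFun_fibre f y') Z hZF hZi hZmax
  have h1 : ω ⤳ g.base y := (hωsp _ hgZ).trans (hy.map g.continuous)
  obtain ⟨t, hωt, htgy, hft, hle⟩ := exists_generization_resTrdegNat_ge f ω (g.base y) h1
  have hgy : f.base (g.base y) = y := apply_section f g hg y
  have hty : f.base t = y := hft.trans hgy
  have htC : t ∈ connectedComponentIn (f.base ⁻¹' {y}) (g.base y) :=
    mem_connectedComponentIn_of_specializes _ _ t (g.base y) hty
      (mem_sectionComponent f g hg y) htgy
  have hdimt := le_dim_connectedComponentIn (f.base ⁻¹' {y}) (isDimFun_fibre f y) (g.base y) t hty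
    htC
  have hZsub : Z ⊆ connectedComponentIn (f.base ⁻¹' {y'}) (g.base y') :=
    hZi.isConnected.isPreconnected.subset_connectedComponentIn hgZ hZF
  have hkey : topologicalKrullDim ↥(connectedComponentIn (f.base ⁻¹' {y'}) (g.base y')) ≤
      ((resTrdegNat f t : ℕ∞) : WithBot ℕ∞) := by
    rw [← hZdim, hωdim]
    exact_mod_cast hle
  refine ⟨hkey.trans hdimt, fun hirr hdimeq => ?_⟩
  obtain ⟨ξ, hξy, hξC, hsp, hgen, hdim⟩ := exists_generic_sectionComponent f g hg y hirr
  have hξt : ξ ⤳ t := hsp t htC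
  have hle2 : resTrdegNat f ξ ≤ resTrdegNat f t := by
    rw [← hdimeq, hdim] at hkey
    exact_mod_cast hkey
  have htξ : t = ξ := by
    by_contra hne
    have := resTrdegNat_lt_of_specializes_fiber f t ξ hξt (hξy.trans hty.symm) (Ne.symm hne)
    omega
  subst htξ
  intro x hx
  have h2 : ω ⤳ x := hωt.trans (hsp x hx)
  exact closure_mono (Set.singleton_subset_iff.mpr (hZsub hωZ))
    (specializes_iff_mem_closure.mp h2)

end Scheme

end Groth.Agent.Lib.Helper22.SecComp
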