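import Groth.Agent.Lib.Helper22.SectionComp2
import Groth.Prelude.Def_FDesc

/-!
# Geometric irreducibility implies irreducibility (trivial extension) (helper22)

* `surjective_bcπ_self`, `isIrreducible_of_geom`: used to deduce S4954 from
  `upperSemicontinuous_dim_sectionComponent`.
-/

set_option autoImplicit false
set_option linter.style.haveILetI false
open CategoryTheory AlgebraicGeometry TopologicalSpace Topology Limits
universe u

namespace Groth.Agent.Lib.Helper22.SecComp

/-- The base change to the same field is surjective. -/
theorem surjective_bcπ_self {k : Type u} [Field k] {X : Scheme.{u}}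
    (p : X ⟶ Spec (CommRingCat.of k)) :
    Function.Surjective (FBase.bcπ p k).base := by
  have key : Set.range (pullback.fst p (Spec.map (CommRingCat.ofHom (algebraMap k k)))) =
      Set.univ := by
    rw [Scheme.Pullback.range_fst]
    have : Spec.map (CommRingCat.ofHom (algebraMap k k)) = 𝟙 _ := by
      rw [Algebra.algebraMap_self]
      exact Spec.map_id _
    rw [this]
    ext x
    simp
  intro x
  have hx : x ∈ Set.range (pullback.fst p (Spec.map (CommRingCat.ofHom (algebraMap k k)))) := by
    rw [key]; trivial
  obtain ⟨w, hw⟩ := hx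
  exact ⟨w, hw⟩

/-- Geometric irreducibility (tested on the trivial extension) gives irreducibility. -/
theorem isIrreducible_of_geom {X Y : Scheme.{u}} (f : X ⟶ Y) (y : Y) (C : Set X)
    (hC : C ⊆ f.base ⁻¹' {y})
    (h : IsIrreducible ((FBase.bcπ (k := IsLocalRing.ResidueField (Y.presheaf.stalk y))
      (f.fiberToSpecResidueField y)
      (IsLocalRing.ResidueField (Y.presheaf.stalk y)) ≫ f.fiberι y).base ⁻¹' C)) :
    IsIrreducible C := by
  have h1 := h.image _ (FBase.bcπ (k := IsLocalRing.ResidueField (Y.presheaf.stalk y))
      (f.fiberToSpecResidueField y)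
      (IsLocalRing.ResidueField (Y.presheaf.stalk y)) ≫ f.fiberι y).continuous.continuousOn
  rw [Set.image_preimage_eq_of_subset] at h1
  · exact h1
  · intro x hx
    have hx' : x ∈ Set.range (f.fiberι y) := by rw [f.range_fiberι]; exact hC hx
    obtain ⟨z, rfl⟩ := hx'
    obtain ⟨w, rfl⟩ := surjective_bcπ_self (k := IsLocalRing.ResidueField (Y.presheaf.stalk y))
      (f.fiberToSpecResidueField y) z
    exact ⟨w, rfl⟩

end Groth.Agent.Lib.Helper22.SecComp
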