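import Groth.Agent.Lib.Helper22.SectionComp3
import Groth.Agent.Lib.Helper41.UnivOpenDvr
import Groth.Agent.Lib.Helper19.GC.SectionComponents
import Groth.Agent.Lib.Helper72.FibDimIrr
import Groth.Agent.Lib.Helper73.DimFormula.ProductDim
import Groth.Agent.Lib.Helper73.DimFormula.EquidimAt

/-!
# Section components and universal openness (helper22)

* `isIrreducible_sectionComponent_of_isPullback`: geometric irreducibility of the section
  component `X⁰_y` gives irreducibility of the section component of any base change.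
* `isUnivOpenAt_of_const_dim` (S3458, EGA IV 15.6.6): `Y` locally Noetherian, `f` l.f.t. with a
  section, all `X⁰_y` geometrically irreducible, `dim X⁰_z` constant near `y` ⟹ `f` universally
  open at every point of `X⁰_y` (via helper41's DVR criterion).
-/

set_option autoImplicit false
set_option linter.style.haveILetI false
open CategoryTheory AlgebraicGeometry TopologicalSpace Topology Limits
universe u

namespace Groth.Agent.Lib.Helper22.SecComp

open Groth.Agent.Lib.Helper73 Groth.Agent.Lib.Helper19

set_option backward.isDefEq.respectTransparency false in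
/-- Geometric irreducibility of the section component passes to base changes. -/
theorem isIrreducible_sectionComponent_of_isPullback {X Y P T : Scheme.{u}} (f : X ⟶ Y)
    (s : Y ⟶ X) (hs : s ≫ f = 𝟙 Y) (f' : P ⟶ T) (g' : P ⟶ X) (h : T ⟶ Y)
    (hsq : IsPullback g' f' f h) (s' : T ⟶ P) (hs' : s' ≫ f' = 𝟙 T) (hs'g : s' ≫ g' = h ≫ s)
    (t : T)
    (hgi : ∀ (K : Type u) [Field K]
      [Algebra (IsLocalRing.ResidueField (Y.presheaf.stalk (h.base t))) K],
      IsIrreducible ((FBase.bcπ (f.fiberToSpecResidueField (h.base t)) K ≫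
        f.fiberι (h.base t)).base ⁻¹'
          connectedComponentIn (f.base ⁻¹' {h.base t}) (s.base (h.base t)))) :
    IsIrreducible (connectedComponentIn (f'.base ⁻¹' {t}) (s'.base t)) := by
  letI alg : Algebra (IsLocalRing.ResidueField (Y.presheaf.stalk (h.base t)))
        (T.residueField t) := (h.residueFieldMap t).hom.toAlgebra
  have hirr := hgi (T.residueField t)
  have hP := isPullback_fiberToSpecResidueField_of_isPullback hsq t
  set Φ := fiberMapOfIsPullback f h g' f' hsq t with hΦ
  have hΦι : Φ ≫ f.fiberι (h.base t) = f'.fiberι t ≫ g' :=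
    fiberMapOfIsPullback_fiberι f h g' f' hsq t
  let e := hP.isoPullback
  have he : e.hom ≫ pullback.fst _ _ = Φ := hP.isoPullback_hom_fst
  -- the continuous map from the base change to `P`
  let ψ : ↥(FBase.bc (f.fiberToSpecResidueField (h.base t)) (T.residueField t)) → P :=
    fun w => (f'.fiberι t).base (e.inv.base w)
  have hψc : Continuous ψ := (f'.fiberι t).continuous.comp e.inv.continuous
  have hg'ψ : ∀ w, g'.base (ψ w) = (FBase.bcπ (f.fiberToSpecResidueField (h.base t))
      (T.residueField t) ≫ f.fiberι (h.base t)).base w := by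
    intro w
    have h1 : e.inv ≫ f'.fiberι t ≫ g' = FBase.bcπ (f.fiberToSpecResidueField (h.base t))
        (T.residueField t) ≫ f.fiberι (h.base t) := by
      rw [← hΦι, ← he]
      simp only [Category.assoc, Iso.inv_hom_id_assoc]
      rfl
    exact congrArg (fun φ => φ.base w) h1
  have hf'ψ : ∀ w, f'.base (ψ w) = t := by
    intro w
    have : ψ w ∈ Set.range (f'.fiberι t).base := ⟨_, rfl⟩
    rw [f'.range_fiberι] at this
    exact this
  have hfs : ∀ p : P, f'.base p = t → (p ∈ connectedComponentIn (f'.base ⁻¹' {t}) (s'.base t) ↔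
      g'.base p ∈ connectedComponentIn (f.base ⁻¹' {h.base t}) (s.base (h.base t))) := by
    intro p hp
    have h1 := mem_connectedComponentIn_fibre_baseChange f s hs f' g' h hsq s' hs' hs'g p
    have h2 : f.base (g'.base p) = h.base t := by
      have := congrArg (fun φ => φ.base p) hsq.w
      simp only [Scheme.Hom.comp_base, TopCat.hom_comp, ContinuousMap.comp_apply] at this
      rw [this, hp]
    rw [hp] at h1
    rw [h2] at h1
    exact h1
  have himg : ψ '' ((FBase.bcπ (f.fiberToSpecResidueField (h.base t)) (T.residueField t) ≫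
      f.fiberι (h.base t)).base ⁻¹'
        connectedComponentIn (f.base ⁻¹' {h.base t}) (s.base (h.base t))) =
      connectedComponentIn (f'.base ⁻¹' {t}) (s'.base t) := by
    ext p
    constructor
    · rintro ⟨w, hw, rfl⟩
      rw [hfs _ (hf'ψ w), hg'ψ w]
      exact hw
    · intro hp
      have hpt : f'.base p = t :=
        connectedComponentIn_subset (f'.base ⁻¹' {t}) (s'.base t) hp
      have hpr : p ∈ Set.range (f'.fiberι t).base := by rw [f'.range_fiberι]; exact hpt
      obtain ⟨z, rfl⟩ := hpr
      refine ⟨e.hom.base z, ?_, ?_⟩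
      · rw [Set.mem_preimage, ← hg'ψ]
        have : ψ (e.hom.base z) = (f'.fiberι t).base z := by
          change (f'.fiberι t).base (e.inv.base (e.hom.base z)) = _
          congr 1
          have := congrArg (fun φ => φ.base z) e.hom_inv_id
          simpa using this
        rw [this]
        exact (hfs _ hpt).1 hp
      · change (f'.fiberι t).base (e.inv.base (e.hom.base z)) = _
        congr 1
        have := congrArg (fun φ => φ.base z) e.hom_inv_id
        simpa using this
  rw [← himg]
  exact hirr.image ψ hψc.continuousOn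


/-- EGA IV 15.6.6 (one direction): if the section components are geometrically irreducible and
their dimension is constant near `y`, then `f` is universally open at every point of `X⁰_y`. -/
theorem isUnivOpenAt_of_const_dim {X Y : Scheme.{u}} [IsLocallyNoetherian Y]
    (f : X ⟶ Y) [LocallyOfFiniteType f] (g : Y ⟶ X) (hg : g ≫ f = 𝟙 Y)
    (hgi : ∀ (y : Y) (K : Type u) [Field K]
      [Algebra (IsLocalRing.ResidueField (Y.presheaf.stalk y)) K],
      IsIrreducible ((FBase.bcπ (f.fiberToSpecResidueField y) K ≫ f.fiberι y).base ⁻¹'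
        (connectedComponentIn (f.base ⁻¹' {y}) (g.base y))))
    (y : Y)
    (hc : ∃ V ∈ nhds y, ∀ z ∈ V,
      topologicalKrullDim ↥(connectedComponentIn (f.base ⁻¹' {z}) (g.base z)) =
        topologicalKrullDim ↥(connectedComponentIn (f.base ⁻¹' {y}) (g.base y)))
    (x : X) (hx : x ∈ connectedComponentIn (f.base ⁻¹' {y}) (g.base y)) :
    EGA43.IsUnivOpenAt f x := by
  have hirrX : ∀ y, IsIrreducible (connectedComponentIn (f.base ⁻¹' {y}) (g.base y)) := fun y =>
    isIrreducible_of_geom f y _ (connectedComponentIn_subset _ _) (hgi y _)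
  have hxy : f.base x = y := connectedComponentIn_subset (f.base ⁻¹' {y}) (g.base y) hx
  rw [Groth.Agent.Lib.Helper41.UnivOpenDvr.isUnivOpenAt_iff_dvrCrit]
  intro A _ _ _ h hh x' hx'1 hx'2
  set fst := pullback.fst f h with hfst
  set snd := pullback.snd f h with hsnd
  have hsq : IsPullback fst snd f h := IsPullback.of_hasPullback f h
  let s' : Spec (CommRingCat.of A) ⟶ pullback f h := pullback.lift (h ≫ g) (𝟙 _) (by simp [hg])
  have hs' : s' ≫ snd = 𝟙 _ := pullback.lift_snd _ _ _
  have hs'g : s' ≫ fst = h ≫ g := pullback.lift_fst _ _ _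
  set s₀ := IsLocalRing.closedPoint A with hs₀
  set gp : ↥(Spec (CommRingCat.of A)) := ⟨⊥, Ideal.isPrime_bot⟩ with hgp
  have hgps : gp ⤳ s₀ := (PrimeSpectrum.le_iff_specializes gp s₀).1 bot_le
  have hne : gp ≠ s₀ := by
    intro e
    have := congrArg PrimeSpectrum.asIdeal e
    exact IsDiscreteValuationRing.not_a_field A this.symm
  have hhs : h.base s₀ = y := hh.trans hxy
  set y' := h.base gp with hy'
  have hy'y : y' ⤳ y := hhs ▸ hgps.map h.continuous
  obtain ⟨V, hVy, hV⟩ := hc
  obtain ⟨O, hOV, hO, hyO⟩ := mem_nhds_iff.mp hVy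
  have hdim := hV y' (hOV (hy'y.mem_open hO hyO))
  obtain ⟨ξ, hξy, hξC, hξsp, hξgen, hξdim⟩ := exists_generic_sectionComponent f g hg y (hirrX y)
  obtain ⟨ξ', hξ'y, hξ'C, hξ'sp, hξ'gen, hξ'dim⟩ :=
    exists_generic_sectionComponent f g hg y' (hirrX y')
  have hnn : resTrdegNat f ξ' = resTrdegNat f ξ := by
    rw [hξdim, hξ'dim] at hdim
    exact_mod_cast hdim
  -- Step 1
  have hfd : ((resTrdegNat f ξ' : ℕ) : WithBot ℕ∞) ≤ FlatMor.fibreDimAt snd (s'.base gp) := by
    rw [fibreDimAt_eq_of_isPullback f h fst snd hsq (s'.base gp)]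
    have h1 : fst.base (s'.base gp) = g.base y' := by
      have := congrArg (fun φ => φ.base gp) hs'g
      exact this
    rw [h1]
    exact resTrdegNat_le_fibreDimAt_of_specializes f (g.base y') ξ'
      (hξ'sp _ (mem_sectionComponent f g hg y')) (hξ'y.trans (apply_section f g hg y').symm)
  obtain ⟨ω, hω1, hω2, hω3⟩ : ∃ ω : ↥(pullback f h), ω ⤳ s'.base gp ∧
      snd.base ω = snd.base (s'.base gp) ∧ resTrdegNat f ξ' ≤ resTrdegNat snd ω := by
    by_contra hcon
    push Not at hcon
    have h0 : resTrdegNat snd (s'.base gp) < resTrdegNat f ξ' := hcon _ specializes_rfl rfl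
    have h1 : FlatMor.fibreDimAt snd (s'.base gp) ≤ ((resTrdegNat f ξ' - 1 : ℕ) : WithBot ℕ∞) := by
      refine fibreDimAt_le_of_forall_generization snd _ _ fun ζ hζ hsζ => ?_
      have := hcon ζ hζ hsζ
      omega
    have h3 : resTrdegNat f ξ' ≤ resTrdegNat f ξ' - 1 := by exact_mod_cast hfd.trans h1
    omega
  have hsgp : snd.base (s'.base gp) = gp := apply_section snd s' hs' gp
  have hωgp : snd.base ω = gp := hω2.trans hsgp
  -- Step 2
  have hgps' : s'.base gp ⤳ s'.base s₀ := hgps.map s'.continuous
  obtain ⟨t, hωt, hts, hft, hle⟩ := Groth.Agent.Lib.Helper72.FibDimIrr.exists_generization_resTrdegNat_ge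
    snd ω (s'.base s₀) (hω1.trans hgps')
  have hts₀ : snd.base t = s₀ := hft.trans (apply_section snd s' hs' s₀)
  -- Step 3
  have hirrP : IsIrreducible (connectedComponentIn (snd.base ⁻¹' {s₀}) (s'.base s₀)) :=
    isIrreducible_sectionComponent_of_isPullback f g hg snd fst h hsq s' hs' hs'g s₀
      (fun K _ _ => hgi (h.base s₀) K)
  obtain ⟨τ, hτs, hτC, hτsp, hτgen, hτdim⟩ := exists_generic_sectionComponent snd s' hs' s₀ hirrP
  -- Step 4
  have htC : t ∈ connectedComponentIn (snd.base ⁻¹' {s₀}) (s'.base s₀) :=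
    mem_connectedComponentIn_of_specializes (F := snd.base ⁻¹' {s₀}) (s'.base s₀) t (s'.base s₀)
      hts₀ (mem_sectionComponent snd s' hs' s₀) hts
  have hτt : τ ⤳ t := hτsp t htC
  have hmemX : ∀ p : ↥(pullback f h), snd.base p = s₀ →
      (p ∈ connectedComponentIn (snd.base ⁻¹' {s₀}) (s'.base s₀) ↔
        fst.base p ∈ connectedComponentIn (f.base ⁻¹' {y}) (g.base y)) := by
    intro p hp
    have h1 := mem_connectedComponentIn_fibre_baseChange f g hg snd fst h hsq s' hs' hs'g p
    have h2 : f.base (fst.base p) = y := by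
      have := congrArg (fun φ => φ.base p) hsq.w
      simp only [Scheme.Hom.comp_base, TopCat.hom_comp, ContinuousMap.comp_apply] at this
      rw [this, hp, hhs]
    rw [hp] at h1
    rw [h2] at h1
    exact h1
  have hτeq : τ = t := by
    by_contra hne'
    have h1 := resTrdegNat_lt_of_specializes_fiber snd t τ hτt (hτs.trans hts₀.symm) hne'
    have h2 := resTrdegNat_le_of_isPullback f h fst snd hsq τ
    have h3 : fst.base τ ∈ connectedComponentIn (f.base ⁻¹' {y}) (g.base y) := (hmemX τ hτs).1 hτC
    have h3y : f.base (fst.base τ) = y := connectedComponentIn_subset (f.base ⁻¹' {y}) (g.base y) h3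
    have h4 : resTrdegNat f (fst.base τ) ≤ resTrdegNat f ξ := by
      by_cases e : ξ = fst.base τ
      · rw [← e]
      · exact (resTrdegNat_lt_of_specializes_fiber f _ ξ (hξsp _ h3) (hξy.trans h3y.symm) e).le
    omega
  -- Step 5
  have hx'C : x' ∈ connectedComponentIn (snd.base ⁻¹' {s₀}) (s'.base s₀) := by
    rw [hmemX x' hx'2, hx'1]
    exact hx
  refine ⟨ω, hωt.trans (hτeq ▸ hτsp x' hx'C), ?_⟩
  rw [hωgp]
  exact hne

end Groth.Agent.Lib.Helper22.SecComp
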