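import Mathlib
import Groth.Agent.Lib.Helper57.EtRes6

/-!
# Ring-level data for an étale-local section of a smooth morphism through a prescribed point
(helper22; variant of `Helper51.SmoothSecRing.exists_etale_section_data` with the prime prescribed)
-/

set_option autoImplicit false
universe u
open TensorProduct MvPolynomial

namespace Groth.Agent.Lib.Helper22.SmoothSecThrough

/-- Given `g : R[x₁..xₙ] → A`, a prime `p` of `R`, a finite separable extension `L` of `κ(p)` and a
ring map `θ₀ : A → L` compatible with `R → κ(p) → L`, there are an étale `R`-algebra `R₂`, a prime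
`𝔮₂` of `R₂` over `p` and `σ : R[x₁..xₙ] → R₂` such that `ker θ₀` and `𝔮₂` have the same contraction
to `R[x₁..xₙ]`. -/
theorem exists_etale_section_data_through {R A : Type u} [CommRing R] [CommRing A] [Algebra R A]
    (n : ℕ) (g : MvPolynomial (Fin n) R →ₐ[R] A)
    (p : Ideal R) [p.IsPrime] (L : Type u) [Field L] [Algebra p.ResidueField L]
    [FiniteDimensional p.ResidueField L] [Algebra.IsSeparable p.ResidueField L]
    (θ₀ : A →+* L)
    (hθ₀ : ∀ r : R, θ₀ (algebraMap R A r) =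
      algebraMap p.ResidueField L (algebraMap R p.ResidueField r)) :
    ∃ (R₂ : Type u) (_ : CommRing R₂) (_ : Algebra R R₂) (_ : Algebra.Etale R R₂)
      (𝔮₂ : Ideal R₂) (_ : 𝔮₂.IsPrime) (σ : MvPolynomial (Fin n) R →ₐ[R] R₂),
      𝔮₂.comap (algebraMap R R₂) = p ∧
        (RingHom.ker θ₀).comap g.toRingHom = 𝔮₂.comap σ.toRingHom := by
  classical
  letI : Algebra R L := ((algebraMap p.ResidueField L).comp (algebraMap R p.ResidueField)).toAlgebra
  haveI : IsScalarTower R p.ResidueField L := IsScalarTower.of_algebraMap_eq' rfl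
  obtain ⟨R₁, _, _, _, 𝔮, _, h, ψ, hψ⟩ :=
    Groth.Agent.Lib.Helper57.EtRes.exists_etale_residueField_equiv p L
  let θA : A →ₐ[R] L := { θ₀ with commutes' := hθ₀ }
  -- the maps to `L`
  let θ : MvPolynomial (Fin n) R →ₐ[R] L := θA.comp g
  let y : Fin n → 𝔮.ResidueField := fun i => ψ.symm (θ (X i))
  -- common denominator
  obtain ⟨⟨gb, hgb⟩, hint⟩ := IsLocalization.exist_integer_multiples_of_finset
    (nonZeroDivisors (R₁ ⧸ 𝔮)) (Finset.univ.image y)
  obtain ⟨g₁, rfl⟩ := Ideal.Quotient.mk_surjective gb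
  have hg₁ : g₁ ∉ 𝔮 := by
    intro hmem
    exact nonZeroDivisors.ne_zero hgb (Ideal.Quotient.eq_zero_iff_mem.mpr hmem)
  have hg₁' : algebraMap R₁ 𝔮.ResidueField g₁ ≠ 0 := by
    rwa [Ne, Ideal.algebraMap_residueField_eq_zero]
  have hb : ∀ i, ∃ b : R₁, algebraMap R₁ 𝔮.ResidueField g₁ * y i =
      algebraMap R₁ 𝔮.ResidueField b := by
    intro i
    obtain ⟨bb, hbb⟩ := hint (y i) (Finset.mem_image_of_mem _ (Finset.mem_univ i))
    obtain ⟨b, rfl⟩ := Ideal.Quotient.mk_surjective bb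
    refine ⟨b, ?_⟩
    rw [Ideal.algebraMap_quotient_residueField_mk] at hbb
    rw [hbb]
    change _ = (Ideal.Quotient.mk 𝔮 g₁) • y i
    rw [Algebra.smul_def, Ideal.algebraMap_quotient_residueField_mk]
  choose b hb using hb
  -- the localisation `R₂ = R₁[1/g₁]`
  let R₂ := Localization.Away g₁
  have hE₂ : Algebra.Etale R₁ R₂ := Algebra.Etale.of_isLocalizationAway g₁
  have hE : Algebra.Etale R R₂ := Algebra.Etale.comp R R₁ R₂
  let ι₂ : R₂ →+* 𝔮.ResidueField :=
    IsLocalization.Away.lift g₁ (g := algebraMap R₁ 𝔮.ResidueField) (isUnit_iff_ne_zero.mpr hg₁')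
  have hι₂ : ∀ r : R₁, ι₂ (algebraMap R₁ R₂ r) = algebraMap R₁ 𝔮.ResidueField r := fun r =>
    IsLocalization.Away.lift_eq g₁ _ r
  let c : Fin n → R₂ := fun i =>
    IsLocalization.mk' R₂ (b i) (⟨g₁, Submonoid.mem_powers g₁⟩ : Submonoid.powers g₁)
  have hc : ∀ i, ι₂ (c i) = y i := by
    intro i
    have h1 : algebraMap R₁ R₂ g₁ * c i = algebraMap R₁ R₂ (b i) := by
      rw [mul_comm]
      exact IsLocalization.mk'_spec R₂ (b i) (⟨g₁, Submonoid.mem_powers g₁⟩ : Submonoid.powers g₁)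
    have h2 := congrArg ι₂ h1
    rw [map_mul, hι₂, hι₂, ← hb i] at h2
    exact mul_left_cancel₀ hg₁' h2
  let σ : MvPolynomial (Fin n) R →ₐ[R] R₂ := MvPolynomial.aeval c
  let 𝔮₂ : Ideal R₂ := RingHom.ker ι₂
  have h𝔮₂ : 𝔮₂.IsPrime := RingHom.ker_isPrime ι₂
  -- compatibility on `R`
  have hR : ∀ r : R, (ψ : 𝔮.ResidueField →+* L) (algebraMap R₁ 𝔮.ResidueField (algebraMap R R₁ r)) =
      algebraMap R L r := by
    intro r
    have := congr($hψ (algebraMap R p.ResidueField r))
    rw [RingHom.comp_apply, Ideal.ResidueField.map_algebraMap] at this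
    rw [this, ← IsScalarTower.algebraMap_apply]
  have hcomp : (ψ : 𝔮.ResidueField →+* L).comp (ι₂.comp σ.toRingHom) = θ.toRingHom := by
    apply MvPolynomial.ringHom_ext
    · intro r
      simp only [RingHom.comp_apply, AlgHom.toRingHom_eq_coe, RingHom.coe_coe]
      rw [← MvPolynomial.algebraMap_eq, AlgHom.commutes, AlgHom.commutes,
        IsScalarTower.algebraMap_apply R R₁ R₂, hι₂]
      exact hR r
    · intro i
      simp only [RingHom.comp_apply, AlgHom.toRingHom_eq_coe, RingHom.coe_coe]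
      rw [show σ (X i) = c i from MvPolynomial.aeval_X c i, hc]
      exact ψ.apply_symm_apply _
  refine ⟨R₂, inferInstance, inferInstance, hE, 𝔮₂, h𝔮₂, σ, ?_, ?_⟩
  · ext r
    rw [Ideal.mem_comap, RingHom.mem_ker, IsScalarTower.algebraMap_apply R R₁ R₂, hι₂,
      Ideal.algebraMap_residueField_eq_zero, h, Ideal.mem_comap]
  · ext f
    rw [Ideal.mem_comap, Ideal.mem_comap, RingHom.mem_ker, RingHom.mem_ker]
    have h1 : θ₀ (g.toRingHom f) = θ.toRingHom f := rfl
    rw [h1, ← hcomp, RingHom.comp_apply, RingHom.comp_apply]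
    exact (map_eq_zero_iff _ (ψ : 𝔮.ResidueField →+* L).injective)

end Groth.Agent.Lib.Helper22.SmoothSecThrough
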