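import Groth.Agent.Lib.Helper22.FibreFree
import Groth.Agent.Lib.Helper22.DedekindFree
import Groth.Agent.Lib.Helper78.ModStalkExact
import Groth.Agent.Lib.Helper2.LocFreeAff
import Groth.Agent.Lib.Helper2.FinLocFreeAff
import Groth.Agent.Lib.Helper2.KerSec
import Groth.Agent.Lib.Helper76.RegularLocalGlDim
import Groth.Agent.S12491

set_option autoImplicit false
set_option linter.style.haveILetI false
universe u
open CategoryTheory CategoryTheory.Limits AlgebraicGeometry TopologicalSpace

namespace Groth.Agent.Lib.Helper22.Syzygy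

open Groth.Agent.Lib.Lead.PullbackAff Groth.Agent.Lib.Lead.QCohAff Scheme.Modules
open Groth.Agent.Lib.Helper21.RelFPSch Groth.Agent.Lib.Helper2.FinTypeAff
  Groth.Agent.Lib.Helper2.FreeModAff Groth.Agent.Lib.Helper22.FibreFree
open Groth.Agent.Lib.Helper78.ModStalk Groth.Agent.Lib.Helper78.ModStalkExact

variable {X : Scheme.{u}}

/-- A morphism of `O_X`-modules on sections, as a linear map. -/
noncomputable def appL {M N : X.Modules} (φ : M ⟶ N) (U : X.Opens) :
    Γ(M, U) →ₗ[Γ(X, U)] Γ(N, U) where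
  toFun := φ.app U
  map_add' := map_add _
  map_smul' r x := Hom.app_smul φ r x

theorem exists_nat_eq (a : WithBot ℕ∞) (h0 : 0 ≤ a) (m : ℕ) (hm : a ≤ m) :
    ∃ d : ℕ, a = d ∧ d ≤ m := by
  induction a using WithBot.recBotCoe with
  | bot => exact absurd h0 (by simp)
  | coe a =>
    induction a using ENat.recTopCoe with
    | top =>
      exfalso
      have h1 : ((⊤ : ℕ∞) : WithBot ℕ∞) ≤ ((m : ℕ∞) : WithBot ℕ∞) := hm
      rw [WithBot.coe_le_coe, top_le_iff] at h1
      exact ENat.natCast_ne_top m h1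
    | coe d => exact ⟨d, rfl, by exact_mod_cast hm⟩

/-- Exactness of a short complex of `O_X`-modules passes to stalks. -/
theorem stalkMap_exact_of_exact (S : ShortComplex X.Modules) (hS : S.Exact) (x : X) :
    Function.Exact (stalkMap S.f x) (stalkMap S.g x) := by
  have hT : (S.map (toSh X)).Exact := hS.map (toSh X)
  have h1 := (TopCat.Sheaf.exact_iff_stalkFunctor_map_exact (S.map (toSh X))).mp hT x
  have h2 := (ShortComplex.ab_exact_iff_function_exact _).mp h1
  exact h2

/-- A finite locally free module is quasi-coherent. -/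
theorem isQuasicoherent_of_isFinLocFree (F : X.Modules) (h : FlatMod.IsFinLocFree F) :
    F.IsQuasicoherent := by
  apply Groth.Agent.Lib.Lead.QCohLocal.isQuasicoherent_of_forall_affine
  intro x
  obtain ⟨U, n, hxU, hiso⟩ := h x
  obtain ⟨V, hV, hxV, hVU⟩ := exists_isAffineOpen_mem_and_subset (U := U) (x := x) hxU
  refine ⟨V, hV, hxV, ?_⟩
  have h' := nonempty_iso_freeMod_of_le F hVU n hiso
  rw [nonempty_iso_freeMod_iff_free] at h'
  obtain ⟨e1⟩ := nonempty_iso_free_restrict hV.isoSpec.inv (F.restrict V.ι) _ h'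
  have e2 : F.restrict hV.fromSpec ≅ SheafOfModules.free.{u} _ :=
    (restrictFunctorComp hV.isoSpec.inv V.ι).app F ≪≫ e1
  haveI := Groth.Agent.Lib.Helper2.LocFreeAff.free_isQuasicoherent' (Spec Γ(X, V))
    (Idx.{u} n)
  exact isQuasicoherent_of_iso e2.symm

/-- Stalks of a finite locally free module are free. -/
theorem free_stalk_of_isFinLocFree (F : X.Modules) (h : FlatMod.IsFinLocFree F) (x : X) :
    Module.Free (X.presheaf.stalk x) (F.presheaf.stalk x) := by
  haveI := isQuasicoherent_of_isFinLocFree F h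
  obtain ⟨U, n, hxU, hiso⟩ := h x
  exact free_stalk_of_iso_freeMod F x hxU hiso


theorem isFinLocFree_of_syzygy (X : Scheme.{u}) [IsNoetherian X]
    (hreg : ∀ x : X, IsRegularLocalRing (X.presheaf.stalk x)) (m : ℕ)
    (hdim : topologicalKrullDim ↥X ≤ (m : WithBot ℕ∞))
    (S : ComposableArrows X.Modules (m + 1)) (hS : S.Exact)
    (hmono : Mono (S.map' 0 1 (Nat.zero_le 1) (Nat.le_add_left 1 m)))
    (hepi : Epi (S.map' m (m + 1) (Nat.le_succ m) (le_refl (m + 1))))
    (hE : ∀ i : Fin m, FlatMod.IsFinLocFree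
      (S.obj ⟨i.1 + 1, Nat.succ_lt_succ (Nat.lt_succ_of_lt i.2)⟩))
    (hF : Coh.IsCoh (S.obj (Fin.last (m + 1)))) :
    FlatMod.IsFinLocFree (S.obj 0) := by
  -- the middle terms are finite locally free
  have hlf : ∀ a : Fin (m + 2), 1 ≤ a.val → a.val ≤ m → FlatMod.IsFinLocFree (S.obj a) := by
    intro a ha1 ha2
    have h1 := hE ⟨a.val - 1, by omega⟩
    have key : ∀ b : Fin (m + 2), b = a → FlatMod.IsFinLocFree (S.obj b) →
        FlatMod.IsFinLocFree (S.obj a) := by
      rintro b rfl h; exact h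
    exact key _ (Fin.ext (by simp only; omega)) h1
  have hq : ∀ a : Fin (m + 2), 1 ≤ a.val → (S.obj a).IsQuasicoherent := by
    intro a ha
    by_cases hlast : a.val ≤ m
    · exact isQuasicoherent_of_isFinLocFree _ (hlf a ha hlast)
    · have : a = Fin.last (m + 1) := Fin.ext (by simp only [Fin.val_last]; omega)
      rw [this]; exact hF.1
  have hfin : ∀ a : Fin (m + 2), 1 ≤ a.val → ∀ U : X.Opens, IsAffineOpen U →
      Module.Finite Γ(X, U) Γ(S.obj a, U) := by
    intro a ha U hU
    haveI := hq a ha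
    by_cases hlast : a.val ≤ m
    · haveI := Groth.Agent.Lib.Helper2.FinLocFreeAff.finitePresentation_sections_of_isFinLocFree
        (S.obj a) (hlf a ha hlast) hU
      infer_instance
    · have : a = Fin.last (m + 1) := Fin.ext (by simp only [Fin.val_last]; omega)
      subst this
      haveI : SheafOfModules.IsFiniteType (R := X.ringCatSheaf) (S.obj (Fin.last (m + 1))) := hF.2
      exact finite_sections _ hU
  -- `G` is quasi-coherent
  have hGq : (S.obj 0).IsQuasicoherent := by
    rcases Nat.eq_zero_or_pos m with rfl | hm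
    · haveI : Mono (S.map' 0 1 (Nat.zero_le 1) (le_refl 1)) := hmono
      haveI : Epi (S.map' 0 1 (Nat.zero_le 1) (le_refl 1)) := hepi
      haveI : IsIso (S.map' 0 1 (Nat.zero_le 1) (le_refl 1)) := isIso_of_mono_of_epi _
      have h1 : (S.obj (1 : Fin 2)).IsQuasicoherent := hq 1 (le_refl 1)
      exact @isQuasicoherent_of_iso X _ _
        (asIso (S.map' 0 1 (Nat.zero_le 1) (le_refl 1))).symm h1
    · have hex0 := hS.exact 0 (by omega)
      haveI : Mono (S.sc hS.toIsComplex 0 (by omega)).f := hmono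
      have hk := hex0.fIsKernel
      have h1 : (S.sc hS.toIsComplex 0 (by omega)).X₂.IsQuasicoherent :=
        hq ⟨1, by omega⟩ (le_refl 1)
      have h2 : (S.sc hS.toIsComplex 0 (by omega)).X₃.IsQuasicoherent :=
        hq ⟨2, by omega⟩ (by simp)
      have h3 := @Groth.Agent.Lib.Helper2.KerSec.isQuasicoherent_kernel X _ _
        (S.sc hS.toIsComplex 0 (by omega)).g h1 h2
      exact @isQuasicoherent_of_iso X _ _
        (IsLimit.conePointUniqueUpToIso hk (kernelIsKernel _)).symm h3
  intro x
  obtain ⟨U, hU, hxU, -⟩ := exists_isAffineOpen_mem_and_subset (U := (⊤ : X.Opens))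
    (x := x) trivial
  haveI : IsNoetherianRing Γ(X, U) := IsLocallyNoetherian.component_noetherian ⟨U, hU⟩
  -- sections of `G` over `U` are finite
  haveI hfin1 : Module.Finite Γ(X, U) Γ(S.obj (⟨1, by omega⟩ : Fin (m + 2)), U) :=
    hfin ⟨1, by omega⟩ (le_refl 1) U hU
  haveI hfinG : Module.Finite Γ(X, U) Γ(S.obj 0, U) :=
    Module.Finite.of_injective (appL (S.map' 0 1 (Nat.zero_le 1) (Nat.le_add_left 1 m)) U)
      (app_injective_of_mono _ U)
  haveI : Module.FinitePresentation Γ(X, U) Γ(S.obj 0, U) :=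
    Module.finitePresentation_of_finite _ _
  refine exists_open_iso_freeMod_of_stalk_free' (S.obj 0) hU x hxU ?_
  -- the stalk of `G` at `x` is projective by the syzygy theorem
  haveI := hreg x
  obtain ⟨dd, hdd, hdm⟩ := exists_nat_eq (ringKrullDim (X.presheaf.stalk x))
    ringKrullDim_nonneg_of_nontrivial m
    ((Groth.Agent.Lib.Helper22.DedekindFree.ringKrullDim_stalk_le X x).trans hdim)
  have hgl : ∀ (C : Type u) [AddCommGroup C] [Module (X.presheaf.stalk x) C],
      HasProjectiveDimensionLT (ModuleCat.of (X.presheaf.stalk x) C) (m + 1) := by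
    intro C _ _
    haveI := Groth.Agent.Lib.Helper76.hasProjectiveDimensionLT_of_isRegularLocalRing
      (X.presheaf.stalk x) dd hdd C
    exact hasProjectiveDimensionLT_of_ge _ (dd + 1) (m + 1) (by omega)
  let idx : ℕ → Fin (m + 2) := fun i => ⟨min i (m + 1), by omega⟩
  have hle : ∀ i, idx i ≤ idx (i + 1) := fun i => by
    simp only [idx, Fin.le_def]; omega
  have hmonoAB : ∀ (a b : Fin (m + 2)) (hab : a ≤ b), a.val = 0 → b.val = 1 →
      Mono (S.map (homOfLE hab)) := by
    rintro ⟨a, ha⟩ ⟨b, hb⟩ hab h0 h1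
    simp only at h0 h1
    subst h0 h1
    exact hmono
  have hexABC : ∀ (a b c : Fin (m + 2)) (hab : a ≤ b) (hbc : b ≤ c), b.val = a.val + 1 →
      c.val = a.val + 2 →
      Function.Exact (stalkMap (S.map (homOfLE hab)) x) (stalkMap (S.map (homOfLE hbc)) x) := by
    rintro ⟨a, ha⟩ ⟨b, hb⟩ ⟨c, hc⟩ hab hbc h1 h2
    simp only at h1 h2
    subst h1 h2
    exact stalkMap_exact_of_exact _ (hS.exact a (by omega)) x
  have hproj : Module.Projective (X.presheaf.stalk x) ((S.obj 0).presheaf.stalk x) := by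
    refine Groth.Agent.S12491.projective_of_syzygy (X.presheaf.stalk x) m hgl
      (fun i => (S.obj (idx i)).presheaf.stalk x) ?_
      (fun i => stalkMap (S.map (homOfLE (hle i))) x) ?_ ?_
    · intro i hi1 hi2
      haveI := free_stalk_of_isFinLocFree (S.obj (idx i))
        (hlf (idx i) (by simp only [idx]; omega) (by simp only [idx]; omega)) x
      infer_instance
    · haveI := hmonoAB (idx 0) (idx 1) (hle 0) (by simp [idx]) (by simp [idx])
      exact stalkMap_injective_of_mono _ x
    · intro i hi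
      exact (LinearMap.exact_iff.mp (hexABC (idx i) (idx (i + 1)) (idx (i + 1 + 1)) (hle i)
        (hle (i + 1)) (by simp only [idx]; omega) (by simp only [idx]; omega))).symm
  -- finite + projective over a local ring is free
  letI alg : Algebra Γ(X, U) (X.presheaf.stalk x) := X.presheaf.algebra_section_stalk ⟨x, hxU⟩
  haveI loc := hU.isLocalization_stalk ⟨x, hxU⟩
  haveI t1 : IsScalarTower Γ(X, U) (X.presheaf.stalk x) (StalkOver (S.obj 0) U x hxU) :=
    IsScalarTower.of_algebraMap_smul fun r m => rfl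
  haveI := hGq
  haveI h3 : Module.Finite (X.presheaf.stalk x) (StalkOver (S.obj 0) U x hxU) :=
    Module.Finite.of_isLocalizedModule (hU.primeIdealOf ⟨x, hxU⟩).asIdeal.primeCompl
      (germL (S.obj 0) U x hxU)
  haveI h4 : Module.Finite (X.presheaf.stalk x) ((S.obj 0).presheaf.stalk x) := h3
  exact Module.free_of_flat_of_isLocalRing

end Groth.Agent.Lib.Helper22.Syzygy
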