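import Groth.Prelude.Def_SGA1
import Groth.Agent.S2568
import Groth.Agent.Lib.Helper36.FibreDimZero

/-!
# Universally submersive morphisms from universally open ones (helper22)

* `univSubmersive_of_universallyOpen_surjective`, `univSubmersive_of_comp`.
* `universallyOpen_of_dominant_locallyQuasiFinite`: a dominant locally quasi-finite morphism of
  irreducible schemes with geometrically unibranch target is universally open (Chevalley).
-/

set_option autoImplicit false
open CategoryTheory CategoryTheory.Limits AlgebraicGeometry
universe u

namespace Groth.Agent.Lib.Helper22.UnivSubm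

/-- A universally open surjective morphism is universally submersive. -/
theorem univSubmersive_of_universallyOpen_surjective {X Y : Scheme.{u}} (f : X ⟶ Y)
    [UniversallyOpen f] [Surjective f] : SGA1.UnivSubmersive f := by
  intro X' Y' i₁ i₂ f' h
  have h1 : UniversallyOpen f' := MorphismProperty.of_isPullback h.flip ‹UniversallyOpen f›
  have h2 : Surjective f' := MorphismProperty.of_isPullback h.flip ‹Surjective f›
  exact IsOpenMap.isQuotientMap f'.isOpenMap f'.continuous f'.surjective

/-- If `h ≫ p` is universally submersive then so is `p`. -/
theorem univSubmersive_of_comp {A B X : Scheme.{u}} (h : A ⟶ B) (p : B ⟶ X)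
    (H : SGA1.UnivSubmersive (h ≫ p)) : SGA1.UnivSubmersive p := by
  intro X' Y' i₁ i₂ p' hp
  have hl : IsPullback (pullback.snd h i₁) (pullback.fst h i₁) i₁ h :=
    (IsPullback.of_hasPullback h i₁).flip
  have hq := H _ _ _ (hl.paste_horiz hp)
  exact Topology.IsQuotientMap.of_comp (pullback.snd h i₁).continuous p'.continuous hq

/-- A dominant, locally quasi-finite morphism locally of finite type from an irreducible scheme to
an irreducible scheme with geometrically unibranch local rings is universally open. -/
theorem universallyOpen_of_dominant_locallyQuasiFinite {U X : Scheme.{u}} [IrreducibleSpace U]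
    [IrreducibleSpace X] (hX : ∀ x : X, CAlg2.IsGeomUnibranch (X.presheaf.stalk x))
    (f : U ⟶ X) [LocallyOfFiniteType f] [LocallyQuasiFinite f] [IsDominant f] :
    UniversallyOpen f := by
  apply Groth.Agent.S2568.result hX f
  intro x
  rw [(Groth.Agent.Lib.Helper36.FibreDimZero.locallyQuasiFinite_iff_fibreDimAt_eq_zero f).mp
    inferInstance x]
  have hd : DiscreteTopology ↥(f.fiber (f (genericPoint U))) := by
    have h1 := (locallyQuasiFinite_iff_isDiscrete_preimage_singleton (f := f)).mp inferInstance
      (f (genericPoint U))
    have := h1.to_subtype
    exact (f.fiberHomeo (f (genericPoint U))).isEmbedding.discreteTopology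
  have : Nonempty ↥(f.fiber (f (genericPoint U))) := ⟨f.asFiber (genericPoint U)⟩
  exact Groth.Agent.Lib.Helper84.dim_eq_zero_of_discrete.symm

end Groth.Agent.Lib.Helper22.UnivSubm
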