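import Groth.Agent.Lib.Helper73.DimFormula.LocDimFiber
import Groth.Agent.Lib.Helper12.Subtr

/-!
# Valuation ring base change keeping generic points of fibre components (helper22)

* `eq_of_specializes_of_isGenericPoint`: generic points of irreducible components are maximal.
* `exists_generic_component_specializes`: in a quasi-sober space every point has a generization
  that is the generic point of an irreducible component.
* `exists_valuationRing_generic` (= S1481).
-/

set_option autoImplicit false
set_option linter.style.haveILetI false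
open CategoryTheory AlgebraicGeometry TopologicalSpace IsLocalRing Limits
universe u

namespace Groth.Agent.Lib.Helper22.ValGen

open Groth.Agent.Lib.Helper73

/-- The generic point of an irreducible component is maximal for specialization. -/
lemma eq_of_specializes_of_isGenericPoint {T : Type*} [TopologicalSpace T] [T0Space T] (x : T)
    (C : Set T) (hC : C ∈ irreducibleComponents T) (hx : IsGenericPoint x C) (w : T)
    (hw : w ⤳ x) : w = x := by
  have h1 : C ≤ closure {w} := by
    rw [← hx.def]
    exact closure_minimal (Set.singleton_subset_iff.mpr (specializes_iff_mem_closure.mp hw))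
      isClosed_closure
  have h2 : closure {w} ≤ C := hC.2 (isIrreducible_singleton.closure) h1
  have h3 : x ⤳ w := by
    rw [specializes_iff_mem_closure, hx.def]
    exact h2 (subset_closure rfl)
  exact (hw.antisymm h3).eq

/-- In a quasi-sober space every point has a generization which is the generic point of an
irreducible component. -/
lemma exists_generic_component_specializes {T : Type*} [TopologicalSpace T] [QuasiSober T]
    (p : T) : ∃ η : T, η ⤳ p ∧ ∃ C ∈ irreducibleComponents T, IsGenericPoint η C := by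
  obtain ⟨η, hη⟩ := QuasiSober.sober (isIrreducible_irreducibleComponent (x := p))
    isClosed_irreducibleComponent
  refine ⟨η, ?_, irreducibleComponent p, irreducibleComponent_mem_irreducibleComponents p, hη⟩
  rw [specializes_iff_mem_closure, hη.def]
  exact mem_irreducibleComponent

set_option backward.isDefEq.respectTransparency false in
/-- Stacks-style valuation ring base change keeping generic points of fibre components
(= S1481). -/
theorem exists_valuationRing_generic {X S : Scheme.{u}} (f : X ⟶ S) (y : X) (s : S) (x : X)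
    (hx : x ∈ closure ({y} : Set ↑X)) (hxs : f x = s)
    (hgen : ∃ C ∈ irreducibleComponents ↑(closure ({y} : Set ↑X) ∩ f ⁻¹' {s}),
      IsGenericPoint (⟨x, hx, hxs⟩ : ↑(closure ({y} : Set ↑X) ∩ f ⁻¹' {s})) C) :
    ∃ (R : Type u) (_ : CommRing R) (_ : IsDomain R) (_ : ValuationRing R)
      (g : Spec (CommRingCat.of R) ⟶ S),
      g (⊥ : PrimeSpectrum R) = f y ∧ g (IsLocalRing.closedPoint R) = s ∧
      ∃ (y' : ↑(pullback f g)) (hy't : pullback.snd f g y' = (⊥ : PrimeSpectrum R))
        (hy'Y : pullback.fst f g y' ∈ closure ({y} : Set ↑X)),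
        pullback.fst f g y' = y ∧
        (∃ C ∈ irreducibleComponents ↑((pullback.fst f g) ⁻¹' closure ({y} : Set ↑X) ∩
            (pullback.snd f g) ⁻¹' {(⊥ : PrimeSpectrum R)}),
          IsGenericPoint (⟨y', hy'Y, hy't⟩ : ↑((pullback.fst f g) ⁻¹' closure ({y} : Set ↑X) ∩
            (pullback.snd f g) ⁻¹' {(⊥ : PrimeSpectrum R)})) C) ∧
        ∃ (x' : ↑(pullback f g)) (hx' : x' ∈ closure ({y'} : Set ↑(pullback f g)))
          (hx's : pullback.snd f g x' = IsLocalRing.closedPoint R),
          pullback.fst f g x' = x ∧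
          ∃ C ∈ irreducibleComponents ↑(closure ({y'} : Set ↑(pullback f g)) ∩
              (pullback.snd f g) ⁻¹' {IsLocalRing.closedPoint R}),
            IsGenericPoint (⟨x', hx', hx's⟩ : ↑(closure ({y'} : Set ↑(pullback f g)) ∩
              (pullback.snd f g) ⁻¹' {IsLocalRing.closedPoint R})) C := by
  -- maximality of `x`
  have hmax : ∀ w : X, w ∈ closure ({y} : Set X) → f w = s → w ⤳ x → w = x := by
    intro w hw hws hwx
    obtain ⟨C, hC, hCgen⟩ := hgen
    have := eq_of_specializes_of_isGenericPoint _ C hC hCgen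
      (⟨w, hw, hws⟩ : ↑(closure ({y} : Set ↑X) ∩ f ⁻¹' {s}))
      (Topology.IsInducing.subtypeVal.specializes_iff.mp hwx)
    exact congrArg Subtype.val this
  have hyx : y ⤳ x := specializes_iff_mem_closure.mpr hx
  obtain ⟨R, _, _, _, φ, hφc, hφg⟩ := Groth.Agent.Lib.Helper12.exists_valuationRing_of_specializes hyx
  have hbot : (⟨⊥, Ideal.isPrime_bot⟩ : PrimeSpectrum R) = (⊥ : PrimeSpectrum R) := rfl
  rw [hbot] at hφg
  let g : Spec (CommRingCat.of R) ⟶ S := φ ≫ f
  refine ⟨R, inferInstance, inferInstance, inferInstance, g, ?_, ?_, ?_⟩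
  · change f (φ (⊥ : PrimeSpectrum R)) = f y
    rw [hφg]
  · change f (φ (closedPoint R)) = s
    rw [hφc, hxs]
  let fst := pullback.fst f g
  let snd := pullback.snd f g
  have hw : fst ≫ f = snd ≫ g := pullback.condition
  let h : Spec (CommRingCat.of R) ⟶ pullback f g := pullback.lift φ (𝟙 _) (by simp [g])
  have hfst : h ≫ fst = φ := pullback.lift_fst _ _ _
  have hsnd : h ≫ snd = 𝟙 _ := pullback.lift_snd _ _ _
  have hfst' : ∀ p, fst (h p) = φ p := fun p => by
    rw [← Scheme.Hom.comp_apply, hfst]
  have hsnd' : ∀ p, snd (h p) = p := fun p => by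
    rw [← Scheme.Hom.comp_apply, hsnd]; rfl
  have hfw : ∀ w : ↑(pullback f g), f (fst w) = g (snd w) := fun w => by
    rw [← Scheme.Hom.comp_apply, ← Scheme.Hom.comp_apply, hw]
  have hspec : (⊥ : PrimeSpectrum R) ⤳ closedPoint R :=
    (PrimeSpectrum.le_iff_specializes _ _).mp bot_le
  have hyx'' : h (⊥ : PrimeSpectrum R) ⤳ h (closedPoint R) := hspec.map h.continuous
  -- the generic point
  let K' : Set ↑(pullback f g) := fst ⁻¹' closure ({y} : Set ↑X)
  have hK' : IsClosed K' := isClosed_closure.preimage fst.continuous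
  haveI := quasiSober_interFiber snd K' (⊥ : PrimeSpectrum R) hK'
  have hy''mem : h (⊥ : PrimeSpectrum R) ∈ K' ∩ snd ⁻¹' {(⊥ : PrimeSpectrum R)} := by
    refine ⟨?_, hsnd' _⟩
    change fst (h (⊥ : PrimeSpectrum R)) ∈ closure {y}
    rw [hfst', hφg]; exact subset_closure rfl
  obtain ⟨η', hη', Cη, hCη, hηgen⟩ := exists_generic_component_specializes
    (⟨h (⊥ : PrimeSpectrum R), hy''mem⟩ : ↑(K' ∩ snd ⁻¹' {(⊥ : PrimeSpectrum R)}))
  have hη'1 : η'.1 ⤳ h (⊥ : PrimeSpectrum R) :=
    Topology.IsInducing.subtypeVal.specializes_iff.mpr hη'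
  have hfy' : fst η'.1 = y := by
    have h1 : fst η'.1 ⤳ y := by
      have := hη'1.map fst.continuous
      rwa [hfst', hφg] at this
    have h2 : y ⤳ fst η'.1 := specializes_iff_mem_closure.mpr η'.2.1
    exact (h1.antisymm h2).eq
  refine ⟨η'.1, η'.2.2, η'.2.1, hfy', ⟨Cη, hCη, hηgen⟩, ?_⟩
  -- the special point
  let K'' : Set ↑(pullback f g) := closure {η'.1}
  haveI := quasiSober_interFiber snd K'' (closedPoint R) isClosed_closure
  have hx''mem : h (closedPoint R) ∈ K'' ∩ snd ⁻¹' {closedPoint R} := by
    refine ⟨?_, hsnd' _⟩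
    exact specializes_iff_mem_closure.mp (hη'1.trans hyx'')
  obtain ⟨ξ', hξ', Cξ, hCξ, hξgen⟩ := exists_generic_component_specializes
    (⟨h (closedPoint R), hx''mem⟩ : ↑(K'' ∩ snd ⁻¹' {closedPoint R}))
  have hξ'1 : ξ'.1 ⤳ h (closedPoint R) :=
    Topology.IsInducing.subtypeVal.specializes_iff.mpr hξ'
  have hfx' : fst ξ'.1 = x := by
    apply hmax
    · have h1 : η'.1 ⤳ ξ'.1 := specializes_iff_mem_closure.mpr ξ'.2.1
      have h2 := h1.map fst.continuous
      rw [hfy'] at h2
      exact specializes_iff_mem_closure.mp h2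
    · rw [hfw, ξ'.2.2]
      change f (φ (closedPoint R)) = s
      rw [hφc, hxs]
    · have := hξ'1.map fst.continuous
      rwa [hfst', hφc] at this
  exact ⟨ξ'.1, ξ'.2.1, ξ'.2.2, hfx', Cξ, hCξ, hξgen⟩

end Groth.Agent.Lib.Helper22.ValGen
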