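import Mathlib

set_option autoImplicit false
set_option linter.style.haveILetI false
universe u

namespace Groth.Agent.Lib.Helper22.ValTrdeg

open MvPolynomial

/-- In a valuation ring, a nonempty finite set has an element dividing all others. -/
lemma exists_dvd_of_finset {R : Type*} [CommRing R] [IsDomain R] [ValuationRing R] {ι : Type*}
    (s : Finset ι) (hs : s.Nonempty) (a : ι → R) : ∃ i ∈ s, ∀ j ∈ s, a i ∣ a j := by
  induction hs using Finset.Nonempty.cons_induction with
  | singleton i => exact ⟨i, Finset.mem_singleton_self i, fun j hj => by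
      rw [Finset.mem_singleton.1 hj]⟩
  | cons i s hi hs ih =>
    obtain ⟨k, hk, hkall⟩ := ih
    rcases ValuationRing.dvd_total (a i) (a k) with h | h
    · refine ⟨i, Finset.mem_cons_self i s, fun j hj => ?_⟩
      rcases Finset.mem_cons.1 hj with rfl | hj
      · exact dvd_rfl
      · exact h.trans (hkall j hj)
    · refine ⟨k, Finset.mem_cons.2 (Or.inr hk), fun j hj => ?_⟩
      rcases Finset.mem_cons.1 hj with rfl | hj
      · exact h
      · exact hkall j hj

variable {R S : Type u} [CommRing R] [IsDomain R] [ValuationRing R] [CommRing S] [Algebra R S]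

/-- Key lemma: over a valuation ring, algebraic independence modulo a bigger prime implies
algebraic independence modulo a smaller prime. -/
theorem algebraicIndependent_quotient_of_le (p₀ p : Ideal R) (q₀ q : Ideal S) [p₀.IsPrime]
    [p.IsPrime] [q₀.IsPrime] [q.IsPrime] [q₀.LiesOver p₀] [q.LiesOver p] (hq : q₀ ≤ q)
    {ι : Type*} (t : ι → S)
    (ht : AlgebraicIndependent (R ⧸ p) (fun i => Ideal.Quotient.mk q (t i))) :
    AlgebraicIndependent (R ⧸ p₀) (fun i => Ideal.Quotient.mk q₀ (t i)) := by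
  classical
  rw [algebraicIndependent_iff]
  intro P₀ hP₀
  by_contra hne
  obtain ⟨P, rfl⟩ := MvPolynomial.map_surjective (Ideal.Quotient.mk p₀)
    Ideal.Quotient.mk_surjective P₀
  -- `aeval t P ∈ q₀`
  have h1 : aeval t P ∈ q₀ := by
    rw [← Ideal.Quotient.eq_zero_iff_mem, ← hP₀]
    have : (Ideal.Quotient.mk q₀) (aeval t P) =
        (Ideal.Quotient.mkₐ R q₀) (aeval t P) := rfl
    rw [this, comp_aeval_apply]
    simp only [aeval_def, eval₂_map]
    congr 1
  -- some coefficient is not in `p₀`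
  have h2 : ∃ m, P.coeff m ∉ p₀ := by
    by_contra hcon
    push Not at hcon
    apply hne
    ext m
    rw [coeff_map, coeff_zero, Ideal.Quotient.eq_zero_iff_mem]
    exact hcon m
  obtain ⟨m₁, hm₁⟩ := h2
  let s : Finset (ι →₀ ℕ) := P.support.filter (fun m => P.coeff m ∉ p₀)
  have hs : s.Nonempty := ⟨m₁, Finset.mem_filter.2 ⟨by
    rw [mem_support_iff]; rintro h0; rw [h0] at hm₁; exact hm₁ p₀.zero_mem, hm₁⟩⟩
  obtain ⟨m₀, hm₀s, hm₀⟩ := exists_dvd_of_finset s hs (fun m => P.coeff m)
  set c := P.coeff m₀ with hc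
  have hcp : c ∉ p₀ := (Finset.mem_filter.1 hm₀s).2
  have hc0 : c ≠ 0 := by rintro h0; rw [h0] at hcp; exact hcp p₀.zero_mem
  have hdvd : ∀ m, c ∣ P.coeff m := by
    intro m
    by_cases hm : P.coeff m ∈ p₀
    · rcases ValuationRing.dvd_total c (P.coeff m) with h | h
      · exact h
      · exact absurd (Ideal.mem_of_dvd p₀ h hm) hcp
    · refine hm₀ m (Finset.mem_filter.2 ⟨?_, hm⟩)
      rw [mem_support_iff]; rintro h0; rw [h0] at hm; exact hm p₀.zero_mem
  obtain ⟨P', hP'⟩ := (C_dvd_iff_dvd_coeff c P).2 hdvd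
  have hone : P'.coeff m₀ = 1 := by
    have := congrArg (fun Q => coeff m₀ Q) hP'
    simp only [coeff_C_mul] at this
    exact (mul_eq_left₀ hc0).1 this.symm
  have h3 : aeval t P' ∈ q := by
    apply hq
    rw [hP', map_mul, aeval_C] at h1
    rcases Ideal.IsPrime.mem_or_mem inferInstance h1 with h | h
    · exact absurd ((Ideal.mem_of_liesOver q₀ p₀ c).2 h) hcp
    · exact h
  have h4 : aeval (fun i => Ideal.Quotient.mk q (t i)) (map (Ideal.Quotient.mk p) P') = 0 := by
    have h5 : (Ideal.Quotient.mkₐ R q) (aeval t P') = 0 :=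
      Ideal.Quotient.eq_zero_iff_mem.2 h3
    rw [comp_aeval_apply] at h5
    rw [← h5]
    simp only [aeval_def, eval₂_map]
    congr 1
  have h6 := (algebraicIndependent_iff.1 ht) _ h4
  have h7 := congrArg (fun Q => coeff m₀ Q) h6
  simp only [coeff_map, hone, map_one, coeff_zero] at h7
  exact one_ne_zero h7

/-- **Valuation rings**: the transcendence degree of residue rings decreases under
specialization. -/
theorem trdeg_quotient_le_of_le (p₀ p : Ideal R) (q₀ q : Ideal S) [p₀.IsPrime]
    [p.IsPrime] [q₀.IsPrime] [q.IsPrime] [q₀.LiesOver p₀] [q.LiesOver p] (hq : q₀ ≤ q) :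
    Algebra.trdeg (R ⧸ p) (S ⧸ q) ≤ Algebra.trdeg (R ⧸ p₀) (S ⧸ q₀) := by
  rw [Algebra.trdeg]
  refine ciSup_le' fun i => ?_
  have hsurj := Ideal.Quotient.mk_surjective (I := q)
  choose t ht using fun a : i.1 => hsurj a.1
  have h1 : AlgebraicIndependent (R ⧸ p) (fun a : i.1 => Ideal.Quotient.mk q (t a)) := by
    have := i.2
    simp only [ht]
    exact this
  exact (algebraicIndependent_quotient_of_le p₀ p q₀ q hq t h1).cardinalMk_le_trdeg

end Groth.Agent.Lib.Helper22.ValTrdeg
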