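import Mathlib
import Groth.Agent.Lib.Helper22.ValTrdeg
import Groth.Agent.Lib.Helper22.GenStrNd

set_option autoImplicit false
set_option linter.style.haveILetI false
universe u

open AlgebraicGeometry CategoryTheory TopologicalSpace

namespace Groth.Agent.Lib.Helper22.ValTrdeg

open Groth.Agent.Lib.Helper73

set_option backward.isDefEq.respectTransparency false in
/-- Affine case: over a valuation ring, residual transcendence degrees decrease under
specialization. -/
theorem resTrdegNat_SpecMap_le {R S : Type u} [CommRing R] [IsDomain R] [ValuationRing R]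
    [CommRing S] [Algebra R S]
    [LocallyOfFiniteType (Spec.map (CommRingCat.ofHom (algebraMap R S)))]
    (a'' a : Spec (CommRingCat.of S)) (h : a'' ⤳ a) :
    resTrdegNat (Spec.map (CommRingCat.ofHom (algebraMap R S))) a ≤
      resTrdegNat (Spec.map (CommRingCat.ofHom (algebraMap R S))) a'' := by
  have hle : a''.asIdeal ≤ a.asIdeal := (PrimeSpectrum.le_iff_specializes a'' a).2 h
  have h1 := resTrdeg_SpecMap (R := R) (R' := S) a (a.asIdeal.under R) a.asIdeal rfl
  have h2 := resTrdeg_SpecMap (R := R) (R' := S) a'' (a''.asIdeal.under R) a''.asIdeal rfl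
  have h3 := trdeg_quotient_le_of_le (a''.asIdeal.under R) (a.asIdeal.under R) a''.asIdeal
    a.asIdeal hle
  rw [← h1, ← h2, resTrdeg_eq_resTrdegNat, resTrdeg_eq_resTrdegNat] at h3
  exact_mod_cast h3


set_option backward.isDefEq.respectTransparency false in
/-- **Valuation rings**: for a morphism locally of finite type to the spectrum of a valuation
ring, residual transcendence degrees decrease under specialization. -/
theorem resTrdegNat_le_of_specializes {R : Type u} [CommRing R] [IsDomain R] [ValuationRing R]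
    {X : Scheme.{u}} (φ : X ⟶ Spec (CommRingCat.of R)) [LocallyOfFiniteType φ] {x'' x : X}
    (h : x'' ⤳ x) : resTrdegNat φ x ≤ resTrdegNat φ x'' := by
  obtain ⟨U, hU, hxU, -⟩ := exists_isAffineOpen_mem_and_subset (x := x) (U := ⊤) trivial
  have hx''U : x'' ∈ U := h.mem_open U.isOpen hxU
  let ψ : Spec Γ(X, U) ⟶ Spec (CommRingCat.of R) := hU.fromSpec ≫ φ
  let ρ : CommRingCat.of R ⟶ Γ(X, U) := Spec.preimage ψ
  letI : Algebra R Γ(X, U) := ρ.hom.toAlgebra
  have e : Spec.map (CommRingCat.ofHom (algebraMap R Γ(X, U))) = ψ := by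
    have : CommRingCat.ofHom (algebraMap R Γ(X, U)) = ρ := by
      rw [RingHom.algebraMap_toAlgebra]; rfl
    rw [this]
    exact Spec.map_preimage ψ
  haveI : LocallyOfFiniteType (Spec.map (CommRingCat.ofHom (algebraMap R Γ(X, U)))) := by
    rw [e]; infer_instance
  have ha : hU.fromSpec (hU.primeIdealOf ⟨x, hxU⟩) = x := hU.fromSpec_primeIdealOf ⟨x, hxU⟩
  have ha'' : hU.fromSpec (hU.primeIdealOf ⟨x'', hx''U⟩) = x'' :=
    hU.fromSpec_primeIdealOf ⟨x'', hx''U⟩
  have hsp : hU.primeIdealOf ⟨x'', hx''U⟩ ⤳ hU.primeIdealOf ⟨x, hxU⟩ := by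
    rw [← hU.fromSpec.isOpenEmbedding.isInducing.specializes_iff, ha, ha'']
    exact h
  have key := resTrdegNat_SpecMap_le (R := R) (S := Γ(X, U)) _ _ hsp
  rw [e] at key
  change resTrdegNat (hU.fromSpec ≫ φ) _ ≤ resTrdegNat (hU.fromSpec ≫ φ) _ at key
  rw [resTrdegNat_comp_of_isOpenImmersion, resTrdegNat_comp_of_isOpenImmersion, ha, ha''] at key
  exact key

end Groth.Agent.Lib.Helper22.ValTrdeg
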