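import Mathlib
import Groth.Agent.Lib.Helper22.ValTrdegSch
import Groth.Agent.S4932

set_option autoImplicit false
set_option linter.style.haveILetI false
universe u

open AlgebraicGeometry CategoryTheory TopologicalSpace TensorProduct

namespace Groth.Agent.Lib.Helper22.ValTrdeg

open Groth.Agent.Lib.Helper73

/-- The Krull dimension of the fibre ring `κ(p) ⊗ S` is the dimension of the scheme-theoretic
fibre of `Spec S ⟶ Spec R` over `p`. -/
theorem ringKrullDim_fiber_eq {R S : Type u} [CommRing R] [CommRing S] [Algebra R S]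
    (p : PrimeSpectrum R) :
    ringKrullDim (p.asIdeal.Fiber S) =
      topologicalKrullDim ↥((Spec.map (CommRingCat.ofHom (algebraMap R S))).fiber p) := by
  rw [← PrimeSpectrum.topologicalKrullDim_eq_ringKrullDim]
  rw [← IsHomeomorph.topologicalKrullDim_eq _
    (PrimeSpectrum.preimageHomeomorphFiber R S p).isHomeomorph]
  exact (IsHomeomorph.topologicalKrullDim_eq _
    ((Spec.map (CommRingCat.ofHom (algebraMap R S))).fiberHomeo p).isHomeomorph).symm


set_option backward.isDefEq.respectTransparency false in
/-- **Valuation rings**: for a domain `S` of finite type over a valuation ring `R ⊆ S` with nonzero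
special fibre, special and generic fibre have the same Krull dimension. -/
theorem ringKrullDim_residueField_tensor_eq {R S : Type u} [CommRing R] [IsDomain R]
    [ValuationRing R] [CommRing S] [IsDomain S] [Algebra R S]
    (hinj : Function.Injective (algebraMap R S)) [Algebra.FiniteType R S]
    [Nontrivial (IsLocalRing.ResidueField R ⊗[R] S)] :
    ringKrullDim (IsLocalRing.ResidueField R ⊗[R] S) = ringKrullDim (FractionRing R ⊗[R] S) := by
  let e1 : IsLocalRing.ResidueField R ≃ₐ[R] (IsLocalRing.maximalIdeal R).ResidueField :=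
    AlgEquiv.ofBijective (IsScalarTower.toAlgHom R (R ⧸ IsLocalRing.maximalIdeal R) _)
      (Ideal.bijective_algebraMap_quotient_residueField _)
  let E1 : IsLocalRing.ResidueField R ⊗[R] S ≃ₐ[R] (IsLocalRing.maximalIdeal R).Fiber S :=
    Algebra.TensorProduct.congr e1 AlgEquiv.refl
  let e2 : FractionRing R ≃ₐ[R] (⊥ : Ideal R).ResidueField := FractionRing.algEquiv R _
  let E2 : FractionRing R ⊗[R] S ≃ₐ[R] (⊥ : Ideal R).Fiber S :=
    Algebra.TensorProduct.congr e2 AlgEquiv.refl
  rw [ringKrullDim_eq_of_ringEquiv E1.toRingEquiv, ringKrullDim_eq_of_ringEquiv E2.toRingEquiv]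
  let f := Spec.map (CommRingCat.ofHom (algebraMap R S))
  have h1 := ringKrullDim_fiber_eq (R := R) (S := S) (IsLocalRing.closedPoint R)
  have h2 := ringKrullDim_fiber_eq (R := R) (S := S) (⊥ : PrimeSpectrum R)
  change ringKrullDim ((IsLocalRing.maximalIdeal R).Fiber S) = _ at h1
  change ringKrullDim ((⊥ : Ideal R).Fiber S) = _ at h2
  rw [h1, h2]
  haveI : IrreducibleSpace ↥(Spec (CommRingCat.of S)) :=
    inferInstanceAs (IrreducibleSpace (PrimeSpectrum S))
  haveI : LocallyOfFiniteType f := by
    rw [HasRingHomProperty.Spec_iff (P := @LocallyOfFiniteType)]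
    exact RingHom.finiteType_algebraMap.2 inferInstance
  haveI : IsDominant f := by
    refine ⟨?_⟩
    change DenseRange (PrimeSpectrum.comap (algebraMap R S))
    rw [PrimeSpectrum.denseRange_comap_iff_ker_le_nilRadical,
      (RingHom.injective_iff_ker_eq_bot _).1 hinj]
    exact bot_le
  have h0 : Nonempty ↥(f.fiber (IsLocalRing.closedPoint R)) := by
    haveI : Nontrivial ((IsLocalRing.maximalIdeal R).Fiber S) := E1.injective.nontrivial
    obtain ⟨q⟩ := (inferInstance : Nonempty (PrimeSpectrum ((IsLocalRing.maximalIdeal R).Fiber S)))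
    let q' := (PrimeSpectrum.preimageHomeomorphFiber R S (IsLocalRing.closedPoint R)).symm q
    exact ⟨(f.fiberHomeo (IsLocalRing.closedPoint R)).symm ⟨q'.1, q'.2⟩⟩
  have key := Groth.Agent.S4932.result (A := R) f h0
  rw [genericPoint_eq_bot_of_affine (CommRingCat.of R)] at key
  exact key

end Groth.Agent.Lib.Helper22.ValTrdeg
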