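import Mathlib
import Groth.Agent.Lib.Helper29.QCohPush

set_option autoImplicit false
set_option linter.style.haveILetI false

universe u

namespace Groth.Agent.Lib.Helper22.WeakAssFinite

open AlgebraicGeometry CategoryTheory Opposite TopologicalSpace Groth.Agent.Lib.Helper29.QCohLoc

/-- if `q` is minimal over `J` and `x ∈ q`, then `y * x ^ n ∈ J` for some `y ∉ q`. -/
theorem exists_mul_pow_mem_of_mem_minimalPrimes {B : Type*} [CommRing B] {J q : Ideal B}
    (hq : q ∈ J.minimalPrimes) {x : B} (hx : x ∈ q) : ∃ y ∉ q, ∃ n : ℕ, y * x ^ n ∈ J := by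
  haveI : q.IsPrime := hq.1.1
  have h := IsLocalization.AtPrime.radical_map_of_mem_minimalPrimes
    (A := Localization.AtPrime q) q J hq
  have hx' : algebraMap B (Localization.AtPrime q) x ∈
      (J.map (algebraMap B (Localization.AtPrime q))).radical := by
    rw [h]
    exact Ideal.mem_map_of_mem _ hx
  obtain ⟨n, hn⟩ := hx'
  rw [IsLocalization.mem_map_algebraMap_iff (M := q.primeCompl)] at hn
  obtain ⟨⟨a, b⟩, hn⟩ := hn
  rw [← map_pow, ← map_mul, IsLocalization.eq_iff_exists q.primeCompl] at hn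
  obtain ⟨t, ht⟩ := hn
  refine ⟨t * b, (t * b).2, n, ?_⟩
  simp only at ht
  have : (t.1 * b.1) * x ^ n = t.1 * a.1 := by
    rw [← ht]; ring
  rw [this]
  exact J.mul_mem_left _ a.2

theorem exists_comap_mem_minimalPrimes_of_finite {A B : Type*} [CommRing A] [CommRing B]
    [Algebra A B] [Module.Finite A B] {M : Type*} [AddCommGroup M] [Module B M] (t : M)
    (q : Ideal B)
    (hq : q ∈ Ideal.minimalPrimes (LinearMap.ker (LinearMap.toSpanSingleton B M t))) :
    ∃ t' : M, q.comap (algebraMap A B) ∈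
      Ideal.minimalPrimes (Ideal.comap (algebraMap A B)
        (LinearMap.ker (LinearMap.toSpanSingleton B M t'))) := by
  classical
  haveI : q.IsPrime := hq.1.1
  haveI : Algebra.IsIntegral A B := inferInstance
  set J : Ideal B := LinearMap.ker (LinearMap.toSpanSingleton B M t) with hJ
  set p := q.comap (algebraMap A B) with hp
  haveI : p.IsPrime := Ideal.comap_isPrime _ _
  have hfin : (p.primesOver B).Finite := Algebra.QuasiFinite.finite_primesOver p
  -- prime avoidance
  obtain ⟨x, hxq, hxS⟩ : ∃ x ∈ q, ∀ Q ∈ p.primesOver B, Q ≠ q → x ∉ Q := by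
    by_contra hcon
    push Not at hcon
    let s : Finset (Ideal B) := hfin.toFinset.erase q
    have hsub : ((q : Set B) ⊆ ⋃ Q ∈ (s : Set (Ideal B)), (Q : Set B)) := by
      intro x hx
      obtain ⟨Q, hQ, hne, hxQ⟩ := hcon x hx
      simp only [Set.mem_iUnion]
      refine ⟨Q, ?_, hxQ⟩
      simp only [s, Finset.coe_erase, Set.Finite.coe_toFinset]
      exact ⟨hQ, hne⟩
    by_cases hs : s.Nonempty
    · obtain ⟨a, ha⟩ := hs
      have hprime : ∀ i ∈ s, i ≠ a → i ≠ a → i.IsPrime := by
        intro i hi _ _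
        have : i ∈ p.primesOver B := by
          have := Finset.mem_of_mem_erase hi
          simpa using this
        exact this.1
      obtain ⟨Q, hQs, hqQ⟩ := (Ideal.subset_union_prime (f := fun i : Ideal B => i) a a hprime).mp hsub
      have hQne : Q ≠ q := Finset.ne_of_mem_erase hQs
      have hQ : Q ∈ p.primesOver B := by
        have := Finset.mem_of_mem_erase hQs
        simpa using this
      have hlt : q < Q := lt_of_le_of_ne hqQ (Ne.symm hQne)
      have := Ideal.IsIntegral.comap_lt_comap (R := A) hlt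
      have hQp : Q.comap (algebraMap A B) = p := (hQ.2.over).symm
      rw [hQp] at this
      exact lt_irrefl _ this
    · rw [Finset.not_nonempty_iff_eq_empty] at hs
      rw [hs] at hsub
      simp only [Finset.coe_empty, Set.mem_empty_iff_false, Set.iUnion_of_empty,
        Set.iUnion_empty, Set.subset_empty_iff] at hsub
      have : (0 : B) ∈ (q : Set B) := q.zero_mem
      rw [hsub] at this
      exact this
  obtain ⟨y, hyq, n, hyn⟩ := exists_mul_pow_mem_of_mem_minimalPrimes hq hxq
  refine ⟨y • t, ?_⟩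
  set J' : Ideal B := LinearMap.ker (LinearMap.toSpanSingleton B M (y • t)) with hJ'
  have memJ : ∀ b : B, b ∈ J ↔ b • t = 0 := fun b => by
    rw [hJ, LinearMap.mem_ker, LinearMap.toSpanSingleton_apply]
  have memJ' : ∀ b : B, b ∈ J' ↔ b * y ∈ J := fun b => by
    rw [hJ', LinearMap.mem_ker, LinearMap.toSpanSingleton_apply, memJ, mul_smul]
  have hJJ' : J ≤ J' := fun b hb => (memJ' b).mpr (J.mul_mem_right _ hb)
  have hJ'q : J' ≤ q := fun b hb =>
    (Ideal.IsPrime.mem_or_mem ‹_› (hq.1.2 ((memJ' b).mp hb))).resolve_right hyq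
  refine ⟨⟨inferInstance, Ideal.comap_mono hJ'q⟩, ?_⟩
  rintro p' ⟨hp'prime, hp'J⟩ hp'p
  haveI := hp'prime
  obtain ⟨q', hq'J, hq'prime, hq'p⟩ := Ideal.exists_ideal_over_prime_of_isIntegral p' J' hp'J
  haveI := hq'prime
  obtain ⟨q'', hq''q', hq''prime, hq''p⟩ :=
    Ideal.exists_ideal_over_prime_of_isIntegral p q' (hq'p.le.trans hp'p)
  haveI := hq''prime
  have hxn : x ^ n ∈ J' := (memJ' _).mpr (by rwa [mul_comm])
  have hxq'' : x ∈ q'' := hq''prime.mem_of_pow_mem n (hq''q' (hq'J hxn))
  have hq''S : q'' ∈ p.primesOver B := ⟨hq''prime, ⟨hq''p.symm⟩⟩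
  have hq''eq : q'' = q := by
    by_contra hne
    exact hxS q'' hq''S hne hxq''
  have hq'q : q' ≤ q := hq''eq ▸ hq''q'
  have hqq' : q ≤ q' := hq.2 ⟨hq'prime, hJJ'.trans hq'J⟩ hq'q
  have : q' = q := le_antisymm hq'q hqq'
  rw [← hq'p, this]

/-- the image of a weakly associated point under a finite morphism is weakly associated to the
pushforward (quasi-coherent case, no Noetherian hypothesis) -/
theorem isWeakAssPoint_pushforward_of_isFinite {X S : Scheme.{u}} (f : X ⟶ S) [IsFinite f]
    (F : X.Modules) [F.IsQuasicoherent] (x : X) (hx : Curv2.IsWeakAssPoint F x) :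
    Curv2.IsWeakAssPoint ((Scheme.Modules.pushforward f).obj F) (f.base x) := by
  obtain ⟨V, hV, hsV, -⟩ :=
    exists_isAffineOpen_mem_and_subset (X := S) (x := f.base x) (U := ⊤) trivial
  have hW : IsAffineOpen (f ⁻¹ᵁ V) := hV.preimage f
  have hxW : x ∈ f ⁻¹ᵁ V := hsV
  have hFW := LocAt.of_isQuasicoherent F hW
  have hG := LocAt.pushforward f F V hFW
  obtain ⟨t, ht⟩ := (isWeakAssPoint_iff F hW hFW x hxW).mp hx
  letI : Algebra Γ(S, V) Γ(X, f ⁻¹ᵁ V) := (f.app V).hom.toAlgebra
  haveI : Module.Finite Γ(S, V) Γ(X, f ⁻¹ᵁ V) := IsFinite.finite_app f V hV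
  obtain ⟨t', ht'⟩ := exists_comap_mem_minimalPrimes_of_finite (A := Γ(S, V)) t _ ht
  rw [isWeakAssPoint_iff _ hV hG (f.base x) hsV]
  refine ⟨(show Γ((Scheme.Modules.pushforward f).obj F, V) from t'), ?_⟩
  rw [ann_pushforward]
  have h1 := IsAffineOpen.comap_primeIdealOf_appLE (f := f) V hV (f ⁻¹ᵁ V) hW le_rfl hxW
  rw [Scheme.Hom.appLE_eq_app] at h1
  have h2 : (hV.primeIdealOf ⟨f.base x, hsV⟩).asIdeal =
      (hW.primeIdealOf ⟨x, hxW⟩).asIdeal.comap (f.app V).hom := by
    rw [← h1]
    rfl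
  rw [h2]
  exact ht'

/-- weakly associated points of the pushforward of a quasi-coherent module along a finite
morphism are exactly the images of the weakly associated points -/
theorem weakAssPoints_pushforward_of_isFinite {X S : Scheme.{u}} (f : X ⟶ S) [IsFinite f]
    (F : X.Modules) [F.IsQuasicoherent] :
    {s : S | Curv2.IsWeakAssPoint ((Scheme.Modules.pushforward f).obj F) s} =
      f.base '' {x : X | Curv2.IsWeakAssPoint F x} := by
  ext s
  constructor
  · intro hs
    obtain ⟨x, hxs, hx⟩ := exists_isWeakAssPoint_of_pushforward f F s hs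
    exact ⟨x, hx, hxs⟩
  · rintro ⟨x, hx, rfl⟩
    exact isWeakAssPoint_pushforward_of_isFinite f F x hx

end Groth.Agent.Lib.Helper22.WeakAssFinite
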