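import Groth.Agent.Lib.Lead.PullbackAff6
import Groth.Prelude.Def_CurvBase
import Mathlib.RingTheory.RingHom.Flat
import Mathlib.RingTheory.Flat.FaithfullyFlat.Algebra

set_option autoImplicit false
universe u
open CategoryTheory CategoryTheory.Limits AlgebraicGeometry TopologicalSpace TensorProduct

namespace Groth.Agent.Lib.Helper22.WeakAssPull

open Groth.Agent.Lib.Lead.PullbackAff

theorem radical_ann_one_tmul {A B : Type u} [CommRing A] [CommRing B] [IsLocalRing A] [IsLocalRing B]
    [Algebra A B] [Module.Flat A B] [IsLocalHom (algebraMap A B)]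
    {G : Type u} [AddCommGroup G] [Module A G] (g : G)
    (hg : Ideal.radical (LinearMap.ker (LinearMap.toSpanSingleton A G g)) =
      IsLocalRing.maximalIdeal A)
    (hprime : ∀ q : Ideal B, q.IsPrime → (IsLocalRing.maximalIdeal A).map (algebraMap A B) ≤ q →
      q = IsLocalRing.maximalIdeal B) :
    Ideal.radical (LinearMap.ker (LinearMap.toSpanSingleton B (B ⊗[A] G) ((1 : B) ⊗ₜ[A] g))) =
      IsLocalRing.maximalIdeal B := by
  have : Module.FaithfullyFlat A B := Module.FaithfullyFlat.of_flat_of_isLocalHom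
  apply le_antisymm
  · have hne : LinearMap.ker (LinearMap.toSpanSingleton B (B ⊗[A] G) ((1 : B) ⊗ₜ[A] g)) ≠ ⊤ := by
      intro htop
      have h1 : (1 : B) ∈ LinearMap.ker (LinearMap.toSpanSingleton B (B ⊗[A] G) ((1 : B) ⊗ₜ[A] g)) := by
        rw [htop]; trivial
      rw [LinearMap.mem_ker, LinearMap.toSpanSingleton_apply, one_smul,
        Module.FaithfullyFlat.one_tmul_eq_zero_iff] at h1
      subst h1
      have : LinearMap.ker (LinearMap.toSpanSingleton A G 0) = ⊤ := by
        ext a; simp
      rw [this, Ideal.radical_top] at hg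
      exact (IsLocalRing.maximalIdeal.isMaximal A).ne_top hg.symm
    calc Ideal.radical _ ≤ Ideal.radical (IsLocalRing.maximalIdeal B) :=
          Ideal.radical_mono (IsLocalRing.le_maximalIdeal hne)
      _ = IsLocalRing.maximalIdeal B := (IsLocalRing.maximalIdeal.isMaximal B).isPrime.radical
  · have h1 : IsLocalRing.maximalIdeal B ≤
        Ideal.radical ((IsLocalRing.maximalIdeal A).map (algebraMap A B)) := by
      rw [Ideal.radical_eq_sInf]
      apply le_sInf
      rintro J ⟨hJ, hJp⟩
      rw [hprime J hJp hJ]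
    have h2 : Ideal.map (algebraMap A B) (LinearMap.ker (LinearMap.toSpanSingleton A G g)) ≤
        LinearMap.ker (LinearMap.toSpanSingleton B (B ⊗[A] G) ((1 : B) ⊗ₜ[A] g)) := by
      rw [Ideal.map_le_iff_le_comap]
      intro a ha
      rw [LinearMap.mem_ker, LinearMap.toSpanSingleton_apply] at ha
      rw [Ideal.mem_comap, LinearMap.mem_ker, LinearMap.toSpanSingleton_apply,
        TensorProduct.smul_tmul', smul_eq_mul, mul_one, Algebra.algebraMap_eq_smul_one,
        TensorProduct.smul_tmul, ha, TensorProduct.tmul_zero]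
    calc IsLocalRing.maximalIdeal B
        ≤ Ideal.radical ((IsLocalRing.maximalIdeal A).map (algebraMap A B)) := h1
      _ = Ideal.radical (Ideal.map (algebraMap A B) (Ideal.radical (LinearMap.ker (LinearMap.toSpanSingleton A G g)))) := by rw [hg]
      _ ≤ Ideal.radical (Ideal.radical (Ideal.map (algebraMap A B) (LinearMap.ker (LinearMap.toSpanSingleton A G g)))) := Ideal.radical_mono (Ideal.map_radical_le _)
      _ = Ideal.radical (Ideal.map (algebraMap A B) (LinearMap.ker (LinearMap.toSpanSingleton A G g))) := Ideal.radical_idem _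
      _ ≤ _ := Ideal.radical_mono h2



theorem prime_eq_maximalIdeal_of_generic_in_fibre {X S : Scheme.{u}} (f : X ⟶ S) (x : X)
    (hgen : ∀ y : X, f y = f x → y ⤳ x → y = x)
    (q : Ideal (X.presheaf.stalk x)) (hq : q.IsPrime)
    (hle : (IsLocalRing.maximalIdeal (S.presheaf.stalk (f x))).map (f.stalkMap x).hom ≤ q) :
    q = IsLocalRing.maximalIdeal (X.presheaf.stalk x) := by
  let qq : Spec (X.presheaf.stalk x) := ⟨q, hq⟩
  set y := X.fromSpecStalk x qq with hy
  have hyx : y ⤳ x := by
    have : y ∈ Set.range (X.fromSpecStalk x) := ⟨qq, rfl⟩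
    rw [Scheme.range_fromSpecStalk] at this
    exact this
  have hcomap : (Spec.map (f.stalkMap x)) qq = IsLocalRing.closedPoint (S.presheaf.stalk (f x)) := by
    apply PrimeSpectrum.ext
    change Ideal.comap (f.stalkMap x).hom q = IsLocalRing.maximalIdeal _
    have h1 : IsLocalRing.maximalIdeal (S.presheaf.stalk (f x)) ≤ Ideal.comap (f.stalkMap x).hom q :=
      Ideal.map_le_iff_le_comap.mp hle
    have h2 : Ideal.comap (f.stalkMap x).hom q ≠ ⊤ := (Ideal.IsPrime.comap _).ne_top
    exact ((IsLocalRing.maximalIdeal.isMaximal _).eq_of_le h2 h1).symm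
  have hfy : f y = f x := by
    have h1 : (X.fromSpecStalk x ≫ f) qq = (Spec.map (f.stalkMap x) ≫ S.fromSpecStalk (f x)) qq := by
      rw [Scheme.SpecMap_stalkMap_fromSpecStalk]
    rw [Scheme.Hom.comp_apply, Scheme.Hom.comp_apply, hcomap, Scheme.fromSpecStalk_closedPoint] at h1
    exact h1
  have hyx' := hgen y hfy hyx
  have h3 : X.fromSpecStalk x qq = X.fromSpecStalk x (IsLocalRing.closedPoint _) := by
    rw [Scheme.fromSpecStalk_closedPoint]; exact hyx'
  have h4 := (X.fromSpecStalk x).isEmbedding.injective h3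
  exact congrArg PrimeSpectrum.asIdeal h4



theorem isWeakAssPoint_pullback {X S : Scheme.{u}} (f : X ⟶ S) (G : S.Modules) (hG : Coh.IsQCoh G)
    (x : X) (hfl : (f.stalkMap x).hom.Flat) (hgen : ∀ y : X, f y = f x → y ⤳ x → y = x)
    (hs : Curv2.IsWeakAssPoint G (f x)) :
    Curv2.IsWeakAssPoint ((Scheme.Modules.pullback f).obj G) x := by
  obtain ⟨g, hg⟩ := hs
  letI := (f.stalkMap x).hom.toAlgebra
  have hG' : G.IsQuasicoherent := hG
  obtain ⟨e⟩ := nonempty_stalk_pullback_equiv f G x
  have hflat : Module.Flat (S.presheaf.stalk (f x)) (X.presheaf.stalk x) := hfl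
  have hloc : IsLocalHom (algebraMap (S.presheaf.stalk (f x)) (X.presheaf.stalk x)) :=
    inferInstanceAs (IsLocalHom (f.stalkMap x).hom)
  refine ⟨e.symm ((1 : X.presheaf.stalk x) ⊗ₜ[S.presheaf.stalk (f x)] g), ?_⟩
  have key := radical_ann_one_tmul (A := S.presheaf.stalk (f x)) (B := X.presheaf.stalk x) g hg
    (fun q hq hle => prime_eq_maximalIdeal_of_generic_in_fibre f x hgen q hq hle)
  rw [← key]
  congr 1
  ext b
  simp only [LinearMap.mem_ker, LinearMap.toSpanSingleton_apply]
  rw [← map_smul, LinearEquiv.map_eq_zero_iff]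

end Groth.Agent.Lib.Helper22.WeakAssPull
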