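import Groth.Agent.Lib.Helper73.DimFormula.DimFibLoci
import Groth.Agent.Lib.Helper73.DimFormula.GenericFibre

/-!
# Well-intersecting closed subsets (helper22)

`E(Y,Z) = Y ×_S Z ∖ Δ` inside `X ×_S X`.
* `exists_point_over`, `trdegNat_fst_le_dim` (`δ_X (fst e) ≤ dim E(Y,Z)`), `arith_contra`.
* `not_image_subset_closure` (S14484).
-/

set_option autoImplicit false
set_option linter.style.haveILetI false
open CategoryTheory AlgebraicGeometry TopologicalSpace Topology Limits
universe u

namespace Groth.Agent.Lib.Helper22.WellInt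

open Groth.Agent.Lib.Helper73

section

variable {k : Type u} [Field k] {X S : Scheme.{u}} (q : S ⟶ Spec (CommRingCat.of k)) (f : X ⟶ S)
  [LocallyOfFiniteType q] [LocallyOfFiniteType f]

/-- A point of the fibre product over a pair of distinct points is off the diagonal. -/
theorem exists_point_over {X S : Scheme.{u}} (f : X ⟶ S) (y z : X) (h : f y = f z) :
    ∃ e : ↥(pullback f f), pullback.fst f f e = y ∧ pullback.snd f f e = z ∧
      (y ≠ z → e ∉ Set.range (pullback.diagonal f)) := by
  obtain ⟨e, h1, h2⟩ := Scheme.Pullback.exists_preimage_pullback y z h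
  refine ⟨e, h1, h2, fun hne => ?_⟩
  rintro ⟨x, rfl⟩
  apply hne
  rw [← h1, ← h2, ← Scheme.Hom.comp_apply, ← Scheme.Hom.comp_apply, pullback.diagonal_fst,
    pullback.diagonal_snd]

include q in
/-- The dimension of `Y ×_S Z ∖ Δ` is at least the dimension function at the first projection
of any of its points. -/
theorem trdegNat_fst_le_dim [IsSeparated f] (Y Z : Set X) (hYc : IsClosed Y) (hZc : IsClosed Z)
    (e : ↥(pullback f f)) (h1 : pullback.fst f f e ∈ Y) (h2 : pullback.snd f f e ∈ Z)
    (h3 : e ∉ Set.range (pullback.diagonal f)) :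
    ((trdegNat (f ≫ q) (pullback.fst f f e) : ℕ∞) : WithBot ℕ∞) ≤
      topologicalKrullDim {p : ↥(pullback f f) | pullback.fst f f p ∈ Y ∧
        pullback.snd f f p ∈ Z ∧ p ∉ Set.range (pullback.diagonal f)} := by
  haveI : LocallyOfFiniteType (pullback.fst f f ≫ f ≫ q) := inferInstance
  have hδ := isDimFun_trdegNat (pullback.fst f f ≫ f ≫ q)
  have hcl : IsClosed (Set.range (pullback.diagonal f)) :=
    (pullback.diagonal f).isClosedEmbedding.isClosed_range
  have hF : IsClosed ((pullback.fst f f) ⁻¹' Y ∩ (pullback.snd f f) ⁻¹' Z) :=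
    (hYc.preimage (pullback.fst f f).continuous).inter (hZc.preimage (pullback.snd f f).continuous)
  have hset : {p : ↥(pullback f f) | pullback.fst f f p ∈ Y ∧
        pullback.snd f f p ∈ Z ∧ p ∉ Set.range (pullback.diagonal f)} =
      (Set.range (pullback.diagonal f))ᶜ ∩
        ((pullback.fst f f) ⁻¹' Y ∩ (pullback.snd f f) ⁻¹' Z) := by
    ext p
    simp only [Set.mem_ofPred_eq, Set.mem_inter_iff, Set.mem_compl_iff, Set.mem_preimage]
    tauto
  rw [hset, hδ.topologicalKrullDim_inter_eq_iSup hcl.isOpen_compl hF]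
  refine le_trans ?_ (le_iSup (fun t : ↥((Set.range (pullback.diagonal f))ᶜ ∩
        ((pullback.fst f f) ⁻¹' Y ∩ (pullback.snd f f) ⁻¹' Z)) =>
      ((trdegNat (pullback.fst f f ≫ f ≫ q) t.1 : ℕ∞) : WithBot ℕ∞)) ⟨e, h3, h1, h2⟩)
  have := trdegNat_eq_add (pullback.fst f f ≫ f ≫ q) (f ≫ q) (pullback.fst f f) rfl e
  rw [this]
  exact_mod_cast Nat.le_add_right _ _


/-- WithBot ℕ∞ arithmetic: `a ≤ e`, `e + s ≤ a + z`, `z < s` is contradictory for finite `a`. -/
theorem arith_contra (a : ℕ) (e s z : WithBot ℕ∞) (h1 : ((a : ℕ∞) : WithBot ℕ∞) ≤ e)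
    (h2 : e + s ≤ ((a : ℕ∞) : WithBot ℕ∞) + z) (h3 : z < s) : False := by
  have h4 : ((a : ℕ∞) : WithBot ℕ∞) + s ≤ ((a : ℕ∞) : WithBot ℕ∞) + z :=
    le_trans (by gcongr) h2
  induction s using WithBot.recBotCoe with
  | bot => exact absurd h3 (by simp)
  | coe s =>
    induction z using WithBot.recBotCoe with
    | bot =>
      rw [WithBot.add_bot, le_bot_iff, ← WithBot.coe_add] at h4
      exact absurd h4 (by simp)
    | coe z =>
      rw [← WithBot.coe_add, ← WithBot.coe_add, WithBot.coe_le_coe] at h4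
      rw [WithBot.coe_lt_coe] at h3
      have hz : z ≠ ⊤ := ne_top_of_lt h3
      have h5 : s ≤ z := by
        rwa [ENat.add_le_add_iff_left (ENat.natCast_ne_top a)] at h4
      exact absurd h3 (not_lt.mpr h5)

include q in
theorem not_image_subset_closure [CompactSpace X] [IsSeparated f]
    (Y Z : Set X) (hYc : IsClosed Y) (hYi : IsIrreducible Y) (hZc : IsClosed Z)
    (hWI : topologicalKrullDim {p : ↥(pullback f f) | pullback.fst f f p ∈ Y ∧
      pullback.snd f f p ∈ Z ∧ p ∉ Set.range (pullback.diagonal f)} + topologicalKrullDim S ≤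
        topologicalKrullDim Y + topologicalKrullDim Z)
    (hZS : topologicalKrullDim Z < topologicalKrullDim S)
    (hYZ : ¬ Y ⊆ Z) :
    ¬ (f '' Y ⊆ closure (f '' Y ∩ f '' Z)) := by
  intro hsub
  haveI : LocallyOfFiniteType (f ≫ q) := inferInstance
  have hδX := isDimFun_trdegNat (f ≫ q)
  have hLNS : IsLocallyNoetherian S := LocallyOfFiniteType.isLocallyNoetherian q
  haveI : T0Space S := inferInstance
  -- generic point of Y
  obtain ⟨η, hη⟩ := QuasiSober.sober hYi hYc
  have hηY : closure {η} = Y := hη.def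
  have hηmem : η ∈ Y := by rw [← hηY]; exact subset_closure rfl
  have hdimY : topologicalKrullDim Y = ((trdegNat (f ≫ q) η : ℕ∞) : WithBot ℕ∞) := by
    rw [← hηY]; exact hδX.topologicalKrullDim_closure_singleton η
  -- the fibre product is noetherian
  haveI : QuasiCompact f := inferInstance
  haveI : CompactSpace ↥(pullback f f) :=
    QuasiCompact.compactSpace_of_compactSpace (pullback.fst f f)
  haveI : LocallyOfFiniteType (pullback.fst f f ≫ f ≫ q) := inferInstance
  have hLNP : IsLocallyNoetherian (pullback f f) :=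
    LocallyOfFiniteType.isLocallyNoetherian (pullback.fst f f ≫ f ≫ q)
  haveI : IsNoetherian (pullback f f) := {}
  -- closed subset E'
  let E' : Set ↥(pullback f f) := (pullback.fst f f) ⁻¹' Y ∩ (pullback.snd f f) ⁻¹' Z
  have hE' : IsClosed E' :=
    (hYc.preimage (pullback.fst f f).continuous).inter (hZc.preimage (pullback.snd f f).continuous)
  haveI : QuasiSober ↥E' := hE'.isClosedEmbedding_subtypeVal.quasiSober
  let φ : ↥E' → S := fun g => f (pullback.fst f f g.1)
  have hφ : Continuous φ :=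
    f.continuous.comp ((pullback.fst f f).continuous.comp continuous_subtype_val)
  have hrange : f '' Y ∩ f '' Z ⊆ Set.range φ := by
    rintro s ⟨⟨y, hy, rfl⟩, ⟨z, hz, hzy⟩⟩
    obtain ⟨e, h1, h2, -⟩ := exists_point_over f y z hzy.symm
    exact ⟨⟨e, by rw [← h1] at hy; exact hy, by rw [← h2] at hz; exact hz⟩, by
      change f (pullback.fst f f e) = f y; rw [h1]⟩
  have hmem : f η ∈ closure (Set.range φ) := closure_mono hrange (hsub ⟨η, hηmem, rfl⟩)
  obtain ⟨g, hg⟩ := exists_specializes_of_mem_closure_range φ hφ (f η) hmem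
  have hg1 : η ⤳ pullback.fst f f g.1 := by
    rw [specializes_iff_mem_closure, hηY]; exact g.2.1
  have hfg : f (pullback.fst f f g.1) = f η :=
    (hg.antisymm (hg1.map f.continuous)).eq
  have hcond : f (pullback.fst f f g.1) = f (pullback.snd f f g.1) := by
    rw [← Scheme.Hom.comp_apply, ← Scheme.Hom.comp_apply, pullback.condition]
  have hηZ : η ∉ Z := by
    intro h
    apply hYZ
    rw [← hηY]
    exact closure_minimal (Set.singleton_subset_iff.mpr h) hZc
  obtain ⟨e, h1, h2, h3⟩ := exists_point_over f η (pullback.snd f f g.1) (by rw [← hfg, hcond])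
  have hne : η ≠ pullback.snd f f g.1 := by
    intro h
    apply hηZ
    rw [h]
    exact g.2.2
  have hdimE := trdegNat_fst_le_dim q f Y Z hYc hZc e (by rw [h1]; exact hηmem)
    (by rw [h2]; exact g.2.2) (h3 hne)
  rw [h1] at hdimE
  rw [hdimY] at hWI
  exact arith_contra _ _ _ _ hdimE hWI hZS

end

end Groth.Agent.Lib.Helper22.WellInt
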