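import Groth.Agent.Lib.Helper22.WellIntersect
import Groth.Agent.Lib.Helper22.RegImmDim

/-!
# Generic radiciality from well-intersection (helper22)

* `isPurelyInseparable_of_forall_mem_range_diagonal`: pointwise form of Mathlib's
  `tfae_universallyInjective` (4 → 3).
* `exists_open_injOn_purelyInseparable` (S14483).
-/

set_option autoImplicit false
set_option linter.style.haveILetI false
open CategoryTheory CategoryTheory.Limits Opposite AlgebraicGeometry TopologicalSpace Topology
universe u

namespace Groth.Agent.Lib.Helper22.WellInt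

open Groth.Agent.Lib.Helper73

set_option backward.isDefEq.respectTransparency.types false in
set_option backward.defeqAttrib.useBackward true in
/-- Pointwise form of Mathlib's `tfae_universallyInjective` (4 → 3): if every point of
`X ×_Y X` over `(x, x)` lies on the diagonal, then `κ(x) / κ(f x)` is purely inseparable. -/
theorem isPurelyInseparable_of_forall_mem_range_diagonal {X Y : Scheme.{u}} (f : X ⟶ Y) (x : X)
    (hf : ∀ t : ↥(pullback f f), pullback.fst f f t = x → pullback.snd f f t = x →
      t ∈ Set.range (pullback.diagonal f)) :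
    (f.residueFieldMap x).hom.IsPurelyInseparable := by
  algebraize [(f.residueFieldMap x).hom]
  rw [RingHom.IsPurelyInseparable, isPurelyInseparable_iff_subsingleton_emb, subsingleton_iff]
  intro σ₁ σ₂
  apply AlgHom.coe_ringHom_injective
  let g₁ := (X.SpecToEquivOfField _).symm ⟨_, CommRingCat.ofHom σ₁.toRingHom⟩
  let g₂ := (X.SpecToEquivOfField _).symm ⟨_, CommRingCat.ofHom σ₂.toRingHom⟩
  suffices X.SpecToEquivOfField _ g₁ = X.SpecToEquivOfField _ g₂ by
    rw [Equiv.apply_symm_apply, Equiv.apply_symm_apply] at this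
    exact congr($(this).2.hom)
  let q := pullback.lift (f := f) (g := f) g₁ g₂ <| by
    simp only [g₁, g₂, Scheme.SpecToEquivOfField_symm_apply, AlgHom.toRingHom_eq_coe,
      Category.assoc, ← f.SpecMap_residueFieldMap_fromSpecResidueField x, ← Spec.map_comp_assoc]
    congr 2
    ext a
    simp only [CommRingCat.hom_comp, RingHom.comp_apply]
    exact (AlgHom.commutes σ₁ a).trans (AlgHom.commutes σ₂ a).symm
  have q_fst : q ≫ pullback.fst f f = g₁ := pullback.lift_fst _ _ _
  have q_snd : q ≫ pullback.snd f f = g₂ := pullback.lift_snd _ _ _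
  rw [Scheme.SpecToEquivOfField_eq_iff, ← q_fst, ← q_snd]
  have hq1 : pullback.fst f f (q (IsLocalRing.closedPoint _)) = x := by
    rw [← Scheme.Hom.comp_apply, q_fst]
    simp [Scheme.SpecToEquivOfField_symm_apply, g₁]
  have hq2 : pullback.snd f f (q (IsLocalRing.closedPoint _)) = x := by
    rw [← Scheme.Hom.comp_apply, q_snd]
    simp [Scheme.SpecToEquivOfField_symm_apply, g₂]
  obtain ⟨u, hu⟩ := hf (q (IsLocalRing.closedPoint _)) hq1 hq2
  have hux : u = x := by
    have := congr(pullback.fst f f $(hu))
    rw [← Scheme.Hom.comp_apply, ← Scheme.Hom.comp_apply] at this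
    simpa [Scheme.SpecToEquivOfField_symm_apply, q_fst, g₁] using this
  refine ⟨by simp [g₁, g₂, q_fst, q_snd], ?_⟩
  dsimp
  simp only [Scheme.descResidueField_stalkClosedPointTo_comp, ← Category.assoc]
  congr 1
  rw [← cancel_mono (Scheme.residueFieldCongr (hux ▸ hu).symm).hom]
  have : Mono (Scheme.Hom.residueFieldMap (pullback.diagonal f) x) :=
    ConcreteCategory.mono_of_injective _ (RingHom.injective _)
  simp [← cancel_mono ((pullback.diagonal f).residueFieldMap x), ← Scheme.residueFieldMap_comp,
    (pullback.fst f f).residueFieldMap_congr', (pullback.snd f f).residueFieldMap_congr'_assoc,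
    Scheme.Hom.residueFieldMap_congr (pullback.diagonal_snd f),
    Scheme.Hom.residueFieldMap_congr (pullback.diagonal_fst f)]


section

variable {k : Type u} [Field k] {X S : Scheme.{u}} (q : S ⟶ Spec (CommRingCat.of k)) (f : X ⟶ S)
  [LocallyOfFiniteType q] [LocallyOfFiniteType f]

include q in
theorem exists_open_injOn_purelyInseparable [CompactSpace X] [IsSeparated f]
    (Y : Set X) (hYc : IsClosed Y) (hYi : IsIrreducible Y)
    (hWI : topologicalKrullDim {p : ↥(pullback f f) | pullback.fst f f p ∈ Y ∧
      pullback.snd f f p ∈ Y ∧ p ∉ Set.range (pullback.diagonal f)} + topologicalKrullDim S ≤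
        topologicalKrullDim Y + topologicalKrullDim Y)
    (hYS : topologicalKrullDim Y < topologicalKrullDim S) :
    ∃ V : Set X, IsOpen V ∧ (V ∩ Y).Nonempty ∧ Set.InjOn f (V ∩ Y) ∧
      ∀ x ∈ V ∩ Y, (f.residueFieldMap x).hom.IsPurelyInseparable := by
  haveI : LocallyOfFiniteType (f ≫ q) := inferInstance
  have hδX := isDimFun_trdegNat (f ≫ q)
  have hLNS : IsLocallyNoetherian S := LocallyOfFiniteType.isLocallyNoetherian q
  haveI : T0Space X := inferInstance
  obtain ⟨η, hη⟩ := QuasiSober.sober hYi hYc
  have hηY : closure {η} = Y := hη.def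
  have hηmem : η ∈ Y := by rw [← hηY]; exact subset_closure rfl
  have hdimY : topologicalKrullDim Y = ((trdegNat (f ≫ q) η : ℕ∞) : WithBot ℕ∞) := by
    rw [← hηY]; exact hδX.topologicalKrullDim_closure_singleton η
  haveI : QuasiCompact f := inferInstance
  haveI : CompactSpace ↥(pullback f f) :=
    QuasiCompact.compactSpace_of_compactSpace (pullback.fst f f)
  haveI : LocallyOfFiniteType (pullback.fst f f ≫ f ≫ q) := inferInstance
  have hLNP : IsLocallyNoetherian (pullback f f) :=
    LocallyOfFiniteType.isLocallyNoetherian (pullback.fst f f ≫ f ≫ q)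
  haveI : IsNoetherian (pullback f f) := {}
  -- the locally closed set E
  have hcl : IsClosed (Set.range (pullback.diagonal f)) :=
    (pullback.diagonal f).isClosedEmbedding.isClosed_range
  have hF : IsClosed ((pullback.fst f f) ⁻¹' Y ∩ (pullback.snd f f) ⁻¹' Y) :=
    (hYc.preimage (pullback.fst f f).continuous).inter (hYc.preimage (pullback.snd f f).continuous)
  let E : Set ↥(pullback f f) := (Set.range (pullback.diagonal f))ᶜ ∩
        ((pullback.fst f f) ⁻¹' Y ∩ (pullback.snd f f) ⁻¹' Y)
  haveI : QuasiSober ↥E := RegImmDim.quasiSober_inter _ _ hcl.isOpen_compl hF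
  let φ : ↥E → X := fun e => pullback.fst f f e.1
  have hφ : Continuous φ := (pullback.fst f f).continuous.comp continuous_subtype_val
  -- η is not in the closure of the image
  have hηnot : η ∉ closure (Set.range φ) := by
    intro hmem
    obtain ⟨g, hg⟩ := exists_specializes_of_mem_closure_range φ hφ η hmem
    have hg1 : η ⤳ φ g := by
      rw [specializes_iff_mem_closure, hηY]; exact g.2.2.1
    have hgη : pullback.fst f f g.1 = η := (hg.antisymm hg1).eq
    have hdimE := trdegNat_fst_le_dim q f Y Y hYc hYc g.1 g.2.2.1 g.2.2.2 g.2.1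
    rw [hgη] at hdimE
    rw [hdimY] at hWI hYS
    exact arith_contra _ _ _ _ hdimE hWI hYS
  have hE : ∀ e : ↥(pullback f f), pullback.fst f f e ∈ Y → pullback.snd f f e ∈ Y →
      e ∉ Set.range (pullback.diagonal f) → pullback.fst f f e ∈ closure (Set.range φ) :=
    fun e h1 h2 h3 => subset_closure ⟨⟨e, h3, h1, h2⟩, rfl⟩
  refine ⟨(closure (Set.range φ))ᶜ, isClosed_closure.isOpen_compl, ⟨η, hηnot, hηmem⟩, ?_, ?_⟩
  · rintro y ⟨hyV, hyY⟩ y' ⟨hy'V, hy'Y⟩ hyy'
    by_contra hne
    obtain ⟨e, h1, h2, h3⟩ := exists_point_over f y y' hyy'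
    apply hyV
    rw [← h1]
    exact hE e (by rw [h1]; exact hyY) (by rw [h2]; exact hy'Y) (h3 hne)
  · rintro y ⟨hyV, hyY⟩
    apply isPurelyInseparable_of_forall_mem_range_diagonal
    intro t ht1 ht2
    by_contra hcon
    apply hyV
    rw [← ht1]
    exact hE t (by rw [ht1]; exact hyY) (by rw [ht2]; exact hyY) hcon

end

end Groth.Agent.Lib.Helper22.WellInt
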