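import Groth.Agent.Lib.Helper73.DimFormula.DimFibLoci
import Groth.Agent.Lib.Helper73.DimFormula.FiberDimBC
import Groth.Agent.Lib.Helper73.DimFormula.GenericFibre

/-!
# Well-intersection is invariant under base change with fibres of constant dimension (helper22)

* `dim_preimage_eq_add`, `dim_eq_add`: fibres of dimension `d` raise dimensions by `d`.
* `hmap`, `isPullback_hmap`, `isPullback_diagonal`, `range_diagonal_eq`: `X' ×_{S'} X' ⟶ X ×_S X`
  is a base change of `X' ⟶ X` and the diagonal pulls back to the diagonal.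
* `wellIntersect_iff_baseChange` (S14485).
-/

set_option autoImplicit false
set_option linter.style.haveILetI false
open CategoryTheory AlgebraicGeometry TopologicalSpace Topology Limits
universe u

namespace Groth.Agent.Lib.Helper22.WellIntBC

open Groth.Agent.Lib.Helper73

section Dim

variable {k : Type u} [Field k] {T' T : Scheme.{u}} (p : T ⟶ Spec (CommRingCat.of k))
  (g : T' ⟶ T) [LocallyOfFiniteType p] [LocallyOfFiniteType g]

include p in
/-- If all fibres of `g` have dimension `d`, the preimage of a locally closed subset `A` has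
dimension `dim A + d`. -/
theorem dim_preimage_eq_add (d : ℕ) (hd : ∀ t : T, topologicalKrullDim (g.fiber t) = d)
    (A O Z : Set T) (hO : IsOpen O) (hZ : IsClosed Z) (hA : A = O ∩ Z) :
    topologicalKrullDim ↥(g ⁻¹' A) = topologicalKrullDim ↥A + (d : WithBot ℕ∞) := by
  subst hA
  haveI : LocallyOfFiniteType (g ≫ p) := inferInstance
  have hδ := isDimFun_trdegNat p
  have hδ' := isDimFun_trdegNat (g ≫ p)
  have hadd : ∀ c : T', trdegNat (g ≫ p) c = trdegNat p (g c) + resTrdegNat g c :=
    fun c => trdegNat_eq_add (g ≫ p) p g rfl c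
  have hpre : g ⁻¹' (O ∩ Z) = g ⁻¹' O ∩ g ⁻¹' Z := Set.preimage_inter
  rw [hpre, hδ'.topologicalKrullDim_inter_eq_iSup (hO.preimage g.continuous)
    (hZ.preimage g.continuous), hδ.topologicalKrullDim_inter_eq_iSup hO hZ]
  apply le_antisymm
  · refine iSup_le fun t' => ?_
    rw [hadd t'.1]
    have h1 := resTrdegNat_le_topologicalKrullDim_fiber g t'.1
    rw [hd] at h1
    have h2 : resTrdegNat g t'.1 ≤ d := by exact_mod_cast h1
    have h3 := le_iSup (fun t : ↥(O ∩ Z) => ((trdegNat p t.1 : ℕ∞) : WithBot ℕ∞))
      ⟨g t'.1, t'.2⟩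
    refine le_trans ?_ (add_le_add_left h3 _)
    exact_mod_cast (by omega : trdegNat p (g t'.1) + resTrdegNat g t'.1 ≤ trdegNat p (g t'.1) + d)
  · apply iSup_add_le_withBot
    intro t
    obtain ⟨t', ht', hr⟩ := exists_resTrdegNat_ge_of_le_dim_fiber g t.1 d (hd t.1).ge
    refine le_trans ?_ (le_iSup (fun t' : ↥(g ⁻¹' O ∩ g ⁻¹' Z) =>
      ((trdegNat (g ≫ p) t'.1 : ℕ∞) : WithBot ℕ∞)) ⟨t', by
        change g t' ∈ O ∧ g t' ∈ Z
        rw [ht']; exact t.2⟩)
    rw [hadd t', ht']
    exact_mod_cast (by omega : trdegNat p t.1 + d ≤ trdegNat p t.1 + resTrdegNat g t')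

include p in
theorem dim_eq_add (d : ℕ) (hd : ∀ t : T, topologicalKrullDim (g.fiber t) = d) :
    topologicalKrullDim T' = topologicalKrullDim T + (d : WithBot ℕ∞) := by
  have h := dim_preimage_eq_add p g d hd Set.univ Set.univ Set.univ isOpen_univ isClosed_univ
    (Set.univ_inter _).symm
  rw [Set.preimage_univ] at h
  rw [← IsHomeomorph.topologicalKrullDim_eq _ (Homeomorph.Set.univ T').isHomeomorph,
    ← IsHomeomorph.topologicalKrullDim_eq _ (Homeomorph.Set.univ T).isHomeomorph]
  exact h

end Dim

section Cat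

variable {X S S' : Scheme.{u}} (f : X ⟶ S) (g : S' ⟶ S)

/-- The comparison `X' ×_{S'} X' ⟶ X ×_S X`. -/
noncomputable def hmap : pullback (pullback.snd f g) (pullback.snd f g) ⟶ pullback f f :=
  pullback.map _ _ _ _ (pullback.fst f g) (pullback.fst f g) g pullback.condition.symm
    pullback.condition.symm

@[reassoc]
lemma hmap_fst : hmap f g ≫ pullback.fst f f =
    pullback.fst (pullback.snd f g) (pullback.snd f g) ≫ pullback.fst f g :=
  pullback.lift_fst _ _ _

@[reassoc]
lemma hmap_snd : hmap f g ≫ pullback.snd f f =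
    pullback.snd (pullback.snd f g) (pullback.snd f g) ≫ pullback.fst f g :=
  pullback.lift_snd _ _ _

/-- `hmap` is a base change of `X' ⟶ X`. -/
theorem isPullback_hmap : IsPullback (hmap f g)
    (pullback.snd (pullback.snd f g) (pullback.snd f g)) (pullback.snd f f) (pullback.fst f g) := by
  have sq1 := IsPullback.of_hasPullback (pullback.snd f g) (pullback.snd f g)
  have sq2 := IsPullback.of_hasPullback f g
  have sqP := IsPullback.of_hasPullback f f
  have outer := sq1.paste_horiz sq2
  rw [← hmap_fst, ← pullback.condition] at outer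
  exact IsPullback.of_right outer (hmap_snd f g) sqP

lemma diagonal_hmap : pullback.diagonal (pullback.snd f g) ≫ hmap f g =
    pullback.fst f g ≫ pullback.diagonal f := by
  apply pullback.hom_ext
  · simp [hmap_fst]
  · simp [hmap_snd]

/-- The diagonal of `f'` is the base change of the diagonal of `f`. -/
theorem isPullback_diagonal : IsPullback (pullback.diagonal (pullback.snd f g)) (pullback.fst f g)
    (hmap f g) (pullback.diagonal f) := by
  have outer : IsPullback (pullback.diagonal (pullback.snd f g) ≫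
      pullback.snd (pullback.snd f g) (pullback.snd f g)) (pullback.fst f g) (pullback.fst f g)
      (pullback.diagonal f ≫ pullback.snd f f) := by
    rw [pullback.diagonal_snd, pullback.diagonal_snd]
    exact IsPullback.id_horiz _
  exact IsPullback.of_right outer (diagonal_hmap f g) (isPullback_hmap f g).flip

theorem range_diagonal_eq : Set.range (pullback.diagonal (pullback.snd f g)) =
    (hmap f g) ⁻¹' Set.range (pullback.diagonal f) := by
  have hsq := isPullback_diagonal f g
  have h1 := Scheme.Pullback.range_fst (hmap f g) (pullback.diagonal f)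
  rw [← h1]
  -- transport along the iso
  have h2 : pullback.diagonal (pullback.snd f g) = hsq.isoPullback.hom ≫
      pullback.fst (hmap f g) (pullback.diagonal f) := by
    simp
  rw [h2]
  ext t
  constructor
  · rintro ⟨x, rfl⟩
    exact ⟨hsq.isoPullback.hom x, rfl⟩
  · rintro ⟨x, rfl⟩
    refine ⟨hsq.isoPullback.inv x, ?_⟩
    rw [Scheme.Hom.comp_apply, ← Scheme.Hom.comp_apply hsq.isoPullback.inv, Iso.inv_hom_id]
    rfl

end Cat


theorem add_nat_le_add_nat_iff (a b : WithBot ℕ∞) (m : ℕ) :
    a + (m : WithBot ℕ∞) ≤ b + (m : WithBot ℕ∞) ↔ a ≤ b := by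
  induction a using WithBot.recBotCoe with
  | bot => simp
  | coe a =>
    induction b using WithBot.recBotCoe with
    | bot =>
      constructor
      · intro h
        exfalso
        have h' : ((a : ℕ∞) : WithBot ℕ∞) + (((m : ℕ) : ℕ∞) : WithBot ℕ∞) ≤ ⊥ := by
          simpa using h
        rw [← WithBot.coe_add, le_bot_iff] at h'
        exact absurd h' (by simp)
      · intro h
        exact absurd h (by simp)
    | coe b =>
      have e1 : ((a : ℕ∞) : WithBot ℕ∞) + (m : WithBot ℕ∞) = ((a + (m : ℕ∞) : ℕ∞) : WithBot ℕ∞) := rfl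
      have e2 : ((b : ℕ∞) : WithBot ℕ∞) + (m : WithBot ℕ∞) = ((b + (m : ℕ∞) : ℕ∞) : WithBot ℕ∞) := rfl
      rw [e1, e2, WithBot.coe_le_coe, WithBot.coe_le_coe,
        ENat.add_le_add_iff_right (ENat.natCast_ne_top m)]

section Main

variable {k : Type u} [Field k] {X S S' : Scheme.{u}} (q : S ⟶ Spec (CommRingCat.of k))
  (f : X ⟶ S) (g : S' ⟶ S) [LocallyOfFiniteType q] [LocallyOfFiniteType f] [IsSeparated f]
  [LocallyOfFiniteType g]

include q in
theorem wellIntersect_iff_baseChange (d : ℕ) (hd : ∀ s : S, topologicalKrullDim (g.fiber s) = d)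
    (Y Z : Set X) (hYc : IsClosed Y) (hZc : IsClosed Z) :
    (topologicalKrullDim {p : ↥(pullback f f) | pullback.fst f f p ∈ Y ∧ pullback.snd f f p ∈ Z ∧
        p ∉ Set.range (pullback.diagonal f)} + topologicalKrullDim S ≤
          topologicalKrullDim Y + topologicalKrullDim Z) ↔
      (topologicalKrullDim {p : ↥(pullback (pullback.snd f g) (pullback.snd f g)) |
        pullback.fst (pullback.snd f g) (pullback.snd f g) p ∈ ((pullback.fst f g) ⁻¹' Y) ∧
        pullback.snd (pullback.snd f g) (pullback.snd f g) p ∈ ((pullback.fst f g) ⁻¹' Z) ∧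
        p ∉ Set.range (pullback.diagonal (pullback.snd f g))} + topologicalKrullDim S' ≤
          topologicalKrullDim ((pullback.fst f g) ⁻¹' Y) +
            topologicalKrullDim ((pullback.fst f g) ⁻¹' Z)) := by
  haveI : LocallyOfFiniteType (f ≫ q) := inferInstance
  haveI : LocallyOfFiniteType (pullback.fst f f ≫ f ≫ q) := inferInstance
  haveI : LocallyOfFiniteType (hmap f g) :=
    MorphismProperty.of_isPullback (P := @LocallyOfFiniteType) (isPullback_hmap f g).flip
      inferInstance
  have hda : ∀ x : X, topologicalKrullDim ((pullback.fst f g).fiber x) = d := by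
    intro x
    rw [topologicalKrullDim_fiber_eq_of_isPullback g f (pullback.snd f g) (pullback.fst f g)
      (IsPullback.of_hasPullback f g).flip x]
    exact hd _
  have hdh : ∀ e : ↥(pullback f f), topologicalKrullDim ((hmap f g).fiber e) = d := by
    intro e
    rw [topologicalKrullDim_fiber_eq_of_isPullback (pullback.fst f g) (pullback.snd f f)
      (pullback.snd (pullback.snd f g) (pullback.snd f g)) (hmap f g) (isPullback_hmap f g).flip e]
    exact hda _
  have hS := dim_eq_add q g d hd
  have hY := dim_preimage_eq_add (f ≫ q) (pullback.fst f g) d hda Y Set.univ Y isOpen_univ hYc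
    (Set.univ_inter _).symm
  have hZ := dim_preimage_eq_add (f ≫ q) (pullback.fst f g) d hda Z Set.univ Z isOpen_univ hZc
    (Set.univ_inter _).symm
  have hcl : IsClosed (Set.range (pullback.diagonal f)) :=
    (pullback.diagonal f).isClosedEmbedding.isClosed_range
  have hF : IsClosed ((pullback.fst f f) ⁻¹' Y ∩ (pullback.snd f f) ⁻¹' Z) :=
    (hYc.preimage (pullback.fst f f).continuous).inter (hZc.preimage (pullback.snd f f).continuous)
  have hsetE : {p : ↥(pullback f f) | pullback.fst f f p ∈ Y ∧
        pullback.snd f f p ∈ Z ∧ p ∉ Set.range (pullback.diagonal f)} =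
      (Set.range (pullback.diagonal f))ᶜ ∩
        ((pullback.fst f f) ⁻¹' Y ∩ (pullback.snd f f) ⁻¹' Z) := by
    ext p
    simp only [Set.mem_ofPred_eq, Set.mem_inter_iff, Set.mem_compl_iff, Set.mem_preimage]
    tauto
  have hE := dim_preimage_eq_add (pullback.fst f f ≫ f ≫ q) (hmap f g) d hdh _ _ _
    hcl.isOpen_compl hF hsetE
  have hsetE' : {p : ↥(pullback (pullback.snd f g) (pullback.snd f g)) |
        pullback.fst (pullback.snd f g) (pullback.snd f g) p ∈ ((pullback.fst f g) ⁻¹' Y) ∧
        pullback.snd (pullback.snd f g) (pullback.snd f g) p ∈ ((pullback.fst f g) ⁻¹' Z) ∧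
        p ∉ Set.range (pullback.diagonal (pullback.snd f g))} =
      (hmap f g) ⁻¹' {p : ↥(pullback f f) | pullback.fst f f p ∈ Y ∧
        pullback.snd f f p ∈ Z ∧ p ∉ Set.range (pullback.diagonal f)} := by
    ext p
    have h1 : pullback.fst f f (hmap f g p) =
        pullback.fst f g (pullback.fst (pullback.snd f g) (pullback.snd f g) p) := by
      rw [← Scheme.Hom.comp_apply, hmap_fst, Scheme.Hom.comp_apply]
    have h2 : pullback.snd f f (hmap f g p) =
        pullback.fst f g (pullback.snd (pullback.snd f g) (pullback.snd f g) p) := by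
      rw [← Scheme.Hom.comp_apply, hmap_snd, Scheme.Hom.comp_apply]
    have h3 : p ∈ Set.range (pullback.diagonal (pullback.snd f g)) ↔
        hmap f g p ∈ Set.range (pullback.diagonal f) := by
      rw [range_diagonal_eq]; rfl
    simp only [Set.mem_ofPred_eq, Set.mem_preimage, h1, h2, h3]
  rw [hsetE', hE, hS, hY, hZ]
  have e1 : ∀ a b : WithBot ℕ∞, a + (d : WithBot ℕ∞) + (b + (d : WithBot ℕ∞)) =
      a + b + ((d + d : ℕ) : WithBot ℕ∞) := by
    intro a b
    rw [add_add_add_comm]
    push_cast
    rfl
  rw [e1, e1, add_nat_le_add_nat_iff]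

end Main

end Groth.Agent.Lib.Helper22.WellIntBC
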